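import Mathlib
import Cfsg.Prelude.Def_ClassicalGeometry
import Cfsg.Prelude.Def_GeometricClasses
import Cfsg.Agent.Lib.Helper5.HyDefs
import Cfsg.Agent.Lib.Helper55.TsBASE
import Cfsg.Agent.Lib.Helper55.HySUP
import Cfsg.Agent.Lib.Helper67.TsINVOL

/-! # S5992 + S5993 hive (helper5), leaf HY-T3 : `exists_nd_of_type`

Inside a nondegenerate symmetric space over a finite field of odd characteristic there are
nondegenerate subspaces of every even dimension `0 < m₀ < dim Z` of both types. -/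

set_option autoImplicit false

namespace Cfsg.Agent.Lib.Helper5.Hy

open Polynomial Module
open Cfsg.Agent.Lib.Helper2.BG Cfsg.Agent.Lib.Helper99 Cfsg.Agent.Lib.Helper48.Ti
open Cfsg.Agent.Lib.Helper67.Ts

section abstract

variable {F V : Type*} [Field F] [Fintype F] [AddCommGroup V] [Module F V] [FiniteDimensional F V]
variable {B : V →ₗ[F] V →ₗ[F] F}

omit [Fintype F] [FiniteDimensional F V] in
/-- a nonzero nondegenerate subspace contains a non-isotropic vector -/
theorem t3_exists_norm (h2 : (2 : F) ≠ 0) (hs : ∀ u v, B u v = B v u) {Z : Submodule F V}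
    (hZ : Nd B Z) (hZ0 : Z ≠ ⊥) : ∃ v ∈ Z, B v v ≠ 0 := by
  by_contra hcon
  push Not at hcon
  obtain ⟨u, hu, hu0⟩ := Submodule.exists_mem_ne_zero_of_ne_bot hZ0
  apply hu0
  apply hZ u hu
  intro v hv
  have h1 := hcon (u + v) (Z.add_mem hu hv)
  simp only [map_add, LinearMap.add_apply] at h1
  rw [hcon u hu, hcon v hv, hs v u] at h1
  have h3 : 2 * B u v = 0 := by linear_combination h1
  exact (mul_eq_zero.mp h3).resolve_left h2

omit [Fintype F] in
/-- the relative perp of a nondegenerate subspace of a nondegenerate space -/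
theorem t3_nd_perp (hs : ∀ u v, B u v = B v u) {Z W : Submodule F V} (hZ : Nd B Z)
    (hWZ : W ≤ Z) (hW : Nd B W) :
    Nd B (Z ⊓ LinearMap.BilinForm.orthogonal B W) ∧
      Disjoint W (Z ⊓ LinearMap.BilinForm.orthogonal B W) ∧
      W ⊔ (Z ⊓ LinearMap.BilinForm.orthogonal B W) = Z := by
  set M : Submodule F V := Z ⊓ LinearMap.BilinForm.orthogonal B W with hM
  have hdisj : Disjoint W M := by
    rw [Submodule.disjoint_def]
    intro x hx hxM
    apply hW x hx
    intro v hv
    rw [hs]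
    exact hxM.2 v hv
  have hsup : W ⊔ M = Z := by
    apply Submodule.eq_of_le_of_finrank_eq (sup_le hWZ inf_le_left)
    rw [finrank_sup_of_disjoint' _ _ hdisj]
    exact peel_finrank hZ hWZ
  refine ⟨?_, hdisj, hsup⟩
  intro m hm hall
  apply hZ m hm.1
  intro z hz
  rw [← hsup] at hz
  obtain ⟨w, hw, m', hm', rfl⟩ := Submodule.mem_sup.mp hz
  rw [map_add, hs m w, hm.2 w hw, zero_add]
  exact hall m' hm'

omit [Fintype F] in
/-- a plane with nonsingular Gram matrix -/
theorem t3_plane (hs : ∀ u v, B u v = B v u) (e f : V)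
    (hδ : B e e * B f f - B e f * B e f ≠ 0) :
    Nd B (Submodule.span F {e} ⊔ Submodule.span F {f}) ∧
      finrank F ↥(Submodule.span F {e} ⊔ Submodule.span F {f}) = 2 := by
  have key : ∀ x y : F, B (x • e + y • f) e = 0 → B (x • e + y • f) f = 0 → x = 0 ∧ y = 0 := by
    intro x y h1 h2
    simp only [map_add, map_smul, LinearMap.add_apply, LinearMap.smul_apply, smul_eq_mul] at h1 h2
    rw [hs f e] at h1
    have hx : x * (B e e * B f f - B e f * B e f) = 0 := by
      linear_combination B f f * h1 - B e f * h2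
    have hy : y * (B e e * B f f - B e f * B e f) = 0 := by
      linear_combination B e e * h2 - B e f * h1
    exact ⟨(mul_eq_zero.mp hx).resolve_right hδ, (mul_eq_zero.mp hy).resolve_right hδ⟩
  have he0 : e ≠ 0 := by
    rintro rfl
    apply hδ
    simp
  have hf0 : f ≠ 0 := by
    rintro rfl
    apply hδ
    simp
  constructor
  · intro u hu hall
    obtain ⟨a, ha, b, hb, rfl⟩ := Submodule.mem_sup.mp hu
    obtain ⟨x, rfl⟩ := Submodule.mem_span_singleton.mp ha
    obtain ⟨y, rfl⟩ := Submodule.mem_span_singleton.mp hb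
    have h1 := hall e (Submodule.mem_sup_left (Submodule.mem_span_singleton_self e))
    have h2 := hall f (Submodule.mem_sup_right (Submodule.mem_span_singleton_self f))
    obtain ⟨rfl, rfl⟩ := key x y h1 h2
    simp
  · have hdisj : Disjoint (Submodule.span F {e}) (Submodule.span F {f}) := by
      rw [Submodule.disjoint_def]
      intro v hv1 hv2
      obtain ⟨x, rfl⟩ := Submodule.mem_span_singleton.mp hv1
      obtain ⟨y, hy⟩ := Submodule.mem_span_singleton.mp hv2
      have h0 : x • e + (-y) • f = 0 := by rw [neg_smul, hy]; simp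
      have h1 : B (x • e + (-y) • f) e = 0 := by rw [h0]; simp
      have h2 : B (x • e + (-y) • f) f = 0 := by rw [h0]; simp
      obtain ⟨rfl, -⟩ := key x (-y) h1 h2
      simp
    rw [finrank_sup_of_disjoint' _ _ hdisj, finrank_span_singleton he0, finrank_span_singleton hf0]

/-- a hyperbolic pair in a nondegenerate space of dimension at least three -/
theorem t3_hyp (h2 : (2 : F) ≠ 0) (hs : ∀ u v, B u v = B v u) {Z : Submodule F V}
    (hZ : Nd B Z) (h3 : 3 ≤ finrank F Z) :
    ∃ e ∈ Z, ∃ f ∈ Z, e ≠ 0 ∧ B e e = 0 ∧ B e f ≠ 0 := by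
  obtain ⟨e, heZ, he0, hee⟩ := base_exists_iso h2 hs hZ h3
  have hex : ∃ f ∈ Z, B e f ≠ 0 := by
    by_contra hcon
    push Not at hcon
    exact he0 (hZ e heZ hcon)
  obtain ⟨f, hfZ, hef⟩ := hex
  exact ⟨e, heZ, f, hfZ, he0, hee, hef⟩

omit [FiniteDimensional F V] in
theorem t3_card_odd (h2 : (2 : F) ≠ 0) : Fintype.card F % 2 = 1 := by
  apply FiniteField.odd_card_of_char_ne_two
  intro h
  apply h2
  have := CharP.cast_eq_zero F (ringChar F)
  rw [h] at this
  exact_mod_cast this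

omit [Fintype F] [FiniteDimensional F V] in
theorem t3_nd_span (_hs : ∀ u v, B u v = B v u) {v : V} (hv : B v v ≠ 0) :
    Nd B (Submodule.span F {v}) := by
  intro u hu hall
  obtain ⟨x, rfl⟩ := Submodule.mem_span_singleton.mp hu
  have h1 := hall v (Submodule.mem_span_singleton_self v)
  simp only [map_smul, LinearMap.smul_apply, smul_eq_mul] at h1
  rw [(mul_eq_zero.mp h1).resolve_right hv, zero_smul]

/-- a nondegenerate space of dimension at least two represents every value -/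
theorem t3_represents (h2 : (2 : F) ≠ 0) (hs : ∀ u v, B u v = B v u) {Z : Submodule F V}
    (hZ : Nd B Z) (hd : 2 ≤ finrank F Z) (c : F) : ∃ w ∈ Z, B w w = c := by
  have hZ0 : Z ≠ ⊥ := by
    rintro rfl
    rw [finrank_bot] at hd
    omega
  obtain ⟨v₁, hv₁Z, ha₁⟩ := t3_exists_norm h2 hs hZ hZ0
  have hW₁Z : Submodule.span F {v₁} ≤ Z := (Submodule.span_singleton_le_iff_mem v₁ Z).mpr hv₁Z
  obtain ⟨hZ₂, -, -⟩ := t3_nd_perp hs hZ hW₁Z (t3_nd_span hs ha₁)
  have hfr := peel_finrank hZ hW₁Z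
  have hv₁0 : v₁ ≠ 0 := by
    rintro rfl
    apply ha₁
    simp
  rw [finrank_span_singleton hv₁0] at hfr
  have hZ₂0 : Z ⊓ LinearMap.BilinForm.orthogonal B (Submodule.span F {v₁}) ≠ ⊥ := by
    intro h
    rw [h, finrank_bot] at hfr
    omega
  obtain ⟨v₂, hv₂Z, ha₂⟩ := t3_exists_norm h2 hs hZ₂ hZ₂0
  have h12 : B v₁ v₂ = 0 := hv₂Z.2 v₁ (Submodule.mem_span_singleton_self v₁)
  have hf2 : (C (B v₁ v₁) * X ^ 2 : F[X]).degree = 2 := by
    rw [Polynomial.degree_C_mul_X_pow 2 ha₁]
    rfl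
  have hg2 : (C (B v₂ v₂) * X ^ 2 - C c : F[X]).degree = 2 := by
    have h0 : (C (B v₂ v₂) * X ^ 2 : F[X]).degree = 2 := by
      rw [Polynomial.degree_C_mul_X_pow 2 ha₂]
      rfl
    rw [Polynomial.degree_sub_C (by rw [h0]; decide), h0]
  obtain ⟨x, y, hxy⟩ := FiniteField.exists_root_sum_quadratic hf2 hg2 (t3_card_odd h2)
  simp only [eval_mul, eval_C, eval_pow, eval_X, eval_sub] at hxy
  refine ⟨x • v₁ + y • v₂, Z.add_mem (Z.smul_mem x hv₁Z) (Z.smul_mem y hv₂Z.1), ?_⟩
  simp only [map_add, map_smul, LinearMap.add_apply, LinearMap.smul_apply, smul_eq_mul]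
  rw [hs v₂ v₁, h12]
  linear_combination hxy

/-- an anisotropic plane in a nondegenerate space of dimension at least three -/
theorem t3_aniso (h2 : (2 : F) ≠ 0) (hs : ∀ u v, B u v = B v u) {Z : Submodule F V}
    (hZ : Nd B Z) (h3 : 3 ≤ finrank F Z) :
    ∃ A : Submodule F V, A ≤ Z ∧ Nd B A ∧ finrank F A = 2 ∧ ∀ a ∈ A, B a a = 0 → a = 0 := by
  have hZ0 : Z ≠ ⊥ := by
    rintro rfl
    rw [finrank_bot] at h3
    omega
  obtain ⟨v, hvZ, ha⟩ := t3_exists_norm h2 hs hZ hZ0
  have hWZ : Submodule.span F {v} ≤ Z := (Submodule.span_singleton_le_iff_mem v Z).mpr hvZ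
  obtain ⟨hZ₁, -, -⟩ := t3_nd_perp hs hZ hWZ (t3_nd_span hs ha)
  have hfr := peel_finrank hZ hWZ
  have hv0 : v ≠ 0 := by
    rintro rfl
    apply ha
    simp
  rw [finrank_span_singleton hv0] at hfr
  have hch : ringChar F ≠ 2 := by
    intro h
    apply h2
    have := CharP.cast_eq_zero F (ringChar F)
    rw [h] at this
    exact_mod_cast this
  obtain ⟨ε, hε⟩ := FiniteField.exists_nonsquare hch
  have hε0 : ε ≠ 0 := by
    rintro rfl
    exact hε ⟨0, by simp⟩
  obtain ⟨w, hwZ₁, hww⟩ := t3_represents h2 hs hZ₁ (by omega) (-ε * B v v)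
  have hvw : B v w = 0 := hwZ₁.2 v (Submodule.mem_span_singleton_self v)
  have hδ : B v v * B w w - B v w * B v w ≠ 0 := by
    rw [hvw, hww]
    have : B v v * (-ε * B v v) - 0 * 0 = -(ε * (B v v * B v v)) := by ring
    rw [this]
    exact neg_ne_zero.mpr (mul_ne_zero hε0 (mul_ne_zero ha ha))
  obtain ⟨hnd, hfr2⟩ := t3_plane hs v w hδ
  refine ⟨_, sup_le hWZ ((Submodule.span_singleton_le_iff_mem w Z).mpr hwZ₁.1), hnd, hfr2, ?_⟩
  intro a haA haa
  obtain ⟨a₁, ha₁, a₂, ha₂, rfl⟩ := Submodule.mem_sup.mp haA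
  obtain ⟨x, rfl⟩ := Submodule.mem_span_singleton.mp ha₁
  obtain ⟨y, rfl⟩ := Submodule.mem_span_singleton.mp ha₂
  simp only [map_add, map_smul, LinearMap.add_apply, LinearMap.smul_apply, smul_eq_mul] at haa
  rw [hs w v, hvw, hww] at haa
  have h4 : B v v * (x * x - ε * (y * y)) = 0 := by linear_combination haa
  have h5 : x * x - ε * (y * y) = 0 := (mul_eq_zero.mp h4).resolve_left ha
  have hy : y = 0 := by
    by_contra hy
    apply hε
    refine ⟨x / y, ?_⟩
    field_simp
    linear_combination -h5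
  subst hy
  have hx : x = 0 := by
    have : x * x = 0 := by linear_combination h5
    exact mul_self_eq_zero.mp this
  subst hx
  simp

omit [Fintype F] in
/-- Witt index reduction: peeling an isotropic line off a totally isotropic subspace -/
theorem t3_reduce (hs : ∀ u v, B u v = B v u) {W W' : Submodule F V} {e : V} (hW : Nd B W)
    (he : e ∈ W) (he0 : e ≠ 0) (hee : B e e = 0) (hW'W : W' ≤ W)
    (horth : ∀ w ∈ W', B e w = 0) (hdisj : Disjoint (Submodule.span F {e}) W')
    (hdim : finrank F W' + 2 = finrank F W) {U : Submodule F V} (hUW : U ≤ W) (hU : TI B U) :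
    ∃ U' : Submodule F V, U' ≤ W' ∧ TI B U' ∧ finrank F U ≤ finrank F U' + 1 := by
  set Y : Submodule F V := Submodule.span F {e} with hY
  set M : Submodule F V := W ⊓ LinearMap.BilinForm.orthogonal B Y with hM
  have hYW : Y ≤ W := (Submodule.span_singleton_le_iff_mem e W).mpr he
  have hYfr : finrank F Y = 1 := finrank_span_singleton he0
  have hmemM : ∀ x, x ∈ W → B e x = 0 → x ∈ M := by
    intro x hx hex
    refine ⟨hx, ?_⟩
    intro n hn
    obtain ⟨t, rfl⟩ := Submodule.mem_span_singleton.mp hn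
    show B (t • e) x = 0
    rw [map_smul, LinearMap.smul_apply, hex, smul_zero]
  have hMe : ∀ x ∈ M, B e x = 0 := fun x hx => hx.2 e (Submodule.mem_span_singleton_self e)
  have hYM : Y ≤ M := by
    intro y hy
    obtain ⟨s, rfl⟩ := Submodule.mem_span_singleton.mp hy
    apply hmemM _ (hYW hy)
    rw [map_smul, hee, smul_zero]
  have hW'M : W' ≤ M := fun w hw => hmemM w (hW'W hw) (horth w hw)
  have hfrM : finrank F Y + finrank F M = finrank F W := peel_finrank hW hYW
  have hMeq : Y ⊔ W' = M := by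
    apply Submodule.eq_of_le_of_finrank_eq (sup_le hYM hW'M)
    rw [finrank_sup_of_disjoint' _ _ hdisj]
    omega
  set T : Submodule F V := (U ⊓ M) ⊔ Y with hT
  have hTti : TI B T := by
    intro x hx y hy
    obtain ⟨u₁, hu₁, y₁, hy₁, rfl⟩ := Submodule.mem_sup.mp hx
    obtain ⟨u₂, hu₂, y₂, hy₂, rfl⟩ := Submodule.mem_sup.mp hy
    obtain ⟨s, rfl⟩ := Submodule.mem_span_singleton.mp hy₁
    obtain ⟨t, rfl⟩ := Submodule.mem_span_singleton.mp hy₂
    simp only [map_add, map_smul, LinearMap.add_apply, LinearMap.smul_apply, smul_eq_mul]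
    rw [hU u₁ hu₁.1 u₂ hu₂.1, hMe u₂ hu₂.2, hs u₁ e, hMe u₁ hu₁.2, hee]
    ring
  have hTM : T ≤ M := sup_le inf_le_right hYM
  have hYT : Y ≤ T := le_sup_right
  have hdimT : finrank F U ≤ finrank F T := by
    by_cases heU : e ∈ U
    · have hUM : U ≤ M := fun u hu => hmemM u (hUW hu) (hU e heU u hu)
      apply Submodule.finrank_mono
      intro u hu
      exact Submodule.mem_sup_left ⟨hu, hUM hu⟩
    · have hd2 : Disjoint (U ⊓ M) Y := by
        rw [Submodule.disjoint_def]
        intro x hx hxY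
        obtain ⟨s, rfl⟩ := Submodule.mem_span_singleton.mp hxY
        by_cases hs0 : s = 0
        · rw [hs0, zero_smul]
        · exfalso
          apply heU
          have : e = s⁻¹ • (s • e) := by rw [smul_smul, inv_mul_cancel₀ hs0, one_smul]
          rw [this]
          exact U.smul_mem _ hx.1
      rw [hT, finrank_sup_of_disjoint' _ _ hd2, hYfr]
      have h1 := Submodule.finrank_sup_add_finrank_inf_eq U M
      have h3 : finrank F ↥(U ⊔ M) ≤ finrank F W :=
        Submodule.finrank_mono (sup_le hUW inf_le_left)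
      omega
  refine ⟨T ⊓ W', inf_le_right, fun x hx y hy => hTti x hx.1 y hy.1, ?_⟩
  have hTeq : T = Y ⊔ W' ⊓ T := by
    have := sup_inf_assoc_of_le W' hYT
    rw [hMeq, inf_eq_right.mpr hTM] at this
    exact this
  have h4 : finrank F T ≤ finrank F Y + finrank F ↥(W' ⊓ T) := by
    conv_lhs => rw [hTeq]
    exact Submodule.finrank_add_le_finrank_add_finrank _ _
  rw [inf_comm] at h4
  omega


/-- a hyperbolic plane inside a nondegenerate space of dimension at least three -/
theorem t3_hyp_plane (h2 : (2 : F) ≠ 0) (hs : ∀ u v, B u v = B v u) {Z : Submodule F V}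
    (hZ : Nd B Z) (h3 : 3 ≤ finrank F Z) :
    ∃ (e : V) (H : Submodule F V), e ∈ H ∧ e ≠ 0 ∧ B e e = 0 ∧ H ≤ Z ∧ Nd B H ∧
      finrank F H = 2 := by
  obtain ⟨e, heZ, f, hfZ, he0, hee, hef⟩ := t3_hyp h2 hs hZ h3
  have hδ : B e e * B f f - B e f * B e f ≠ 0 := by
    rw [hee, zero_mul, zero_sub]
    exact neg_ne_zero.mpr (mul_ne_zero hef hef)
  obtain ⟨hnd, hfr⟩ := t3_plane hs e f hδ
  exact ⟨e, _, Submodule.mem_sup_left (Submodule.mem_span_singleton_self e), he0, hee,
    sup_le ((Submodule.span_singleton_le_iff_mem e Z).mpr heZ)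
      ((Submodule.span_singleton_le_iff_mem f Z).mpr hfZ), hnd, hfr⟩

omit [Fintype F] [FiniteDimensional F V] in
/-- an isotropic line is totally isotropic -/
theorem t3_ti_span {e : V} (hee : B e e = 0) : TI B (Submodule.span F {e}) := by
  intro x hx y hy
  obtain ⟨s, rfl⟩ := Submodule.mem_span_singleton.mp hx
  obtain ⟨t, rfl⟩ := Submodule.mem_span_singleton.mp hy
  simp [hee]

/-- the main induction -/
theorem t3_main (h2 : (2 : F) ≠ 0) (hs : ∀ u v, B u v = B v u) :
    ∀ k : ℕ, 1 ≤ k → ∀ Z : Submodule F V, Nd B Z → 2 * k < finrank F Z → ∀ b : Prop,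
      ∃ W₀ : Submodule F V, W₀ ≤ Z ∧ Nd B W₀ ∧ finrank F W₀ = 2 * k ∧ (Plus B W₀ ↔ b) := by
  intro k hk
  induction k, hk using Nat.le_induction with
  | base =>
    intro Z hZ hlt b
    have h3 : 3 ≤ finrank F Z := by omega
    by_cases hb : b
    · obtain ⟨e, H, heH, he0, hee, hHZ, hHnd, hHfr⟩ := t3_hyp_plane h2 hs hZ h3
      refine ⟨H, hHZ, hHnd, hHfr, iff_of_true ?_ hb⟩
      refine ⟨Submodule.span F {e}, (Submodule.span_singleton_le_iff_mem e H).mpr heH,
        t3_ti_span hee, ?_⟩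
      rw [finrank_span_singleton he0, hHfr]
    · obtain ⟨A, hAZ, hAnd, hAfr, hAan⟩ := t3_aniso h2 hs hZ h3
      refine ⟨A, hAZ, hAnd, hAfr, iff_of_false ?_ hb⟩
      rintro ⟨U, hUA, hUti, hUfr⟩
      have hU0 : U ≠ ⊥ := by
        rintro rfl
        rw [finrank_bot, hAfr] at hUfr
        omega
      obtain ⟨u, hu, hu0⟩ := Submodule.exists_mem_ne_zero_of_ne_bot hU0
      exact hu0 (hAan u (hUA hu) (hUti u hu u hu))
  | succ k hk ih =>
    intro Z hZ hlt b
    have h3 : 3 ≤ finrank F Z := by omega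
    obtain ⟨e, H, heH, he0, hee, hHZ, hHnd, hHfr⟩ := t3_hyp_plane h2 hs hZ h3
    obtain ⟨hZ₁, -, -⟩ := t3_nd_perp hs hZ hHZ hHnd
    have hfr := peel_finrank hZ hHZ
    obtain ⟨W', hW'Z₁, hW'nd, hW'fr, hW'b⟩ :=
      ih (Z ⊓ LinearMap.BilinForm.orthogonal B H) hZ₁ (by omega) b
    have ho : Orth B H W' := fun h hh w hw => (hW'Z₁ hw).2 h hh
    obtain ⟨hnd, hinf, hfrsum⟩ := nd_sup hs hHnd hW'nd ho
    have heW' : ∀ w ∈ W', B e w = 0 := fun w hw => ho e heH w hw
    have hYH : Submodule.span F {e} ≤ H := (Submodule.span_singleton_le_iff_mem e H).mpr heH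
    have hdisj : Disjoint (Submodule.span F {e}) W' := by
      rw [disjoint_iff, eq_bot_iff, ← hinf]
      exact inf_le_inf_right _ hYH
    refine ⟨H ⊔ W', sup_le hHZ (hW'Z₁.trans inf_le_left), hnd, by rw [hfrsum, hHfr, hW'fr]; ring,
      ?_⟩
    rw [← hW'b]
    constructor
    · rintro ⟨U, hUW, hUti, hUfr⟩
      obtain ⟨U', hU'W', hU'ti, hle⟩ := t3_reduce hs hnd (Submodule.mem_sup_left heH) he0 hee
        le_sup_right heW' hdisj (by rw [hfrsum, hHfr]; ring) hUW hUti
      have hb := ts_bound hs hW'nd hU'W' hU'ti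
      refine ⟨U', hU'W', hU'ti, ?_⟩
      rw [hfrsum, hHfr, hW'fr] at hUfr
      omega
    · rintro ⟨U', hU'W', hU'ti, hU'fr⟩
      refine ⟨Submodule.span F {e} ⊔ U', sup_le (hYH.trans le_sup_left) (hU'W'.trans le_sup_right),
        ?_, ?_⟩
      · intro x hx y hy
        obtain ⟨y₁, hy₁, u₁, hu₁, rfl⟩ := Submodule.mem_sup.mp hx
        obtain ⟨y₂, hy₂, u₂, hu₂, rfl⟩ := Submodule.mem_sup.mp hy
        obtain ⟨s, rfl⟩ := Submodule.mem_span_singleton.mp hy₁
        obtain ⟨t, rfl⟩ := Submodule.mem_span_singleton.mp hy₂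
        simp only [map_add, map_smul, LinearMap.add_apply, LinearMap.smul_apply, smul_eq_mul]
        rw [hU'ti u₁ hu₁ u₂ hu₂, heW' u₂ (hU'W' hu₂), hs u₁ e, heW' u₁ (hU'W' hu₁), hee]
        ring
      · rw [finrank_sup_of_disjoint' _ _ (hdisj.mono_right hU'W'), finrank_span_singleton he0,
          hfrsum, hHfr]
        omega

/-- HY-T3: inside a nondegenerate symmetric space `Z` over a finite field of odd characteristic there are
nondegenerate subspaces of every even dimension `0 < m₀ < dim Z` of BOTH types. -/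
theorem exists_nd_of_type (h2 : (2 : F) ≠ 0) (hs : ∀ u v, B u v = B v u) {Z : Submodule F V}
    (hZ : Nd B Z) (m₀ : ℕ) (hme : Even m₀) (h0 : 0 < m₀) (hlt : m₀ < finrank F Z) (b : Prop) :
    ∃ W₀ : Submodule F V, W₀ ≤ Z ∧ Nd B W₀ ∧ finrank F W₀ = m₀ ∧ (Plus B W₀ ↔ b) := by
  obtain ⟨k, hk⟩ := hme
  have hk2 : m₀ = 2 * k := by omega
  subst hk2
  exact t3_main h2 hs k (by omega) Z hZ hlt b

end abstract

end Cfsg.Agent.Lib.Helper5.Hy
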