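import Mathlib

/-!
# Fp hive (S2276): definitions and the statements of all leaves

`S2276`: n ≥ 5, p ≥ 3 prime, u w nontrivial p-elements of A_n ⟹ ∃ g ∈ A_n with u * (g w g⁻¹) not a
p-element and ⟨u, g w g⁻¹⟩ not solvable.

Every leaf of the hive is a theorem whose type is one of the `...Stmt : Prop` below
(`theorem foo : Fp.XStmt := by intro ...`), or a glue theorem `AStmt → BStmt → CStmt`.
-/

set_option autoImplicit false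

namespace Cfsg.Agent.Lib.Helper83.Fp

open Equiv

/-! ## basic definitions -/

/-- number of fixed points -/
def FixCard {α : Type*} [Fintype α] [DecidableEq α] (e : Perm α) : ℕ :=
  (Finset.univ.filter fun x => e x = x).card

/-- the conclusion of S2276 for a pair of permutations -/
def Good (p : ℕ) {α : Type*} (U W : Perm α) : Prop :=
  (¬ ∃ k : ℕ, orderOf (U * W) = p ^ k) ∧
    ¬ Group.IsSolvable (Subgroup.closure ({U, W} : Set (Perm α)))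

/-- two 3-cycles meeting in exactly one point (they generate an A5) -/
def HasA5Cert {α : Type*} [Fintype α] [DecidableEq α] (H : Subgroup (Perm α)) : Prop :=
  ∃ t₁ ∈ H, ∃ t₂ ∈ H, t₁.IsThreeCycle ∧ t₂.IsThreeCycle ∧ (t₁.support ∩ t₂.support).card = 1

/-- the subgroup generated by the standard m-cycle `finRotate m` (x ↦ x+1) and `d` -/
def Hcd {m : ℕ} (d : Perm (Fin m)) : Subgroup (Perm (Fin m)) :=
  Subgroup.closure ({finRotate m, d} : Set (Perm (Fin m)))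

/-- a set of points of Z_m containing two points whose difference is not ± m/3
(so a 3-set with this property is not a coset of the subgroup of order 3) -/
def NonCosetSet {m : ℕ} (T : Finset (Fin m)) : Prop :=
  ∃ x ∈ T, ∃ y ∈ T, x.val < y.val ∧ 3 * (y.val - x.val) ≠ m ∧ 3 * (y.val - x.val) ≠ 2 * m

/-- `y` is the rotation `x ↦ (x + r) mod L` of the initial interval `[0, L)`, identity elsewhere -/
def IsRot {m : ℕ} (y : Perm (Fin m)) (r L : ℕ) : Prop :=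
  ∀ x : Fin m, (y x).val = if x.val < L then (x.val + r) % L else x.val

/-- the number of fixed points of `finRotate m * d` is prime to p -/
def FixOK (p : ℕ) {m : ℕ} (d : Perm (Fin m)) : Prop := ¬ p ∣ FixCard (finRotate m * d)

/-- final certificate -/
def Cert (p : ℕ) {m : ℕ} (d : Perm (Fin m)) : Prop := FixOK p d ∧ HasA5Cert (Hcd d)

/-- certificate, 3-cycle flavour -/
def CertT (p : ℕ) {m : ℕ} (d : Perm (Fin m)) : Prop :=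
  FixOK p d ∧ ∃ t ∈ Hcd d, t.IsThreeCycle ∧ NonCosetSet t.support

/-- certificate, overlap flavour: two elements whose supports meet in exactly one point `q` -/
def CertO (p : ℕ) {m : ℕ} (d : Perm (Fin m)) : Prop :=
  FixOK p d ∧ ∃ z₁ ∈ Hcd d, ∃ z₂ ∈ Hcd d, ∃ q : Fin m,
    z₁.support ∩ z₂.support = {q} ∧ NonCosetSet ({q, z₁ q, z₂ q} : Finset (Fin m))

/-- certificate, rotation flavour -/
def CertR (p : ℕ) {m : ℕ} (d : Perm (Fin m)) : Prop :=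
  FixOK p d ∧ ∃ y ∈ Hcd d, ∃ r L : ℕ, 0 < r ∧ r < L ∧ L < m ∧ L ≠ 2 * r ∧ IsRot y r L

/-- all parts are powers `p ^ i`, `i ≥ 1` -/
def PPows (p : ℕ) (s : Multiset ℕ) : Prop := ∀ x ∈ s, ∃ i : ℕ, 1 ≤ i ∧ x = p ^ i

/-! ## statements: general tools -/

/-- FP-T1 -/
def RestrictStmt : Prop :=
  ∀ (p : ℕ), p.Prime → ∀ (m n : ℕ) (ι : Fin m ↪ Fin n) (c d : Perm (Fin m)) (U W : Perm (Fin n)),
    (∀ x, U (ι x) = ι (c x)) → (∀ x, W (ι x) = ι (d x)) → Good p c d → Good p U W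

/-- FP-T2 -/
def FixStmt : Prop :=
  ∀ (p : ℕ), p.Prime → ∀ (m : ℕ), p ∣ m → ∀ e : Perm (Fin m), ¬ p ∣ FixCard e →
    ¬ ∃ k : ℕ, orderOf e = p ^ k

/-- FP-T3 -/
def A5Stmt : Prop :=
  ∀ (m : ℕ) (H : Subgroup (Perm (Fin m))), HasA5Cert H → ¬ Group.IsSolvable H

/-- FP-T4 -/
def CommStmt : Prop :=
  ∀ (m : ℕ) (x y : Perm (Fin m)) (q : Fin m), x.support ∩ y.support = {q} →
    (x * y * x⁻¹ * y⁻¹).IsThreeCycle ∧ (x * y * x⁻¹ * y⁻¹).support = {q, x q, y q}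

/-- FP-T5 -/
def ThreeStmt : Prop :=
  ∀ (m : ℕ), Odd m → ∀ (H : Subgroup (Perm (Fin m))), finRotate m ∈ H →
    ∀ t ∈ H, t.IsThreeCycle → NonCosetSet t.support → HasA5Cert H

/-- FP-ROT -/
def RotStmt : Prop :=
  ∀ (m : ℕ) (H : Subgroup (Perm (Fin m))), finRotate m ∈ H → ∀ y ∈ H, ∀ r L : ℕ,
    0 < r → r < L → L < m → L ≠ 2 * r → IsRot y r L →
    ∃ t ∈ H, t.IsThreeCycle ∧ NonCosetSet t.support

/-- glue: certificates give `Good` -/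
def CertGoodStmt : Prop :=
  ∀ (p : ℕ), p.Prime → ∀ (m : ℕ), p ∣ m → ∀ d : Perm (Fin m), Cert p d → Good p (finRotate m) d

/-- FP-PP -/
def PPStmt : Prop :=
  ∀ (p : ℕ), p.Prime → ∀ (n : ℕ) (U : Perm (Fin n)), (∃ k : ℕ, orderOf U = p ^ k) →
    PPows p U.cycleType

/-- FP-SYM -/
def SymStmt : Prop :=
  ∀ (p n : ℕ) (U W g : Perm (Fin n)), Good p W (g * U * g⁻¹) → Good p U (g⁻¹ * W * g⁻¹⁻¹)

/-! ## statements: multisets of p-powers -/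

/-- FP-SUM -/
def SumStmt : Prop :=
  ∀ (p : ℕ), p.Prime → ∀ (a n : ℕ) (t : Multiset ℕ), PPows p t → (∀ x ∈ t, x ≤ p ^ a) → t ≠ 0 →
    t.sum ≤ n → p ^ a ≤ n →
    ∃ s : Multiset ℕ, s ≤ t ∧ s ≠ 0 ∧ s.sum ≤ p ^ a ∧ (t - s).sum + p ^ a ≤ n

/-- FP-NT -/
def NTStmt : Prop :=
  ∀ (p : ℕ), p.Prime → 3 ≤ p → ∀ (a : ℕ), 1 ≤ a → ∀ t : Multiset ℕ, PPows p t →
    (∀ x ∈ t, x ≤ p ^ a) → t.Nodup → p ^ a ≤ t.sum + 1 → t.sum ≤ p ^ a + 1 → t = {p ^ a}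

/-- FP-DECOMP -/
def DecompStmt : Prop :=
  ∀ s : Multiset ℕ, s ≠ 0 → ∃ (l μ : ℕ) (t : Multiset ℕ),
    1 ≤ μ ∧ s = Multiset.replicate μ l + t ∧ ∀ x ∈ t, x < l

/-! ## statements: extension and parity -/

/-- FP-EXT -/
def ExtStmt : Prop :=
  ∀ (m n : ℕ) (ι : Fin m ↪ Fin n) (d : Perm (Fin m)) (W : Perm (Fin n)),
    d.cycleType ≤ W.cycleType → (W.cycleType - d.cycleType).sum + m ≤ n →
    ∃ φ : Perm (Fin n), ∀ x, (φ * W * φ⁻¹) (ι x) = ι (d x)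

/-- FP-EMB -/
def EmbStmt : Prop :=
  ∀ (m n : ℕ) (c : Perm (Fin m)) (U : Perm (Fin n)),
    c.cycleType ≤ U.cycleType → (U.cycleType - c.cycleType).sum + m ≤ n →
    ∃ ι : Fin m ↪ Fin n, ∀ x, U (ι x) = ι (c x)

/-- FP-PAR1 -/
def Par1Stmt : Prop :=
  ∀ (m n : ℕ) (ι : Fin m ↪ Fin n) (d : Perm (Fin m)) (W φ : Perm (Fin n)),
    (∀ x, (φ * W * φ⁻¹) (ι x) = ι (d x)) →
    (m + 2 ≤ n ∨ ¬ Subgroup.centralizer {W} ≤ alternatingGroup (Fin n)) →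
    ∃ g ∈ alternatingGroup (Fin n), ∀ x, (g * W * g⁻¹) (ι x) = ι (d x)

/-- FP-PAR2 -/
def Par2Stmt : Prop :=
  ∀ (m n : ℕ) (ι : Fin m ↪ Fin n) (d τ : Perm (Fin m)) (W φ : Perm (Fin n)),
    Perm.sign τ = -1 → (∀ x, (φ * W * φ⁻¹) (ι x) = ι (d x)) →
    ∃ g ∈ alternatingGroup (Fin n),
      (∀ x, (g * W * g⁻¹) (ι x) = ι (d x)) ∨ (∀ x, (g * W * g⁻¹) (ι x) = ι ((τ * d * τ⁻¹) x))

/-- glue FP-TR1 -/
def TransferStmt : Prop :=
  ∀ (p : ℕ), p.Prime → ∀ (m n : ℕ) (c d : Perm (Fin m)) (U W : Perm (Fin n)),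
    c.cycleType ≤ U.cycleType → (U.cycleType - c.cycleType).sum + m ≤ n →
    d.cycleType ≤ W.cycleType → (W.cycleType - d.cycleType).sum + m ≤ n →
    Good p c d →
    (m + 2 ≤ n ∨ ¬ Subgroup.centralizer {W} ≤ alternatingGroup (Fin n)) →
    ∃ g ∈ alternatingGroup (Fin n), Good p U (g * W * g⁻¹)

/-- glue FP-TR2 -/
def Transfer2Stmt : Prop :=
  ∀ (p : ℕ), p.Prime → ∀ (m n : ℕ) (c d τ : Perm (Fin m)) (U W : Perm (Fin n)),
    c.cycleType ≤ U.cycleType → (U.cycleType - c.cycleType).sum + m ≤ n →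
    d.cycleType ≤ W.cycleType → (W.cycleType - d.cycleType).sum + m ≤ n →
    Perm.sign τ = -1 → Good p c d → Good p c (τ * d * τ⁻¹) →
    ∃ g ∈ alternatingGroup (Fin n), Good p U (g * W * g⁻¹)

/-! ## statements: Theorem B (constructions on `Fin m`, `c = finRotate m`) -/

/-- FP-B1a -/
def B1aStmt : Prop :=
  ∀ (p : ℕ), p.Prime → 5 ≤ p → ∀ (m : ℕ), 5 ≤ m → p ∣ m → Odd m →
    ∃ d τ : Perm (Fin m), d.cycleType = {m} ∧ Perm.sign τ = -1 ∧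
      CertT p d ∧ CertT p (τ * d * τ⁻¹)

/-- FP-B1b -/
def B1bStmt : Prop :=
  ∀ (m : ℕ), 9 ≤ m → 3 ∣ m → Odd m →
    ∃ d τ : Perm (Fin m), d.cycleType = {m} ∧ Perm.sign τ = -1 ∧
      CertO 3 d ∧ CertO 3 (τ * d * τ⁻¹)

/-- FP-B2 -/
def B2Stmt : Prop :=
  ∀ (p : ℕ), p.Prime → 3 ≤ p → ∀ (m l : ℕ) (t : Multiset ℕ), PPows p (l ::ₘ t) →
    (∀ x ∈ t, x < l) → (l ::ₘ t).sum ≤ m → l < m →
    ∃ d : Perm (Fin m), d.cycleType = l ::ₘ t ∧ CertR p d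

/-- FP-B3a -/
def B3aStmt : Prop :=
  ∀ (p : ℕ), p.Prime → 3 ≤ p → ∀ (m l μ : ℕ) (t : Multiset ℕ), 2 ≤ μ → t ≠ 0 →
    PPows p (Multiset.replicate μ l + t) → (∀ x ∈ t, x < l) →
    (Multiset.replicate μ l + t).sum ≤ m →
    ∃ d : Perm (Fin m), d.cycleType = Multiset.replicate μ l + t ∧ CertR p d

/-- FP-B3b -/
def B3bStmt : Prop :=
  ∀ (p : ℕ), p.Prime → 3 ≤ p → ∀ (a m : ℕ), m = p ^ a → 9 < m → ∀ (i l μ : ℕ), 1 ≤ i → l = p ^ i →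
    2 ≤ μ → μ * l < m →
    ∃ d : Perm (Fin m), d.cycleType = Multiset.replicate μ l ∧ CertO p d

/-- FP-B3c -/
def B3cStmt : Prop :=
  ∀ (p : ℕ), p.Prime → 3 ≤ p → ∀ (a m : ℕ), m = p ^ a → 9 < m → ∀ (i l μ : ℕ), 1 ≤ i → l = p ^ i →
    2 ≤ μ → μ * l = m →
    ∃ d : Perm (Fin m), d.cycleType = Multiset.replicate μ l ∧ CertO p d

/-- FP-S9a -/
def S9aStmt : Prop := ∃ d : Perm (Fin 9), d.cycleType = Multiset.replicate 2 3 ∧ Cert 3 d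

/-- FP-S9b -/
def S9bStmt : Prop := ∃ d : Perm (Fin 9), d.cycleType = Multiset.replicate 3 3 ∧ Cert 3 d

/-- glue FP-THMB -/
def ThmBStmt : Prop :=
  ∀ (p : ℕ), p.Prime → 3 ≤ p → ∀ (a m : ℕ), m = p ^ a → 5 ≤ m → ∀ s : Multiset ℕ, PPows p s →
    s ≠ 0 → s.sum ≤ m → s ≠ {m} → ∃ d : Perm (Fin m), d.cycleType = s ∧ Cert p d

/-- glue FP-THMB1 -/
def ThmB1Stmt : Prop :=
  ∀ (p : ℕ), p.Prime → 3 ≤ p → ∀ (a m : ℕ), m = p ^ a → 5 ≤ m →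
    ∃ d τ : Perm (Fin m), d.cycleType = {m} ∧ Perm.sign τ = -1 ∧ Cert p d ∧ Cert p (τ * d * τ⁻¹)

/-! ## statements: the case k = 3 -/

/-- FP-BASE5 -/
def Base5Stmt : Prop :=
  ∃ c d : Perm (Fin 5), c.cycleType = {3} ∧ d.cycleType = {3} ∧ Good 3 c d

/-- FP-BASE6a -/
def Base6aStmt : Prop :=
  ∃ c d : Perm (Fin 6), c.cycleType = {3, 3} ∧ d.cycleType = {3, 3} ∧ Good 3 c d

/-- FP-BASE6b -/
def Base6bStmt : Prop :=
  ∃ c d : Perm (Fin 6), c.cycleType = {3, 3} ∧ d.cycleType = {3} ∧ Good 3 c d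

/-- glue FP-CASEB -/
def CaseBStmt : Prop :=
  ∀ (n : ℕ), 5 ≤ n → ∀ (U W : Perm (Fin n)), U ≠ 1 → W ≠ 1 →
    (∀ x ∈ U.cycleType, x = 3) → (∀ x ∈ W.cycleType, x = 3) →
    Multiset.card W.cycleType ≤ Multiset.card U.cycleType →
    ∃ g ∈ alternatingGroup (Fin n), Good 3 U (g * W * g⁻¹)

/-- glue FP-CASEA -/
def CaseAStmt : Prop :=
  ∀ (p : ℕ), p.Prime → 3 ≤ p → ∀ (n : ℕ) (U W : Perm (Fin n)), PPows p U.cycleType →
    PPows p W.cycleType → W ≠ 1 → ∀ k ∈ U.cycleType, 5 ≤ k → (∀ x ∈ W.cycleType, x ≤ k) →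
    ∃ g ∈ alternatingGroup (Fin n), Good p U (g * W * g⁻¹)

/-- glue FP-MAIN -/
def MainStmt : Prop :=
  ∀ (n : ℕ), 5 ≤ n → ∀ (p : ℕ), p.Prime → 3 ≤ p → ∀ (U W : Perm (Fin n)), U ≠ 1 → W ≠ 1 →
    (∃ k : ℕ, orderOf U = p ^ k) → (∃ k : ℕ, orderOf W = p ^ k) →
    ∃ g ∈ alternatingGroup (Fin n), Good p U (g * W * g⁻¹)

/-- FP-FINAL: the frozen statement of S2276 -/
def FinalStmt : Prop :=
  ∀ (n : ℕ) (_ : 5 ≤ n) (p : ℕ) (_ : p.Prime) (_ : 3 ≤ p) (u w : alternatingGroup (Fin n))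
    (_ : u ≠ 1) (_ : w ≠ 1)
    (_ : ∃ k : ℕ, orderOf u = p ^ k) (_ : ∃ k : ℕ, orderOf w = p ^ k),
    ∃ g : alternatingGroup (Fin n), (¬ ∃ k : ℕ, orderOf (u * (g * w * g⁻¹)) = p ^ k) ∧
      ¬ Group.IsSolvable ↥(Subgroup.closure ({u, g * w * g⁻¹} : Set (alternatingGroup (Fin n))))

end Cfsg.Agent.Lib.Helper83.Fp
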