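import Mathlib

/-! # TQ-BRM core (helper59's Tq hive): a CHARACTERISTIC-FREE zero count.

A nondegenerate quadratic form on a `2M`-dimensional space over a finite field with `q` elements that has a
totally singular subspace of dimension `M` has exactly `q^M + (q^M - 1) q^(M-1)` zeros
(double count over the cosets of `U`). -/

set_option autoImplicit false

namespace Cfsg.Agent.Lib.Helper59.Tq

open Module

section count

variable {F : Type*} [Field F] [Fintype F]

/-- the fibres of a nonzero linear functional have `q^(dim - 1)` elements -/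
theorem brm_card_fiber {U : Type*} [AddCommGroup U] [Module F U] [FiniteDimensional F U]
    (φ : U →ₗ[F] F) (hφ : φ ≠ 0) (c : F) :
    Nat.card {u : U // φ u = c} = Fintype.card F ^ (finrank F U - 1) := by
  classical
  obtain ⟨u₁, hu₁⟩ : ∃ u₁, φ u₁ ≠ 0 := by
    by_contra h
    push Not at h
    exact hφ (LinearMap.ext h)
  set u₀ : U := (c / φ u₁) • u₁ with hu₀
  have hφu₀ : φ u₀ = c := by rw [hu₀, map_smul, smul_eq_mul, div_mul_cancel₀ _ hu₁]
  have e : {u : U // φ u = c} ≃ LinearMap.ker φ :=
    { toFun := fun u => ⟨u.1 - u₀, by rw [LinearMap.mem_ker, map_sub, u.2, hφu₀, sub_self]⟩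
      invFun := fun k => ⟨k.1 + u₀, by rw [map_add, LinearMap.mem_ker.mp k.2, hφu₀, zero_add]⟩
      left_inv := fun u => by simp
      right_inv := fun k => by simp }
  rw [Nat.card_congr e, Module.natCard_eq_pow_finrank (K := F), Nat.card_eq_fintype_card (α := F)]
  congr 1
  have hsurj : LinearMap.range φ = ⊤ := by
    rw [LinearMap.range_eq_top]
    intro y
    exact ⟨(y / φ u₁) • u₁, by rw [map_smul, smul_eq_mul, div_mul_cancel₀ _ hu₁]⟩
  have := LinearMap.finrank_range_add_finrank_ker φ
  rw [hsurj, finrank_top, Module.finrank_self] at this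
  omega

variable {V : Type*} [AddCommGroup V] [Module F V] [FiniteDimensional F V]

/-- the zero count of a nondegenerate quadratic space with a totally singular subspace of half the dimension,
in ANY characteristic -/
theorem brm_card_zeros_of_lagrangian (Q : QuadraticForm F V)
    (hQ : (QuadraticMap.polarBilin Q).Nondegenerate) (U : Submodule F V) (hU : ∀ u ∈ U, Q u = 0)
    (M : ℕ) (hM : 1 ≤ M) (hdU : finrank F U = M) (hdV : finrank F V = 2 * M) :
    Nat.card {v : V // Q v = 0} =
      Fintype.card F ^ M + (Fintype.card F ^ M - 1) * Fintype.card F ^ (M - 1) := by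
  classical
  have : Finite V := Module.finite_of_finite F
  have := Fintype.ofFinite V
  set q := Fintype.card F with hq
  have hq1 : 1 ≤ q := Fintype.card_pos
  -- polar vanishes on U
  have hUU : ∀ u ∈ U, ∀ u' ∈ U, QuadraticMap.polar Q u u' = 0 := by
    intro u hu u' hu'
    unfold QuadraticMap.polar
    rw [hU _ (U.add_mem hu hu'), hU u hu, hU u' hu']; simp
  have hperp : LinearMap.BilinForm.orthogonal (QuadraticMap.polarBilin Q) U = U := by
    symm
    apply Submodule.eq_of_le_of_finrank_eq
    · intro u hu
      rw [LinearMap.BilinForm.mem_orthogonal_iff]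
      intro n hn
      rw [QuadraticMap.polarBilin_apply_apply]; exact hUU n hn u hu
    · rw [LinearMap.BilinForm.finrank_orthogonal hQ U, hdU, hdV]; omega
  have hmem : ∀ v : V, (∀ u ∈ U, QuadraticMap.polar Q v u = 0) → v ∈ U := by
    intro v hv
    rw [← hperp, LinearMap.BilinForm.mem_orthogonal_iff]
    intro n hn
    rw [QuadraticMap.polarBilin_apply_apply, QuadraticMap.polar_comm]; exact hv n hn
  have hexp : ∀ (v : V) (u : U), Q (v + u) = Q v + QuadraticMap.polar Q v u := by
    intro v u
    unfold QuadraticMap.polar
    rw [hU _ u.2]; ring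
  -- fibre counts
  have hfib : ∀ v : V,
      Nat.card {u : U // Q (v + u) = 0} = if v ∈ U then q ^ M else q ^ (M - 1) := by
    intro v
    split_ifs with hv
    · have : ∀ u : U, Q (v + u) = 0 := fun u => hU _ (U.add_mem hv u.2)
      rw [Nat.card_congr (Equiv.subtypeUnivEquiv this), Module.natCard_eq_pow_finrank (K := F),
        Nat.card_eq_fintype_card (α := F), hdU]
    · let φ : U →ₗ[F] F := ((QuadraticMap.polarBilin Q) v).domRestrict U
      have hφ : φ ≠ 0 := by
        intro h0
        apply hv; apply hmem
        intro u hu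
        have := LinearMap.congr_fun h0 ⟨u, hu⟩
        simpa [φ] using this
      have := brm_card_fiber φ hφ (-(Q v))
      rw [hdU] at this
      rw [← this]
      apply Nat.card_congr
      apply Equiv.subtypeEquivRight
      intro u
      rw [hexp]
      show _ ↔ (QuadraticMap.polarBilin Q) v u = - Q v
      rw [QuadraticMap.polarBilin_apply_apply]
      constructor
      · intro h; linear_combination h
      · intro h; linear_combination h
  -- double count
  have e1 : {p : V × U // Q (p.1 + p.2) = 0} ≃ {v : V // Q v = 0} × U :=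
    { toFun := fun p => (⟨p.1.1 + p.1.2, p.2⟩, p.1.2)
      invFun := fun w => ⟨(w.1.1 - w.2, w.2), by simpa using w.1.2⟩
      left_inv := fun p => by
        apply Subtype.ext
        simp
      right_inv := fun w => by
        apply Prod.ext
        · apply Subtype.ext; simp
        · rfl }
  have e2 : {p : V × U // Q (p.1 + p.2) = 0} ≃ Σ v : V, {u : U // Q (v + u) = 0} :=
    Equiv.subtypeProdEquivSigmaSubtype (fun (v : V) (u : U) => Q (v + u) = 0)
  have hcount : Nat.card {v : V // Q v = 0} * q ^ M =
      ∑ v : V, (if v ∈ U then q ^ M else q ^ (M - 1)) := by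
    have h1 := Nat.card_congr e1
    rw [Nat.card_prod, Module.natCard_eq_pow_finrank (K := F) (V := U), Nat.card_eq_fintype_card (α := F),
      hdU] at h1
    rw [← h1, Nat.card_congr e2, Nat.card_sigma]
    exact Finset.sum_congr rfl (fun v _ => hfib v)
  rw [Finset.sum_ite, Finset.sum_const, Finset.sum_const, smul_eq_mul, smul_eq_mul] at hcount
  have ha : (Finset.univ.filter (fun v : V => v ∈ U)).card = q ^ M := by
    have h2 : Nat.card U = q ^ M := by
      rw [Module.natCard_eq_pow_finrank (K := F), Nat.card_eq_fintype_card (α := F), hdU]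
    rw [← h2, Nat.card_eq_fintype_card, Fintype.card_subtype]
  have hab := Finset.card_filter_add_card_filter_not (s := (Finset.univ : Finset V))
    (fun v : V => v ∈ U)
  have hV : (Finset.univ : Finset V).card = q ^ M * q ^ M := by
    rw [Finset.card_univ, Module.card_eq_pow_finrank (K := F), hdV, two_mul, pow_add]
  rw [ha, hV] at hab
  rw [ha] at hcount
  set b := (Finset.univ.filter (fun v : V => ¬ v ∈ U)).card with hb
  set X := q ^ M with hX
  set Y := q ^ (M - 1) with hY
  have hXpos : 0 < X := pow_pos hq1 _
  obtain ⟨t, ht⟩ : ∃ t, X = t + 1 := ⟨X - 1, by omega⟩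
  have hbt : b = X * t := by
    have : X + b = X * t + X := by rw [hab, ht]; ring
    omega
  rw [hbt] at hcount
  have hfin : Nat.card {v : V // Q v = 0} * X = (X + t * Y) * X := by
    rw [hcount]; ring
  have := Nat.eq_of_mul_eq_mul_right hXpos hfin
  rw [this, ht]
  simp
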