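import Mathlib
import Cfsg.Agent.Lib.Helper59.TqDefs
import Cfsg.Agent.Lib.Helper43.ZeroCount
import Cfsg.Agent.Lib.Helper83.TqBRMcount

/-! # TQ-BRM (helper59's Tq hive): `quadFormMinus (d-1) F a b` is `Std` of type `1` -/

set_option autoImplicit false
set_option linter.unusedSectionVars false

namespace Cfsg.Agent.Lib.Helper59.Tq

open Module

section bridge

variable {F : Type*} [Field F] [Fintype F]

/-- TQ-BRM (1) -/
theorem std_minus (d : ℕ) (hd : 1 ≤ d) (a b : F)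
    (hab : ∀ x y : F, x ^ 2 + a * x * y + b * y ^ 2 = 0 → x = 0 ∧ y = 0) :
    Std (Cfsg.quadFormMinus (d - 1) F a b) d := by
  refine ⟨⟨Cfsg.Agent.Lib.Helper8.minusForm (d - 1) F a b,
    (Cfsg.Agent.Lib.Helper8.minusForm_coe (d - 1) F a b).symm,
    Cfsg.Agent.Lib.Helper43.ZeroCount.minusForm_nondeg F a b hab (d - 1)⟩, ?_⟩
  rw [Fintype.card_sum, Fintype.card_sum, Fintype.card_fin, Fintype.card_fin]
  omega

/-- TQ-BRM (2) -/
theorem typeE_minus (d : ℕ) (hd : 1 ≤ d) (a b : F)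
    (hab : ∀ x y : F, x ^ 2 + a * x * y + b * y ^ 2 = 0 → x = 0 ∧ y = 0) :
    TypeE (Cfsg.quadFormMinus (d - 1) F a b) 1 := by
  refine Or.inr ⟨rfl, ?_⟩
  rintro ⟨U, hU, hdU⟩
  have hcard : Fintype.card ((Fin (d - 1) ⊕ Fin (d - 1)) ⊕ Fin 2) = 2 * d := by
    rw [Fintype.card_sum, Fintype.card_sum, Fintype.card_fin, Fintype.card_fin]
    omega
  rw [hcard] at hdU
  have hdU' : finrank F U = d := by omega
  have hdV : finrank F ((Fin (d - 1) ⊕ Fin (d - 1)) ⊕ Fin 2 → F) = 2 * d := by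
    rw [Module.finrank_fintype_fun_eq_card, hcard]
  have hU' : ∀ u ∈ U, Cfsg.Agent.Lib.Helper8.minusForm (d - 1) F a b u = 0 := by
    intro u hu
    rw [← Cfsg.Agent.Lib.Helper8.minusForm_coe]
    exact hU u hu
  have h1 := brm_card_zeros_of_lagrangian (Cfsg.Agent.Lib.Helper8.minusForm (d - 1) F a b)
    (Cfsg.Agent.Lib.Helper43.ZeroCount.minusForm_nondeg F a b hab (d - 1)) U hU' d hd hdU' hdV
  have h2 := Cfsg.Agent.Lib.Helper43.ZeroCount.card_zeros_minus F a b hab (d - 1)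
  have hq2 : 2 ≤ Fintype.card F := Fintype.one_lt_card
  have h3 := Cfsg.Agent.Lib.Helper43.ZZ_plus_ne_minus (Fintype.card F) hq2 (d - 1)
  apply h3
  rw [← h2, h1, Cfsg.Agent.Lib.Helper43.ZZ_plus _ (by omega)]
  have hd' : d - 1 + 1 = d := by omega
  rw [hd']
  set X := Fintype.card F ^ d with hX
  set Y := Fintype.card F ^ (d - 1) with hY
  have hX1 : 1 ≤ X := Nat.one_le_pow _ _ (by omega)
  obtain ⟨t, ht⟩ : ∃ t, X = t + 1 := ⟨X - 1, by omega⟩
  rw [ht]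
  simp only [Nat.add_sub_cancel]
  ring

end bridge

end Cfsg.Agent.Lib.Helper59.Tq
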