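import Mathlib
import Cfsg.Prelude.Def_ClassicalGeometry
import Cfsg.Prelude.Def_GeometricClasses
import Cfsg.Agent.Lib.Helper65.QeDefs
import Cfsg.Agent.Lib.Helper83.HyT3

/-! # S5988 hive "Qe" (helper65), leaf QE-T3 : `exists_ndQ_of_type_two`

Characteristic 2: inside a nondegenerate subspace `Z` of a quadratic space over a finite field there are
nondegenerate subspaces of every even dimension `0 < m₀ < dim Z` of both types.  Intrinsic proof (no
coordinates): hyperbolic planes are peeled off; the anisotropic plane is `⟨u, v⟩` with `Q u = 1`,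
`pol u v = 1`, `Q v = β`, `X² + X + β` without roots. -/

set_option autoImplicit false

namespace Cfsg.Agent.Lib.Helper65.Qe

open Polynomial Module
open Cfsg.Agent.Lib.Helper2.BG Cfsg.Agent.Lib.Helper99 Cfsg.Agent.Lib.Helper48.Ti
open Cfsg.Agent.Lib.Helper5.Hy
open Cfsg.Agent.Lib.Helper67.Ts

section abstract

variable {F V : Type*} [Field F] [Fintype F] [AddCommGroup V] [Module F V] [FiniteDimensional F V]
variable {Q : QuadraticForm F V}

omit [Fintype F] [FiniteDimensional F V] in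
theorem t3_pol_symm (u v : V) : pol Q u v = pol Q v u := by
  simp only [pol, QuadraticMap.polarBilin_apply_apply]
  exact QuadraticMap.polar_comm _ _ _

omit [Fintype F] [FiniteDimensional F V] in
theorem t3_pol_self (h2 : (2 : F) = 0) (v : V) : pol Q v v = 0 := by
  rw [pol, QuadraticMap.polarBilin_apply_apply, QuadraticMap.polar_self]
  simp [h2]

omit [Fintype F] [FiniteDimensional F V] in
theorem t3_Q_add (u v : V) : Q (u + v) = Q u + Q v + pol Q u v := by
  rw [pol, QuadraticMap.polarBilin_apply_apply]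
  unfold QuadraticMap.polar
  ring

omit [Fintype F] [FiniteDimensional F V] in
theorem t3_Q_smul (a : F) (v : V) : Q (a • v) = a * a * Q v := by
  rw [QuadraticMap.map_smul, smul_eq_mul]

omit [Fintype F] [FiniteDimensional F V] in
/-- totally singular subspaces are totally isotropic for the polar form -/
theorem t3_ti_of_ts {U : Submodule F V} (hU : ∀ u ∈ U, Q u = 0) : TI (pol Q) U := by
  intro x hx y hy
  have := t3_Q_add (Q := Q) x y
  rw [hU _ (U.add_mem hx hy), hU x hx, hU y hy] at this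
  simpa using this.symm

omit [FiniteDimensional F V] in
/-- in characteristic 2 over a finite field, a nonzero nondegenerate subspace represents every scalar -/
theorem t3_represents_two (h2 : (2 : F) = 0) {Z : Submodule F V} (hZ : Nd (pol Q) Z) (hZ0 : Z ≠ ⊥)
    (c : F) : ∃ w ∈ Z, Q w = c := by
  have hex : ∃ v ∈ Z, Q v ≠ 0 := by
    by_contra hcon
    push Not at hcon
    obtain ⟨u, hu, hu0⟩ := Submodule.exists_mem_ne_zero_of_ne_bot hZ0
    apply hu0
    apply hZ u hu
    intro v hv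
    have h1 := t3_Q_add (Q := Q) u v
    rw [hcon _ (Z.add_mem hu hv), hcon u hu, hcon v hv] at h1
    simpa using h1.symm
  obtain ⟨v, hv, hQv⟩ := hex
  have hchar : ringChar F = 2 :=
    CharP.ringChar_of_prime_eq_zero Nat.prime_two (by exact_mod_cast h2)
  obtain ⟨s, hs⟩ := FiniteField.isSquare_of_char_two hchar (c / Q v)
  refine ⟨s • v, Z.smul_mem s hv, ?_⟩
  rw [t3_Q_smul, ← hs, div_mul_cancel₀ _ hQv]

omit [AddCommGroup V] [Module F V] [FiniteDimensional F V] in
/-- the Artin-Schreier map is not onto -/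
theorem t3_exists_beta (h2 : (2 : F) = 0) : ∃ β : F, ∀ t : F, t * t + t + β ≠ 0 := by
  by_contra hcon
  push Not at hcon
  have hsurj : Function.Surjective (fun t : F => t * t + t) := by
    intro β
    obtain ⟨t, ht⟩ := hcon β
    refine ⟨t, ?_⟩
    show t * t + t = β
    linear_combination ht - β * h2
  have hinj := Finite.injective_iff_surjective.mpr hsurj
  have h01 : (0 : F) = 1 := by
    apply hinj
    show (0 : F) * 0 + 0 = 1 * 1 + 1
    linear_combination -h2
  exact zero_ne_one h01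

/-- auxiliary: a nondegenerate plane `⟨u, v₀⟩` with `Q u = 1`, `pol u v₀ = 1` and its complement -/
theorem t3_aux_two (h2 : (2 : F) = 0) {Z : Submodule F V} (hZ : Nd (pol Q) Z)
    (h3 : 3 ≤ finrank F Z) :
    ∃ u ∈ Z, ∃ v₀ ∈ Z, Q u = 1 ∧ pol Q u v₀ = 1 ∧
      Nd (pol Q) (Z ⊓ LinearMap.BilinForm.orthogonal (pol Q)
        (Submodule.span F {u} ⊔ Submodule.span F {v₀})) ∧
      Z ⊓ LinearMap.BilinForm.orthogonal (pol Q)
        (Submodule.span F {u} ⊔ Submodule.span F {v₀}) ≠ ⊥ ∧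
      Disjoint (Submodule.span F {u} ⊔ Submodule.span F {v₀})
        (Z ⊓ LinearMap.BilinForm.orthogonal (pol Q)
          (Submodule.span F {u} ⊔ Submodule.span F {v₀})) := by
  have hZ0 : Z ≠ ⊥ := by
    rintro rfl
    rw [finrank_bot] at h3
    omega
  obtain ⟨u, huZ, hQu⟩ := t3_represents_two h2 hZ hZ0 1
  have hu0 : u ≠ 0 := by
    rintro rfl
    rw [map_zero] at hQu
    exact zero_ne_one hQu
  have hex : ∃ v ∈ Z, pol Q u v ≠ 0 := by
    by_contra hcon
    push Not at hcon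
    exact hu0 (hZ u huZ hcon)
  obtain ⟨v₁, hv₁Z, huv₁⟩ := hex
  set v₀ : V := (pol Q u v₁)⁻¹ • v₁ with hv₀
  have hv₀Z : v₀ ∈ Z := Z.smul_mem _ hv₁Z
  have huv₀ : pol Q u v₀ = 1 := by
    rw [hv₀, map_smul, smul_eq_mul, inv_mul_cancel₀ huv₁]
  have hδ : pol Q u u * pol Q v₀ v₀ - pol Q u v₀ * pol Q u v₀ ≠ 0 := by
    rw [t3_pol_self h2, huv₀]
    simp
  obtain ⟨hPnd, hPfr⟩ := t3_plane t3_pol_symm u v₀ hδ
  have hPZ : Submodule.span F {u} ⊔ Submodule.span F {v₀} ≤ Z :=
    sup_le ((Submodule.span_singleton_le_iff_mem u Z).mpr huZ)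
      ((Submodule.span_singleton_le_iff_mem v₀ Z).mpr hv₀Z)
  obtain ⟨hZ₁, hdisj, -⟩ := t3_nd_perp t3_pol_symm hZ hPZ hPnd
  have hfr := peel_finrank hZ hPZ
  refine ⟨u, huZ, v₀, hv₀Z, hQu, huv₀, hZ₁, ?_, hdisj⟩
  intro hbot
  rw [hbot, finrank_bot, hPfr] at hfr
  omega

/-- a hyperbolic plane inside a nondegenerate space of dimension at least three (char 2) -/
theorem t3_hyp_plane_two (h2 : (2 : F) = 0) {Z : Submodule F V} (hZ : Nd (pol Q) Z)
    (h3 : 3 ≤ finrank F Z) :
    ∃ (e : V) (H : Submodule F V), e ∈ H ∧ e ≠ 0 ∧ Q e = 0 ∧ H ≤ Z ∧ Nd (pol Q) H ∧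
      finrank F H = 2 := by
  obtain ⟨u, huZ, v₀, hv₀Z, hQu, huv₀, hZ₁, hZ₁0, hdisj⟩ := t3_aux_two h2 hZ h3
  obtain ⟨w, hwZ₁, hQw⟩ := t3_represents_two h2 hZ₁ hZ₁0 1
  have huP : u ∈ Submodule.span F {u} ⊔ Submodule.span F {v₀} :=
    Submodule.mem_sup_left (Submodule.mem_span_singleton_self u)
  have huw : pol Q u w = 0 := hwZ₁.2 u huP
  set e : V := u + w with he
  have hQe : Q e = 0 := by
    rw [he, t3_Q_add, hQu, hQw, huw]
    linear_combination h2
  have heZ : e ∈ Z := Z.add_mem huZ hwZ₁.1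
  have he0 : e ≠ 0 := by
    intro h0
    have hw : w = -u := by
      rw [he] at h0
      exact (neg_eq_of_add_eq_zero_right h0).symm
    have hwP : w ∈ Submodule.span F {u} ⊔ Submodule.span F {v₀} := by
      rw [hw]
      exact Submodule.neg_mem _ huP
    have hw0 : w = 0 := (Submodule.disjoint_def.mp hdisj) w hwP hwZ₁
    rw [hw0, map_zero] at hQw
    exact zero_ne_one hQw
  have hex : ∃ f ∈ Z, pol Q e f ≠ 0 := by
    by_contra hcon
    push Not at hcon
    exact he0 (hZ e heZ hcon)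
  obtain ⟨f, hfZ, hef⟩ := hex
  have hδ : pol Q e e * pol Q f f - pol Q e f * pol Q e f ≠ 0 := by
    rw [t3_pol_self h2, zero_mul, zero_sub]
    exact neg_ne_zero.mpr (mul_ne_zero hef hef)
  obtain ⟨hnd, hfr⟩ := t3_plane t3_pol_symm e f hδ
  exact ⟨e, _, Submodule.mem_sup_left (Submodule.mem_span_singleton_self e), he0, hQe,
    sup_le ((Submodule.span_singleton_le_iff_mem e Z).mpr heZ)
      ((Submodule.span_singleton_le_iff_mem f Z).mpr hfZ), hnd, hfr⟩

/-- an anisotropic plane inside a nondegenerate space of dimension at least three (char 2) -/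
theorem t3_aniso_two (h2 : (2 : F) = 0) {Z : Submodule F V} (hZ : Nd (pol Q) Z)
    (h3 : 3 ≤ finrank F Z) :
    ∃ A : Submodule F V, A ≤ Z ∧ Nd (pol Q) A ∧ finrank F A = 2 ∧ ∀ a ∈ A, Q a = 0 → a = 0 := by
  obtain ⟨u, huZ, v₀, hv₀Z, hQu, huv₀, hZ₁, hZ₁0, hdisj⟩ := t3_aux_two h2 hZ h3
  obtain ⟨β, hβ⟩ := t3_exists_beta h2
  obtain ⟨w, hwZ₁, hQw⟩ := t3_represents_two h2 hZ₁ hZ₁0 (β + Q v₀)
  have huP : u ∈ Submodule.span F {u} ⊔ Submodule.span F {v₀} :=
    Submodule.mem_sup_left (Submodule.mem_span_singleton_self u)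
  have hvP : v₀ ∈ Submodule.span F {u} ⊔ Submodule.span F {v₀} :=
    Submodule.mem_sup_right (Submodule.mem_span_singleton_self v₀)
  have huw : pol Q u w = 0 := hwZ₁.2 u huP
  have hvw : pol Q v₀ w = 0 := hwZ₁.2 v₀ hvP
  set v : V := v₀ + w with hv
  have hQv : Q v = β := by
    rw [hv, t3_Q_add, hQw, hvw]
    linear_combination Q v₀ * h2
  have huv : pol Q u v = 1 := by
    rw [hv, map_add, huv₀, huw, add_zero]
  have hvZ : v ∈ Z := Z.add_mem hv₀Z hwZ₁.1
  have hδ : pol Q u u * pol Q v v - pol Q u v * pol Q u v ≠ 0 := by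
    rw [t3_pol_self h2, huv]
    simp
  obtain ⟨hnd, hfr⟩ := t3_plane t3_pol_symm u v hδ
  refine ⟨_, sup_le ((Submodule.span_singleton_le_iff_mem u Z).mpr huZ)
      ((Submodule.span_singleton_le_iff_mem v Z).mpr hvZ), hnd, hfr, ?_⟩
  intro a ha hQa
  obtain ⟨a₁, ha₁, a₂, ha₂, rfl⟩ := Submodule.mem_sup.mp ha
  obtain ⟨x, rfl⟩ := Submodule.mem_span_singleton.mp ha₁
  obtain ⟨y, rfl⟩ := Submodule.mem_span_singleton.mp ha₂
  have hval : Q (x • u + y • v) = x * x + x * y + β * (y * y) := by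
    rw [t3_Q_add, t3_Q_smul, t3_Q_smul, hQu, hQv]
    simp only [map_smul, LinearMap.smul_apply, smul_eq_mul, huv]
    ring
  rw [hval] at hQa
  by_cases hy : y = 0
  · subst hy
    have hx : x = 0 := by
      have : x * x = 0 := by linear_combination hQa
      exact mul_self_eq_zero.mp this
    subst hx
    simp
  · exfalso
    apply hβ (x / y)
    field_simp
    linear_combination hQa

omit [Fintype F] in
/-- Witt index reduction for totally singular subspaces: peeling a singular line -/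
theorem t3_reduce_two {W W' : Submodule F V} {e : V} (hW : Nd (pol Q) W)
    (he : e ∈ W) (he0 : e ≠ 0) (hee : Q e = 0) (hW'W : W' ≤ W)
    (horth : ∀ w ∈ W', pol Q e w = 0) (hdisj : Disjoint (Submodule.span F {e}) W')
    (hdim : finrank F W' + 2 = finrank F W) {U : Submodule F V} (hUW : U ≤ W)
    (hU : ∀ u ∈ U, Q u = 0) :
    ∃ U' : Submodule F V, U' ≤ W' ∧ (∀ u ∈ U', Q u = 0) ∧ finrank F U ≤ finrank F U' + 1 := by
  have hs : ∀ u v : V, pol Q u v = pol Q v u := t3_pol_symm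
  have hUti : TI (pol Q) U := t3_ti_of_ts hU
  set Y : Submodule F V := Submodule.span F {e} with hY
  set M : Submodule F V := W ⊓ LinearMap.BilinForm.orthogonal (pol Q) Y with hM
  have hYW : Y ≤ W := (Submodule.span_singleton_le_iff_mem e W).mpr he
  have hYfr : finrank F Y = 1 := finrank_span_singleton he0
  have hmemM : ∀ x, x ∈ W → pol Q e x = 0 → x ∈ M := by
    intro x hx hex
    refine ⟨hx, ?_⟩
    intro n hn
    obtain ⟨t, rfl⟩ := Submodule.mem_span_singleton.mp hn
    show pol Q (t • e) x = 0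
    rw [map_smul, LinearMap.smul_apply, hex, smul_zero]
  have hMe : ∀ x ∈ M, pol Q e x = 0 := fun x hx => hx.2 e (Submodule.mem_span_singleton_self e)
  have hpee : pol Q e e = 0 := by
    have := t3_ti_of_ts (Q := Q) (U := Y) (by
      intro y hy
      obtain ⟨s, rfl⟩ := Submodule.mem_span_singleton.mp hy
      rw [t3_Q_smul, hee, mul_zero])
    exact this e (Submodule.mem_span_singleton_self e) e (Submodule.mem_span_singleton_self e)
  have hYM : Y ≤ M := by
    intro y hy
    obtain ⟨s, rfl⟩ := Submodule.mem_span_singleton.mp hy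
    apply hmemM _ (hYW hy)
    rw [map_smul, hpee, smul_zero]
  have hW'M : W' ≤ M := fun w hw => hmemM w (hW'W hw) (horth w hw)
  have hfrM : finrank F Y + finrank F M = finrank F W := peel_finrank hW hYW
  have hMeq : Y ⊔ W' = M := by
    apply Submodule.eq_of_le_of_finrank_eq (sup_le hYM hW'M)
    rw [finrank_sup_of_disjoint' _ _ hdisj]
    omega
  set T : Submodule F V := (U ⊓ M) ⊔ Y with hT
  have hTts : ∀ x ∈ T, Q x = 0 := by
    intro x hx
    obtain ⟨u₁, hu₁, y₁, hy₁, rfl⟩ := Submodule.mem_sup.mp hx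
    obtain ⟨s, rfl⟩ := Submodule.mem_span_singleton.mp hy₁
    rw [t3_Q_add, hU u₁ hu₁.1, t3_Q_smul, hee, map_smul, smul_eq_mul, hs u₁ e, hMe u₁ hu₁.2]
    ring
  have hTM : T ≤ M := sup_le inf_le_right hYM
  have hYT : Y ≤ T := le_sup_right
  have hdimT : finrank F U ≤ finrank F T := by
    by_cases heU : e ∈ U
    · have hUM : U ≤ M := fun u hu => hmemM u (hUW hu) (hUti e heU u hu)
      apply Submodule.finrank_mono
      intro u hu
      exact Submodule.mem_sup_left ⟨hu, hUM hu⟩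
    · have hd2 : Disjoint (U ⊓ M) Y := by
        rw [Submodule.disjoint_def]
        intro x hx hxY
        obtain ⟨s, rfl⟩ := Submodule.mem_span_singleton.mp hxY
        by_cases hs0 : s = 0
        · rw [hs0, zero_smul]
        · exfalso
          apply heU
          have : e = s⁻¹ • (s • e) := by rw [smul_smul, inv_mul_cancel₀ hs0, one_smul]
          rw [this]
          exact U.smul_mem _ hx.1
      rw [hT, finrank_sup_of_disjoint' _ _ hd2, hYfr]
      have h1 := Submodule.finrank_sup_add_finrank_inf_eq U M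
      have h3 : finrank F ↥(U ⊔ M) ≤ finrank F W :=
        Submodule.finrank_mono (sup_le hUW inf_le_left)
      omega
  refine ⟨T ⊓ W', inf_le_right, fun x hx => hTts x hx.1, ?_⟩
  have hTeq : T = Y ⊔ W' ⊓ T := by
    have := sup_inf_assoc_of_le W' hYT
    rw [hMeq, inf_eq_right.mpr hTM] at this
    exact this
  have h4 : finrank F T ≤ finrank F Y + finrank F ↥(W' ⊓ T) := by
    conv_lhs => rw [hTeq]
    exact Submodule.finrank_add_le_finrank_add_finrank _ _
  rw [inf_comm] at h4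
  omega

/-- the main induction (char 2) -/
theorem t3_main_two (h2 : (2 : F) = 0) :
    ∀ k : ℕ, 1 ≤ k → ∀ Z : Submodule F V, Nd (pol Q) Z → 2 * k < finrank F Z → ∀ b : Prop,
      ∃ W₀ : Submodule F V, W₀ ≤ Z ∧ Nd (pol Q) W₀ ∧ finrank F W₀ = 2 * k ∧ (PlusQ Q W₀ ↔ b) := by
  have hs : ∀ u v : V, pol Q u v = pol Q v u := t3_pol_symm
  intro k hk
  induction k, hk using Nat.le_induction with
  | base =>
    intro Z hZ hlt b
    have h3 : 3 ≤ finrank F Z := by omega
    by_cases hb : b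
    · obtain ⟨e, H, heH, he0, hee, hHZ, hHnd, hHfr⟩ := t3_hyp_plane_two h2 hZ h3
      refine ⟨H, hHZ, hHnd, hHfr, iff_of_true ?_ hb⟩
      refine ⟨Submodule.span F {e}, (Submodule.span_singleton_le_iff_mem e H).mpr heH, ?_, ?_⟩
      · intro y hy
        obtain ⟨s, rfl⟩ := Submodule.mem_span_singleton.mp hy
        rw [t3_Q_smul, hee, mul_zero]
      · rw [finrank_span_singleton he0, hHfr]
    · obtain ⟨A, hAZ, hAnd, hAfr, hAan⟩ := t3_aniso_two h2 hZ h3
      refine ⟨A, hAZ, hAnd, hAfr, iff_of_false ?_ hb⟩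
      rintro ⟨U, hUA, hUts, hUfr⟩
      have hU0 : U ≠ ⊥ := by
        rintro rfl
        rw [finrank_bot, hAfr] at hUfr
        omega
      obtain ⟨u, hu, hu0⟩ := Submodule.exists_mem_ne_zero_of_ne_bot hU0
      exact hu0 (hAan u (hUA hu) (hUts u hu))
  | succ k hk ih =>
    intro Z hZ hlt b
    have h3 : 3 ≤ finrank F Z := by omega
    obtain ⟨e, H, heH, he0, hee, hHZ, hHnd, hHfr⟩ := t3_hyp_plane_two h2 hZ h3
    obtain ⟨hZ₁, -, -⟩ := t3_nd_perp hs hZ hHZ hHnd
    have hfr := peel_finrank hZ hHZ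
    obtain ⟨W', hW'Z₁, hW'nd, hW'fr, hW'b⟩ :=
      ih (Z ⊓ LinearMap.BilinForm.orthogonal (pol Q) H) hZ₁ (by omega) b
    have ho : Orth (pol Q) H W' := fun h hh w hw => (hW'Z₁ hw).2 h hh
    obtain ⟨hnd, hinf, hfrsum⟩ := nd_sup hs hHnd hW'nd ho
    have heW' : ∀ w ∈ W', pol Q e w = 0 := fun w hw => ho e heH w hw
    have hYH : Submodule.span F {e} ≤ H := (Submodule.span_singleton_le_iff_mem e H).mpr heH
    have hdisj : Disjoint (Submodule.span F {e}) W' := by
      rw [disjoint_iff, eq_bot_iff, ← hinf]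
      exact inf_le_inf_right _ hYH
    refine ⟨H ⊔ W', sup_le hHZ (hW'Z₁.trans inf_le_left), hnd, by rw [hfrsum, hHfr, hW'fr]; ring,
      ?_⟩
    rw [← hW'b]
    constructor
    · rintro ⟨U, hUW, hUts, hUfr⟩
      obtain ⟨U', hU'W', hU'ts, hle⟩ := t3_reduce_two hnd (Submodule.mem_sup_left heH) he0 hee
        le_sup_right heW' hdisj (by rw [hfrsum, hHfr]; ring) hUW hUts
      have hb := ts_bound hs hW'nd hU'W' (t3_ti_of_ts hU'ts)
      refine ⟨U', hU'W', hU'ts, ?_⟩
      rw [hfrsum, hHfr, hW'fr] at hUfr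
      omega
    · rintro ⟨U', hU'W', hU'ts, hU'fr⟩
      refine ⟨Submodule.span F {e} ⊔ U', sup_le (hYH.trans le_sup_left) (hU'W'.trans le_sup_right),
        ?_, ?_⟩
      · intro x hx
        obtain ⟨y₁, hy₁, u₁, hu₁, rfl⟩ := Submodule.mem_sup.mp hx
        obtain ⟨s, rfl⟩ := Submodule.mem_span_singleton.mp hy₁
        rw [t3_Q_add, t3_Q_smul, hee, hU'ts u₁ hu₁, map_smul, LinearMap.smul_apply,
          heW' u₁ (hU'W' hu₁)]
        simp
      · rw [finrank_sup_of_disjoint' _ _ (hdisj.mono_right hU'W'), finrank_span_singleton he0,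
          hfrsum, hHfr]
        omega

/-- QE-T3 (char 2): inside a nondegenerate `Z` there are nondegenerate subspaces of every even
dimension `0 < m₀ < dim Z` of BOTH types. -/
theorem exists_ndQ_of_type_two (h2 : (2 : F) = 0) {Z : Submodule F V} (hZ : Nd (pol Q) Z)
    (m₀ : ℕ) (hme : Even m₀) (h0 : 0 < m₀) (hlt : m₀ < finrank F Z) (b : Prop) :
    ∃ W₀ : Submodule F V, W₀ ≤ Z ∧ Nd (pol Q) W₀ ∧ finrank F W₀ = m₀ ∧ (PlusQ Q W₀ ↔ b) := by
  obtain ⟨k, hk⟩ := hme
  have hk2 : m₀ = 2 * k := by omega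
  subst hk2
  exact t3_main_two h2 k (by omega) Z hZ hlt b

end abstract

end Cfsg.Agent.Lib.Helper65.Qe
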