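import Mathlib
import Cfsg.Agent.Lib.Helper20.SuBNDefs
import Cfsg.Agent.Lib.Helper20.SuBNAsm0
import Cfsg.Agent.Lib.Helper13.SuBNR3
import Cfsg.Agent.Lib.Helper53.SuBNMON
import Cfsg.Agent.Lib.Helper53.SuBNW1

/-!
# S2546 hive (helper20), leaf SuBN-N4: `hcl` of the criterion, in `SL_n`.
-/

set_option autoImplicit false

namespace Cfsg.Agent.Lib.Helper20.SuBN

open Matrix Subgroup Cfsg.Agent.Lib.Helper20.PslF Cfsg.Agent.Lib.Helper20.SuF

variable {n : ℕ} {K : Type*} [Field K] [Fintype K] (F : SuF.Inv K)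

/-- every permutation in the closure of the `rr i` has a unitary monomial representative in the closure
of the `sr F i` -/
theorem n4_lift (π : Equiv.Perm (Fin n))
    (hπ : π ∈ Subgroup.closure (Set.range (rr : Fin (n / 2) → Equiv.Perm (Fin n)))) :
    ∃ w ∈ Subgroup.closure (Set.range (sr F : Fin (n / 2) → SLn n K)), w ∈ SUJ F ∧ IsMon w π := by
  induction hπ using Subgroup.closure_induction with
  | mem x hx =>
    obtain ⟨i, rfl⟩ := hx
    exact ⟨sr F i, Subgroup.subset_closure ⟨i, rfl⟩, sr_mem_SUJ F i, sr_isMon F i⟩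
  | one => exact ⟨1, one_mem _, one_mem _, isMon_one⟩
  | mul x y _ _ hx hy =>
    obtain ⟨w₁, h1, h2, h3⟩ := hx
    obtain ⟨w₂, h4, h5, h6⟩ := hy
    exact ⟨w₁ * w₂, mul_mem h1 h4, mul_mem h2 h5, h3.mul h6⟩
  | inv x _ hx =>
    obtain ⟨w, h1, h2, h3⟩ := hx
    exact ⟨w⁻¹, inv_mem h1, inv_mem h2, isMon_inv h3⟩

/-- SuBN-N4: `hcl` of the criterion, in `SL_n`. -/
theorem mem_closure_sr {m : SLn n K} (hm : m ∈ (Mon : Subgroup (SLn n K))) (hmS : m ∈ SUJ F) :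
    ∃ w ∈ Subgroup.closure (Set.range (sr F : Fin (n / 2) → SLn n K)), w ∈ SUJ F ∧
      w ∈ (Mon : Subgroup (SLn n K)) ∧ w⁻¹ * m ∈ (UT : Subgroup (SLn n K)) := by
  obtain ⟨π, hπ⟩ := (mem_Mon m).mp hm
  have hrev := mon_SUJ_perm_rev F hπ hmS
  obtain ⟨w, hw1, hw2, hw3⟩ := n4_lift F π (rr_generate π hrev)
  refine ⟨w, hw1, hw2, (mem_Mon w).mpr ⟨π, hw3⟩, ?_⟩
  apply isMon_one_mem_UT
  have := (isMon_inv hw3).mul hπ
  rw [inv_mul_cancel] at this
  exact this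

end Cfsg.Agent.Lib.Helper20.SuBN
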