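import Mathlib
import Cfsg.Agent.Lib.Helper20.SuBNDefs
import Cfsg.Agent.Lib.Helper20.SuBorel
import Cfsg.Agent.Lib.Helper20.SuBNAsm0
import Cfsg.Agent.Lib.Helper13.SuBNR3
import Cfsg.Agent.Lib.Helper65.SuBNA1
import Cfsg.Agent.Lib.Helper74.SuBNTAU
import Cfsg.Agent.Lib.Helper82.SuBNUL
import Cfsg.Agent.Lib.Helper82.SuBNCONJ

/-!
# S2546 hive (helper20), leaf SuBN-X3: `hfac` of the criterion.
-/

set_option autoImplicit false

namespace Cfsg.Agent.Lib.Helper20.SuBN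

open Matrix Subgroup Cfsg.Agent.Lib.Helper20.PslF Cfsg.Agent.Lib.Helper20.SuF

variable {n : ℕ} {K : Type*} [Field K] [Fintype K] (F : SuF.Inv K)

/-- a unitary upper triangular matrix is (unitary diagonal) * (unitary unitriangular) -/
theorem x3_diag_mul {b : SLn n K} (hb : b ∈ (UT : Subgroup (SLn n K))) (hbS : b ∈ SUJ F) :
    ∃ d : SLn n K, IsMon d 1 ∧ d ∈ (UT : Subgroup (SLn n K)) ∧ d ∈ SUJ F ∧
      ∃ u ∈ (UU : Subgroup (SLn n K)), u ∈ SUJ F ∧ b = d * u := by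
  set D : Fin n → K := fun x => mt b x x with hDdef
  have hD0 : ∀ x, D x ≠ 0 := fun x => UT_diag_ne_zero hb x
  have hup : (mt b).IsUpperTriangular := by
    intro i j hij
    exact (mem_UT b).mp hb i j hij
  have hprod : ∏ x, D x = 1 := by
    have := Matrix.det_of_isUpperTriangular hup
    rw [mt_det] at this
    exact this.symm
  have hD : (diagonal D).det = 1 := by rw [Matrix.det_diagonal, hprod]
  have hDi : (diagonal (fun x => (D x)⁻¹)).det = 1 := by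
    rw [Matrix.det_diagonal, Finset.prod_inv_distrib, hprod, inv_one]
  set d : SLn n K := mkSL (diagonal D) hD with hd
  set di : SLn n K := mkSL (diagonal (fun x => (D x)⁻¹)) hDi with hdi
  set u : SLn n K := di * b with hu
  have huU : u ∈ (UU : Subgroup (SLn n K)) := by
    rw [mem_UU]
    refine ⟨fun x y hxy => ?_, fun x => ?_⟩
    · rw [hu, mt_mul, hdi, mt_mkSL, Matrix.diagonal_mul, (mem_UT b).mp hb x y hxy, mul_zero]
    · rw [hu, mt_mul, hdi, mt_mkSL, Matrix.diagonal_mul]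
      exact inv_mul_cancel₀ (hD0 x)
  have e : b = d * u := by
    apply mt_ext
    rw [hu, mt_mul, mt_mul, hd, hdi, mt_mkSL, mt_mkSL, ← Matrix.mul_assoc,
      Matrix.diagonal_mul_diagonal]
    have : (fun i => D i * (D i)⁻¹) = fun _ => (1 : K) := by
      funext i
      exact mul_inv_cancel₀ (hD0 i)
    rw [this, Matrix.diagonal_one, one_mul]
  have hdm : mt d = diagonal D := rfl
  have hdS : d ∈ SUJ F := diag_mem_SUJ F hdm (fun x => UT_diag_unitary F hb hbS x)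
  have hdM : IsMon d 1 := by
    intro i j hij
    rw [Equiv.Perm.one_apply] at hij
    rw [hdm, Matrix.diagonal_apply_ne _ hij]
  have huS : u ∈ SUJ F := by
    have : u = d⁻¹ * b := by rw [e]; group
    rw [this]
    exact mul_mem (inv_mem hdS) hbS
  exact ⟨d, hdM, diag_mem_UT hdm, hdS, u, huU, huS, e⟩

/-- SuBN-X3: `hfac` of the criterion. -/
theorem fac (i : Fin (n / 2)) {b : SLn n K} (hb : b ∈ (UT : Subgroup (SLn n K))) (hbS : b ∈ SUJ F) :
    ∃ c ∈ (UT : Subgroup (SLn n K)), c ∈ SUJ F ∧ ∃ x ∈ Xr F i, b = c * x ∧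
      sr F i * c * (sr F i)⁻¹ ∈ (UT : Subgroup (SLn n K)) := by
  obtain ⟨d, hdM, hdT, hdS, u, hu, huS, rfl⟩ := x3_diag_mul F hb hbS
  set m := sr F i with hm
  have hmS : m ∈ SUJ F := sr_mem_SUJ F i
  have hmM : m ∈ (Mon : Subgroup (SLn n K)) := (mem_Mon m).mpr ⟨_, sr_isMon F i⟩
  obtain ⟨u', hu', u'', hu'', rfl, h1, h2⟩ := uu_factor hmM hu
  have hτm : tau F m = m := (mem_SUJ_iff_tau F m).mp hmS
  have hτu : tau F (u' * u'') = u' * u'' := (mem_SUJ_iff_tau F _).mp huS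
  rw [tau_mul] at hτu
  -- z := (τ u')⁻¹ u' = τ u'' u''⁻¹
  have hz : (tau F u')⁻¹ * u' = tau F u'' * u''⁻¹ := by
    have : (tau F u')⁻¹ * (tau F u' * tau F u'') * u''⁻¹ = (tau F u')⁻¹ * (u' * u'') * u''⁻¹ := by
      rw [hτu]
    have l : (tau F u')⁻¹ * (tau F u' * tau F u'') * u''⁻¹ = tau F u'' * u''⁻¹ := by group
    have r : (tau F u')⁻¹ * (u' * u'') * u''⁻¹ = (tau F u')⁻¹ * u' := by group
    rw [l, r] at this
    exact this.symm
  have hτ1 : m * tau F u' * m⁻¹ ∈ (UU : Subgroup (SLn n K)) := by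
    have : m * tau F u' * m⁻¹ = tau F (m * u' * m⁻¹) := by
      rw [tau_mul, tau_mul, tau_inv, hτm]
    rw [this]
    exact tau_mem_UU F h1
  have hτ2 : m * tau F u'' * m⁻¹ ∈ (LL : Subgroup (SLn n K)) := by
    have : m * tau F u'' * m⁻¹ = tau F (m * u'' * m⁻¹) := by
      rw [tau_mul, tau_mul, tau_inv, hτm]
    rw [this]
    exact tau_mem_LL F h2
  have hzU : m * ((tau F u')⁻¹ * u') * m⁻¹ ∈ (UT : Subgroup (SLn n K)) := by
    have : m * ((tau F u')⁻¹ * u') * m⁻¹ = (m * tau F u' * m⁻¹)⁻¹ * (m * u' * m⁻¹) := by group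
    rw [this]
    exact UU_le_UT (mul_mem (inv_mem hτ1) h1)
  have hzL : m * ((tau F u')⁻¹ * u') * m⁻¹ ∈ (LL : Subgroup (SLn n K)) := by
    rw [hz]
    have : m * (tau F u'' * u''⁻¹) * m⁻¹ = (m * tau F u'' * m⁻¹) * (m * u'' * m⁻¹)⁻¹ := by group
    rw [this]
    exact mul_mem hτ2 (inv_mem h2)
  have hz1 : m * ((tau F u')⁻¹ * u') * m⁻¹ = 1 := UT_inf_LL hzU hzL
  have hz2 : (tau F u')⁻¹ * u' = 1 := by
    have : (tau F u')⁻¹ * u' = m⁻¹ * (m * ((tau F u')⁻¹ * u') * m⁻¹) * m := by group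
    rw [this, hz1]
    group
  have hu'S : u' ∈ SUJ F := by
    rw [mem_SUJ_iff_tau]
    exact (inv_mul_eq_one.mp hz2)
  have hu''S : u'' ∈ SUJ F := by
    have : u'' = u'⁻¹ * (u' * u'') := by group
    rw [this]
    exact mul_mem (inv_mem hu'S) huS
  refine ⟨d * u', mul_mem hdT (UU_le_UT hu'), mul_mem hdS hu'S, u'', ?_, by group, ?_⟩
  · rw [mem_Xr]
    exact ⟨hu'', hu''S, h2⟩
  · have : m * (d * u') * m⁻¹ = (m * d * m⁻¹) * (m * u' * m⁻¹) := by group
    rw [this]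
    exact mul_mem (conj_diag_mem_UT hmM hdT ((mem_Mon d).mpr ⟨1, hdM⟩)) (UU_le_UT h1)

end Cfsg.Agent.Lib.Helper20.SuBN
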