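import Mathlib
import Cfsg.Agent.Lib.Helper20.SuBNDefs
import Cfsg.Agent.Lib.Helper20.SuBNAsm1
import Cfsg.Agent.Lib.Helper65.SuBNA3
import Cfsg.Agent.Lib.Helper53.SuBNMON

/-!
# S2546 hive (helper20), leaf SuBN-S2: the form of the elements of a cell `B m B` of `SUJ F`.
-/

set_option autoImplicit false

namespace Cfsg.Agent.Lib.Helper20.SuBN

open Matrix Subgroup Cfsg.Agent.Lib.Helper20.PslF Cfsg.Agent.Lib.Helper20.SuF

variable {n : ℕ} {K : Type*} [Field K] [Fintype K] (F : SuF.Inv K)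

/-- SuBN-S2: every element of the cell `B m B` (in `SUJ`) is `b * m * u` with `b ∈ B`, `u` unitary
unitriangular. -/
theorem cell_form {m : SLn n K} (hm : m ∈ (Mon : Subgroup (SLn n K))) (hmS : m ∈ SUJ F)
    {b₁ b₂ : SLn n K} (hb₁ : b₁ ∈ (UT : Subgroup (SLn n K))) (hb₁S : b₁ ∈ SUJ F)
    (hb₂ : b₂ ∈ (UT : Subgroup (SLn n K))) (hb₂S : b₂ ∈ SUJ F) :
    ∃ b ∈ (UT : Subgroup (SLn n K)), b ∈ SUJ F ∧ ∃ u ∈ (UU : Subgroup (SLn n K)), u ∈ SUJ F ∧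
      b₁ * m * b₂ = b * m * u := by
  have hgS : b₁ * m * b₂ ∈ SUJ F := mul_mem (mul_mem hb₁S hmS) hb₂S
  obtain ⟨u₁, hu₁, hu₁S, m', hm', hm'S, u, hu, huS, -, e⟩ := descent F hgS
  obtain ⟨π, hπ⟩ := (mem_Mon m).mp hm
  obtain ⟨π', hπ'⟩ := (mem_Mon m').mp hm'
  have e' : m' = (u₁⁻¹ * b₁) * m * (b₂ * u⁻¹) := by
    have : m' = u₁⁻¹ * (u₁ * m' * u) * u⁻¹ := by group
    rw [this, ← e]
    group
  have hperm : π' = π := mon_perm_unique hπ hπ' (mul_mem (inv_mem (UU_le_UT hu₁)) hb₁)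
    (mul_mem hb₂ (inv_mem (UU_le_UT hu))) e'
  have ht : IsMon (m' * m⁻¹) 1 := by
    have := hπ'.mul (isMon_inv hπ)
    rw [hperm, mul_inv_cancel] at this
    exact this
  refine ⟨u₁ * (m' * m⁻¹), mul_mem (UU_le_UT hu₁) (isMon_one_mem_UT ht),
    mul_mem hu₁S (mul_mem hm'S (inv_mem hmS)), u, hu, huS, ?_⟩
  rw [e]
  group

end Cfsg.Agent.Lib.Helper20.SuBN
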