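import Mathlib
import Cfsg.Agent.Lib.Helper88.TrsDefs

/-! # TRS-K1 (helper88's S5156 hive): automorphisms fixing a centric subgroup pointwise form a `p`-group

Own copies of the pure group theory steps (`k1_fix_of_fix_centric`, `k1_eq_one_of_stab`), so that this file
does not wait for anything. -/

set_option autoImplicit false

namespace Cfsg.Agent.Lib.Helper88.Trs

open Cfsg Cfsg.FusionSystem

universe u

variable {Ω : Type*} [Group Ω] {S : Subgroup Ω} {p : ℕ} [Fact p.Prime]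

/-- `β t = t`, `β y = y t` ⇒ `β^j y = y t^j`. -/
theorem k1_pow_apply {L : Type*} [Group L] (β : MulAut L) (y t : L) (ht : β t = t) (hy : β y = y * t)
    (j : ℕ) : (β ^ j) y = y * t ^ j := by
  induction j with
  | zero => simp
  | succ j ih =>
    rw [pow_succ', MulAut.mul_apply, ih, map_mul, map_pow, ht, hy, mul_assoc, ← pow_succ']

/-- in a `p`-group, `β` of order prime to `p`, `β t = t`, `β y = y t` ⇒ `t = 1`. -/
theorem k1_eq_one_of_twist {L : Type*} [Group L] [Finite L] (hL : IsPGroup p L) (β : MulAut L)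
    (hβ : (orderOf β).Coprime p) (y t : L) (ht : β t = t) (hy : β y = y * t) : t = 1 := by
  have h1 := k1_pow_apply β y t ht hy (orderOf β)
  rw [pow_orderOf_eq_one, MulAut.one_apply] at h1
  have h2 : t ^ orderOf β = 1 := by
    have := h1.symm
    rwa [mul_eq_left] at this
  obtain ⟨a, ha⟩ := IsPGroup.iff_orderOf.mp hL t
  have h3 : orderOf t ∣ orderOf β := orderOf_dvd_of_pow_eq_one h2
  rw [ha] at h3
  have h4 : (p ^ a).Coprime (orderOf β) := (Nat.Coprime.pow_right a hβ).symm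
  have h5 : p ^ a = 1 := Nat.eq_one_of_dvd_coprimes h4 dvd_rfl h3 |> fun h => h
  rw [h5] at ha
  exact orderOf_eq_one_iff.mp ha

/-- own copy of TRS-G2. -/
theorem k1_eq_one_of_stab {L : Type*} [Group L] [Finite L] (hL : IsPGroup p L) (N : Subgroup L)
    (β : MulAut L) (hβ : (orderOf β).Coprime p) (hN : ∀ n ∈ N, β n = n)
    (hq : ∀ x : L, x⁻¹ * β x ∈ N) : β = 1 := by
  ext x
  have ht := hN _ (hq x)
  have hy : β x = x * (x⁻¹ * β x) := by group
  have := k1_eq_one_of_twist hL β hβ x _ ht hy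
  rw [MulAut.one_apply]
  rw [this, mul_one] at hy
  exact hy

/-- own copy of TRS-G1. -/
theorem k1_fix_of_fix_centric {L : Type*} [Group L] [Finite L] (hL : IsPGroup p L) (L₀ Q : Subgroup L)
    (hQL : Q ≤ L₀) (hQ : ∀ x ∈ L₀, (∀ q ∈ Q, x * q = q * x) → x ∈ Q) (β : MulAut L)
    (hβ : (orderOf β).Coprime p) (hinv : ∀ x ∈ L₀, β x ∈ L₀) (hfix : ∀ q ∈ Q, β q = q) :
    ∀ x ∈ L₀, β x = x := by
  classical
  -- the fixed points in `L₀`, as a subgroup of `↥L₀`
  let X : Subgroup ↥L₀ :=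
    { carrier := {x | β (x : L) = (x : L)}
      one_mem' := by simp
      mul_mem' := by
        intro a b ha hb
        simp only [Set.mem_ofPred_eq, Subgroup.coe_mul, map_mul] at ha hb ⊢
        rw [ha, hb]
      inv_mem' := by
        intro a ha
        simp only [Set.mem_ofPred_eq, Subgroup.coe_inv, map_inv] at ha ⊢
        rw [ha] }
  have hXmem : ∀ x : ↥L₀, x ∈ X ↔ β (x : L) = (x : L) := fun x => Iff.rfl
  by_contra hne
  push Not at hne
  obtain ⟨x₀, hx₀, hx₀'⟩ := hne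
  have hXtop : X < ⊤ := by
    rw [lt_top_iff_ne_top]
    intro h
    have : (⟨x₀, hx₀⟩ : ↥L₀) ∈ X := h ▸ Subgroup.mem_top _
    exact hx₀' ((hXmem _).mp this)
  have hL₀ : IsPGroup p ↥L₀ := hL.to_subgroup L₀
  have : Group.IsNilpotent ↥L₀ := hL₀.isNilpotent
  have hnc := Group.normalizerCondition_of_isNilpotent (G := ↥L₀) X hXtop
  obtain ⟨y, hyN, hyX⟩ := SetLike.exists_of_lt hnc
  -- t := y⁻¹ β y
  set t : L := (y : L)⁻¹ * β (y : L) with ht_def
  have htL₀ : t ∈ L₀ := L₀.mul_mem (L₀.inv_mem y.2) (hinv _ y.2)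
  have hcomm : ∀ x : ↥L₀, x ∈ X → t * (x : L) = (x : L) * t := by
    intro x hx
    have h1 : y * x * y⁻¹ ∈ X := (Subgroup.mem_normalizer_iff.mp hyN x).mp hx
    have h2 := (hXmem _).mp h1
    have h3 := (hXmem _).mp hx
    simp only [Subgroup.coe_mul, Subgroup.coe_inv, map_mul, map_inv, h3] at h2
    -- h2 : β y * x * (β y)⁻¹ = y * x * y⁻¹
    rw [ht_def]
    have h4 : β (y : L) * (x : L) = (y : L) * (x : L) * (y : L)⁻¹ * β (y : L) := by
      rw [← h2]; group
    calc (y : L)⁻¹ * β (y : L) * (x : L) = (y : L)⁻¹ * (β (y : L) * (x : L)) := by group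
      _ = (y : L)⁻¹ * ((y : L) * (x : L) * (y : L)⁻¹ * β (y : L)) := by rw [h4]
      _ = (x : L) * ((y : L)⁻¹ * β (y : L)) := by group
  have htQ : t ∈ Q := by
    apply hQ t htL₀
    intro q hq
    have : (⟨q, hQL hq⟩ : ↥L₀) ∈ X := (hXmem _).mpr (hfix q hq)
    exact hcomm _ this
  have ht : β t = t := hfix t htQ
  have hy : β (y : L) = (y : L) * t := by rw [ht_def]; group
  have := k1_eq_one_of_twist hL β hβ (y : L) t ht hy
  rw [this, mul_one] at hy
  exact hyX ((hXmem y).mpr hy)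

/-- reduction: it suffices to kill the elements of order prime to `p`. -/
theorem k1_isPGroup_of_coprime_trivial {A : Type*} [Group A] [Finite A] (B : Subgroup A)
    (h : ∀ γ ∈ B, (orderOf γ).Coprime p → γ = 1) : IsPGroup p B := by
  intro β
  have hpos : 0 < orderOf (β : A) := orderOf_pos _
  obtain ⟨k, m, hm, hkm⟩ := Nat.exists_eq_pow_mul_and_not_dvd hpos.ne' p (Fact.out : p.Prime).ne_one
  refine ⟨k, ?_⟩
  have hγB : (β : A) ^ (p ^ k) ∈ B := B.pow_mem β.2 _
  have hord : orderOf ((β : A) ^ (p ^ k)) = m := by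
    rw [orderOf_pow' _ (pow_ne_zero _ (Fact.out : p.Prime).ne_zero), hkm,
      Nat.gcd_eq_right (Dvd.intro _ rfl), Nat.mul_div_cancel_left _ (pow_pos (Fact.out : p.Prime).pos _)]
  have hcop : (orderOf ((β : A) ^ (p ^ k))).Coprime p := by
    rw [hord]
    exact ((Nat.Prime.coprime_iff_not_dvd Fact.out).mpr hm).symm
  have := h _ hγB hcop
  apply Subtype.ext
  simpa using this

/-- **TRS-K1**. -/
theorem isPGroup_of_fix_centric [Finite S] (hS : IsPGroup p S) {Q L : Subgroup Ω} (hQL : Q ≤ L)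
    (hLS : L ≤ S) (hc : centralizerIn S Q ≤ Q) (B : Subgroup (MulAut L))
    (hfix : ∀ β ∈ B, ∀ x : L, (x : Ω) ∈ Q → β x = x) : IsPGroup p B := by
  have : Finite ↥L := Finite.of_injective _ (Subgroup.inclusion_injective hLS)
  have hLp : IsPGroup p ↥L := hS.to_le hLS
  apply k1_isPGroup_of_coprime_trivial
  intro γ hγ hcop
  have key := k1_fix_of_fix_centric hLp ⊤ (Q.subgroupOf L) le_top ?_ γ hcop (fun _ _ => Subgroup.mem_top _)
    (fun q hq => hfix γ hγ q (Subgroup.mem_subgroupOf.mp hq))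
  · ext x
    rw [MulAut.one_apply]
    exact congrArg _ (key x (Subgroup.mem_top _))
  · intro x _ hx
    rw [Subgroup.mem_subgroupOf]
    apply hc
    refine ⟨hLS x.2, ?_⟩
    change (x : Ω) ∈ Subgroup.centralizer (Q : Set Ω)
    rw [Subgroup.mem_centralizer_iff]
    intro q hq
    have := hx ⟨q, hQL hq⟩ (Subgroup.mem_subgroupOf.mpr hq)
    have h2 := congrArg (Subtype.val) this
    simpa using h2.symm

end Cfsg.Agent.Lib.Helper88.Trs
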