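import Mathlib
import Cfsg.Agent.Lib.Helper88.TrsDefs
import Cfsg.Agent.Lib.Helper83.TrsK1

/-! # TRS-K2 (helper88's S5156 hive): automorphisms in `Aut_E(L)` fixing pointwise a subgroup `Q` of the
hyperfocal subgroup `T₀` with `C_{T₀}(Q) ≤ Q` form a `p`-group -/

set_option autoImplicit false

namespace Cfsg.Agent.Lib.Helper88.Trs

open Cfsg Cfsg.FusionSystem

universe u

variable {Ω : Type*} [Group Ω] {S : Subgroup Ω} {p : ℕ} [Fact p.Prime]

omit [Fact p.Prime] in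
/-- for `γ ∈ Aut_E(L)` of order prime to `p`, the quotients `l⁻¹ γ(l)` lie in the hyperfocal subgroup. -/
theorem k2_mem_hyperfocal (E : FusionSystem S) {L : Subgroup Ω} (hLS : L ≤ S) (γ : MulAut L)
    (hγ : γ ∈ E.autGroup L) (hcop : (orderOf γ).Coprime p) (l : L) :
    (l : Ω)⁻¹ * ((γ l : L) : Ω) ∈ E.hyperfocalSubgroup p := by
  apply Subgroup.subset_closure
  refine ⟨L, ⟨γ, hγ⟩, l, hLS, ?_, rfl⟩
  apply Subgroup.subset_closure
  change (orderOf (⟨γ, hγ⟩ : E.autGroup L)).Coprime p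
  rw [← Subgroup.orderOf_coe]
  exact hcop

/-- **TRS-K2**. -/
theorem isPGroup_of_fix_hyp [Finite S] (hS : IsPGroup p S) (E : FusionSystem S) {Q L : Subgroup Ω}
    (hQT : Q ≤ E.hyperfocalSubgroup p) (hc : centralizerIn (E.hyperfocalSubgroup p) Q ≤ Q)
    (hQL : Q ≤ L) (hLS : L ≤ S) (B : Subgroup (MulAut L)) (hB : B ≤ E.autGroup L)
    (hfix : ∀ β ∈ B, ∀ x : L, (x : Ω) ∈ Q → β x = x) : IsPGroup p B := by
  have : Finite ↥L := Finite.of_injective _ (Subgroup.inclusion_injective hLS)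
  have hLp : IsPGroup p ↥L := hS.to_le hLS
  apply k1_isPGroup_of_coprime_trivial
  intro γ hγ hcop
  have hquot : ∀ l : L, (l : Ω)⁻¹ * ((γ l : L) : Ω) ∈ E.hyperfocalSubgroup p :=
    k2_mem_hyperfocal E hLS γ (hB hγ) hcop
  set L₀ : Subgroup L := (E.hyperfocalSubgroup p).subgroupOf L with hL₀
  have hquot' : ∀ l : L, l⁻¹ * γ l ∈ L₀ := by
    intro l
    rw [hL₀, Subgroup.mem_subgroupOf]
    simpa using hquot l
  have hinv : ∀ x ∈ L₀, γ x ∈ L₀ := by
    intro x hx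
    have : γ x = x * (x⁻¹ * γ x) := by group
    rw [this]
    exact L₀.mul_mem hx (hquot' x)
  have hQL₀ : Q.subgroupOf L ≤ L₀ := by
    intro x hx
    rw [hL₀, Subgroup.mem_subgroupOf]
    exact hQT (Subgroup.mem_subgroupOf.mp hx)
  have key := k1_fix_of_fix_centric hLp L₀ (Q.subgroupOf L) hQL₀ ?_ γ hcop hinv
    (fun q hq => hfix γ hγ q (Subgroup.mem_subgroupOf.mp hq))
  · exact k1_eq_one_of_stab hLp L₀ γ hcop key hquot'
  · intro x hx hxc
    rw [Subgroup.mem_subgroupOf]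
    apply hc
    refine ⟨Subgroup.mem_subgroupOf.mp hx, ?_⟩
    change (x : Ω) ∈ Subgroup.centralizer (Q : Set Ω)
    rw [Subgroup.mem_centralizer_iff]
    intro q hq
    have := hxc ⟨q, hQL hq⟩ (Subgroup.mem_subgroupOf.mpr hq)
    have h2 := congrArg (Subtype.val) this
    simpa using h2.symm

end Cfsg.Agent.Lib.Helper88.Trs
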