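import Mathlib
import Cfsg.Prelude.Def_GeometricClasses
import Cfsg.Agent.Lib.Helper44.TnsDefs

set_option autoImplicit false
open scoped MatrixGroups Kronecker
open Matrix Polynomial

/-! TNS-O2b for S5979 (helper44), by helper83 -/

namespace Cfsg.Agent.Lib.Helper44.Tns

universe v

variable {F : Type v} [Field F]

section finite

variable [Fintype F]

/-- irreducible factors of the `r`-th cyclotomic polynomial have degree `ord_r(q)` -/
theorem o2b_natDegree_of_dvd_cyclotomic {p : ℕ} [Fact p.Prime] [CharP F p] (r : ℕ) [Fact r.Prime]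
    (hrp : r ≠ p) {P : F[X]} (hP : P ∣ cyclotomic r F) (hPirr : Irreducible P) :
    P.natDegree = orderOf ((Fintype.card F : ℕ) : ZMod r) := by
  obtain ⟨f, -, hK⟩ := FiniteField.card F p
  have hcop : p.Coprime r :=
    (Nat.coprime_primes (Fact.out : p.Prime) (Fact.out : r.Prime)).2 (Ne.symm hrp)
  have h := natDegree_of_dvd_cyclotomic_of_irreducible hK hcop hP hPirr
  rw [h, ← orderOf_units, ZMod.coe_unitOfCoprime, hK]

/-- a matrix of size `< ord_r(q)` with `B ^ r = 1` is the identity -/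
theorem o2b_eq_one_of_pow_eq_one {p : ℕ} [Fact p.Prime] [CharP F p] {a : ℕ} (r : ℕ) [Fact r.Prime]
    (hrp : r ≠ p) (ha : a < orderOf ((Fintype.card F : ℕ) : ZMod r))
    (B : Matrix (Fin a) (Fin a) F) (hB : B ^ r = 1) : B = 1 := by
  classical
  set m := minpoly F B with hm
  have hm0 : m ≠ 0 := minpoly.ne_zero (Matrix.isIntegral B)
  have hdeg : m.natDegree ≤ a := by
    have h1 : m ∣ B.charpoly := Matrix.minpoly_dvd_charpoly B
    have h2 := Polynomial.natDegree_le_of_dvd h1 (Matrix.charpoly_monic B).ne_zero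
    rwa [Matrix.charpoly_natDegree_eq_dim, Fintype.card_fin] at h2
  have hdvd : m ∣ cyclotomic r F * (X - 1) := by
    rw [cyclotomic_prime_mul_X_sub_one]
    apply minpoly.dvd
    simp [hB]
  have hcop : IsCoprime m (cyclotomic r F) := by
    rw [← EuclideanDomain.gcd_isUnit_iff]
    by_contra hnu
    have hg0 : EuclideanDomain.gcd m (cyclotomic r F) ≠ 0 := by
      intro h0
      rw [EuclideanDomain.gcd_eq_zero_iff] at h0
      exact hm0 h0.1
    obtain ⟨P, hPirr, hPg⟩ := WfDvdMonoid.exists_irreducible_factor hnu hg0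
    have hPm : P ∣ m := hPg.trans (EuclideanDomain.gcd_dvd_left _ _)
    have hPc : P ∣ cyclotomic r F := hPg.trans (EuclideanDomain.gcd_dvd_right _ _)
    have hd := o2b_natDegree_of_dvd_cyclotomic (p := p) r hrp hPc hPirr
    have hle := Polynomial.natDegree_le_of_dvd hPm hm0
    omega
  have hdvd1 : m ∣ X - 1 := hcop.dvd_of_dvd_mul_left hdvd
  obtain ⟨c, hc⟩ := hdvd1
  have h0 : aeval B (X - 1 : F[X]) = 0 := by
    rw [hc, map_mul, hm, minpoly.aeval, zero_mul]
  simp only [map_sub, aeval_X, map_one] at h0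
  exact sub_eq_zero.1 h0

/-- TNS-O2b : in dimension less than `ord_r(q) ≥ 2` a matrix with scalar `r`-th power is scalar -/
theorem eq_smul_one_of_pow_eq_smul {p : ℕ} [Fact p.Prime] [CharP F p] {a : ℕ} (r : ℕ) [Fact r.Prime]
    (hrp : r ≠ p) (hd2 : 2 ≤ orderOf ((Fintype.card F : ℕ) : ZMod r))
    (ha : a < orderOf ((Fintype.card F : ℕ) : ZMod r))
    (A : Matrix (Fin a) (Fin a) F) (μ : F) (hμ : μ ≠ 0)
    (hA : A ^ r = μ • (1 : Matrix (Fin a) (Fin a) F)) :
    ∃ z : F, A = z • (1 : Matrix (Fin a) (Fin a) F) := by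
  classical
  have hr : r.Prime := Fact.out
  -- `r` does not divide `q - 1`
  have hndvd : ¬ r ∣ Fintype.card F - 1 := by
    intro hdvd
    have hpos : 0 < Fintype.card F := Fintype.card_pos
    have h1 : ((Fintype.card F : ℕ) : ZMod r) = 1 := by
      have h2 : ((Fintype.card F - 1 : ℕ) : ZMod r) = 0 := (ZMod.natCast_eq_zero_iff _ _).2 hdvd
      rw [Nat.cast_sub hpos, Nat.cast_one, sub_eq_zero] at h2
      exact h2
    rw [h1, orderOf_one] at hd2
    omega
  have hcop : (Nat.card Fˣ).Coprime r := by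
    rw [Nat.card_eq_fintype_card, Fintype.card_units]
    exact (Nat.Coprime.symm ((Nat.Prime.coprime_iff_not_dvd hr).2 hndvd))
  obtain ⟨ν, hν⟩ := (powCoprime hcop).surjective (Units.mk0 μ hμ)
  have hν' : (ν : F) ^ r = μ := by
    have := congrArg Units.val hν
    simpa using this
  have hB : ((ν : F)⁻¹ • A) ^ r = 1 := by
    rw [_root_.smul_pow, hA, smul_smul, inv_pow, hν', inv_mul_cancel₀ hμ, one_smul]
  have h1 := o2b_eq_one_of_pow_eq_one (p := p) r hrp ha _ hB
  refine ⟨(ν : F), ?_⟩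
  have h2 : A = (ν : F) • ((ν : F)⁻¹ • A) := by
    rw [smul_smul, mul_inv_cancel₀ ν.ne_zero, one_smul]
  rw [h2, h1]

end finite

end Cfsg.Agent.Lib.Helper44.Tns
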