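import Mathlib
import Cfsg.Prelude.Def_GeometricClasses
import Cfsg.Agent.Lib.Helper44.SfrRat
import Cfsg.Agent.Lib.Helper83.TnsO2b

/-!
# S5980 hive (owner helper31), leaf SPT-T3: a chain `v, Av, A²v` for a non-scalar `A` with `A^r`
scalar when `ord_r(q) ≥ 3`.
-/

set_option autoImplicit false
open scoped MatrixGroups Kronecker
open Matrix Polynomial

namespace Cfsg.Agent.Lib.Helper31.SpTns

universe v

variable {F : Type v} [Field F]

/-- an operator of prime order `r` has a vector whose first `ord_r(q)` iterates are independent -/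
theorem t3_core [Fintype F] {p : ℕ} [Fact p.Prime] [CharP F p] {V : Type*} [AddCommGroup V]
    [Module F V] (r : ℕ) [Fact r.Prime] (hrp : r ≠ p) (f : Module.End F V) (hf : f ^ r = 1)
    (hf1 : f ≠ 1) :
    ∃ v : V, LinearIndependent F
      (fun i : Fin (orderOf ((Fintype.card F : ℕ) : ZMod r)) => (f ^ (i : ℕ)) v) := by
  have hex : ∃ a, f a ≠ a := by
    by_contra hcon
    push Not at hcon
    exact hf1 (LinearMap.ext hcon)
  obtain ⟨a, ha⟩ := hex
  have hu0 : f a - a ≠ 0 := sub_ne_zero.2 ha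
  have hu : aeval f (cyclotomic r F) (f a - a) = 0 := by
    have h1 : aeval f (cyclotomic r F * (X - 1)) a = 0 := by
      rw [cyclotomic_prime_mul_X_sub_one]
      simp [hf]
    rw [map_mul, Module.End.mul_apply] at h1
    simpa using h1
  have hΦ0 : cyclotomic r F ≠ 0 := cyclotomic_ne_zero r F
  obtain ⟨c, hc⟩ := UniqueFactorizationMonoid.factors_prod hΦ0
  have hprod : aeval f (UniqueFactorizationMonoid.factors (cyclotomic r F)).prod (f a - a) = 0 := by
    have h2 : (UniqueFactorizationMonoid.factors (cyclotomic r F)).prod =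
        ((c⁻¹ : (F[X])ˣ) : F[X]) * cyclotomic r F := by
      conv_rhs => rw [← hc]
      rw [mul_comm, mul_assoc, Units.mul_inv, mul_one]
    rw [h2, map_mul, Module.End.mul_apply, hu, map_zero]
  obtain ⟨g, hg, v, -, hv0, hgv⟩ := Cfsg.Agent.Lib.Helper44.Sfr.exists_factor_kill f ⊤
    (fun v _ => Submodule.mem_top) _ (f a - a) Submodule.mem_top hu0 hprod
  have hgirr : Irreducible g := UniqueFactorizationMonoid.irreducible_of_factor g hg
  have hgdvd : g ∣ cyclotomic r F := UniqueFactorizationMonoid.dvd_of_mem_factors hg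
  have hdeg := Cfsg.Agent.Lib.Helper44.Tns.o2b_natDegree_of_dvd_cyclotomic (p := p) r hrp hgdvd hgirr
  refine ⟨v, ?_⟩
  rw [← hdeg]
  exact Cfsg.Agent.Lib.Helper44.Sfr.linearIndependent_pow_apply f g hgirr v hv0 hgv

/-- SPT-T3.  A chain `v, Av, A²v` for a non-scalar `A` with `A^r` scalar when `ord_r(q) ≥ 3`. -/
theorem exists_chain [Fintype F] {p : ℕ} [Fact p.Prime] [CharP F p] {a : ℕ} (r : ℕ) [Fact r.Prime]
    (hrp : r ≠ p) (hd3 : 3 ≤ orderOf ((Fintype.card F : ℕ) : ZMod r))
    (A : Matrix (Fin a) (Fin a) F) (μ : F) (hμ : μ ≠ 0)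
    (hA : A ^ r = μ • (1 : Matrix (Fin a) (Fin a) F))
    (hns : ∀ z : F, A ≠ z • (1 : Matrix (Fin a) (Fin a) F)) :
    ∃ v : Fin a → F, LinearIndependent F ![v, A *ᵥ v, A *ᵥ (A *ᵥ v)] := by
  classical
  have hr : r.Prime := Fact.out
  have hndvd : ¬ r ∣ Fintype.card F - 1 := by
    intro hdvd
    have hpos : 0 < Fintype.card F := Fintype.card_pos
    have h1 : ((Fintype.card F : ℕ) : ZMod r) = 1 := by
      have h2 : ((Fintype.card F - 1 : ℕ) : ZMod r) = 0 := (ZMod.natCast_eq_zero_iff _ _).2 hdvd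
      rw [Nat.cast_sub hpos, Nat.cast_one, sub_eq_zero] at h2
      exact h2
    rw [h1, orderOf_one] at hd3
    omega
  have hcop : (Nat.card Fˣ).Coprime r := by
    rw [Nat.card_eq_fintype_card, Fintype.card_units]
    exact (Nat.Coprime.symm ((Nat.Prime.coprime_iff_not_dvd hr).2 hndvd))
  obtain ⟨ν, hν⟩ := (powCoprime hcop).surjective (Units.mk0 μ hμ)
  have hν' : (ν : F) ^ r = μ := by
    have := congrArg Units.val hν
    simpa using this
  set B : Matrix (Fin a) (Fin a) F := (ν : F)⁻¹ • A with hBdef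
  have hB : B ^ r = 1 := by
    rw [hBdef, _root_.smul_pow, hA, smul_smul, inv_pow, hν', inv_mul_cancel₀ hμ, one_smul]
  have hAB : A = (ν : F) • B := by
    rw [hBdef, smul_smul, mul_inv_cancel₀ ν.ne_zero, one_smul]
  have hB1 : B ≠ 1 := by
    intro h
    apply hns (ν : F)
    rw [hAB, h]
  set f : Module.End F (Fin a → F) := Matrix.toLin' B with hf
  have hfr : f ^ r = 1 := by
    have h2 := congrArg (Matrix.toLinAlgEquiv' : Matrix (Fin a) (Fin a) F ≃ₐ[F] _) hB
    rw [map_pow, map_one] at h2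
    exact h2
  have hf1 : f ≠ 1 := by
    intro h
    apply hB1
    have h2 : Matrix.toLin' B = Matrix.toLin' (1 : Matrix (Fin a) (Fin a) F) := by
      rw [← hf, h, Matrix.toLin'_one]; rfl
    exact Matrix.toLin'.injective h2
  obtain ⟨v, hv⟩ := t3_core (p := p) r hrp f hfr hf1
  refine ⟨v, ?_⟩
  have h3 := hv.comp (Fin.castLE hd3) (Fin.castLE_injective hd3)
  have h4 := h3.units_smul ![1, ν, ν * ν]
  have h5 : (![1, ν, ν * ν] • ((fun i : Fin (orderOf ((Fintype.card F : ℕ) : ZMod r)) =>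
      (f ^ (i : ℕ)) v) ∘ Fin.castLE hd3)) = ![v, A *ᵥ v, A *ᵥ (A *ᵥ v)] := by
    funext i
    fin_cases i
    · simp
    · simp [hAB, hf, Matrix.smul_mulVec, Units.smul_def]
    · simp [hAB, hf, Matrix.smul_mulVec, Matrix.mulVec_smul, pow_two, smul_smul, Units.smul_def]
  rw [h5] at h4
  exact h4

end Cfsg.Agent.Lib.Helper31.SpTns
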