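import Mathlib
import Cfsg.Agent.Lib.Helper59.TqDefs
import Cfsg.Agent.Lib.Helper8.OrthForms

/-! # TQ-BRP (helper59's Tq hive): `quadFormPlus d F` is `Std` of type `0` -/

set_option autoImplicit false
set_option linter.unusedSectionVars false

namespace Cfsg.Agent.Lib.Helper59.Tq

open Module

section bridge

variable {F : Type*} [Field F] [Fintype F]

/-- the embedding `c ↦ (c, 0)` of `F^d` in `F^(2d)` -/
def brp_emb (F : Type*) [Field F] (d : ℕ) : (Fin d → F) →ₗ[F] (Fin d ⊕ Fin d → F) where
  toFun c := Sum.elim c 0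
  map_add' x y := by
    funext t
    rcases t with t | t <;> simp
  map_smul' c x := by
    funext t
    rcases t with t | t <;> simp

theorem brp_emb_injective (F : Type*) [Field F] (d : ℕ) : Function.Injective (brp_emb F d) := by
  intro x y hxy
  funext i
  exact congrFun hxy (Sum.inl i)

/-- TQ-BRP (1) -/
theorem std_plus (d : ℕ) : Std (Cfsg.quadFormPlus d F) d := by
  refine ⟨⟨Cfsg.Agent.Lib.Helper8.plusForm d F, (Cfsg.Agent.Lib.Helper8.plusForm_coe d F).symm,
    Cfsg.Agent.Lib.Helper8.plusForm_nondegenerate d F⟩, ?_⟩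
  rw [Fintype.card_sum, Fintype.card_fin]
  ring

/-- TQ-BRP (2) -/
theorem typeE_plus (d : ℕ) : TypeE (Cfsg.quadFormPlus d F) 0 := by
  refine Or.inl ⟨rfl, LinearMap.range (brp_emb F d), ?_, ?_⟩
  · rintro _ ⟨c, rfl⟩
    unfold Cfsg.quadFormPlus
    apply Finset.sum_eq_zero
    intro i _
    show c i * 0 = 0
    rw [mul_zero]
  · rw [LinearMap.finrank_range_of_inj (brp_emb_injective F d), Module.finrank_fintype_fun_eq_card,
      Fintype.card_fin, Fintype.card_sum, Fintype.card_fin]
    ring

end bridge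

end Cfsg.Agent.Lib.Helper59.Tq
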