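import Mathlib
import Cfsg.Prelude.Def_GeometricClasses
import Cfsg.Agent.Lib.Helper44.TnsDefs

set_option autoImplicit false
open scoped MatrixGroups Kronecker
open Matrix Polynomial

/-! TNS-O2a for S5979 (helper44), by helper83 -/

namespace Cfsg.Agent.Lib.Helper44.Tns

universe v

variable {F : Type v} [Field F]

/-- the `g`-torsion of the `F[X]`-module attached to `T` as a module over `F[X]/(g)` -/
noncomputable def o2a_module {V : Type*} [AddCommGroup V] [Module F V] (T : V →ₗ[F] V) (g : F[X]) :
    Module (AdjoinRoot g) ↥(Submodule.torsionBy F[X] (Module.AEval' T) g) :=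
  inferInstanceAs (Module (F[X] ⧸ Ideal.span {g}) ↥(Submodule.torsionBy F[X] (Module.AEval' T) g))

theorem o2a_tower {V : Type*} [AddCommGroup V] [Module F V] (T : V →ₗ[F] V) (g : F[X]) :
    letI := o2a_module T g
    IsScalarTower F (AdjoinRoot g) ↥(Submodule.torsionBy F[X] (Module.AEval' T) g) :=
  inferInstanceAs (IsScalarTower F (F[X] ⧸ F[X] ∙ g) ↥(Submodule.torsionBy F[X] (Module.AEval' T) g))

/-- the kernel of `g(T)`, `g` irreducible, is a vector space over `F[X]/(g)` -/
theorem o2a_dvd_finrank_ker {V : Type*} [AddCommGroup V] [Module F V] (T : V →ₗ[F] V) (g : F[X])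
    (hg : Irreducible g) : g.natDegree ∣ Module.finrank F (LinearMap.ker (aeval T g)) := by
  haveI : Fact (Irreducible g) := ⟨hg⟩
  letI := o2a_module T g
  haveI := o2a_tower T g
  have h := Module.finrank_mul_finrank F (AdjoinRoot g)
    ↥(Submodule.torsionBy F[X] (Module.AEval' T) g)
  rw [(AdjoinRoot.powerBasis hg.ne_zero).finrank, AdjoinRoot.powerBasis_dim] at h
  -- identify `K` with the kernel
  let e : LinearMap.ker (aeval T g) ≃ₗ[F] ↥(Submodule.torsionBy F[X] (Module.AEval' T) g) :=
    { toFun := fun x => ⟨Module.AEval'.of T x.1, by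
        rw [Submodule.mem_torsionBy_iff, ← Module.AEval.of_aeval_smul]
        have := x.2
        rw [LinearMap.mem_ker] at this
        show Module.AEval.of F V T (aeval T g x.1) = 0
        rw [this, map_zero]⟩
      map_add' := fun x y => by
        apply Subtype.ext
        simp
      map_smul' := fun c x => by
        apply Subtype.ext
        simp
      invFun := fun y => ⟨(Module.AEval'.of T).symm y.1, by
        rw [LinearMap.mem_ker]
        have := y.2
        rw [Submodule.mem_torsionBy_iff] at this
        have h2 := congrArg (Module.AEval'.of T).symm this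
        rw [Module.AEval.of_symm_smul, map_zero] at h2
        exact h2⟩
      left_inv := fun x => by
        apply Subtype.ext
        simp
      right_inv := fun y => by
        apply Subtype.ext
        simp }
  rw [e.finrank_eq]
  exact Dvd.intro _ h

/-- TNS-O2a : kernels of irreducible polynomials have dimension divisible by the degree -/
theorem o2a_natDegree_dvd_of_irreducible {b : ℕ} (C : Matrix (Fin b) (Fin b) F) (g : F[X])
    (hg : Irreducible g) : g.natDegree ∣ b - (aeval C g).rank := by
  have h1 := o2a_dvd_finrank_ker (Matrix.toLin' C) g hg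
  have h2 : aeval (Matrix.toLin' C) g = Matrix.toLin' (aeval C g) := by
    have := Polynomial.aeval_algHom_apply (Matrix.toLinAlgEquiv' (R := F) (n := Fin b)).toAlgHom C g
    exact this
  rw [h2] at h1
  have h3 := LinearMap.finrank_range_add_finrank_ker (Matrix.toLin' (aeval C g))
  rw [Module.finrank_fintype_fun_eq_card, Fintype.card_fin] at h3
  have h4 : (aeval C g).rank = Module.finrank F (LinearMap.range (Matrix.toLin' (aeval C g))) := by
    rw [Matrix.rank, Matrix.toLin'_apply']
  have h5 : b - (aeval C g).rank = Module.finrank F (LinearMap.ker (Matrix.toLin' (aeval C g))) := by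
    omega
  rw [h5]
  exact h1

end Cfsg.Agent.Lib.Helper44.Tns
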