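import Mathlib

/-! # S5965 (helper44) leaves: diagonal elements and roots of unity (helper83) -/

set_option autoImplicit false
set_option linter.unusedSectionVars false
open scoped MatrixGroups
open Matrix Polynomial

namespace Cfsg.Agent.Lib.Helper44.Sfr

universe v
variable {F : Type v} [Field F] [Fintype F]

omit [Fintype F] in
theorem sfrd_pow_val_sum (n : ℕ) (r : ℕ) [Fact r.Prime] (ω : F) (hω : ω ^ r = 1) (e : Fin n → ZMod r) :
    ω ^ (∑ i, e i).val = ω ^ (∑ i, (e i).val) := by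
  have h1 : (∑ i, e i).val = (∑ i, (e i).val) % r := by
    rw [← ZMod.val_natCast]
    congr 1
    push_cast
    apply Finset.sum_congr rfl
    intro i _
    rw [ZMod.natCast_zmod_val]
  rw [h1]
  conv_rhs => rw [← Nat.div_add_mod (∑ i, (e i).val) r]
  rw [pow_add, pow_mul, hω, one_pow, one_mul]

/-- existence of the diagonal element -/
theorem exists_diag (n : ℕ) (r : ℕ) [Fact r.Prime] (ω : F) (hω : ω ^ r = 1) (c : F)
    (e : Fin n → ZMod r) (hdet : c ^ n * ω ^ (∑ i, e i).val = 1) :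
    ∃ x : Matrix.SpecialLinearGroup (Fin n) F,
      (x : Matrix (Fin n) (Fin n) F) = c • Matrix.diagonal (fun i => ω ^ (e i).val) ∧
      ((x ^ r : Matrix.SpecialLinearGroup (Fin n) F) : Matrix (Fin n) (Fin n) F) =
        (c ^ r) • (1 : Matrix (Fin n) (Fin n) F) := by
  have hd : (c • Matrix.diagonal (fun i => ω ^ (e i).val) : Matrix (Fin n) (Fin n) F).det = 1 := by
    rw [Matrix.det_smul, Matrix.det_diagonal, Fintype.card_fin, Finset.prod_pow_eq_pow_sum,
      ← sfrd_pow_val_sum n r ω hω e]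
    exact hdet
  obtain ⟨x, hx⟩ : ∃ x : Matrix.SpecialLinearGroup (Fin n) F,
      (x : Matrix (Fin n) (Fin n) F) = c • Matrix.diagonal (fun i => ω ^ (e i).val) := ⟨⟨_, hd⟩, rfl⟩
  refine ⟨x, hx, ?_⟩
  rw [Matrix.SpecialLinearGroup.coe_pow, hx, _root_.smul_pow, Matrix.diagonal_pow]
  congr 1
  rw [← Matrix.diagonal_one]
  congr 1
  funext i
  show (ω ^ (e i).val) ^ r = 1
  rw [← pow_mul, mul_comm, pow_mul, hω, one_pow]

theorem diag_ne_scalar (n : ℕ) (r : ℕ) [Fact r.Prime] (ω : F) (hω : ω ^ r = 1) (hω1 : ω ≠ 1) (c : F)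
    (hc : c ≠ 0) (e : Fin n → ZMod r) (i j : Fin n) (hij : e i ≠ e j) (z : F) :
    c • Matrix.diagonal (fun i => ω ^ (e i).val) ≠ z • (1 : Matrix (Fin n) (Fin n) F) := by
  intro h
  have hi := congrFun (congrFun h i) i
  have hj := congrFun (congrFun h j) j
  simp only [Matrix.smul_apply, Matrix.diagonal_apply_eq, Matrix.one_apply_eq, smul_eq_mul, mul_one] at hi hj
  have heq : ω ^ (e i).val = ω ^ (e j).val := by
    apply mul_left_cancel₀ hc
    rw [hi, hj]
  have hord : orderOf ω = r := orderOf_eq_prime hω hω1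
  have hlt : ∀ k : Fin n, (e k).val < orderOf ω := by
    intro k
    rw [hord]
    exact ZMod.val_lt _
  have := pow_injOn_Iio_orderOf (hlt i) (hlt j) heq
  exact hij (ZMod.val_injective r this)

theorem sfrd_exists_root_of_unity (r : ℕ) [Fact r.Prime] (hrq : r ∣ Fintype.card F - 1) :
    ∃ ω : F, ω ^ r = 1 ∧ ω ≠ 1 := by
  classical
  have h1 : r ∣ Fintype.card Fˣ := by rw [Fintype.card_units]; exact hrq
  obtain ⟨x, hx⟩ := exists_prime_orderOf_dvd_card r h1
  refine ⟨(x : F), ?_, ?_⟩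
  · rw [← Units.val_pow_eq_pow_val, ← hx, pow_orderOf_eq_one, Units.val_one]
  · intro h
    have hx1 : x = 1 := Units.ext (by rw [h, Units.val_one])
    rw [hx1, orderOf_one] at hx
    exact (Fact.out : r.Prime).one_lt.ne hx

theorem sfrd_exists_root_E1 (n : ℕ) (hn : 0 < n) (r : ℕ) [Fact r.Prime] (ω : F) (hω : ω ^ r = 1)
    (hv : padicValNat r n < padicValNat r (Fintype.card F - 1)) : ∃ c : F, c ^ n * ω = 1 := by
  classical
  have hr := (Fact.out : r.Prime)
  have hω0 : ω ≠ 0 := by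
    rintro rfl
    rw [zero_pow hr.ne_zero] at hω
    exact zero_ne_one hω
  set N := Nat.card Fˣ with hN
  have hNq : N = Fintype.card F - 1 := by rw [hN, Nat.card_eq_fintype_card, Fintype.card_units]
  have hN0 : N ≠ 0 := Nat.card_pos.ne'
  set d := N.gcd n with hd
  have hdN : d ∣ N := Nat.gcd_dvd_left _ _
  have hdn : d ∣ n := Nat.gcd_dvd_right _ _
  have hd0 : d ≠ 0 := fun h => hN0 (Nat.eq_zero_of_zero_dvd (h ▸ hdN))
  set m := N / d with hm
  have hmN : m * d = N := Nat.div_mul_cancel hdN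
  -- `r ∣ m`
  have hrm : r ∣ m := by
    have h1 : padicValNat r d ≤ padicValNat r n := by
      rw [← padicValNat_dvd_iff_le hn.ne']
      exact dvd_trans pow_padicValNat_dvd hdn
    have h2 : padicValNat r m = padicValNat r N - padicValNat r d := padicValNat.div_of_dvd hdN
    apply dvd_of_one_le_padicValNat
    rw [h2, hNq]
    omega
  -- the `n`-th powers are the kernel of the `m`-th power map
  have hle : (powMonoidHom n : Fˣ →* Fˣ).range ≤ (powMonoidHom m : Fˣ →* Fˣ).ker := by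
    rintro _ ⟨y, rfl⟩
    rw [MonoidHom.mem_ker, powMonoidHom_apply, powMonoidHom_apply, ← pow_mul]
    obtain ⟨k, hk⟩ := hdn
    have : n * m = N * k := by
      rw [hk, ← hmN]; ring
    rw [this, pow_mul, hN, pow_card_eq_one', one_pow]
  have hcard : Nat.card (powMonoidHom m : Fˣ →* Fˣ).ker ≤ Nat.card (powMonoidHom n : Fˣ →* Fˣ).range := by
    rw [IsCyclic.card_powMonoidHom_ker, IsCyclic.card_powMonoidHom_range]
    have : (Nat.card Fˣ).gcd m = m := Nat.gcd_eq_right ⟨d, hmN.symm⟩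
    rw [this]
  have heq := Subgroup.eq_of_le_of_card_ge hle hcard
  have hmem : (Units.mk0 ω hω0)⁻¹ ∈ (powMonoidHom m : Fˣ →* Fˣ).ker := by
    rw [MonoidHom.mem_ker, powMonoidHom_apply]
    obtain ⟨k, hk⟩ := hrm
    rw [hk, pow_mul, inv_pow]
    have : (Units.mk0 ω hω0) ^ r = 1 := Units.ext (by rw [Units.val_pow_eq_pow_val, Units.val_mk0, hω, Units.val_one])
    rw [this, inv_one, one_pow]
  rw [← heq] at hmem
  obtain ⟨y, hy⟩ := hmem
  refine ⟨(y : F), ?_⟩
  have h3 : y ^ n * Units.mk0 ω hω0 = 1 := by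
    rw [powMonoidHom_apply] at hy
    rw [hy, inv_mul_cancel]
  have := congrArg (fun u : Fˣ => (u : F)) h3
  simpa using this

end Cfsg.Agent.Lib.Helper44.Sfr
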