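import Mathlib

/-! # S5965 (helper44) leaf SFR-Fd: exponent vectors of length 3 or 5 with sum zero are symmetric (helper83) -/

set_option autoImplicit false

namespace Cfsg.Agent.Lib.Helper44.Sfr

/-- the involutions of `Fin 5` -/
def sfrkInv5 : List (Equiv.Perm (Fin 5)) :=
  [1, Equiv.swap 0 1, Equiv.swap 0 2, Equiv.swap 0 3, Equiv.swap 0 4, Equiv.swap 1 2, Equiv.swap 1 3,
   Equiv.swap 1 4, Equiv.swap 2 3, Equiv.swap 2 4, Equiv.swap 3 4,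
   Equiv.swap 0 1 * Equiv.swap 2 3, Equiv.swap 0 1 * Equiv.swap 2 4, Equiv.swap 0 1 * Equiv.swap 3 4,
   Equiv.swap 0 2 * Equiv.swap 1 3, Equiv.swap 0 2 * Equiv.swap 1 4, Equiv.swap 0 2 * Equiv.swap 3 4,
   Equiv.swap 0 3 * Equiv.swap 1 2, Equiv.swap 0 3 * Equiv.swap 1 4, Equiv.swap 0 3 * Equiv.swap 2 4,
   Equiv.swap 0 4 * Equiv.swap 1 2, Equiv.swap 0 4 * Equiv.swap 1 3, Equiv.swap 0 4 * Equiv.swap 2 3,
   Equiv.swap 1 2 * Equiv.swap 3 4, Equiv.swap 1 3 * Equiv.swap 2 4, Equiv.swap 1 4 * Equiv.swap 2 3]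

/-- the involutions of `Fin 3` -/
def sfrkInv3 : List (Equiv.Perm (Fin 3)) := [1, Equiv.swap 0 1, Equiv.swap 0 2, Equiv.swap 1 2]

set_option maxRecDepth 100000 in
theorem sfrk_five : ∀ a b c d f : ZMod 5, a + b + c + d + f = 0 → ¬ (a = b ∧ b = c ∧ c = d ∧ d = f) →
    ∃ t : ZMod 5, ∃ π ∈ sfrkInv5, (∀ i, π (π i) = i) ∧
      ∀ i, (![a, b, c, d, f] : Fin 5 → ZMod 5) (π i) = t + t - (![a, b, c, d, f] : Fin 5 → ZMod 5) i := by
  decide +kernel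

set_option maxRecDepth 100000 in
theorem sfrk_three : ∀ a b c : ZMod 3, a + b + c = 0 → ¬ (a = b ∧ b = c) →
    ∃ t : ZMod 3, ∃ π ∈ sfrkInv3, (∀ i, π (π i) = i) ∧
      ∀ i, (![a, b, c] : Fin 3 → ZMod 3) (π i) = t + t - (![a, b, c] : Fin 3 → ZMod 3) i := by
  decide +kernel

/-- F-d -/
theorem exists_symm_center (r : ℕ) [Fact r.Prime] (hr : r = 3 ∨ r = 5) (e : Fin r → ZMod r)
    (hsum : ∑ i, e i = 0) (hne : ∃ i j, e i ≠ e j) :
    ∃ (t : ZMod r) (π : Equiv.Perm (Fin r)), (∀ i, π (π i) = i) ∧ ∀ i, e (π i) = t + t - e i := by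
  rcases hr with rfl | rfl
  · have he : e = ![e 0, e 1, e 2] := by
      funext i
      fin_cases i <;> rfl
    have h1 : e 0 + e 1 + e 2 = 0 := by
      rw [← hsum, Fin.sum_univ_three]
    have h2 : ¬ (e 0 = e 1 ∧ e 1 = e 2) := by
      rintro ⟨a1, a2⟩
      obtain ⟨i, j, hij⟩ := hne
      apply hij
      fin_cases i <;> fin_cases j <;> simp [a1, a2]
    obtain ⟨t, π, -, h3, h4⟩ := sfrk_three (e 0) (e 1) (e 2) h1 h2
    rw [← he] at h4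
    exact ⟨t, π, h3, h4⟩
  · have he : e = ![e 0, e 1, e 2, e 3, e 4] := by
      funext i
      fin_cases i <;> rfl
    have h1 : e 0 + e 1 + e 2 + e 3 + e 4 = 0 := by
      rw [← hsum, Fin.sum_univ_five]
    have h2 : ¬ (e 0 = e 1 ∧ e 1 = e 2 ∧ e 2 = e 3 ∧ e 3 = e 4) := by
      rintro ⟨a1, a2, a3, a4⟩
      obtain ⟨i, j, hij⟩ := hne
      apply hij
      fin_cases i <;> fin_cases j <;> simp [a1, a2, a3, a4]
    obtain ⟨t, π, -, h3, h4⟩ := sfrk_five (e 0) (e 1) (e 2) (e 3) (e 4) h1 h2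
    rw [← he] at h4
    exact ⟨t, π, h3, h4⟩

end Cfsg.Agent.Lib.Helper44.Sfr
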