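import Mathlib
import Cfsg.Prelude.Def_ClassicalGeometry
import Cfsg.Prelude.Def_GeometricClasses
import Cfsg.Agent.Lib.Helper5.HyDefs
import Cfsg.Agent.Lib.Helper25.TsBRIDGE

/-! # S5992 + S5993 hive (helper5), leaf HY-BR: bridge between the frozen vocabulary and `Nd` / `Plus`
for `oddB d`. -/

set_option autoImplicit false

namespace Cfsg.Agent.Lib.Helper5.Hy

open Polynomial Module
open Cfsg.Agent.Lib.Helper2.BG Cfsg.Agent.Lib.Helper99 Cfsg.Agent.Lib.Helper48.Ti
open Cfsg.Agent.Lib.Helper67.Ts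

variable {F : Type*} [Field F] [Fintype F]

omit [Fintype F] in
theorem br_polar (d : ℕ) (u v : VO d F) :
    QuadraticMap.polar (Cfsg.quadFormOdd d F) u v = oddB d u v := by
  rw [oddB_apply]
  rfl

/-- HY-BR: bridge between the frozen vocabulary and `Nd` / `Plus` for `oddB d` -/
theorem bridge (h2 : (2 : F) ≠ 0) (d : ℕ) (W : Submodule F (VO d F)) :
    (Cfsg.Geo.IsNondegenerateOn (QuadraticMap.polar (Cfsg.quadFormOdd d F)) W ↔ Nd (oddB d) W) ∧
    (Cfsg.Geo.IsPlusTypeOn (Cfsg.quadFormOdd d F) W ↔ Plus (oddB d) W) := by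
  constructor
  · constructor
    · intro h u hu hall
      by_contra hu0
      obtain ⟨-, x, hx, hne⟩ := h u hu hu0
      rw [br_polar] at hne
      exact hne (hall x hx)
    · intro h w hw hw0
      have hex : ∃ x ∈ W, oddB d w x ≠ 0 := by
        by_contra hcon
        push Not at hcon
        exact hw0 (h w hw hcon)
      obtain ⟨x, hx, hne⟩ := hex
      refine ⟨⟨x, hx, ?_⟩, ⟨x, hx, ?_⟩⟩
      · rw [br_polar, oddB_symm]; exact hne
      · rw [br_polar]; exact hne
  · constructor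
    · rintro ⟨U, hU, hts, hdim⟩
      exact ⟨U, hU, (ts_iff_ti h2 d U).1 hts, hdim⟩
    · rintro ⟨U, hU, hti, hdim⟩
      exact ⟨U, hU, (ts_iff_ti h2 d U).2 hti, hdim⟩

end Cfsg.Agent.Lib.Helper5.Hy
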