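import Cfsg.Agent.Lib.Helper18.AutT10
import Cfsg.Agent.Lib.Helper18.StTorus
import Cfsg.Agent.Lib.Helper36.ChevChar

/-! # S2125-O2: diagonal automorphisms of G₂, F₄, E₈ are inner (helper83, for helper18's AutOutSkel) -/

set_option autoImplicit false

namespace Cfsg.Agent.Lib.Helper83.Au

open Cfsg Cfsg.Lie Cfsg.Agent.Lib.Helper36 Cfsg.Agent.Lib.Helper18 Cfsg.Agent.Lib.Helper18.Au

section
variable (D : ChevalleyDatum) (hD : D ∈ [chevG2, chevB2, chevD4, chevF4, chevE6, chevE7, chevE8])
variable (F : Type*) [Field F]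

include hD in
/-- if the Cartan matrix is unimodular, every diagonal automorphism is conjugation by an element of `H` -/
theorem diag_inner_of_unimodular (P' : Matrix (Fin D.rank) (Fin D.rank) ℤ)
    (h1 : cartanMat D * P' = 1) (h2 : P' * cartanMat D = 1)
    (d : ↥(D.group F) ≃* ↥(D.group F)) (hd : D.IsDiagonalAut d) :
    ∃ h : ↥(D.group F), d = MulAut.conj h := by
  obtain ⟨χ, hχ, hdg⟩ := hd
  -- solve the monomial system
  obtain ⟨t, ht⟩ := (monoMap_bijective (C := Fˣ) (cartanMat D) P' h1 h2).2
    (fun k : Fin D.rank => χ (D.simple k.val))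
  have hmem : torusHom D F t ∈ D.diagonalSubgroup F := by
    rw [← torusHom_range D hD F]
    exact ⟨t, rfl⟩
  obtain ⟨χ', hχ', hk⟩ := exists_character_of_mem_diagonal D hD F _ hmem
  -- the two characters agree on the fundamental roots
  have hagree : ∀ i : Fin D.rank, χ' (D.simple i) = χ (D.simple i) := by
    intro i
    have hlt : D.simple i < D.nroots := simple_lt' D hD i
    have e1 := congrFun (congrFun hk (Sum.inr ⟨D.simple i, hlt⟩)) (Sum.inr ⟨D.simple i, hlt⟩)
    rw [torusHom_coe] at e1
    unfold ChevalleyDatum.charDiag at e1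
    rw [Matrix.diagonal_apply_eq, Matrix.diagonal_apply_eq] at e1
    simp only [Sum.elim_inr] at e1
    have e2 := congrFun ht i
    rw [monoMap_apply] at e2
    apply Units.ext
    rw [← e1, ← e2, Units.coe_prod]
    apply Finset.prod_congr rfl
    intro j _
    rw [Units.val_zpow_eq_zpow_val]
    rfl
  refine ⟨⟨torusHom D F t, diagonal_le_group D hD F hmem⟩, ?_⟩
  apply MulEquiv.toMonoidHom_injective
  apply T10_ext' D hD F
  intro i u
  have hlt : D.simple i < D.nroots := simple_lt' D hD i
  have hnlt : D.neg (D.simple i) < D.nroots := neg_simple_lt' D hD i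
  have key : ∀ r, r < D.nroots → χ' r = χ r → ∀ u : F,
      d (xGr D hD F r u) = MulAut.conj (⟨torusHom D F t, diagonal_le_group D hD F hmem⟩ : ↥(D.group F))
        (xGr D hD F r u) := by
    intro r hr hrr u
    apply Subtype.ext
    rw [MulAut.conj_apply, Subgroup.coe_mul, Subgroup.coe_mul, Subgroup.coe_inv, xGr_coe]
    show _ = torusHom D F t * xGL D hD F r u * (torusHom D F t)⁻¹
    rw [diag_conj_xGL D hD F _ χ' hχ' hk r hr u]
    apply Units.ext
    rw [hdg, xGr_coe_mat hD, xGL_coe, hrr]
    exact Cfsg.Agent.S2157.conj_of_chk D (s2157chk_all D hD) χ hχ r hr u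
  refine ⟨key _ hlt (hagree i) u, key _ hnlt ?_ u⟩
  rw [hχ'.1 _ hlt, hχ.1 _ hlt, hagree i]

end

section
variable (D : ChevalleyDatum) (F : Type*) [Field F]

/-- O2: for the types with unimodular Cartan matrix every diagonal automorphism is inner. -/
theorem O2_diag_inner (hD3 : D ∈ [chevG2, chevF4, chevE8]) (d : ↥(D.group F) ≃* ↥(D.group F))
    (hd : D.IsDiagonalAut d) : ∃ h : ↥(D.group F), d = MulAut.conj h := by
  simp only [List.mem_cons, List.not_mem_nil, or_false] at hD3
  rcases hD3 with rfl | rfl | rfl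
  · exact diag_inner_of_unimodular chevG2 (by simp) F _ cartanInv_G2.1 cartanInv_G2.2 d hd
  · exact diag_inner_of_unimodular chevF4 (by simp) F _ cartanInv_F4.1 cartanInv_F4.2 d hd
  · exact diag_inner_of_unimodular chevE8 (by simp) F _ cartanInv_E8.1 cartanInv_E8.2 d hd

end

end Cfsg.Agent.Lib.Helper83.Au
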