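import Mathlib

set_option autoImplicit false
set_option linter.unusedSimpArgs false
set_option linter.unusedVariables false

/-! A complete rewriting system for `⟨a, c | a³, c³, cac = aca⟩` (generated by Knuth-Bendix). -/

namespace Cfsg.Agent.Lib.Helper83.Braid3

variable {H : Type*} [Group H]

theorem rules (a c : H) (e1 : ∀ t : H, a * (a * (a * t)) = t)
    (e2 : ∀ t : H, c * (c * (c * t)) = t) (e3 : ∀ t : H, c * (a * (c * t)) = a * (c * (a * t))) :
    (∀ t : H, c * (a * (a * (c * (a * t)))) = a * (c * (a * (a * (c * t))))) ∧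
    (∀ t : H, c * (a * (a * (c * (c * t)))) = a * (a * (c * (c * (a * t))))) ∧
    (∀ t : H, c * (c * (a * (a * (c * t)))) = a * (c * (c * (a * (a * t))))) := by
  have r0 : ∀ t : H, a * (a * (a * t)) = t := by
    intro t
    have hp := e1 t
    have hu : a * (a * (a * t)) = a * (a * (a * t)) := rfl
    have hv : t = t := rfl
    exact hu.symm.trans (hp.trans hv)
  have r1 : ∀ t : H, c * (c * (c * t)) = t := by
    intro t
    have hp := e2 t
    have hu : c * (c * (c * t)) = c * (c * (c * t)) := rfl
    have hv : t = t := rfl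
    exact hu.symm.trans (hp.trans hv)
  have r2 : ∀ t : H, c * (a * (c * t)) = a * (c * (a * t)) := by
    intro t
    have hp := e3 t
    have hu : c * (a * (c * t)) = c * (a * (c * t)) := rfl
    have hv : a * (c * (a * t)) = a * (c * (a * t)) := rfl
    exact hu.symm.trans (hp.trans hv)
  have r3 : ∀ t : H, c * (a * (a * (c * (a * t)))) = a * (c * (a * (a * (c * t)))) := by
    intro t
    have hp1 : c * (a * (c * (a * (c * t)))) = a * (c * (a * (a * (c * t)))) := by
      rw [r2 (a * (c * t))]
    have hp2 : c * (a * (c * (a * (c * t)))) = c * (a * (a * (c * (a * t)))) := by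
      rw [r2 t]
    have hp := hp1.symm.trans hp2
    have hu : a * (c * (a * (a * (c * t)))) = a * (c * (a * (a * (c * t)))) := rfl
    have hv : c * (a * (a * (c * (a * t)))) = c * (a * (a * (c * (a * t)))) := rfl
    exact hv.symm.trans (hp.symm.trans hu)
  have r4 : ∀ t : H, a * (a * (c * (a * (a * (c * (c * t)))))) = a * (c * (c * (a * t))) := by
    intro t
    have hp1 : c * (a * (c * (a * (a * (c * (a * t)))))) = a * (c * (a * (a * (a * (c * (a * t)))))) := by
      rw [r2 (a * (a * (c * (a * t))))]
    have hp2 : c * (a * (c * (a * (a * (c * (a * t)))))) = c * (a * (a * (c * (a * (a * (c * t)))))) := by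
      rw [r3 t]
    have hp := hp1.symm.trans hp2
    have hu : a * (c * (a * (a * (a * (c * (a * t)))))) = a * (c * (c * (a * t))) := by
      rw [r0 (c * (a * t))]
    have hv : c * (a * (a * (c * (a * (a * (c * t)))))) = a * (a * (c * (a * (a * (c * (c * t)))))) := by
      rw [r3 (a * (c * t)), r3 (c * t)]
    exact hv.symm.trans (hp.symm.trans hu)
  have r5 : ∀ t : H, a * (c * (a * (a * (c * (c * t))))) = c * (c * (a * t)) := by
    intro t
    have hp1 : a * (a * (a * (a * (c * (a * (a * (c * (c * t)))))))) = a * (c * (a * (a * (c * (c * t))))) := by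
      rw [r0 (a * (c * (a * (a * (c * (c * t))))))]
    have hp2 : a * (a * (a * (a * (c * (a * (a * (c * (c * t)))))))) = a * (a * (a * (c * (c * (a * t))))) := by
      rw [r4 t]
    have hp := hp1.symm.trans hp2
    have hu : a * (c * (a * (a * (c * (c * t))))) = a * (c * (a * (a * (c * (c * t))))) := rfl
    have hv : a * (a * (a * (c * (c * (a * t))))) = c * (c * (a * t)) := by
      rw [r0 (c * (c * (a * t)))]
    exact hu.symm.trans (hp.trans hv)
  have r6 : ∀ t : H, c * (a * (a * (c * (c * t)))) = a * (a * (c * (c * (a * t)))) := by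
    intro t
    have hp1 : a * (a * (a * (c * (a * (a * (c * (c * t))))))) = c * (a * (a * (c * (c * t)))) := by
      rw [r0 (c * (a * (a * (c * (c * t)))))]
    have hp2 : a * (a * (a * (c * (a * (a * (c * (c * t))))))) = a * (a * (c * (c * (a * t)))) := by
      rw [r4 t]
    have hp := hp1.symm.trans hp2
    have hu : c * (a * (a * (c * (c * t)))) = c * (a * (a * (c * (c * t)))) := rfl
    have hv : a * (a * (c * (c * (a * t)))) = a * (a * (c * (c * (a * t)))) := rfl
    exact hu.symm.trans (hp.trans hv)
  have r7 : ∀ t : H, c * (c * (a * (a * (c * t)))) = a * (c * (c * (a * (a * t)))) := by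
    intro t
    have hp1 : c * (a * (a * (c * (a * (a * (c * (a * t))))))) = a * (c * (a * (a * (c * (a * (c * (a * t))))))) := by
      rw [r3 (a * (c * (a * t)))]
    have hp2 : c * (a * (a * (c * (a * (a * (c * (a * t))))))) = c * (a * (a * (a * (c * (a * (a * (c * t))))))) := by
      rw [r3 t]
    have hp := hp1.symm.trans hp2
    have hu : a * (c * (a * (a * (c * (a * (c * (a * t))))))) = a * (c * (c * (a * (a * t)))) := by
      rw [r3 (c * (a * t)), r6 (a * t), r0 (a * (c * (c * (a * (a * t)))))]
    have hv : c * (a * (a * (a * (c * (a * (a * (c * t))))))) = c * (c * (a * (a * (c * t)))) := by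
      rw [r0 (c * (a * (a * (c * t))))]
    exact hv.symm.trans (hp.symm.trans hu)
  exact ⟨r3, r6, r7⟩

end Cfsg.Agent.Lib.Helper83.Braid3
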