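import Mathlib
import Cfsg.Prelude.Def_RootSubgroups

set_option autoImplicit false

namespace Cfsg.Agent.Lib.Helper83

open Cfsg

variable {G : Type*} [Group G]

theorem mem_conjBy {A : Subgroup G} {g x : G} : x ∈ conjBy A g ↔ g⁻¹ * x * g ∈ A := by
  unfold conjBy
  rw [Subgroup.mem_map]
  constructor
  · rintro ⟨a, ha, rfl⟩
    simpa [mul_assoc] using ha
  · intro h
    exact ⟨g⁻¹ * x * g, h, by simp [mul_assoc]⟩

theorem conj_mem_conjBy {A : Subgroup G} {g a : G} (ha : a ∈ A) : g * a * g⁻¹ ∈ conjBy A g := by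
  rw [mem_conjBy]; simpa [mul_assoc] using ha

theorem conjBy_one (A : Subgroup G) : conjBy A 1 = A := by
  ext x; rw [mem_conjBy]; simp

theorem conjBy_conjBy (A : Subgroup G) (g h : G) : conjBy (conjBy A g) h = conjBy A (h * g) := by
  ext x; simp only [mem_conjBy]; simp [mul_assoc]

theorem conjBy_mem_self {A : Subgroup G} {g : G} (hg : g ∈ A) : conjBy A g = A := by
  ext x; rw [mem_conjBy]
  constructor
  · intro h
    have := A.mul_mem (A.mul_mem hg h) (A.inv_mem hg)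
    simpa [mul_assoc] using this
  · intro h
    exact A.mul_mem (A.mul_mem (A.inv_mem hg) h) hg

theorem conjBy_eq_self_iff {A : Subgroup G} {g : G} :
    conjBy A g = A ↔ g ∈ Subgroup.normalizer (A : Set G) := by
  rw [Subgroup.mem_normalizer_iff_map_conj_eq]; rfl

theorem conjBy_inj {A B : Subgroup G} {g : G} (h : conjBy A g = conjBy B g) : A = B := by
  have := congrArg (fun C => conjBy C g⁻¹) h
  simpa [conjBy_conjBy, conjBy_one] using this

theorem conjBy_eq_iff {A B : Subgroup G} {g : G} : conjBy A g = B ↔ A = conjBy B g⁻¹ := by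
  constructor
  · rintro rfl; rw [conjBy_conjBy]; simp [conjBy_one]
  · rintro rfl; rw [conjBy_conjBy]; simp [conjBy_one]

theorem conjBy_mono {A B : Subgroup G} (g : G) (h : A ≤ B) : conjBy A g ≤ conjBy B g :=
  Subgroup.map_mono h

theorem conjBy_le_of_mem {A X : Subgroup G} {g : G} (hA : A ≤ X) (hg : g ∈ X) : conjBy A g ≤ X := by
  intro x hx
  rw [mem_conjBy] at hx
  have h1 := hA hx
  have := X.mul_mem (X.mul_mem hg h1) (X.inv_mem hg)
  simpa [mul_assoc] using this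

theorem conjBy_sup (A B : Subgroup G) (g : G) : conjBy (A ⊔ B) g = conjBy A g ⊔ conjBy B g :=
  Subgroup.map_sup A B _

theorem conjBy_ne_bot {A : Subgroup G} (g : G) (h : A ≠ ⊥) : conjBy A g ≠ ⊥ := by
  intro h'
  apply h
  rw [eq_bot_iff] at h' ⊢
  intro x hx
  have := h' (conj_mem_conjBy (g := g) hx)
  rw [Subgroup.mem_bot] at this ⊢
  have h2 : x = g⁻¹ * (g * x * g⁻¹) * g := by simp [mul_assoc]
  rw [h2, this]; simp


/-- the subgroup of elements preserving a family of subgroups under conjugation -/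
def famStab (Δ : Set (Subgroup G)) : Subgroup G where
  carrier := {g | ∀ C ∈ Δ, conjBy C g ∈ Δ ∧ conjBy C g⁻¹ ∈ Δ}
  one_mem' := by
    intro C hC
    simp only [inv_one, conjBy_one]
    exact ⟨hC, hC⟩
  mul_mem' := by
    intro x y hx hy C hC
    constructor
    · rw [← conjBy_conjBy]
      exact (hx _ (hy C hC).1).1
    · rw [mul_inv_rev, ← conjBy_conjBy]
      exact (hy _ (hx C hC).2).2
  inv_mem' := by
    intro x hx C hC
    rw [inv_inv]
    exact ⟨(hx C hC).2, (hx C hC).1⟩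

theorem mem_famStab {Δ : Set (Subgroup G)} {g : G} :
    g ∈ famStab Δ ↔ ∀ C ∈ Δ, conjBy C g ∈ Δ ∧ conjBy C g⁻¹ ∈ Δ := Iff.rfl

theorem le_famStab_of_forall {Δ : Set (Subgroup G)} {A : Subgroup G}
    (hA : ∀ a ∈ A, ∀ C ∈ Δ, conjBy C a ∈ Δ) : A ≤ famStab Δ := by
  intro a ha C hC
  exact ⟨hA a ha C hC, hA a⁻¹ (A.inv_mem ha) C hC⟩

theorem conjBy_invariant_sup {Δ : Set (Subgroup G)} {A B : Subgroup G}
    (hA : ∀ a ∈ A, ∀ C ∈ Δ, conjBy C a ∈ Δ) (hB : ∀ b ∈ B, ∀ C ∈ Δ, conjBy C b ∈ Δ) :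
    ∀ x ∈ A ⊔ B, ∀ C ∈ Δ, conjBy C x ∈ Δ := by
  intro x hx C hC
  have : A ⊔ B ≤ famStab Δ := sup_le (le_famStab_of_forall hA) (le_famStab_of_forall hB)
  exact (this hx C hC).1

theorem exists_ne_one_of_ne_bot {A : Subgroup G} (h : A ≠ ⊥) : ∃ a ∈ A, a ≠ 1 := by
  by_contra hcon
  push Not at hcon
  exact h ((Subgroup.eq_bot_iff_forall _).2 hcon)

section RankOne

variable {A B : Subgroup G}

theorem rop_norm_left (h : IsRankOnePair A B) {a : G} (ha : a ∈ A) (hn : conjBy B a = B) : a = 1 := by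
  by_contra ha1
  obtain ⟨b, hb, hb1, hc⟩ := h.cond_left a ha ha1
  have h1 : conjBy B a⁻¹ = B := by
    rw [conjBy_eq_iff, inv_inv, hn]
  rw [h1, conjBy_eq_iff, inv_inv, conjBy_mem_self hb] at hc
  exact h.ne hc

theorem rop_norm_right (h : IsRankOnePair A B) {b : G} (hb : b ∈ B) (hn : conjBy A b = A) : b = 1 :=
  rop_norm_left (RankOnePair_symm h) hb hn

theorem rop_left_ne_bot (h : IsRankOnePair A B) : A ≠ ⊥ := by
  intro hA
  have hB : B ≠ ⊥ := fun hB => h.ne (hA.trans hB.symm)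
  obtain ⟨b, hb, hb1⟩ := exists_ne_one_of_ne_bot hB
  obtain ⟨a, ha, ha1, -⟩ := h.cond_right b hb hb1
  rw [hA, Subgroup.mem_bot] at ha
  exact ha1 ha

theorem rop_right_ne_bot (h : IsRankOnePair A B) : B ≠ ⊥ := rop_left_ne_bot (RankOnePair_symm h)

theorem rop_exists_left (h : IsRankOnePair A B) : ∃ a ∈ A, a ≠ 1 := by
  exact exists_ne_one_of_ne_bot (rop_left_ne_bot h)

theorem rop_exists_right (h : IsRankOnePair A B) : ∃ b ∈ B, b ≠ 1 := rop_exists_left (RankOnePair_symm h)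

/-- uniqueness of the partner element -/
theorem rop_unique_right (h : IsRankOnePair A B) {b b' : G} (hb : b ∈ B) (hb' : b' ∈ B)
    (hc : conjBy A b⁻¹ = conjBy A b'⁻¹) : b = b' := by
  have h1 : conjBy A (b' * b⁻¹) = A := by
    rw [← conjBy_conjBy, hc, conjBy_conjBy]; simp [conjBy_one]
  have := rop_norm_right h (B.mul_mem hb' (B.inv_mem hb)) h1
  have h2 : b' = b := by
    have := congrArg (· * b) this
    simpa using this
  exact h2.symm

theorem rop_unique_left (h : IsRankOnePair A B) {a a' : G} (ha : a ∈ A) (ha' : a' ∈ A)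
    (hc : conjBy B a⁻¹ = conjBy B a'⁻¹) : a = a' :=
  rop_unique_right (RankOnePair_symm h) ha ha' hc

theorem rop_A_mem_unip (A B : Subgroup G) : A ∈ unipotentSubgroups A B :=
  ⟨1, Subgroup.one_mem _, (conjBy_one A).symm⟩

theorem rop_B_mem_unip (h : IsRankOnePair A B) : B ∈ unipotentSubgroups A B := by
  obtain ⟨a, ha, ha1⟩ := rop_exists_left h
  obtain ⟨b, hb, hb1, hc⟩ := h.cond_left a ha ha1
  refine ⟨a * b⁻¹, ?_, ?_⟩
  · exact Subgroup.mul_mem _ (Subgroup.mem_sup_left ha) (Subgroup.inv_mem _ (Subgroup.mem_sup_right hb))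
  · rw [← conjBy_conjBy, hc, conjBy_conjBy]; simp [conjBy_one]

theorem unip_conj {C : Subgroup G} (hC : C ∈ unipotentSubgroups A B) {x : G} (hx : x ∈ A ⊔ B) :
    conjBy C x ∈ unipotentSubgroups A B := by
  obtain ⟨y, hy, rfl⟩ := hC
  exact ⟨x * y, Subgroup.mul_mem _ hx hy, conjBy_conjBy A y x⟩

theorem unip_le {C : Subgroup G} (hC : C ∈ unipotentSubgroups A B) : C ≤ A ⊔ B := by
  obtain ⟨y, hy, rfl⟩ := hC
  exact conjBy_le_of_mem le_sup_left hy

theorem rop_conjBy_B_ne_A (h : IsRankOnePair A B) {a : G} (ha : a ∈ A) : conjBy B a ≠ A := by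
  intro hc
  rw [conjBy_eq_iff, conjBy_mem_self (A.inv_mem ha)] at hc
  exact h.ne hc.symm

theorem rop_unip_iff (h : IsRankOnePair A B) {C : Subgroup G} :
    C ∈ unipotentSubgroups A B ↔ C = A ∨ ∃ a ∈ A, C = conjBy B a := by
  constructor
  · rintro ⟨x, hx, rfl⟩
    have hBA : ∀ b ∈ B, conjBy A b = A ∨ ∃ a ∈ A, conjBy A b = conjBy B a := by
      intro b hb
      by_cases hb1 : b = 1
      · left; rw [hb1, conjBy_one]
      · right
        have hb1' : b⁻¹ ≠ 1 := by simpa using hb1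
        obtain ⟨a, ha, ha1, hc⟩ := h.cond_right b⁻¹ (B.inv_mem hb) hb1'
        rw [inv_inv] at hc
        exact ⟨a⁻¹, A.inv_mem ha, hc.symm⟩
    have key := conjBy_invariant_sup (Δ := {C | C = A ∨ ∃ a ∈ A, C = conjBy B a}) (A := A) (B := B)
      (by
        rintro a' ha' C (rfl | ⟨a, ha, rfl⟩)
        · left; exact conjBy_mem_self ha'
        · right; exact ⟨a' * a, A.mul_mem ha' ha, conjBy_conjBy B a a'⟩)
      (by
        rintro b hb C (rfl | ⟨a, ha, rfl⟩)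
        · exact hBA b hb
        · by_cases ha1 : a = 1
          · right; refine ⟨1, A.one_mem, ?_⟩
            rw [ha1, conjBy_one]; exact conjBy_mem_self hb
          · have ha1' : a⁻¹ ≠ 1 := by simpa using ha1
            obtain ⟨b', hb', hb1', hc⟩ := h.cond_left a⁻¹ (A.inv_mem ha) ha1'
            rw [inv_inv] at hc
            rw [← hc, conjBy_conjBy]
            exact hBA _ (B.mul_mem hb (B.inv_mem hb')))
    exact key x hx A (Or.inl rfl)
  · rintro (rfl | ⟨a, ha, rfl⟩)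
    · exact rop_A_mem_unip _ B
    · exact unip_conj (rop_B_mem_unip h) (Subgroup.mem_sup_left ha)

/-- A acts regularly on the unipotent subgroups other than A. -/
theorem rop_regular (h : IsRankOnePair A B) {C D : Subgroup G} (hC : C ∈ unipotentSubgroups A B)
    (hD : D ∈ unipotentSubgroups A B) (hCA : C ≠ A) (hDA : D ≠ A) :
    ∃! a : G, a ∈ A ∧ conjBy C a = D := by
  rcases (rop_unip_iff h).1 hC with rfl | ⟨a₁, ha₁, rfl⟩
  · exact absurd rfl hCA
  rcases (rop_unip_iff h).1 hD with rfl | ⟨a₂, ha₂, rfl⟩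
  · exact absurd rfl hDA
  refine ⟨a₂ * a₁⁻¹, ⟨A.mul_mem ha₂ (A.inv_mem ha₁), ?_⟩, ?_⟩
  · rw [conjBy_conjBy]; simp
  · rintro a ⟨ha, hc⟩
    rw [conjBy_conjBy] at hc
    have h1 : conjBy B (a₂⁻¹ * (a * a₁)) = B := by
      rw [← conjBy_conjBy, hc, conjBy_conjBy]; simp [conjBy_one]
    have h2 := rop_norm_left h (A.mul_mem (A.inv_mem ha₂) (A.mul_mem ha ha₁)) h1
    have h3 : a * a₁ = a₂ := by
      have := congrArg (a₂ * ·) h2
      simpa using this
    rw [← h3]; simp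

theorem rop_exists_three (h : IsRankOnePair A B) :
    ∃ C₁ ∈ unipotentSubgroups A B, ∃ C₂ ∈ unipotentSubgroups A B, ∃ C₃ ∈ unipotentSubgroups A B,
      C₁ ≠ C₂ ∧ C₁ ≠ C₃ ∧ C₂ ≠ C₃ := by
  obtain ⟨a, ha, ha1⟩ := rop_exists_left h
  refine ⟨A, rop_A_mem_unip A B, B, rop_B_mem_unip h, conjBy B a,
    unip_conj (rop_B_mem_unip h) (Subgroup.mem_sup_left ha), h.ne, (rop_conjBy_B_ne_A h ha).symm, ?_⟩
  intro hc
  exact ha1 (rop_norm_left h ha hc.symm)

theorem rop_to_std (h : IsRankOnePair A B) {C₁ C₂ : Subgroup G} (h1 : C₁ ∈ unipotentSubgroups A B)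
    (h2 : C₂ ∈ unipotentSubgroups A B) (hne : C₁ ≠ C₂) :
    ∃ x ∈ A ⊔ B, conjBy C₁ x = A ∧ conjBy C₂ x = B := by
  obtain ⟨x₁, hx₁, rfl⟩ := h1
  have hx₁' : x₁⁻¹ ∈ A ⊔ B := Subgroup.inv_mem _ hx₁
  have h2' : conjBy C₂ x₁⁻¹ ∈ unipotentSubgroups A B := unip_conj h2 hx₁'
  have hne' : conjBy C₂ x₁⁻¹ ≠ A := by
    intro hc
    rw [conjBy_eq_iff, inv_inv] at hc
    exact hne hc.symm
  obtain ⟨a, ⟨ha, hca⟩, -⟩ := rop_regular h h2' (rop_B_mem_unip h) hne' h.ne.symm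
  refine ⟨a * x₁⁻¹, Subgroup.mul_mem _ (Subgroup.mem_sup_left ha) hx₁', ?_, ?_⟩
  · rw [conjBy_conjBy]; simp only [inv_mul_cancel_right]; exact conjBy_mem_self ha
  · rw [← conjBy_conjBy]; exact hca

theorem rop_two_transitive (h : IsRankOnePair A B) {C₁ C₂ D₁ D₂ : Subgroup G}
    (hC₁ : C₁ ∈ unipotentSubgroups A B) (hC₂ : C₂ ∈ unipotentSubgroups A B)
    (hD₁ : D₁ ∈ unipotentSubgroups A B) (hD₂ : D₂ ∈ unipotentSubgroups A B)
    (hC : C₁ ≠ C₂) (hD : D₁ ≠ D₂) :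
    ∃ x ∈ A ⊔ B, conjBy C₁ x = D₁ ∧ conjBy C₂ x = D₂ := by
  obtain ⟨x, hx, hx1, hx2⟩ := rop_to_std h hC₁ hC₂ hC
  obtain ⟨y, hy, hy1, hy2⟩ := rop_to_std h hD₁ hD₂ hD
  refine ⟨y⁻¹ * x, Subgroup.mul_mem _ (Subgroup.inv_mem _ hy) hx, ?_, ?_⟩
  · rw [← conjBy_conjBy, hx1, ← hy1, conjBy_conjBy]; simp [conjBy_one]
  · rw [← conjBy_conjBy, hx2, ← hy2, conjBy_conjBy]; simp [conjBy_one]

end RankOne

end Cfsg.Agent.Lib.Helper83
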