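import Mathlib
import Cfsg.Prelude.Def_RootSubgroups
import Cfsg.Agent.Lib.Helper83.RankOne

set_option autoImplicit false

namespace Cfsg.Agent.Lib.Helper83

open Cfsg

variable {X : Type*} [Group X] {A B : Subgroup X}

/-- if a normal subgroup normalizes `A` then it normalizes all conjugates -/
theorem normal_conj_of_normal {N : Subgroup X} (hN : N.Normal)
    (hA : ∀ n ∈ N, conjBy A n = A) (x : X) : ∀ n ∈ N, conjBy (conjBy A x) n = conjBy A x := by
  intro n hn
  have h1 : x⁻¹ * n * x ∈ N := by
    have := hN.conj_mem n hn x⁻¹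
    simpa using this
  have h2 := hA _ h1
  rw [conjBy_conjBy]
  have h3 : n * x = x * (x⁻¹ * n * x) := by simp [mul_assoc]
  rw [h3, ← conjBy_conjBy, h2]

theorem rog_normal_dichotomy (h : IsRankOneGroup X A B) (N : Subgroup X) (hN : N.Normal) :
    N ⊔ A = ⊤ ∨ N ≤ Subgroup.center X := by
  obtain ⟨htop, hr⟩ := h
  by_cases hcase : ∀ n ∈ N, conjBy A n = A
  · right
    have hBn : ∀ n ∈ N, conjBy B n = B := by
      obtain ⟨x, -, hx⟩ := rop_B_mem_unip hr
      rw [hx]
      exact normal_conj_of_normal hN hcase x
    have hcomm : ∀ n ∈ N, ∀ x ∈ A ⊔ B, x * n = n * x := by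
      intro n hn
      have hAle : A ≤ Subgroup.centralizer {n} := by
        intro a ha
        rw [Subgroup.mem_centralizer_singleton_iff]
        have hc1 : n * a * n⁻¹ * a⁻¹ ∈ N := by
          have := hN.conj_mem n⁻¹ (N.inv_mem hn) a
          have h2 := N.mul_mem hn this
          simpa [mul_assoc] using h2
        have hc2 : n * a * n⁻¹ * a⁻¹ ∈ A := by
          have h1 : n * a * n⁻¹ ∈ conjBy A n := conj_mem_conjBy ha
          rw [hcase n hn] at h1
          exact A.mul_mem h1 (A.inv_mem ha)
        have := rop_norm_left hr hc2 (hBn _ hc1)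
        have h3 : n * a = a * n := by
          have := congrArg (· * (a * n)) this
          simpa [mul_assoc] using this
        exact h3.symm
      have hBle : B ≤ Subgroup.centralizer {n} := by
        intro b hb
        rw [Subgroup.mem_centralizer_singleton_iff]
        have hc1 : n * b * n⁻¹ * b⁻¹ ∈ N := by
          have := hN.conj_mem n⁻¹ (N.inv_mem hn) b
          have h2 := N.mul_mem hn this
          simpa [mul_assoc] using h2
        have hc2 : n * b * n⁻¹ * b⁻¹ ∈ B := by
          have h1 : n * b * n⁻¹ ∈ conjBy B n := conj_mem_conjBy hb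
          rw [hBn n hn] at h1
          exact B.mul_mem h1 (B.inv_mem hb)
        have := rop_norm_right hr hc2 (hcase _ hc1)
        have h3 : n * b = b * n := by
          have := congrArg (· * (b * n)) this
          simpa [mul_assoc] using this
        exact h3.symm
      intro x hx
      have := (sup_le hAle hBle) hx
      rw [Subgroup.mem_centralizer_singleton_iff] at this
      exact this
    intro n hn
    rw [Subgroup.mem_center_iff]
    intro x
    exact hcomm n hn x (by rw [htop]; trivial)
  · left
    push Not at hcase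
    obtain ⟨n, hn, hne⟩ := hcase
    rw [eq_top_iff, ← htop]
    refine sup_le le_sup_right ?_
    have hD : conjBy A n ∈ unipotentSubgroups A B := ⟨n, by rw [htop]; trivial, rfl⟩
    obtain ⟨a, ⟨ha, hca⟩, -⟩ := rop_regular hr hD (rop_B_mem_unip hr) hne hr.ne.symm
    rw [← hca, conjBy_conjBy]
    exact conjBy_le_of_mem le_sup_right
      (Subgroup.mul_mem _ (Subgroup.mem_sup_right ha) (Subgroup.mem_sup_left hn))

/-- A is not normal in a rank one group -/
theorem rog_A_not_normal (h : IsRankOneGroup X A B) : ¬ (∀ x : X, conjBy A x = A) := by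
  intro hc
  obtain ⟨b, hb, hb1⟩ := rop_exists_right h.2
  exact hb1 (rop_norm_right h.2 hb (hc b))

end Cfsg.Agent.Lib.Helper83

namespace Cfsg.Agent.Lib.Helper83

open Cfsg

variable {X : Type*} [Group X] {A B : Subgroup X}

/-- if `N ⊔ A = ⊤` with `N` normal and `A` nilpotent then `X ⧸ N` is nilpotent -/
theorem quotient_nilpotent_of_sup_eq_top {N A : Subgroup X} [N.Normal] (hA : Group.IsNilpotent A)
    (h : N ⊔ A = ⊤) : Group.IsNilpotent (X ⧸ N) := by
  have hsurj : Function.Surjective ((QuotientGroup.mk' N).comp A.subtype) := by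
    rw [← MonoidHom.range_eq_top, MonoidHom.range_eq_map, ← Subgroup.map_map,
      ← MonoidHom.range_eq_map, Subgroup.range_subtype]
    have h1 : Subgroup.map (QuotientGroup.mk' N) (N ⊔ A) = ⊤ := by
      rw [h]; exact Subgroup.map_top_of_surjective _ (QuotientGroup.mk'_surjective N)
    rw [Subgroup.map_sup, QuotientGroup.map_mk'_self, bot_sup_eq] at h1
    exact h1
  exact Group.nilpotent_of_surjective _ hsurj

theorem rog_center_ne_top (h : IsRankOneGroup X A B) : Subgroup.center X ≠ ⊤ := by
  intro hc
  apply rog_A_not_normal h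
  intro x
  ext y
  rw [mem_conjBy]
  have hx : x ∈ Subgroup.center X := by rw [hc]; trivial
  rw [Subgroup.mem_center_iff] at hx
  have : x⁻¹ * y * x = y := by
    rw [mul_assoc, hx y, ← mul_assoc, inv_mul_cancel, one_mul]
  rw [this]

theorem rog_quasisimple (h : IsRankOneGroup X A B) (hp : Group.IsPerfect X) : IsQuasisimple X := by
  refine ⟨hp, ?_⟩
  have hnt : Nontrivial (X ⧸ Subgroup.center X) := by
    by_contra hcon
    rw [not_nontrivial_iff_subsingleton] at hcon
    exact rog_center_ne_top h (QuotientGroup.subgroup_eq_top_of_subsingleton _ hcon)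
  refine @IsSimpleGroup.mk _ _ hnt ?_
  intro H hH
  have hN : (H.comap (QuotientGroup.mk' (Subgroup.center X))).Normal := hH.comap _
  rcases rog_normal_dichotomy h _ hN with h1 | h1
  · right
    have hnil := quotient_nilpotent_of_sup_eq_top h.2.nilpotent_left h1
    have hsub : Subsingleton (X ⧸ H.comap (QuotientGroup.mk' (Subgroup.center X))) := by
      by_contra hcon
      rw [not_subsingleton_iff_nontrivial] at hcon
      exact Group.IsPerfect.not_isNilpotent _ hnil
    have h2 := QuotientGroup.subgroup_eq_top_of_subsingleton _ hsub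
    rw [eq_top_iff]
    intro q _
    obtain ⟨x, rfl⟩ := QuotientGroup.mk'_surjective _ q
    have : x ∈ H.comap (QuotientGroup.mk' (Subgroup.center X)) := by rw [h2]; trivial
    exact this
  · left
    rw [eq_bot_iff]
    intro q hq
    obtain ⟨x, rfl⟩ := QuotientGroup.mk'_surjective _ q
    have hx : x ∈ H.comap (QuotientGroup.mk' (Subgroup.center X)) := hq
    have := h1 hx
    rw [Subgroup.mem_bot]
    exact (QuotientGroup.eq_one_iff x).2 this

end Cfsg.Agent.Lib.Helper83
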