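import Mathlib
import Cfsg.Prelude.Def_RootSubgroups
import Cfsg.Agent.Lib.Helper83.RankOne

set_option autoImplicit false

namespace Cfsg.Agent.Lib.Helper83

open Cfsg
open scoped commutatorElement

variable {G : Type*} [Group G]

theorem comm_of_isMulCommutative {A : Subgroup G} (hA : IsMulCommutative A) {a b : G} (ha : a ∈ A)
    (hb : b ∈ A) : a * b = b * a := by
  have := hA.is_comm.comm ⟨a, ha⟩ ⟨b, hb⟩
  exact congrArg Subtype.val this

theorem le_centralizer_self_of_comm {A : Subgroup G} (hA : IsMulCommutative A) :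
    A ≤ Subgroup.centralizer (A : Set G) := by
  intro a ha
  rw [Subgroup.mem_centralizer_iff]
  intro b hb
  exact comm_of_isMulCommutative hA hb ha

theorem conjBy_eq_self_of_le_normalizer {A B : Subgroup G} {g : G} (hg : g ∈ A)
    (h : A ≤ Subgroup.normalizer (B : Set G)) : conjBy B g = B :=
  conjBy_eq_self_iff.2 (h hg)

theorem conjBy_eq_self_of_le_centralizer {A B : Subgroup G} {g : G} (hg : g ∈ A)
    (h : A ≤ Subgroup.centralizer (B : Set G)) : conjBy B g = B :=
  conjBy_eq_self_iff.2 (Subgroup.centralizer_le_normalizer _ (h hg))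

theorem le_centralizer_conj {H K : Subgroup G} (g : G)
    (h : H ≤ Subgroup.centralizer (K : Set G)) :
    conjBy H g ≤ Subgroup.centralizer (conjBy K g : Set G) := by
  intro x hx
  rw [mem_conjBy] at hx
  rw [Subgroup.mem_centralizer_iff]
  intro y hy
  have hy' : g⁻¹ * y * g ∈ K := mem_conjBy.1 hy
  have h1 := (Subgroup.mem_centralizer_iff.1 (h hx)) _ hy'
  have h2 := congrArg (fun t => g * t * g⁻¹) h1
  simpa [mul_assoc] using h2

theorem le_centralizer_of_conj {H K : Subgroup G} (g : G)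
    (h : conjBy H g ≤ Subgroup.centralizer (conjBy K g : Set G)) :
    H ≤ Subgroup.centralizer (K : Set G) := by
  have := le_centralizer_conj g⁻¹ h
  simpa [conjBy_conjBy, conjBy_one] using this

theorem le_centralizer_symm {H K : Subgroup G} (h : H ≤ Subgroup.centralizer (K : Set G)) :
    K ≤ Subgroup.centralizer (H : Set G) := Subgroup.le_centralizer_iff.1 h

section RankOne

variable {A B : Subgroup G}

theorem roc_conj (h : RankOneCondition A B) (g : G) : RankOneCondition (conjBy A g) (conjBy B g) := by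
  intro a' ha' ha1'
  rw [mem_conjBy] at ha'
  have ha1 : g⁻¹ * a' * g ≠ 1 := by
    intro hc
    apply ha1'
    have := congrArg (fun t => g * t * g⁻¹) hc
    simpa [mul_assoc] using this
  obtain ⟨b, hb, hb1, hc⟩ := h _ ha' ha1
  refine ⟨g * b * g⁻¹, conj_mem_conjBy hb, ?_, ?_⟩
  · intro hc'
    apply hb1
    have := congrArg (fun t => g⁻¹ * t * g) hc'
    simpa [mul_assoc] using this
  · rw [conjBy_conjBy, conjBy_conjBy]
    have e1 : (g * b * g⁻¹)⁻¹ * g = g * b⁻¹ := by simp [mul_assoc]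
    have e2 : a'⁻¹ * g = g * (g⁻¹ * a' * g)⁻¹ := by simp [mul_assoc]
    rw [e1, e2, ← conjBy_conjBy, ← conjBy_conjBy B, hc]

theorem nilpotent_conjBy (h : Group.IsNilpotent A) (g : G) : Group.IsNilpotent (conjBy A g) := by
  have := h
  exact Group.nilpotent_of_mulEquiv
    (Subgroup.equivMapOfInjective A (MulAut.conj g).toMonoidHom (MulAut.conj g).injective)

theorem rop_conj (h : IsRankOnePair A B) (g : G) : IsRankOnePair (conjBy A g) (conjBy B g) :=
  ⟨fun hc => h.ne (conjBy_inj hc), nilpotent_conjBy h.nilpotent_left g, nilpotent_conjBy h.nilpotent_right g,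
    roc_conj h.cond_left g, roc_conj h.cond_right g⟩

/-- A does not normalize B in a rank one pair -/
theorem rop_not_le_normalizer (h : IsRankOnePair A B) : ¬ A ≤ Subgroup.normalizer (B : Set G) := by
  intro hc
  obtain ⟨a, ha, ha1⟩ := rop_exists_left h
  exact ha1 (rop_norm_left h ha (conjBy_eq_self_of_le_normalizer ha hc))

theorem rop_not_le_centralizer (h : IsRankOnePair A B) : ¬ A ≤ Subgroup.centralizer (B : Set G) :=
  fun hc => rop_not_le_normalizer h (hc.trans (Subgroup.centralizer_le_normalizer _))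

/-- In a rank one pair `(A, B)`, a conjugate of `A` by a nonidentity element of `B` does not commute
with `A`. -/
theorem rop_conj_not_comm (h : IsRankOnePair A B) {b : G} (hb : b ∈ B) (hb1 : b ≠ 1) :
    ¬ conjBy A b ≤ Subgroup.centralizer (A : Set G) := by
  intro hc
  have hb1' : b⁻¹ ≠ 1 := by simpa using hb1
  obtain ⟨a, ha, ha1, hcon⟩ := h.cond_right b⁻¹ (B.inv_mem hb) hb1'
  rw [inv_inv] at hcon
  -- conjBy B a⁻¹ = conjBy A b
  rw [← hcon] at hc
  have h1 : conjBy A a⁻¹ = A := conjBy_mem_self (A.inv_mem ha)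
  rw [← h1] at hc
  have h2 := le_centralizer_of_conj _ hc
  exact rop_not_le_centralizer (RankOnePair_symm h) h2

/-- two distinct unipotent subgroups form a rank one pair generating the same group -/
theorem rop_pair_of_unip (h : IsRankOnePair A B) {C D : Subgroup G} (hC : C ∈ unipotentSubgroups A B)
    (hD : D ∈ unipotentSubgroups A B) (hne : C ≠ D) : IsRankOnePair C D ∧ C ⊔ D = A ⊔ B := by
  obtain ⟨x, hx, hx1, hx2⟩ := rop_to_std h hC hD hne
  rw [conjBy_eq_iff] at hx1 hx2
  rw [hx1, hx2]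
  refine ⟨rop_conj h _, ?_⟩
  rw [← conjBy_sup]
  apply le_antisymm
  · exact conjBy_le_of_mem le_rfl (Subgroup.inv_mem _ hx)
  · intro y hy
    rw [mem_conjBy, inv_inv]
    exact Subgroup.mul_mem _ (Subgroup.mul_mem _ hx hy) (Subgroup.inv_mem _ hx)

theorem unip_symm_le (h : IsRankOnePair A B) : unipotentSubgroups B A ⊆ unipotentSubgroups A B := by
  rintro E ⟨x, hx, rfl⟩
  obtain ⟨y, hy, hy'⟩ := rop_B_mem_unip h
  rw [sup_comm] at hx
  refine ⟨x * y, Subgroup.mul_mem _ hx hy, ?_⟩
  rw [← conjBy_conjBy, ← hy']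

theorem unip_symm (h : IsRankOnePair A B) : unipotentSubgroups B A = unipotentSubgroups A B :=
  Set.Subset.antisymm (unip_symm_le h) (unip_symm_le (RankOnePair_symm h))

end RankOne

section RootSet

variable {S : Set (Subgroup G)}

theorem exists_partner_of_not_isolated {A : Subgroup G} (hAS : A ∈ S)
    (hA : ¬ IsIsolatedIn (FAdj S) S A) : ∃ C ∈ S, IsRankOnePair A C := by
  unfold IsIsolatedIn at hA
  push Not at hA
  obtain ⟨B, hB⟩ := hA hAS
  by_cases h1 : FAdj S A B
  · exact ⟨B, h1.2.1, h1.2.2⟩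
  · have h2 := hB h1
    exact ⟨B, h2.1, RankOnePair_symm h2.2.2⟩

theorem not_isolated_of_partner {A C : Subgroup G} (hAS : A ∈ S) (hCS : C ∈ S) (h : IsRankOnePair A C) :
    ¬ IsIsolatedIn (FAdj S) S A := by
  intro hc
  exact (hc.2 C).1 ⟨hAS, hCS, h⟩

/-- In the commutator case, conjugates of `B` by elements of `A` commute with `B`. -/
theorem commCase_conj_comm {A B : Subgroup G} (hB : IsMulCommutative B) (h : RootCommutatorCase S A B)
    {a : G} (ha : a ∈ A) : conjBy B a ≤ Subgroup.centralizer (B : Set G) := by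
  intro x hx
  rw [mem_conjBy] at hx
  rw [Subgroup.mem_centralizer_iff]
  intro b' hb'
  obtain ⟨y, hy, rfl⟩ : ∃ y ∈ B, x = a * y * a⁻¹ := ⟨_, hx, by simp [mul_assoc]⟩
  have hcomm : ⁅a, y⁆ ∈ ⁅A, B⁆ := Subgroup.commutator_mem_commutator ha hy
  have hx2 : a * y * a⁻¹ = ⁅a, y⁆ * y := by
    rw [commutatorElement_def]; simp [mul_assoc]
  have h1 := h.2.1 _ hcomm b' (Subgroup.mem_sup_right hb')
  have h2 := comm_of_isMulCommutative hB hy hb'
  rw [hx2]
  calc b' * (⁅a, y⁆ * y) = (b' * ⁅a, y⁆) * y := by rw [mul_assoc]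
    _ = (⁅a, y⁆ * b') * y := by rw [h1]
    _ = ⁅a, y⁆ * (b' * y) := by rw [mul_assoc]
    _ = ⁅a, y⁆ * (y * b') := by rw [h2]
    _ = ⁅a, y⁆ * y * b' := by rw [mul_assoc]

theorem commCase_symm {A B : Subgroup G} (h : RootCommutatorCase S A B) : RootCommutatorCase S B A := by
  obtain ⟨h1, h2, h3, h4⟩ := h
  have e : ⁅B, A⁆ = ⁅A, B⁆ := Subgroup.commutator_comm _ _
  have hinv : ∀ (T : Set G) (f g : G → G), (∀ t ∈ T, f t = (g t)⁻¹) →
      Subgroup.closure (f '' T) = Subgroup.closure (g '' T) := by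
    intro T f g hfg
    apply le_antisymm
    · rw [Subgroup.closure_le]
      rintro _ ⟨t, ht, rfl⟩
      rw [hfg t ht]
      exact Subgroup.inv_mem _ (Subgroup.subset_closure ⟨t, ht, rfl⟩)
    · rw [Subgroup.closure_le]
      rintro _ ⟨t, ht, rfl⟩
      have : g t = (f t)⁻¹ := by rw [hfg t ht, inv_inv]
      rw [this]
      exact Subgroup.inv_mem _ (Subgroup.subset_closure ⟨t, ht, rfl⟩)
  refine ⟨e ▸ h1, ?_, ?_, ?_⟩
  · intro c hc x hx
    rw [e] at hc
    rw [sup_comm] at hx
    exact h2 c hc x hx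
  · intro b hb hb1
    rw [e, ← h4 b hb hb1]
    apply hinv
    intro a _
    simp [mul_assoc]
  · intro a ha ha1
    rw [e, ← h3 a ha ha1]
    apply hinv
    intro b _
    simp [mul_assoc]

/-- if a nonidentity element of `A` commutes with `B` then the commutator case fails -/
theorem commCase_not_of_comm (hS : IsRootSubgroupSet S) {A B : Subgroup G} {a : G} (ha : a ∈ A) (ha1 : a ≠ 1)
    (hc : ∀ b ∈ B, a * b = b * a) : ¬ RootCommutatorCase S A B := by
  intro h
  have h1 := h.2.2.1 a ha ha1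
  have h2 : (fun b : G => a * b * a⁻¹ * b⁻¹) '' (B : Set G) ⊆ {1} := by
    rintro _ ⟨b, hb, rfl⟩
    rw [Set.mem_singleton_iff]
    show a * b * a⁻¹ * b⁻¹ = 1
    rw [hc b hb]
    simp
  have h3 : ⁅A, B⁆ = ⊥ := by
    rw [← h1, Subgroup.closure_eq_bot_iff]
    exact h2
  exact hS.ne_bot _ h.1 h3

/-- A member with a rank one partner meets every other member trivially. -/
theorem root_ti (hS : IsRootSubgroupSet S) {A C : Subgroup G} (hAS : A ∈ S) (hCS : C ∈ S)
    (hAC : IsRankOnePair A C) : ∀ B ∈ S, A ⊓ B = ⊥ ∨ A = B := by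
  intro B hBS
  by_contra hcon
  push Not at hcon
  obtain ⟨hne, hAB⟩ := hcon
  obtain ⟨x, hx, hx1⟩ := exists_ne_one_of_ne_bot hne
  obtain ⟨hxA, hxB⟩ := Subgroup.mem_inf.1 hx
  have hCab := hS.commutative C hCS
  have hBab := hS.commutative B hBS
  rcases hS.pair B hBS C hCS with h1 | h1 | h1
  · rw [Subgroup.commutator_eq_bot_iff_le_centralizer] at h1
    exact hx1 (rop_norm_left hAC hxA (conjBy_eq_self_of_le_centralizer hxB h1))
  · rcases hS.pair A hAS B hBS with h2 | h2 | h2
    · rw [Subgroup.commutator_eq_bot_iff_le_centralizer] at h2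
      obtain ⟨c₁, hc₁, hc₁1, e1⟩ := hAC.cond_left x hxA hx1
      obtain ⟨c₂, hc₂, hc₂1, e2⟩ := h1.cond_left x hxB hx1
      have e3 : conjBy B (c₁ * c₂⁻¹) = A := by
        rw [← conjBy_conjBy, e2, ← e1, conjBy_conjBy]; simp [conjBy_one]
      by_cases hc : c₁ * c₂⁻¹ = 1
      · rw [hc, conjBy_one] at e3
        exact hAB e3.symm
      · apply rop_conj_not_comm h1 (C.mul_mem hc₁ (C.inv_mem hc₂)) hc
        rw [e3]; exact h2
    · exact hx1 (rop_norm_left h2 hxA (conjBy_mem_self hxB))
    · exact commCase_not_of_comm hS hxA hx1 (fun b hb => comm_of_isMulCommutative hBab hxB hb) h2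
  · have h2 := commCase_conj_comm hCab h1 hxB
    exact rop_conj_not_comm (RankOnePair_symm hAC) hxA hx1 h2

/-- If `z ≠ 1` centralizes the rank one group `⟨A, B⟩` then `z * a` is not a root element. -/
theorem central_translate_not_root (hS : IsRootSubgroupSet S) {A B : Subgroup G} (hA : A ∈ S)
    (hBS : B ∈ S) (hAB : IsRankOnePair A B) {z : G}
    (hz : z ∈ Subgroup.centralizer ((A ⊔ B : Subgroup G) : Set G)) (hz1 : z ≠ 1) :
    ∀ a ∈ A, a ≠ 1 → z * a ∉ rootElements S := by
  rintro a ha ha1 ⟨hw1, C, hCS, hwC⟩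
  have hzc : ∀ x ∈ A ⊔ B, x * z = z * x := fun x hx => (Subgroup.mem_centralizer_iff.1 hz) x hx
  have hzA : ∀ x ∈ A, x * z = z * x := fun x hx => hzc x (Subgroup.mem_sup_left hx)
  have hzB : ∀ x ∈ B, x * z = z * x := fun x hx => hzc x (Subgroup.mem_sup_right hx)
  have hBz : conjBy B z = B := by
    apply conjBy_eq_self_iff.2
    apply Subgroup.centralizer_le_normalizer
    rw [Subgroup.mem_centralizer_iff]
    exact hzB
  have hBz' : conjBy B z⁻¹ = B := by
    exact ((conjBy_eq_iff (A := B) (B := B) (g := z)).1 hBz).symm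
  have hAab := hS.commutative A hA
  have hBab := hS.commutative B hBS
  -- C ≠ A
  have hCA : C ≠ A := by
    intro hc
    rw [hc] at hwC
    have hzA' : z ∈ A := by
      have := A.mul_mem hwC (A.inv_mem ha)
      simpa using this
    exact hz1 (rop_norm_left hAB hzA' hBz)
  -- w commutes with A
  have hwA : ∀ x ∈ A, z * a * x = x * (z * a) := by
    intro x hx
    rw [mul_assoc, comm_of_isMulCommutative hAab ha hx, ← mul_assoc, ← hzA x hx, mul_assoc]
  have hCcA : C ≤ Subgroup.centralizer (A : Set G) := by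
    rcases hS.pair C hCS A hA with h1 | h1 | h1
    · exact Subgroup.commutator_eq_bot_iff_le_centralizer.1 h1
    · exfalso
      apply hw1
      apply rop_norm_left h1 hwC
      apply conjBy_eq_self_iff.2
      apply Subgroup.centralizer_le_normalizer
      rw [Subgroup.mem_centralizer_iff]
      intro x hx
      exact (hwA x hx).symm
    · exact absurd h1 (commCase_not_of_comm hS hwC hw1 hwA)
  rcases hS.pair C hCS B hBS with h1 | h1 | h1
  · rw [Subgroup.commutator_eq_bot_iff_le_centralizer] at h1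
    have hwB := Subgroup.mem_centralizer_iff.1 (h1 hwC)
    apply ha1
    apply rop_norm_left hAB ha
    apply conjBy_eq_self_iff.2
    apply Subgroup.centralizer_le_normalizer
    rw [Subgroup.mem_centralizer_iff]
    intro x hx
    have e1 := hwB x hx
    have e2 := hzB x hx
    -- x * (z * a) = z * a * x, x * z = z * x
    have : z * (x * a) = z * (a * x) := by
      rw [← mul_assoc, ← e2, mul_assoc, e1, mul_assoc]
    exact mul_left_cancel this
  · obtain ⟨b', hb', hb'1, e1⟩ := h1.cond_left _ hwC hw1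
    obtain ⟨b, hb, hb1, e2⟩ := hAB.cond_left a ha ha1
    have e3 : conjBy B (z * a)⁻¹ = conjBy B a⁻¹ := by
      rw [mul_inv_rev, ← conjBy_conjBy, hBz']
    rw [e3, ← e2] at e1
    have e4 : conjBy A (b' * b⁻¹) = C := by
      rw [← conjBy_conjBy, ← e1, conjBy_conjBy]; simp [conjBy_one]
    by_cases hbb : b' * b⁻¹ = 1
    · rw [hbb, conjBy_one] at e4
      exact hCA e4.symm
    · apply rop_conj_not_comm hAB (B.mul_mem hb' (B.inv_mem hb)) hbb
      rw [e4]; exact hCcA
  · have h2 := commCase_conj_comm hBab h1 hwC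
    have e3 : conjBy B (z * a) = conjBy B a := by
      have : z * a = a * z := (hzA a ha).symm
      rw [this, ← conjBy_conjBy, hBz]
    rw [e3] at h2
    exact rop_conj_not_comm (RankOnePair_symm hAB) ha ha1 h2

theorem le_normalizer_of_forall_conjBy {A C : Subgroup G} (h : ∀ a ∈ A, conjBy C a = C) :
    A ≤ Subgroup.normalizer (C : Set G) := fun a ha => conjBy_eq_self_iff.1 (h a ha)

/-- If `A` (with partner `B`) lies in the rank one group `⟨C, D⟩` and does not centralize `C`,
then `A` is a unipotent subgroup of `⟨C, D⟩`. -/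
theorem mem_unip_of_not_comm (hS : IsRootSubgroupSet S) {A C D : Subgroup G} (hAS : A ∈ S)
    (hCS : C ∈ S) (hDS : D ∈ S) (hCD : IsRankOnePair C D) (hle : A ≤ C ⊔ D)
    (hnc : ¬ A ≤ Subgroup.centralizer (C : Set G)) : A ∈ unipotentSubgroups C D := by
  rcases hS.pair A hAS C hCS with h | h | h
  · exact absurd (Subgroup.commutator_eq_bot_iff_le_centralizer.1 h) hnc
  · obtain ⟨a, ha, ha1⟩ := rop_exists_left h
    obtain ⟨c, hc, hc1, e⟩ := h.cond_left a ha ha1
    refine ⟨c * a⁻¹, Subgroup.mul_mem _ (Subgroup.mem_sup_left hc) (Subgroup.inv_mem _ (hle ha)), ?_⟩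
    rw [← conjBy_conjBy, ← e, conjBy_conjBy]; simp [conjBy_one]
  · exfalso
    have hCab := hS.commutative C hCS
    have hnorm : ∀ a ∈ A, conjBy C a = C := by
      intro a ha
      by_contra hne
      have hmem : conjBy C a ∈ unipotentSubgroups C D := ⟨a, hle ha, rfl⟩
      have := (rop_pair_of_unip hCD hmem (rop_A_mem_unip C D) hne).1
      exact rop_not_le_centralizer this (commCase_conj_comm hCab h ha)
    have hF : ⁅A, C⁆ ≤ C := by
      rw [Subgroup.commutator_le]
      intro a ha c hc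
      rw [commutatorElement_def]
      have h1 : a * c * a⁻¹ ∈ conjBy C a := conj_mem_conjBy hc
      rw [hnorm a ha] at h1
      exact C.mul_mem h1 (C.inv_mem hc)
    rcases root_ti hS hCS hDS hCD _ h.1 with h1 | h1
    · apply hS.ne_bot _ h.1
      rw [← h1]
      exact (inf_eq_right.2 hF).symm
    · apply hnc
      intro a ha
      rw [Subgroup.mem_centralizer_iff]
      intro c hc
      rw [h1] at hc
      exact h.2.1 c hc a (Subgroup.mem_sup_left ha)

theorem mem_unip_of_le (hS : IsRootSubgroupSet S) {A B C D : Subgroup G} (hAS : A ∈ S) (_hBS : B ∈ S)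
    (hCS : C ∈ S) (hDS : D ∈ S) (hAB : IsRankOnePair A B) (hCD : IsRankOnePair C D)
    (hle : A ⊔ B ≤ C ⊔ D) : A ∈ unipotentSubgroups C D := by
  by_cases h1 : A ≤ Subgroup.centralizer (C : Set G)
  · by_cases h2 : A ≤ Subgroup.centralizer (D : Set G)
    · exfalso
      have h3 : C ⊔ D ≤ Subgroup.centralizer (A : Set G) :=
        sup_le (le_centralizer_symm h1) (le_centralizer_symm h2)
      have h4 : B ≤ Subgroup.centralizer (A : Set G) := (le_sup_right.trans hle).trans h3
      exact rop_not_le_centralizer (RankOnePair_symm hAB) h4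
    · rw [← unip_symm hCD]
      apply mem_unip_of_not_comm hS hAS hDS hCS (RankOnePair_symm hCD) _ h2
      rw [sup_comm]; exact le_sup_left.trans hle
  · exact mem_unip_of_not_comm hS hAS hCS hDS hCD (le_sup_left.trans hle) h1

theorem rank_one_containment (hS : IsRootSubgroupSet S) {A B C D : Subgroup G} (hAS : A ∈ S) (hBS : B ∈ S)
    (hCS : C ∈ S) (hDS : D ∈ S) (hAB : IsRankOnePair A B) (hCD : IsRankOnePair C D)
    (hle : A ⊔ B ≤ C ⊔ D) :
    A ⊔ B = C ⊔ D ∧ C ∈ unipotentSubgroups A B ∧ D ∈ unipotentSubgroups A B := by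
  have hA := mem_unip_of_le hS hAS hBS hCS hDS hAB hCD hle
  have hB := mem_unip_of_le hS hBS hAS hCS hDS (RankOnePair_symm hAB) hCD (by rw [sup_comm]; exact hle)
  have heq := (rop_pair_of_unip hCD hA hB hAB.ne).2
  refine ⟨heq, ?_, ?_⟩
  · obtain ⟨x, hx, hx'⟩ := hA
    refine ⟨x⁻¹, by rw [heq]; exact Subgroup.inv_mem _ hx, ?_⟩
    rw [hx', conjBy_conjBy]; simp [conjBy_one]
  · obtain ⟨x, hx, hx'⟩ := hA
    obtain ⟨y, hy, hy'⟩ := rop_B_mem_unip hCD
    refine ⟨y * x⁻¹, by rw [heq]; exact Subgroup.mul_mem _ hy (Subgroup.inv_mem _ hx), ?_⟩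
    rw [hx', conjBy_conjBy, hy']; simp [mul_assoc]

end RootSet

end Cfsg.Agent.Lib.Helper83
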