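import Mathlib
import Cfsg.Prelude.Def_RootSubgroups
import Cfsg.Agent.Lib.Helper83.RankOne
import Cfsg.Agent.Lib.Helper83.RankOne2
import Cfsg.Agent.Lib.Helper83.RootSub

set_option autoImplicit false

namespace Cfsg.Agent.Lib.Helper83

open Cfsg

section RingCore

theorem ring_core_left {R : Type*} [Ring R] (α β β' : R) (hα : α*α = 0)
    (P : α*β*α*β = α*β)
    (hE : α + α*β - β*α - β*α*β = β' + β'*α - α*β' - α*β'*α) : α*(β+β') = 0 := by
  have h1 : α*(β+β')*(1+α) = -(α*β*α*β - α*β) - α*((α + α*β - β*α - β*α*β) - (β' + β'*α - α*β' - α*β'*α))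
      + (α*α)*(1 + β + β' + β'*α) := by noncomm_ring
  rw [hE, P, hα] at h1
  simp only [sub_self, mul_zero, zero_mul, neg_zero, add_zero] at h1
  have h2 : α*(β+β') = α*(β+β')*(1+α)*(1-α) + α*(β+β')*(α*α) := by noncomm_ring
  rw [h1, hα] at h2
  simpa using h2

theorem ring_core_right {R : Type*} [Ring R] (α β β' : R) (hα : α*α = 0)
    (P' : β*α*β*α = β*α)
    (hE : α + α*β - β*α - β*α*β = β' + β'*α - α*β' - α*β'*α) : (β+β')*α = 0 := by
  have h1 : (1-α)*((β+β')*α) = -(β*α*β*α - β*α) - ((α + α*β - β*α - β*α*β) - (β' + β'*α - α*β' - α*β'*α))*α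
      + (1 - β - β' + α*β')*(α*α) := by noncomm_ring
  rw [hE, P', hα] at h1
  simp only [sub_self, mul_zero, zero_mul, neg_zero, add_zero] at h1
  have h2 : (β+β')*α = (1+α)*((1-α)*((β+β')*α)) + (α*α)*((β+β')*α) := by noncomm_ring
  rw [h1, hα] at h2
  simpa using h2

end RingCore

section Quad

variable {X : Type*} [Group X] {R : Type*} [Ring R]

/-- `A` acts quadratically through the representation `ρ`. -/
def QuadOn (ρ : X →* R) (A : Subgroup X) : Prop :=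
  ∀ a ∈ A, ∀ a' ∈ A, (ρ a' - 1) * (ρ a - 1) = 0

theorem rho_mul_inv (ρ : X →* R) (x : X) : ρ x * ρ x⁻¹ = 1 := by
  rw [← map_mul, mul_inv_cancel, map_one]

theorem rho_inv_mul (ρ : X →* R) (x : X) : ρ x⁻¹ * ρ x = 1 := by
  rw [← map_mul, inv_mul_cancel, map_one]

theorem rho_conj_sub_one (ρ : X →* R) (x a : X) :
    ρ (x * a * x⁻¹) - 1 = ρ x * (ρ a - 1) * ρ x⁻¹ := by
  rw [map_mul, map_mul, mul_sub, sub_mul, mul_one, rho_mul_inv]

theorem rho_conj_sub_one' (ρ : X →* R) (x a : X) :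
    ρ (x⁻¹ * a * x) - 1 = ρ x⁻¹ * (ρ a - 1) * ρ x := by
  rw [map_mul, map_mul, mul_sub, sub_mul, mul_one, rho_inv_mul]

theorem rho_inv_of_sq_zero (ρ : X →* R) (x : X) (h : (ρ x - 1) * (ρ x - 1) = 0) :
    ρ x⁻¹ = 1 - (ρ x - 1) := by
  have h1 : ρ x * (1 - (ρ x - 1)) = 1 - (ρ x - 1) * (ρ x - 1) := by noncomm_ring
  rw [h, sub_zero] at h1
  calc ρ x⁻¹ = ρ x⁻¹ * (ρ x * (1 - (ρ x - 1))) := by rw [h1, mul_one]
    _ = (ρ x⁻¹ * ρ x) * (1 - (ρ x - 1)) := by rw [mul_assoc]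
    _ = 1 - (ρ x - 1) := by rw [rho_inv_mul, one_mul]

theorem quadOn_conj {ρ : X →* R} {A : Subgroup X} (h : QuadOn ρ A) (x : X) :
    QuadOn ρ (conjBy A x) := by
  intro a ha a' ha'
  rw [mem_conjBy] at ha ha'
  have e1 : a = x * (x⁻¹ * a * x) * x⁻¹ := by group
  have e2 : a' = x * (x⁻¹ * a' * x) * x⁻¹ := by group
  have h0 := h _ ha _ ha'
  have h1 := rho_conj_sub_one ρ x (x⁻¹ * a * x)
  have h2 := rho_conj_sub_one ρ x (x⁻¹ * a' * x)
  rw [← e1] at h1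
  rw [← e2] at h2
  rw [h1, h2]
  calc ρ x * (ρ (x⁻¹ * a' * x) - 1) * ρ x⁻¹ * (ρ x * (ρ (x⁻¹ * a * x) - 1) * ρ x⁻¹)
      = ρ x * ((ρ (x⁻¹ * a' * x) - 1) * (ρ x⁻¹ * ρ x) * (ρ (x⁻¹ * a * x) - 1)) * ρ x⁻¹ := by
        noncomm_ring
    _ = 0 := by rw [rho_inv_mul, mul_one, h0, mul_zero, zero_mul]

/-- The key computation: if `b⁻¹ a b = a⁻¹ b' a` inside the quadratic group `A^b = B^a`, then `b b'` commutes with
`a` under `ρ`. -/
theorem quad_key {ρ : X →* R} {A B : Subgroup X} (hA : QuadOn ρ A) (hB : QuadOn ρ B)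
    {a b b' : X} (ha : a ∈ A) (hb : b ∈ B) (hb' : b' ∈ B) (hconj : conjBy A b⁻¹ = conjBy B a⁻¹)
    (hE : b⁻¹ * a * b = a⁻¹ * b' * a) :
    (ρ a - 1) * (ρ (b * b') - 1) = 0 ∧ (ρ (b * b') - 1) * (ρ a - 1) = 0 := by
  have hαα : (ρ a - 1) * (ρ a - 1) = 0 := hA a ha a ha
  have hββ : (ρ b - 1) * (ρ b - 1) = 0 := hB b hb b hb
  have hββ' : (ρ b - 1) * (ρ b' - 1) = 0 := hB b' hb' b hb
  have hβ'β' : (ρ b' - 1) * (ρ b' - 1) = 0 := hB b' hb' b' hb'
  have hai := rho_inv_of_sq_zero ρ a hαα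
  have hbi := rho_inv_of_sq_zero ρ b hββ
  have hD : QuadOn ρ (conjBy A b⁻¹) := quadOn_conj hA b⁻¹
  have hc1 : b⁻¹ * a * b ∈ conjBy A b⁻¹ := by
    have := conj_mem_conjBy (g := b⁻¹) ha
    simpa using this
  have hc2 : a⁻¹ * b * a ∈ conjBy A b⁻¹ := by
    rw [hconj]
    have := conj_mem_conjBy (g := a⁻¹) hb
    simpa using this
  have hZ1 := hD _ hc2 _ hc1
  have hZ2 := hD _ hc1 _ hc2
  rw [rho_conj_sub_one', rho_conj_sub_one'] at hZ1 hZ2
  have ha1 : ρ a = 1 + (ρ a - 1) := by abel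
  have hb1 : ρ b = 1 + (ρ b - 1) := by abel
  have hb'1 : ρ b' = 1 + (ρ b' - 1) := by abel
  generalize ρ a - 1 = α at *
  generalize ρ b - 1 = β at *
  generalize ρ b' - 1 = β' at *
  -- P
  have hW1 : α * ρ b * ρ a⁻¹ * β = 0 := by
    have : α * ρ b * ρ a⁻¹ * β = ρ b * (ρ b⁻¹ * α * ρ b * (ρ a⁻¹ * β * ρ a)) * ρ a⁻¹ := by
      calc α * ρ b * ρ a⁻¹ * β = (1:R) * α * ρ b * ρ a⁻¹ * β * 1 := by noncomm_ring
        _ = (ρ b * ρ b⁻¹) * α * ρ b * ρ a⁻¹ * β * (ρ a * ρ a⁻¹) := by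
            rw [rho_mul_inv, rho_mul_inv]
        _ = _ := by noncomm_ring
    rw [this, hZ1, mul_zero, zero_mul]
  have hW2 : β * ρ a * ρ b⁻¹ * α = 0 := by
    have : β * ρ a * ρ b⁻¹ * α = ρ a * (ρ a⁻¹ * β * ρ a * (ρ b⁻¹ * α * ρ b)) * ρ b⁻¹ := by
      calc β * ρ a * ρ b⁻¹ * α = (1:R) * β * ρ a * ρ b⁻¹ * α * 1 := by noncomm_ring
        _ = (ρ a * ρ a⁻¹) * β * ρ a * ρ b⁻¹ * α * (ρ b * ρ b⁻¹) := by
            rw [rho_mul_inv, rho_mul_inv]
        _ = _ := by noncomm_ring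
    rw [this, hZ2, mul_zero, zero_mul]
  rw [hb1, hai] at hW1
  rw [ha1, hbi] at hW2
  have P : α * β * α * β = α * β := by
    have : α*β*α*β = α*β - (α*α)*β + α*(β*β) - α*(1+β)*(1-α)*β := by noncomm_ring
    rw [this, hW1, hαα, hββ]; simp
  have P' : β * α * β * α = β * α := by
    have : β*α*β*α = β*α - (β*β)*α + β*(α*α) - β*(1+α)*(1-β)*α := by noncomm_ring
    rw [this, hW2, hαα, hββ]; simp
  -- E
  have hE1 := congrArg ρ hE
  simp only [map_mul] at hE1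
  rw [hbi, hai, ha1, hb1, hb'1] at hE1
  have hE2 : α + α*β - β*α - β*α*β = β' + β'*α - α*β' - α*β'*α := by
    have e1 : α + α*β - β*α - β*α*β = (1-β)*(1+α)*(1+β) - 1 + β*β := by noncomm_ring
    have e2 : β' + β'*α - α*β' - α*β'*α = (1-α)*(1+β')*(1+α) - 1 + α*α := by noncomm_ring
    rw [e1, e2, hE1, hαα, hββ]
  have hbb' : ρ (b * b') - 1 = β + β' := by
    rw [map_mul, hb1, hb'1]
    have : (1 + β) * (1 + β') - 1 = β + β' + β * β' := by noncomm_ring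
    rw [this, hββ', add_zero]
  rw [hbb']
  exact ⟨ring_core_left α β β' hαα P hE2, ring_core_right α β β' hαα P' hE2⟩

end Quad

end Cfsg.Agent.Lib.Helper83

namespace Cfsg.Agent.Lib.Helper83

open Cfsg

section QuadGroup

variable {X : Type*} [Group X] {A B : Subgroup X}

/-- an element of `B` whose commutator with a non-identity `a ∈ A` is central must be trivial -/
theorem rop_comm_central_eq_one (h : IsRankOnePair A B) {a b₀ : X} (ha : a ∈ A) (ha1 : a ≠ 1)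
    (hb₀ : b₀ ∈ B) {z : X} (hz : ∀ x : X, z * x = x * z) (hcomm : b₀ * a * b₀⁻¹ = z * a) : b₀ = 1 := by
  by_contra hne
  have hA1ne : conjBy A b₀ ≠ A := fun hc => hne (rop_norm_right h hb₀ hc)
  have hA1 : conjBy A b₀ ∈ unipotentSubgroups A B :=
    unip_conj (rop_A_mem_unip A B) (Subgroup.mem_sup_right hb₀)
  obtain ⟨hp, -⟩ := rop_pair_of_unip h hA1 (rop_A_mem_unip A B) hA1ne
  have hw : z * a ∈ conjBy A b₀ := by
    rw [← hcomm]; exact conj_mem_conjBy ha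
  have hn : conjBy A (z * a) = A := by
    rw [← conjBy_conjBy, conjBy_mem_self ha]
    ext y
    rw [mem_conjBy]
    have : z⁻¹ * y * z = y := by
      rw [mul_assoc, ← hz y, ← mul_assoc, inv_mul_cancel, one_mul]
    rw [this]
  have h1 := rop_norm_left hp hw hn
  -- a = z⁻¹ is central, contradiction
  have hzc : conjBy B a = B := by
    have ha' : a = z⁻¹ := by
      have := congrArg (z⁻¹ * ·) h1
      simpa using this
    ext y
    rw [mem_conjBy, ha', inv_inv]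
    have : z * y * z⁻¹ = y := by
      rw [hz y, mul_assoc, mul_inv_cancel, mul_one]
    rw [this]
  exact ha1 (rop_norm_left h ha hzc)

end QuadGroup

section QuadSpecial

variable {X : Type*} [Group X] {A B : Subgroup X} {R : Type*} [Ring R]

/-- Timmesfeld I(3.2) in ring-representation form. -/
theorem special_of_quadOn (h : IsRankOneGroup X A B) (ρ : X →* R) (hA : QuadOn ρ A)
    (hX : ∃ x y : X, (ρ y - 1) * (ρ x - 1) ≠ 0) : IsSpecialRankOnePair A B := by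
  obtain ⟨htop, hr⟩ := h
  have hB : QuadOn ρ B := by
    obtain ⟨x, -, hx⟩ := rop_B_mem_unip hr
    rw [hx]; exact quadOn_conj hA x
  have hK : ρ.ker ≤ Subgroup.center X := by
    rcases rog_normal_dichotomy ⟨htop, hr⟩ ρ.ker (MonoidHom.normal_ker ρ) with h1 | h1
    · exfalso
      obtain ⟨x, y, hxy⟩ := hX
      have hdecomp : ∀ x : X, ∃ a ∈ A, ρ x = ρ a := by
        intro x
        have hx : x ∈ (↑(ρ.ker ⊔ A) : Set X) := by rw [h1]; trivial
        rw [Subgroup.normal_mul] at hx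
        obtain ⟨k, hk, a, ha, rfl⟩ := hx
        refine ⟨a, ha, ?_⟩
        rw [map_mul, MonoidHom.mem_ker.1 hk, one_mul]
      obtain ⟨a, ha, hxa⟩ := hdecomp x
      obtain ⟨a', ha', hya⟩ := hdecomp y
      apply hxy
      rw [hxa, hya]
      exact hA a ha a' ha'
    · exact h1
  refine ⟨hr, ?_⟩
  intro a ha ha1 b hb hb1 hconj
  have hc : b⁻¹ * a * b ∈ conjBy B a⁻¹ := by
    rw [← hconj]
    have := conj_mem_conjBy (g := b⁻¹) ha
    simpa using this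
  rw [mem_conjBy, inv_inv] at hc
  set b' := a * (b⁻¹ * a * b) * a⁻¹ with hb'def
  have hE : b⁻¹ * a * b = a⁻¹ * b' * a := by rw [hb'def]; group
  obtain ⟨k1, k2⟩ := quad_key hA hB ha hb hc hconj hE
  have hcomm : ρ (b * b') * ρ a = ρ a * ρ (b * b') := by
    have e1 : ρ (b * b') * ρ a = (ρ (b * b') - 1) * (ρ a - 1) + ρ (b * b') + ρ a - 1 := by noncomm_ring
    have e2 : ρ a * ρ (b * b') = (ρ a - 1) * (ρ (b * b') - 1) + ρ (b * b') + ρ a - 1 := by noncomm_ring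
    rw [e1, e2, k1, k2]
  have hker : (b * b') * a * (b * b')⁻¹ * a⁻¹ ∈ ρ.ker := by
    rw [MonoidHom.mem_ker, map_mul, map_mul, map_mul, hcomm, mul_assoc (ρ a), rho_mul_inv, mul_one,
      rho_mul_inv]
  have hz := hK hker
  rw [Subgroup.mem_center_iff] at hz
  have hb0 : b * b' = 1 := by
    apply rop_comm_central_eq_one hr ha ha1 (B.mul_mem hb hc) (z := (b * b') * a * (b * b')⁻¹ * a⁻¹)
    · intro x; exact (hz x).symm
    · group
  have hb'eq : b' = b⁻¹ := eq_inv_of_mul_eq_one_right hb0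
  rw [hE, hb'eq]

end QuadSpecial

end Cfsg.Agent.Lib.Helper83
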