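import Mathlib
import Cfsg.Prelude.Def_RootSubgroups
import Cfsg.Agent.Lib.Helper83.QuadMod

set_option autoImplicit false

namespace Cfsg.Agent.Lib.Helper83

open Cfsg

section AutRep

variable {Y M : Type*} [Group Y] [CommGroup M]

/-- a group acting by automorphisms on an abelian group, as a ring representation -/
def autRep (φ : Y →* MulAut M) : Y →* AddMonoid.End (Additive M) where
  toFun y := MonoidHom.toAdditive (φ y).toMonoidHom
  map_one' := by
    ext m
    rw [map_one]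
    rfl
  map_mul' := by
    intro x y
    ext m
    rw [map_mul]
    rfl

theorem autRep_apply (φ : Y →* MulAut M) (y : Y) (m : M) :
    autRep φ y (Additive.ofMul m) = Additive.ofMul (φ y m) := rfl

theorem autRep_sub_one_apply (φ : Y →* MulAut M) (y : Y) (m : M) :
    (autRep φ y - 1) (Additive.ofMul m) = Additive.ofMul (φ y m / m) := by
  show autRep φ y (Additive.ofMul m) - (1 : AddMonoid.End (Additive M)) (Additive.ofMul m) = _
  rfl

theorem autRep_quad_iff (φ : Y →* MulAut M) (y₁ y₂ : Y) :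
    (autRep φ y₁ - 1) * (autRep φ y₂ - 1) = 0 ↔ ∀ m : M, φ y₁ (φ y₂ m / m) = φ y₂ m / m := by
  constructor
  · intro h m
    have := congrArg (fun f : AddMonoid.End (Additive M) => f (Additive.ofMul m)) h
    simp only [AddMonoid.End.coe_mul, Function.comp_apply, autRep_sub_one_apply] at this
    have h2 : φ y₁ (φ y₂ m / m) / (φ y₂ m / m) = 1 := by
      have := congrArg Additive.toMul this
      simpa using this
    exact div_eq_one.1 h2
  · intro h
    ext m'
    obtain ⟨m, rfl⟩ : ∃ m : M, Additive.ofMul m = m' := ⟨Additive.toMul m', rfl⟩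
    rw [AddMonoid.End.coe_mul, Function.comp_apply, autRep_sub_one_apply, autRep_sub_one_apply, h m,
      div_self']
    rfl

end AutRep


section Transfer

variable {G : Type*} [Group G]

theorem mem_conjBy_subgroupOf {Y A : Subgroup G} {g y : Y} :
    y ∈ conjBy (A.subgroupOf Y) g ↔ (y : G) ∈ conjBy A (g : G) := by
  rw [mem_conjBy, mem_conjBy, Subgroup.mem_subgroupOf]
  rfl

theorem conjBy_subgroupOf_eq {Y A B : Subgroup G} {g h : Y}
    (e : conjBy A (g : G) = conjBy B (h : G)) :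
    conjBy (A.subgroupOf Y) g = conjBy (B.subgroupOf Y) h := by
  ext y
  rw [mem_conjBy_subgroupOf, mem_conjBy_subgroupOf, e]

/-- a rank one pair gives a rank one group on the subgroup it generates -/
theorem rankOneGroup_of_pair {A B : Subgroup G} (h : IsRankOnePair A B) :
    IsRankOneGroup ↥(A ⊔ B) (A.subgroupOf (A ⊔ B)) (B.subgroupOf (A ⊔ B)) := by
  refine ⟨?_, ?_, ?_, ?_, ?_, ?_⟩
  · rw [← Subgroup.subgroupOf_sup le_sup_left le_sup_right, Subgroup.subgroupOf_self]
  · intro hcon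
    rw [Subgroup.subgroupOf_inj, inf_eq_left.2 le_sup_left, inf_eq_left.2 le_sup_right] at hcon
    exact h.ne hcon
  · have := h.nilpotent_left
    exact Group.nilpotent_of_mulEquiv (Subgroup.subgroupOfEquivOfLe (le_sup_left : A ≤ A ⊔ B)).symm
  · have := h.nilpotent_right
    exact Group.nilpotent_of_mulEquiv (Subgroup.subgroupOfEquivOfLe (le_sup_right : B ≤ A ⊔ B)).symm
  · intro a ha ha1
    rw [Subgroup.mem_subgroupOf] at ha
    have ha1' : (a : G) ≠ 1 := fun hc => ha1 (Subtype.ext hc)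
    obtain ⟨b, hb, hb1, e⟩ := h.cond_left a ha ha1'
    refine ⟨⟨b, Subgroup.mem_sup_right hb⟩, by rw [Subgroup.mem_subgroupOf]; exact hb, ?_, ?_⟩
    · intro hc; exact hb1 (congrArg Subtype.val hc)
    · exact conjBy_subgroupOf_eq (g := (⟨b, Subgroup.mem_sup_right hb⟩ : ↥(A ⊔ B))⁻¹) (h := a⁻¹) e
  · intro b hb hb1
    rw [Subgroup.mem_subgroupOf] at hb
    have hb1' : (b : G) ≠ 1 := fun hc => hb1 (Subtype.ext hc)
    obtain ⟨a, ha, ha1, e⟩ := h.cond_right b hb hb1'
    refine ⟨⟨a, Subgroup.mem_sup_left ha⟩, by rw [Subgroup.mem_subgroupOf]; exact ha, ?_, ?_⟩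
    · intro hc; exact ha1 (congrArg Subtype.val hc)
    · exact conjBy_subgroupOf_eq (g := (⟨a, Subgroup.mem_sup_left ha⟩ : ↥(A ⊔ B))⁻¹) (h := b⁻¹) e

theorem special_of_subtype {A B : Subgroup G} (h : IsRankOnePair A B)
    (hs : IsSpecialRankOnePair (A.subgroupOf (A ⊔ B)) (B.subgroupOf (A ⊔ B))) :
    IsSpecialRankOnePair A B := by
  refine ⟨h, ?_⟩
  intro a ha ha1 b hb hb1 e
  have := hs.2 ⟨a, Subgroup.mem_sup_left ha⟩ (by rw [Subgroup.mem_subgroupOf]; exact ha)
    (fun hc => ha1 (congrArg Subtype.val hc)) ⟨b, Subgroup.mem_sup_right hb⟩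
    (by rw [Subgroup.mem_subgroupOf]; exact hb) (fun hc => hb1 (congrArg Subtype.val hc))
    (conjBy_subgroupOf_eq (g := (⟨b, Subgroup.mem_sup_right hb⟩ : ↥(A ⊔ B))⁻¹)
      (h := (⟨a, Subgroup.mem_sup_left ha⟩ : ↥(A ⊔ B))⁻¹) e)
  exact congrArg Subtype.val this

end Transfer


section Module

variable {G : Type*} [Group G]

/-- the commutative group structure on a commutative subgroup -/
@[reducible] def commGroupOfComm (N : Subgroup G) (h : ∀ x ∈ N, ∀ y ∈ N, x * y = y * x) : CommGroup N :=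
  { (inferInstance : Group N) with mul_comm := fun ⟨x, hx⟩ ⟨y, hy⟩ => Subtype.ext (h x hx y hy) }

/-- A rank one pair acting by conjugation on a normalized abelian subgroup `N` with `A` quadratic and
`⟨A, D⟩` not quadratic is special. -/
theorem special_of_module {A D N : Subgroup G} (hAD : IsRankOnePair A D)
    (hNab : ∀ x ∈ N, ∀ y ∈ N, x * y = y * x) (hnorm : A ⊔ D ≤ Subgroup.normalizer (N : Set G))
    (hquad : ∀ a ∈ A, ∀ a' ∈ A, ∀ n ∈ N, a' * (a * n * a⁻¹ * n⁻¹) * a'⁻¹ = a * n * a⁻¹ * n⁻¹)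
    (hnq : ∃ x ∈ A ⊔ D, ∃ y ∈ A ⊔ D, ∃ n ∈ N, y * (x * n * x⁻¹ * n⁻¹) * y⁻¹ ≠ x * n * x⁻¹ * n⁻¹) :
    IsSpecialRankOnePair A D := by
  letI : CommGroup ↥N := commGroupOfComm N hNab
  let φ : ↥(A ⊔ D) →* MulAut ↥N := N.normalizerMonoidHom.comp (Subgroup.inclusion hnorm)
  have hφ : ∀ (y : ↥(A ⊔ D)) (n : ↥N), ((φ y n : ↥N) : G) = (y : G) * (n : G) * (y : G)⁻¹ := by
    intro y n
    rfl
  have hdiv : ∀ (y : ↥(A ⊔ D)) (n : ↥N),
      ((φ y n / n : ↥N) : G) = (y : G) * (n : G) * (y : G)⁻¹ * (n : G)⁻¹ := by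
    intro y n
    rw [div_eq_mul_inv]
    rfl
  apply special_of_subtype hAD
  apply special_of_quadOn (rankOneGroup_of_pair hAD) (autRep φ)
  · intro a ha a' ha'
    rw [Subgroup.mem_subgroupOf] at ha ha'
    rw [autRep_quad_iff]
    intro m
    apply Subtype.ext
    rw [hφ, hdiv]
    exact hquad _ ha _ ha' _ m.2
  · obtain ⟨x, hx, y, hy, n, hn, hne⟩ := hnq
    refine ⟨⟨x, hx⟩, ⟨y, hy⟩, ?_⟩
    rw [Ne, autRep_quad_iff]
    intro h
    apply hne
    have := congrArg Subtype.val (h ⟨n, hn⟩)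
    rw [hφ, hdiv] at this
    exact this

end Module

end Cfsg.Agent.Lib.Helper83
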