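import Cfsg.Agent.Lib.Helper83.EzDefs

set_option autoImplicit false

namespace Cfsg.Agent.Lib.Helper83.Ez

open Cfsg Cfsg.Lie Cfsg.Agent.Lib.Helper36 Cfsg.Agent.Lib.Helper18

theorem card_ker_pi {D : ChevalleyDatum} {hD : D ∈ [chevG2, chevB2, chevD4, chevF4, chevE6, chevE7, chevE8]}
    {F : Type*} [Field F] {Γ : Type*} [Group Γ] (S : StSys D hD F Γ) (hmul : R3Simple S)
    (hinj : Function.Injective (torusLift S hmul)) :
    Nat.card S.π.ker = Nat.card (monoMap (C := Fˣ) (cartanMat D)).ker := by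
  have hk : S.π.ker = (torusHom D F).ker.map (torusLift S hmul) := by
    ext z
    constructor
    · intro hz
      rw [MonoidHom.mem_ker] at hz
      obtain ⟨t, rfl⟩ := Hb_le_range S hmul (ker_le_Hb S z hz)
      rw [π_torusLift] at hz
      exact ⟨t, hz, rfl⟩
    · rintro ⟨t, ht, rfl⟩
      rw [MonoidHom.mem_ker, π_torusLift]
      exact ht
  rw [hk, ← torusHom_ker D hD F]
  exact Nat.card_congr ((torusHom D F).ker.equivMapOfInjective (torusLift S hmul) hinj).symm.toEquiv

end Cfsg.Agent.Lib.Helper83.Ez
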