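import Cfsg.Agent.Lib.Helper83.EzDefs
import Cfsg.Agent.Lib.Helper18.StCenter

set_option autoImplicit false

namespace Cfsg.Agent.Lib.Helper83.Ez

open Cfsg Cfsg.Lie Cfsg.Agent.Lib.Helper36 Cfsg.Agent.Lib.Helper18

theorem exists_stSys (D : ChevalleyDatum) (hD : D ∈ [chevG2, chevB2, chevD4, chevF4, chevE6, chevE7, chevE8])
    (K : Type*) [Field K] :
    ∃ S : StSys D hD K (D.SteinbergGroup K), R3Simple S ∧ (∀ (r : ℕ) (t : K), S.X r t = D.stGen K r t) ∧
      S.π.ker = Subgroup.center (D.SteinbergGroup K) ∧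
      ∃ θ : D.SteinbergGroup K →* ↥(D.group K), Function.Surjective θ ∧ θ.ker = S.π.ker := by
  have hrel : ∀ r ∈ D.steinbergRels K, FreeGroup.lift (genMap D hD K) r = 1 := by
    rintro _ ((⟨r, t₁, t₂, -, rfl⟩ | ⟨r, s, t, u, hr, hs, hsr, hsn, rfl⟩) | ⟨r, t₁, t₂, hr, h1, h2, rfl⟩)
    · exact lift_R1 D hD K r t₁ t₂
    · exact lift_R2 D hD K r s hr hs hsr hsn t u
    · exact lift_R3 D hD K r hr t₁ t₂ h1 h2
  set θ : D.SteinbergGroup K →* ↥(D.group K) := PresentedGroup.toGroup hrel with hθ_def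
  have hθ : ∀ (r : ℕ) (t : K), θ (PresentedGroup.mk (D.steinbergRels K) (D.stX r t)) = xGr D hD K r t := by
    intro r t
    exact lift_stX D hD K r t
  have hθ' : ∀ (r : ℕ) (t : K), r < D.nroots →
      ((θ (PresentedGroup.mk (D.steinbergRels K) (D.stX r t)) : GL D.Idx K) : Matrix D.Idx D.Idx K) = D.x K r t := by
    intro r t _
    rw [hθ r t]
    rfl
  have hsurj := surj_of_matching D hD K _ θ (fun r t _ => hθ r t)
  have h1 : ∀ (r : ℕ) (t₁ t₂ : K), r < D.nroots →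
      D.stX r t₁ * D.stX r t₂ * (D.stX r (t₁ + t₂))⁻¹ ∈ D.steinbergRels K :=
    fun r t₁ t₂ hr => Or.inl (Or.inl ⟨r, t₁, t₂, hr, rfl⟩)
  have h2 : ∀ (r s : ℕ) (t u : K), r < D.nroots → s < D.nroots → s ≠ r → s ≠ D.neg r →
      (D.stX s u)⁻¹ * (D.stX r t)⁻¹ * D.stX s u * D.stX r t * (D.stWord (D.commWord K r s t u))⁻¹ ∈
        D.steinbergRels K :=
    fun r s t u hr hs hsr hsn => Or.inl (Or.inr ⟨r, s, t, u, hr, hs, hsr, hsn, rfl⟩)
  let S := presSys D hD K (D.steinbergRels K) h1 h2 θ hθ'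
  have hmul : R3Simple S := by
    intro i hi t₁ t₂ ht₁ ht₂
    have hr : D.simple i < D.nroots := (isPosRoot_simple D hD i hi).1
    have hmem : D.stH (D.simple i) t₁ * D.stH (D.simple i) t₂ * (D.stH (D.simple i) (t₁ * t₂))⁻¹ ∈
        D.steinbergRels K := Or.inr ⟨D.simple i, t₁, t₂, hr, ht₁, ht₂, rfl⟩
    have h := PresentedGroup.one_of_mem hmem
    rw [map_mul, map_mul, map_inv, mul_inv_eq_one] at h
    rw [← mk_stH D hD K _ h1 h2 θ hθ' i t₁, ← mk_stH D hD K _ h1 h2 θ hθ' i t₂,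
      ← mk_stH D hD K _ h1 h2 θ hθ' i (t₁ * t₂)]
    exact h
  have hkθ : θ.ker = S.π.ker := by
    ext g
    rw [MonoidHom.mem_ker, MonoidHom.mem_ker]
    show θ g = 1 ↔ (D.group K).subtype (θ g) = 1
    constructor
    · intro h
      rw [h, map_one]
    · intro h
      exact (Subgroup.subtype_injective _) (by rw [h, map_one])
  refine ⟨S, hmul, fun r t => rfl, ?_, θ, hsurj, hkθ⟩
  rw [← hkθ]
  apply le_antisymm
  · intro g hg
    rw [MonoidHom.mem_ker] at hg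
    have h1 : S.π g = 1 := by
      show (D.group K).subtype (θ g) = 1
      rw [hg, map_one]
    exact (ker_le S g h1).2
  · intro z hz
    rw [MonoidHom.mem_ker]
    have hc : θ z ∈ Subgroup.center ↥(D.group K) := by
      rw [Subgroup.mem_center_iff] at hz ⊢
      intro y
      obtain ⟨w, rfl⟩ := hsurj y
      rw [← map_mul, ← map_mul, hz w]
    rw [center_group_eq_bot D hD K, Subgroup.mem_bot] at hc
    exact hc

end Cfsg.Agent.Lib.Helper83.Ez
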