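import Cfsg.Agent.Lib.Helper83.EzDefs

set_option autoImplicit false

namespace Cfsg.Agent.Lib.Helper83.Ez

open Cfsg Cfsg.Lie Cfsg.Agent.Lib.Helper36 Cfsg.Agent.Lib.Helper18

theorem tor_ext_mulSingle {D D' : ChevalleyDatum} (F : Type*) [Field F] (hr : D.rank ≤ D'.rank)
    (j : Fin D.rank) (c : Fˣ) :
    ext (D := D) (D' := D') F (Pi.mulSingle j c) = Pi.mulSingle ⟨j.val, lt_of_lt_of_le j.2 hr⟩ c := by
  funext k
  show (if h : k.val < D.rank then (Pi.mulSingle j c : Fin D.rank → Fˣ) ⟨k.val, h⟩ else 1) = _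
  by_cases hk : k.val < D.rank
  · rw [dif_pos hk]
    by_cases hkj : k.val = j.val
    · have e1 : (⟨k.val, hk⟩ : Fin D.rank) = j := Fin.ext hkj
      have e2 : k = ⟨j.val, lt_of_lt_of_le j.2 hr⟩ := Fin.ext hkj
      rw [e1, Pi.mulSingle_eq_same, e2, Pi.mulSingle_eq_same]
    · have e1 : (⟨k.val, hk⟩ : Fin D.rank) ≠ j := fun h => hkj (congrArg Fin.val h)
      have e2 : k ≠ ⟨j.val, lt_of_lt_of_le j.2 hr⟩ := fun h => hkj (congrArg Fin.val h)
      rw [Pi.mulSingle_eq_of_ne e1, Pi.mulSingle_eq_of_ne e2]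
  · rw [dif_neg hk]
    have e2 : k ≠ ⟨j.val, lt_of_lt_of_le j.2 hr⟩ := by
      intro h
      apply hk
      rw [h]
      exact j.2
    rw [Pi.mulSingle_eq_of_ne e2]

theorem torusLift_injective {D D' : ChevalleyDatum}
    {hD : D ∈ [chevG2, chevB2, chevD4, chevF4, chevE6, chevE7, chevE8]}
    {hD' : D' ∈ [chevG2, chevB2, chevD4, chevF4, chevE6, chevE7, chevE8]}
    {F : Type*} [Field F] {Γ Γ' : Type*} [Group Γ] [Group Γ'] (S : StSys D hD F Γ) (S' : StSys D' hD' F Γ')
    (hmul : R3Simple S) (hmul' : R3Simple S') {ι : ℕ → ℕ} (h : SubSys D D' ι) (φ : Γ →* Γ')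
    (hφ : ∀ r, r < D.nroots → ∀ t : F, φ (S.X r t) = S'.X (ι r) t)
    (P' : Matrix (Fin D'.rank) (Fin D'.rank) ℤ) (h1 : cartanMat D' * P' = 1) (h2 : P' * cartanMat D' = 1) :
    Function.Injective (torusLift S hmul) := by
  have hh : ∀ i, i < D.rank → ∀ t : F, φ (hS S i t) = hS S' i t := by
    intro i hi t
    have hs := h.simple_lt i hi
    have hn := h.neg_lt _ hs
    unfold hS StSys.nb
    simp only [map_mul, hφ _ hs, hφ _ hn, h.neg _ hs, h.simple i hi]
  have hcomp : φ.comp (torusLift S hmul) = (torusLift S' hmul').comp (ext F) := by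
    apply MonoidHom.pi_ext
    intro j c
    rw [MonoidHom.comp_apply, MonoidHom.comp_apply, torusLift_mulSingle, tor_ext_mulSingle F h.rank_le,
      torusLift_mulSingle, hh j.val j.2]
  rw [injective_iff_map_eq_one]
  intro t ht
  have e1 : torusLift S' hmul' (ext F t) = 1 := by
    have := DFunLike.congr_fun hcomp t
    rw [MonoidHom.comp_apply, MonoidHom.comp_apply, ht, map_one] at this
    exact this.symm
  have hz : S'.π (torusLift S' hmul' (ext F t)) = 1 := by rw [e1, map_one]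
  rw [π_torusLift] at hz
  have hk : ext F t ∈ (torusHom D' F).ker := hz
  rw [torusHom_ker D' hD' F, MonoidHom.mem_ker] at hk
  have he : ext (D := D) (D' := D') F t = 1 :=
    (monoMap_bijective (C := Fˣ) (cartanMat D') P' h1 h2).1 (by rw [hk, map_one])
  funext j
  have := congrFun he ⟨j.val, lt_of_lt_of_le j.2 h.rank_le⟩
  have e3 : ext (D := D) (D' := D') F t ⟨j.val, lt_of_lt_of_le j.2 h.rank_le⟩ = t j := by
    show (if h : j.val < D.rank then t ⟨j.val, h⟩ else 1) = t j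
    rw [dif_pos j.2]
  rw [e3] at this
  exact this

end Cfsg.Agent.Lib.Helper83.Ez
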