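import Cfsg.Agent.Lib.Helper83.EzDefs
import Cfsg.Agent.Lib.Helper83.Ez_SYS
import Cfsg.Agent.Lib.Helper83.Ez_TOR
import Cfsg.Agent.Lib.Helper83.Ez_CEN
import Cfsg.Agent.Lib.Helper24.Ez_HOM
import Cfsg.Agent.Lib.Helper1.Ez_SUB6
import Cfsg.Agent.Lib.Helper1.Ez_SUB7

/-! # Ez hive (owner helper83): the centre of the Steinberg groups of type `E₇`, `E₆` (assembly for S1079) -/

set_option autoImplicit false

namespace Cfsg.Agent.Lib.Helper83.Ez

open Cfsg Cfsg.Lie Cfsg.Agent.Lib.Helper36 Cfsg.Agent.Lib.Helper18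

/-- the centre of `St(D, K)` for a subsystem `D` of `E₈` has as many elements as the kernel of the Cartan matrix on `(Kˣ)^l` -/
theorem card_center_of_subSys {D : ChevalleyDatum} (hD : D ∈ [chevG2, chevB2, chevD4, chevF4, chevE6, chevE7, chevE8])
    {ι : ℕ → ℕ} (h : SubSys D chevE8 ι) (K : Type*) [Field K] :
    Nat.card (Subgroup.center (D.SteinbergGroup K)) = Nat.card (monoMap (C := Kˣ) (cartanMat D)).ker := by
  obtain ⟨S, hmul, hX, hker, -⟩ := exists_stSys D hD K
  obtain ⟨S', hmul', hX', -, -⟩ := exists_stSys chevE8 (by simp) K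
  obtain ⟨φ, hφ⟩ := exists_subsys_hom h K
  have hinj := torusLift_injective S S' hmul hmul' h φ
    (fun r hr t => by rw [hX, hX', hφ r hr t]) _ cartanInv_E8.1 cartanInv_E8.2
  rw [← hker]
  exact card_ker_pi S hmul hinj

theorem card_center_E7 (K : Type*) [Field K] [Fintype K] :
    Nat.card (Subgroup.center (chevE7.SteinbergGroup K)) = Nat.gcd 2 (Fintype.card K - 1) := by
  rw [card_center_of_subSys (by simp) subSys_E7 K, card_ker_E7]
  simp [Nat.gcd_comm]

theorem card_center_E6 (K : Type*) [Field K] [Fintype K] :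
    Nat.card (Subgroup.center (chevE6.SteinbergGroup K)) = Nat.gcd 3 (Fintype.card K - 1) := by
  rw [card_center_of_subSys (by simp) subSys_E6 K, card_ker_E6]
  simp [Nat.gcd_comm]

end Cfsg.Agent.Lib.Helper83.Ez
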