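import Cfsg.Agent.Lib.Helper83.Ez_SUBc7

/-! # Ez hive (owner helper83): memory-safe (row-chunked) version of the leaf EZ-SUB6 (checker in `Ez_SUBc7`) -/

set_option autoImplicit false

namespace Cfsg.Agent.Lib.Helper83.Ez

open Cfsg Cfsg.Lie

theorem subc_E6_0 : subc_blk chevE6 chevE8 iota6 0 9 = true := by decide +kernel
theorem subc_E6_1 : subc_blk chevE6 chevE8 iota6 9 9 = true := by decide +kernel
theorem subc_E6_2 : subc_blk chevE6 chevE8 iota6 18 9 = true := by decide +kernel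
theorem subc_E6_3 : subc_blk chevE6 chevE8 iota6 27 9 = true := by decide +kernel
theorem subc_E6_4 : subc_blk chevE6 chevE8 iota6 36 9 = true := by decide +kernel
theorem subc_E6_5 : subc_blk chevE6 chevE8 iota6 45 9 = true := by decide +kernel
theorem subc_E6_6 : subc_blk chevE6 chevE8 iota6 54 9 = true := by decide +kernel
theorem subc_E6_7 : subc_blk chevE6 chevE8 iota6 63 9 = true := by decide +kernel

theorem subc_rows_E6 : ∀ r, r < chevE6.nroots → subc_row chevE6 chevE8 iota6 r = true := by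
  intro a ha
  have ha' : a < 72 := ha
  have hc : (0 ≤ a ∧ a < 9) ∨ (9 ≤ a ∧ a < 18) ∨ (18 ≤ a ∧ a < 27) ∨ (27 ≤ a ∧ a < 36) ∨ (36 ≤ a ∧ a < 45) ∨ (45 ≤ a ∧ a < 54) ∨ (54 ≤ a ∧ a < 63) ∨ (63 ≤ a ∧ a < 72) := by omega
  rcases hc with ⟨h1, h2⟩ | ⟨h1, h2⟩ | ⟨h1, h2⟩ | ⟨h1, h2⟩ | ⟨h1, h2⟩ | ⟨h1, h2⟩ | ⟨h1, h2⟩ | ⟨h1, h2⟩
  · exact subc_blk_spec _ _ _ 0 9 subc_E6_0 a h1 (by omega)
  · exact subc_blk_spec _ _ _ 9 9 subc_E6_1 a h1 (by omega)
  · exact subc_blk_spec _ _ _ 18 9 subc_E6_2 a h1 (by omega)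
  · exact subc_blk_spec _ _ _ 27 9 subc_E6_3 a h1 (by omega)
  · exact subc_blk_spec _ _ _ 36 9 subc_E6_4 a h1 (by omega)
  · exact subc_blk_spec _ _ _ 45 9 subc_E6_5 a h1 (by omega)
  · exact subc_blk_spec _ _ _ 54 9 subc_E6_6 a h1 (by omega)
  · exact subc_blk_spec _ _ _ 63 9 subc_E6_7 a h1 (by omega)

theorem subc_glob_E6 : subc_glob chevE6 chevE8 iota6 = true := by decide +kernel

/-- EZ-SUB6, row-chunked -/
theorem subSys_E6c : SubSys chevE6 chevE8 iota6 := subc_sound _ _ _ subc_rows_E6 subc_glob_E6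

end Cfsg.Agent.Lib.Helper83.Ez
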