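import Cfsg.Agent.Lib.Helper76.E8mDefs
import Cfsg.Agent.Lib.Helper18.StTorus
import Cfsg.Prelude.Def_ChevE6
import Cfsg.Prelude.Def_ChevE7
import Cfsg.Prelude.Def_ChevE8
import Cfsg.Prelude.Def_Steinberg
import Cfsg.Prelude.Def_KGroupFacts

/-! # Ez hive (S1079, S2105, S2106; owner helper83): shared definitions.

The subsystem embeddings `E7 < E8` and `E6 < E8` (pad the coefficient vector of a root by zeros) carry the
structure constants of the Prelude tables EXACTLY, so `x_r(t) -> x_{iota r}(t)` maps every Steinberg relator of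
`E7` (`E6`) to a Steinberg relator of `E8`.  The Cartan matrix of `E8` is unimodular, so the torus of `St(E8)` is
`(K^*)^8`, hence the torus of `St(E7)` is `(K^*)^7` and the centre of `St(E7)` has exactly `gcd(2, q-1)` elements. -/

set_option autoImplicit false

namespace Cfsg.Agent.Lib.Helper83.Ez

open Cfsg Cfsg.Lie

/-- index in `chevE8` of the `r`-th root of `chevE7` (coefficient vector padded by one zero) -/
def iota7L : List ℕ := [13, 20, 25, 29, 32, 34, 35, 39, 42, 44, 45, 48, 50, 51, 53, 54, 55, 58, 60, 61, 63, 64, 65, 67, 68, 69, 70, 72, 73, 74, 75, 76, 77, 80, 82, 83, 85, 86, 87, 89, 90, 91, 92, 94, 95, 96, 97, 98, 100, 101, 102, 103, 104, 106, 107, 108, 109, 111, 112, 113, 115, 116, 118, 121, 123, 124, 126, 127, 128, 130, 131, 132, 133, 135, 136, 137, 138, 139, 141, 142, 143, 144, 145, 147, 148, 149, 150, 152, 153, 154, 156, 157, 159, 162, 163, 164, 165, 166, 167, 169, 170, 171, 172, 174, 175, 176, 178, 179, 181, 184, 185, 186, 188, 189, 191, 194, 195, 197, 200, 204, 205, 207, 210, 214, 219, 226]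

/-- index in `chevE8` of the `r`-th root of `chevE6` (coefficient vector padded by two zeros) -/
def iota6L : List ℕ := [35, 45, 51, 54, 55, 61, 64, 65, 68, 69, 70, 73, 74, 75, 76, 77, 83, 86, 87, 90, 91, 92, 95, 96, 97, 98, 101, 102, 103, 104, 107, 108, 109, 112, 113, 116, 123, 126, 127, 130, 131, 132, 135, 136, 137, 138, 141, 142, 143, 144, 147, 148, 149, 152, 153, 156, 162, 163, 164, 165, 166, 169, 170, 171, 174, 175, 178, 184, 185, 188, 194, 204]

def iota7 (r : ℕ) : ℕ := iota7L.getD r 0

def iota6 (r : ℕ) : ℕ := iota6L.getD r 0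

/-- `ι` embeds the root table of `D` into that of `D'`, compatibly with negatives, fundamental roots and the
right-hand sides of the commutator formula -/
structure SubSys (D D' : ChevalleyDatum) (ι : ℕ → ℕ) : Prop where
  lt : ∀ r, r < D.nroots → ι r < D'.nroots
  inj : ∀ r s, r < D.nroots → s < D.nroots → ι r = ι s → r = s
  neg_lt : ∀ r, r < D.nroots → D.neg r < D.nroots
  neg : ∀ r, r < D.nroots → ι (D.neg r) = D'.neg (ι r)
  comm_lt : ∀ r s, r < D.nroots → s < D.nroots → ∀ c ∈ D.commTerms r s, c.1 < D.nroots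
  comm : ∀ r s, r < D.nroots → s < D.nroots → s ≠ r → s ≠ D.neg r →
    (D.commTerms r s).map (fun c => (ι c.1, c.2)) = D'.commTerms (ι r) (ι s)
  simple_lt : ∀ i, i < D.rank → D.simple i < D.nroots
  simple : ∀ i, i < D.rank → ι (D.simple i) = D'.simple i
  rank_le : D.rank ≤ D'.rank

/-- extend a torus parameter by `1` on the new fundamental roots -/
def ext {D D' : ChevalleyDatum} (F : Type*) [Field F] : (Fin D.rank → Fˣ) →* (Fin D'.rank → Fˣ) where
  toFun t := fun j => if h : j.val < D.rank then t ⟨j.val, h⟩ else 1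
  map_one' := by
    funext j
    by_cases h : j.val < D.rank <;> simp [h]
  map_mul' a b := by
    funext j
    by_cases h : j.val < D.rank <;> simp [h]

end Cfsg.Agent.Lib.Helper83.Ez
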