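import Cfsg.Agent.Lib.Helper83.EzDefs
import Cfsg.Agent.Lib.Helper21.E8m_SYS

set_option autoImplicit false


namespace Cfsg.Agent.Lib.Helper83.Ez

open Cfsg Cfsg.Lie Cfsg.Agent.Lib.Helper36 Cfsg.Agent.Lib.Helper18 Cfsg.Agent.Lib.Helper76.E8m
open scoped commutatorElement

theorem cover_perfect {D : ChevalleyDatum} {dec : ℕ → ℕ × ℕ} (hSL : chkSL D = true) (T : Tab D dec)
    (K : Type*) [Field K] : commutator (D.SteinbergCover K) = ⊤ := by
  obtain ⟨S, hS⟩ := exists_coverSys (K := K) hSL T.basic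
  rw [eq_top_iff, ← PresentedGroup.closure_range_of (D.steinbergRelsAB K), Subgroup.closure_le]
  rintro _ ⟨⟨⟨e, he⟩, t⟩, rfl⟩
  have hsum := T.dc.dec_sum e he
  have hsq := T.basic.ep_sq _ _ _ hsum
  have hX := S.X_sum _ _ _ hsum (1 : K) (((ep D (dec e).1 (dec e).2 : ℤ) : K) * t)
  have hval : ((ep D (dec e).1 (dec e).2 : ℤ) : K) * 1 * (((ep D (dec e).1 (dec e).2 : ℤ) : K) * t) = t := by
    rcases hsq with h | h <;> rw [h] <;> simp
  rw [hval] at hX
  have hgen : PresentedGroup.of (rels := D.steinbergRelsAB K) (⟨e, he⟩, t) = S.X e t := by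
    rw [hS]
    unfold ChevalleyDatum.scGen ChevalleyDatum.stX
    rw [dif_pos he]
    rfl
  show PresentedGroup.of (rels := D.steinbergRelsAB K) (⟨e, he⟩, t) ∈ commutator (D.SteinbergCover K)
  rw [hgen, ← hX, commutator_def]
  exact Subgroup.commutator_mem_commutator (Subgroup.mem_top _) (Subgroup.mem_top _)

end Cfsg.Agent.Lib.Helper83.Ez
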