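import Cfsg.Agent.Lib.Helper83.Ez_TCONNchk

/-! # Ez hive (owner helper83): leaves T7-CONN, T6-CONN, in blocks of 9 rows (kernel memory) -/

set_option autoImplicit false

namespace Cfsg.Agent.Lib.Helper83.Ez

open Cfsg Cfsg.Lie Cfsg.Agent.Lib.Helper76.E8m

theorem conn_E7_0 : conn_blk chevE7 0 9 = true := by decide +kernel
theorem conn_E7_1 : conn_blk chevE7 9 9 = true := by decide +kernel
theorem conn_E7_2 : conn_blk chevE7 18 9 = true := by decide +kernel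
theorem conn_E7_3 : conn_blk chevE7 27 9 = true := by decide +kernel
theorem conn_E7_4 : conn_blk chevE7 36 9 = true := by decide +kernel
theorem conn_E7_5 : conn_blk chevE7 45 9 = true := by decide +kernel
theorem conn_E7_6 : conn_blk chevE7 54 9 = true := by decide +kernel
theorem conn_E7_7 : conn_blk chevE7 63 9 = true := by decide +kernel
theorem conn_E7_8 : conn_blk chevE7 72 9 = true := by decide +kernel
theorem conn_E7_9 : conn_blk chevE7 81 9 = true := by decide +kernel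
theorem conn_E7_10 : conn_blk chevE7 90 9 = true := by decide +kernel
theorem conn_E7_11 : conn_blk chevE7 99 9 = true := by decide +kernel
theorem conn_E7_12 : conn_blk chevE7 108 9 = true := by decide +kernel
theorem conn_E7_13 : conn_blk chevE7 117 9 = true := by decide +kernel

theorem conn_rows_E7 : ∀ a, a < chevE7.chain.size → conn_row chevE7 a = true := by
  intro a ha
  have ha' : a < 126 := ha
  have hc : (0 ≤ a ∧ a < 9) ∨ (9 ≤ a ∧ a < 18) ∨ (18 ≤ a ∧ a < 27) ∨ (27 ≤ a ∧ a < 36) ∨ (36 ≤ a ∧ a < 45) ∨ (45 ≤ a ∧ a < 54) ∨ (54 ≤ a ∧ a < 63) ∨ (63 ≤ a ∧ a < 72) ∨ (72 ≤ a ∧ a < 81) ∨ (81 ≤ a ∧ a < 90) ∨ (90 ≤ a ∧ a < 99) ∨ (99 ≤ a ∧ a < 108) ∨ (108 ≤ a ∧ a < 117) ∨ (117 ≤ a ∧ a < 126) := by omega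
  rcases hc with ⟨h1, h2⟩ | ⟨h1, h2⟩ | ⟨h1, h2⟩ | ⟨h1, h2⟩ | ⟨h1, h2⟩ | ⟨h1, h2⟩ | ⟨h1, h2⟩ | ⟨h1, h2⟩ | ⟨h1, h2⟩ | ⟨h1, h2⟩ | ⟨h1, h2⟩ | ⟨h1, h2⟩ | ⟨h1, h2⟩ | ⟨h1, h2⟩
  · exact conn_blk_spec chevE7 0 9 conn_E7_0 a h1 (by omega)
  · exact conn_blk_spec chevE7 9 9 conn_E7_1 a h1 (by omega)
  · exact conn_blk_spec chevE7 18 9 conn_E7_2 a h1 (by omega)
  · exact conn_blk_spec chevE7 27 9 conn_E7_3 a h1 (by omega)
  · exact conn_blk_spec chevE7 36 9 conn_E7_4 a h1 (by omega)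
  · exact conn_blk_spec chevE7 45 9 conn_E7_5 a h1 (by omega)
  · exact conn_blk_spec chevE7 54 9 conn_E7_6 a h1 (by omega)
  · exact conn_blk_spec chevE7 63 9 conn_E7_7 a h1 (by omega)
  · exact conn_blk_spec chevE7 72 9 conn_E7_8 a h1 (by omega)
  · exact conn_blk_spec chevE7 81 9 conn_E7_9 a h1 (by omega)
  · exact conn_blk_spec chevE7 90 9 conn_E7_10 a h1 (by omega)
  · exact conn_blk_spec chevE7 99 9 conn_E7_11 a h1 (by omega)
  · exact conn_blk_spec chevE7 108 9 conn_E7_12 a h1 (by omega)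
  · exact conn_blk_spec chevE7 117 9 conn_E7_13 a h1 (by omega)

theorem conn_E6_0 : conn_blk chevE6 0 9 = true := by decide +kernel
theorem conn_E6_1 : conn_blk chevE6 9 9 = true := by decide +kernel
theorem conn_E6_2 : conn_blk chevE6 18 9 = true := by decide +kernel
theorem conn_E6_3 : conn_blk chevE6 27 9 = true := by decide +kernel
theorem conn_E6_4 : conn_blk chevE6 36 9 = true := by decide +kernel
theorem conn_E6_5 : conn_blk chevE6 45 9 = true := by decide +kernel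
theorem conn_E6_6 : conn_blk chevE6 54 9 = true := by decide +kernel
theorem conn_E6_7 : conn_blk chevE6 63 9 = true := by decide +kernel

theorem conn_rows_E6 : ∀ a, a < chevE6.chain.size → conn_row chevE6 a = true := by
  intro a ha
  have ha' : a < 72 := ha
  have hc : (0 ≤ a ∧ a < 9) ∨ (9 ≤ a ∧ a < 18) ∨ (18 ≤ a ∧ a < 27) ∨ (27 ≤ a ∧ a < 36) ∨ (36 ≤ a ∧ a < 45) ∨ (45 ≤ a ∧ a < 54) ∨ (54 ≤ a ∧ a < 63) ∨ (63 ≤ a ∧ a < 72) := by omega
  rcases hc with ⟨h1, h2⟩ | ⟨h1, h2⟩ | ⟨h1, h2⟩ | ⟨h1, h2⟩ | ⟨h1, h2⟩ | ⟨h1, h2⟩ | ⟨h1, h2⟩ | ⟨h1, h2⟩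
  · exact conn_blk_spec chevE6 0 9 conn_E6_0 a h1 (by omega)
  · exact conn_blk_spec chevE6 9 9 conn_E6_1 a h1 (by omega)
  · exact conn_blk_spec chevE6 18 9 conn_E6_2 a h1 (by omega)
  · exact conn_blk_spec chevE6 27 9 conn_E6_3 a h1 (by omega)
  · exact conn_blk_spec chevE6 36 9 conn_E6_4 a h1 (by omega)
  · exact conn_blk_spec chevE6 45 9 conn_E6_5 a h1 (by omega)
  · exact conn_blk_spec chevE6 54 9 conn_E6_6 a h1 (by omega)
  · exact conn_blk_spec chevE6 63 9 conn_E6_7 a h1 (by omega)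

/-- T7-CONN -/ theorem tabConn_E7 : TabConn chevE7 (decOf chevE7) := conn_spec_rows chevE7 conn_rows_E7
/-- T6-CONN -/ theorem tabConn_E6 : TabConn chevE6 (decOf chevE6) := conn_spec_rows chevE6 conn_rows_E6

end Cfsg.Agent.Lib.Helper83.Ez
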