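import Cfsg.Agent.Lib.Helper83.EzCenterB
import Cfsg.Agent.Lib.Helper83.Ez_PERF
import Cfsg.Agent.Lib.Helper83.Ez_TCONN
import Cfsg.Agent.Lib.Helper33.Ez_MULT
import Cfsg.Agent.Lib.Helper85.Ez_TR
import Cfsg.Agent.Lib.Helper85.Ez_CYC
import Cfsg.Agent.Lib.Helper36.Ez_TDEC
import Cfsg.Agent.Lib.Helper35.Ez_TBASIC
import Cfsg.Agent.Lib.Helper88.Ez_TLA
import Cfsg.Agent.Lib.Helper43.Ez_FIN
import Cfsg.Agent.Lib.Helper76.E8mCC
import Cfsg.Agent.Lib.Helper18.ChevCommSLTab
import Cfsg.Agent.S1077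
import Cfsg.Agent.S2397

/-! # Ez hive (owner helper83): Schur multipliers of the adjoint groups `E₇(q)`, `E₆(q)` (assembly for S2106, S2105);
same as `EzMain`, but on `EzCenterB` (row-chunked table leaves) -/

set_option autoImplicit false

universe u v

namespace Cfsg.Agent.Lib.Helper83.Ez

open Cfsg Cfsg.Lie Cfsg.Agent.Lib.Helper36 Cfsg.Agent.Lib.Helper18 Cfsg.Agent.Lib.Helper76.E8m


theorem tab_E7B : Tab chevE7 (decOf chevE7) := ⟨tabBasic_E7, tabLA_E7, tabDec_E7, tabConn_E7⟩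
theorem tab_E6B : Tab chevE6 (decOf chevE6) := ⟨tabBasic_E6, tabLA_E6, tabDec_E6, tabConn_E6⟩

/-- multiplier of the adjoint group from the centre of the Steinberg group -/
theorem multiplier_of_card_centerB {D : ChevalleyDatum} (hD : D ∈ [chevG2, chevB2, chevD4, chevF4, chevE6, chevE7, chevE8])
    (hDne : D ∉ [chevB2, chevG2]) {dec : ℕ → ℕ × ℕ} (hSL : chkSL D = true) (T : Tab D dec)
    {F : Type u} [Field F] [Fintype F] (p m : ℕ) (hp : p.Prime)
    (hZ : Nat.card (Subgroup.center (D.SteinbergGroup F)) = Nat.gcd p m) :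
    Cfsg.HasCyclicSchurMultiplier ↥(D.group F) (Nat.gcd p m) := by
  obtain ⟨θ, hθs, hθk, -⟩ := Cfsg.Agent.S1077.result (K := F) D hD
  obtain ⟨e, -⟩ := Cfsg.Agent.S2397.result (K := F) D hD (fun h => absurd h hDne)
  have := finite_steinbergGroup D hD F
  obtain ⟨hperf, hcc⟩ := transport_cc e (cover_perfect hSL T F)
    (fun Y _ φ hφ hc => cover_centrally_closed hSL T φ hφ hc)
  exact hasSchurMultiplier_of_universal θ hθs hθk hperf hcc _ (nonempty_mulEquiv_zmod p m hp hZ)

theorem not_mem_E7B : chevE7 ∉ [chevB2, chevG2] := by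
  intro h
  simp only [List.mem_cons, List.not_mem_nil, or_false] at h
  rcases h with h | h <;> exact absurd (congrArg ChevalleyDatum.rank h) (by decide)

theorem not_mem_E6B : chevE6 ∉ [chevB2, chevG2] := by
  intro h
  simp only [List.mem_cons, List.not_mem_nil, or_false] at h
  rcases h with h | h <;> exact absurd (congrArg ChevalleyDatum.rank h) (by decide)

theorem multiplier_E7B {F : Type*} [Field F] [Fintype F] :
    Cfsg.HasCyclicSchurMultiplier ↥(chevE7.group F) (Nat.gcd 2 (Fintype.card F - 1)) :=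
  multiplier_of_card_centerB (by simp) not_mem_E7B chkSL_E7 tab_E7B 2 _ Nat.prime_two (card_center_E7B F)

theorem multiplier_E6B {F : Type*} [Field F] [Fintype F] :
    Cfsg.HasCyclicSchurMultiplier ↥(chevE6.group F) (Nat.gcd 3 (Fintype.card F - 1)) :=
  multiplier_of_card_centerB (by simp) not_mem_E6B chkSL_E6 tab_E6B 3 _ Nat.prime_three (card_center_E6B F)

end Cfsg.Agent.Lib.Helper83.Ez
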