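import Cfsg.Agent.Lib.Helper83.EzDefs

/-! # Ez hive (owner helper83): memory-safe (row-chunked) version of the leaves EZ-SUB7 / EZ-SUB6
(same Boolean check as `Helper1.Ez_SUB7`, split into blocks of rows: one `decide +kernel` per block). -/

set_option autoImplicit false

namespace Cfsg.Agent.Lib.Helper83.Ez

open Cfsg Cfsg.Lie

/-- the Boolean check for one root `r` -/
def subc_row (D D' : ChevalleyDatum) (ι : ℕ → ℕ) (r : ℕ) : Bool :=
  (decide (ι r < D'.nroots) && (decide (D.neg r < D.nroots) && decide (ι (D.neg r) = D'.neg (ι r)))) &&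
  ((List.range D.nroots).all fun s =>
      (decide (ι r ≠ ι s) || decide (r = s)) &&
      (((D.commTerms r s).all fun c => decide (c.1 < D.nroots)) &&
        (decide (s = r) || (decide (s = D.neg r) ||
          decide ((D.commTerms r s).map (fun c => (ι c.1, c.2)) = D'.commTerms (ι r) (ι s))))))

/-- the check for a block of roots -/
def subc_blk (D D' : ChevalleyDatum) (ι : ℕ → ℕ) (lo len : ℕ) : Bool :=
  (List.range len).all fun i => subc_row D D' ι (lo + i)

theorem subc_blk_spec (D D' : ChevalleyDatum) (ι : ℕ → ℕ) (lo len : ℕ) (h : subc_blk D D' ι lo len = true) (a : ℕ)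
    (h1 : lo ≤ a) (h2 : a < lo + len) : subc_row D D' ι a = true := by
  unfold subc_blk at h
  rw [List.all_eq_true] at h
  have := h (a - lo) (List.mem_range.2 (by omega))
  rwa [Nat.add_sub_cancel' h1] at this

/-- the part of the check not depending on a root -/
def subc_glob (D D' : ChevalleyDatum) (ι : ℕ → ℕ) : Bool :=
  ((List.range D.rank).all fun i =>
      decide (D.simple i < D.nroots) && decide (ι (D.simple i) = D'.simple i)) &&
    decide (D.rank ≤ D'.rank)

theorem subc_sound (D D' : ChevalleyDatum) (ι : ℕ → ℕ) (hrow : ∀ r, r < D.nroots → subc_row D D' ι r = true)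
    (hg : subc_glob D D' ι = true) : SubSys D D' ι := by
  unfold subc_glob at hg
  simp only [Bool.and_eq_true, List.all_eq_true, List.mem_range, decide_eq_true_eq] at hg
  obtain ⟨h3, h4⟩ := hg
  have hr' : ∀ r, r < D.nroots → (ι r < D'.nroots ∧ D.neg r < D.nroots ∧ ι (D.neg r) = D'.neg (ι r)) ∧
      ∀ s, s < D.nroots → (ι r ≠ ι s ∨ r = s) ∧ (∀ c ∈ D.commTerms r s, c.1 < D.nroots) ∧
        (s = r ∨ s = D.neg r ∨ (D.commTerms r s).map (fun c => (ι c.1, c.2)) = D'.commTerms (ι r) (ι s)) := by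
    intro r hr
    have := hrow r hr
    unfold subc_row at this
    simpa only [Bool.and_eq_true, List.all_eq_true, List.mem_range, decide_eq_true_eq, Bool.or_eq_true] using this
  refine ⟨fun r hr => (hr' r hr).1.1, ?_, fun r hr => (hr' r hr).1.2.1, fun r hr => (hr' r hr).1.2.2, ?_, ?_,
    fun i hi => (h3 i hi).1, fun i hi => (h3 i hi).2, h4⟩
  · intro r s hr hs hrs
    rcases ((hr' r hr).2 s hs).1 with h | h
    · exact absurd hrs h
    · exact h
  · intro r s hr hs c hc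
    exact ((hr' r hr).2 s hs).2.1 c hc
  · intro r s hr hs hsr hsn
    rcases ((hr' r hr).2 s hs).2.2 with h | h | h
    · exact absurd h hsr
    · exact absurd h hsn
    · exact h

theorem subc_E7_0 : subc_blk chevE7 chevE8 iota7 0 9 = true := by decide +kernel
theorem subc_E7_1 : subc_blk chevE7 chevE8 iota7 9 9 = true := by decide +kernel
theorem subc_E7_2 : subc_blk chevE7 chevE8 iota7 18 9 = true := by decide +kernel
theorem subc_E7_3 : subc_blk chevE7 chevE8 iota7 27 9 = true := by decide +kernel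
theorem subc_E7_4 : subc_blk chevE7 chevE8 iota7 36 9 = true := by decide +kernel
theorem subc_E7_5 : subc_blk chevE7 chevE8 iota7 45 9 = true := by decide +kernel
theorem subc_E7_6 : subc_blk chevE7 chevE8 iota7 54 9 = true := by decide +kernel
theorem subc_E7_7 : subc_blk chevE7 chevE8 iota7 63 9 = true := by decide +kernel
theorem subc_E7_8 : subc_blk chevE7 chevE8 iota7 72 9 = true := by decide +kernel
theorem subc_E7_9 : subc_blk chevE7 chevE8 iota7 81 9 = true := by decide +kernel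
theorem subc_E7_10 : subc_blk chevE7 chevE8 iota7 90 9 = true := by decide +kernel
theorem subc_E7_11 : subc_blk chevE7 chevE8 iota7 99 9 = true := by decide +kernel
theorem subc_E7_12 : subc_blk chevE7 chevE8 iota7 108 9 = true := by decide +kernel
theorem subc_E7_13 : subc_blk chevE7 chevE8 iota7 117 9 = true := by decide +kernel

theorem subc_rows_E7 : ∀ r, r < chevE7.nroots → subc_row chevE7 chevE8 iota7 r = true := by
  intro a ha
  have ha' : a < 126 := ha
  have hc : (0 ≤ a ∧ a < 9) ∨ (9 ≤ a ∧ a < 18) ∨ (18 ≤ a ∧ a < 27) ∨ (27 ≤ a ∧ a < 36) ∨ (36 ≤ a ∧ a < 45) ∨ (45 ≤ a ∧ a < 54) ∨ (54 ≤ a ∧ a < 63) ∨ (63 ≤ a ∧ a < 72) ∨ (72 ≤ a ∧ a < 81) ∨ (81 ≤ a ∧ a < 90) ∨ (90 ≤ a ∧ a < 99) ∨ (99 ≤ a ∧ a < 108) ∨ (108 ≤ a ∧ a < 117) ∨ (117 ≤ a ∧ a < 126) := by omega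
  rcases hc with ⟨h1, h2⟩ | ⟨h1, h2⟩ | ⟨h1, h2⟩ | ⟨h1, h2⟩ | ⟨h1, h2⟩ | ⟨h1, h2⟩ | ⟨h1, h2⟩ | ⟨h1, h2⟩ | ⟨h1, h2⟩ | ⟨h1, h2⟩ | ⟨h1, h2⟩ | ⟨h1, h2⟩ | ⟨h1, h2⟩ | ⟨h1, h2⟩
  · exact subc_blk_spec _ _ _ 0 9 subc_E7_0 a h1 (by omega)
  · exact subc_blk_spec _ _ _ 9 9 subc_E7_1 a h1 (by omega)
  · exact subc_blk_spec _ _ _ 18 9 subc_E7_2 a h1 (by omega)
  · exact subc_blk_spec _ _ _ 27 9 subc_E7_3 a h1 (by omega)
  · exact subc_blk_spec _ _ _ 36 9 subc_E7_4 a h1 (by omega)
  · exact subc_blk_spec _ _ _ 45 9 subc_E7_5 a h1 (by omega)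
  · exact subc_blk_spec _ _ _ 54 9 subc_E7_6 a h1 (by omega)
  · exact subc_blk_spec _ _ _ 63 9 subc_E7_7 a h1 (by omega)
  · exact subc_blk_spec _ _ _ 72 9 subc_E7_8 a h1 (by omega)
  · exact subc_blk_spec _ _ _ 81 9 subc_E7_9 a h1 (by omega)
  · exact subc_blk_spec _ _ _ 90 9 subc_E7_10 a h1 (by omega)
  · exact subc_blk_spec _ _ _ 99 9 subc_E7_11 a h1 (by omega)
  · exact subc_blk_spec _ _ _ 108 9 subc_E7_12 a h1 (by omega)
  · exact subc_blk_spec _ _ _ 117 9 subc_E7_13 a h1 (by omega)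

theorem subc_glob_E7 : subc_glob chevE7 chevE8 iota7 = true := by decide +kernel

/-- EZ-SUB7, row-chunked -/
theorem subSys_E7c : SubSys chevE7 chevE8 iota7 := subc_sound _ _ _ subc_rows_E7 subc_glob_E7

end Cfsg.Agent.Lib.Helper83.Ez
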