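import Cfsg.Agent.Lib.Helper83.EzDefs

set_option autoImplicit false

namespace Cfsg.Agent.Lib.Helper83.Ez

open Cfsg Cfsg.Lie Cfsg.Agent.Lib.Helper76.E8m

/-- Boolean form of `Cm` -/
def conn_cmb (D : ChevalleyDatum) (a b : ℕ) : Bool :=
  decide (a < D.nroots) && decide (b < D.nroots) && decide (b ≠ D.neg a) && decide (D.chainEntry a b = [])

theorem conn_cmb_spec (D : ChevalleyDatum) (a b : ℕ) (h : conn_cmb D a b = true) : Cm D a b := by
  unfold conn_cmb at h
  simp only [Bool.and_eq_true, decide_eq_true_eq] at h
  exact ⟨h.1.1.1, h.1.1.2, h.1.2, h.2⟩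

/-- Boolean form of `A3` -/
def conn_a3b (D : ChevalleyDatum) (p q r pq qr e : ℕ) : Bool :=
  decide (sm D p q = some pq) && decide (sm D q r = some qr) && decide (sm D pq r = some e) &&
    decide (sm D p qr = some e) && conn_cmb D p r && conn_cmb D pq qr && conn_cmb D e qr &&
    decide (ep D p qr * ep D q r = ep D pq r * ep D p q)

theorem conn_a3b_spec (D : ChevalleyDatum) (p q r pq qr e : ℕ) (h : conn_a3b D p q r pq qr e = true) :
    A3 D p q r pq qr e := by
  unfold conn_a3b at h
  simp only [Bool.and_eq_true, decide_eq_true_eq] at h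
  obtain ⟨⟨⟨⟨⟨⟨⟨h1, h2⟩, h3⟩, h4⟩, h5⟩, h6⟩, h7⟩, h8⟩ := h
  exact ⟨h1, h2, h3, h4, conn_cmb_spec D _ _ h5, conn_cmb_spec D _ _ h6, conn_cmb_spec D _ _ h7, h8⟩

/-- the check for one pair -/
def conn_pair (D : ChevalleyDatum) (a b : ℕ) : Bool :=
  match sm D a b with
  | none => true
  | some e =>
    (a == (decOf D e).1 && b == (decOf D e).2) || (a == (decOf D e).2 && b == (decOf D e).1) ||
      conn_a3b D (decOf D e).1 (sb D a (decOf D e).1) b a (decOf D e).2 e ||
      conn_a3b D (decOf D e).2 (sb D a (decOf D e).2) b a (decOf D e).1 e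

/-- the check for one row of the chain table -/
def conn_row (D : ChevalleyDatum) (a : ℕ) : Bool :=
  (D.chain.getD a #[]).toList.all fun ent => conn_pair D a ent.1

/-- the check for a block of rows -/
def conn_blk (D : ChevalleyDatum) (lo len : ℕ) : Bool :=
  (List.range len).all fun i => conn_row D (lo + i)

theorem conn_blk_spec (D : ChevalleyDatum) (lo len : ℕ) (h : conn_blk D lo len = true) (a : ℕ) (h1 : lo ≤ a)
    (h2 : a < lo + len) : conn_row D a = true := by
  unfold conn_blk at h
  rw [List.all_eq_true] at h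
  have := h (a - lo) (List.mem_range.2 (by omega))
  rwa [Nat.add_sub_cancel' h1] at this

theorem conn_mem (D : ChevalleyDatum) (a b e : ℕ) (h : sm D a b = some e) :
    a < D.chain.size ∧ ∃ ent ∈ (D.chain.getD a #[]).toList, ent.1 = b := by
  have hne : D.chainEntry a b ≠ [] := by
    intro h0
    unfold sm at h
    rw [h0] at h
    simp at h
  unfold ChevalleyDatum.chainEntry at hne
  constructor
  · by_contra hlt
    have : D.chain.getD a #[] = #[] := by
      simp [Array.getD, hlt]
    rw [this] at hne
    simp at hne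
  · cases hf : (D.chain.getD a #[]).toList.find? (fun e => e.1 = b) with
    | none =>
      rw [hf] at hne
      exact absurd rfl hne
    | some ent =>
      refine ⟨ent, List.mem_of_find?_eq_some hf, ?_⟩
      have := List.find?_some hf
      simpa using this

theorem conn_spec_rows (D : ChevalleyDatum) (h : ∀ a, a < D.chain.size → conn_row D a = true) :
    TabConn D (decOf D) := by
  intro a b e hsm
  obtain ⟨ha, ent, hent, rfl⟩ := conn_mem D a b e hsm
  have h1 := h a ha
  unfold conn_row at h1
  rw [List.all_eq_true] at h1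
  have h2 := h1 ent hent
  unfold conn_pair at h2
  rw [hsm] at h2
  simp only [Bool.or_eq_true, Bool.and_eq_true, beq_iff_eq] at h2
  rcases h2 with ((h2 | h2) | h2) | h2
  · exact Or.inl h2
  · exact Or.inr (Or.inl h2)
  · exact Or.inr (Or.inr (Or.inl (conn_a3b_spec D _ _ _ _ _ _ h2)))
  · exact Or.inr (Or.inr (Or.inr (conn_a3b_spec D _ _ _ _ _ _ h2)))


/-- the check over the whole chain table (one kernel evaluation: needs a lot of memory; prefer `conn_blk`) -/
def conn_chk (D : ChevalleyDatum) : Bool :=
  (List.range D.chain.size).all fun a => (D.chain.getD a #[]).toList.all fun ent => conn_pair D a ent.1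

theorem conn_spec (D : ChevalleyDatum) (h : conn_chk D = true) : TabConn D (decOf D) := by
  apply conn_spec_rows
  intro a ha
  unfold conn_chk at h
  rw [List.all_eq_true] at h
  exact h a (List.mem_range.2 ha)

end Cfsg.Agent.Lib.Helper83.Ez
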