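import Cfsg.Agent.Lib.Helper83.FpDefs
set_option autoImplicit false
namespace Cfsg.Agent.Lib.Helper83.Fp
open Equiv

theorem fpcasea_sum_le {n : ℕ} (U : Perm (Fin n)) : U.cycleType.sum ≤ n := by
  rw [Equiv.Perm.sum_cycleType]
  exact (Finset.card_le_univ _).trans (by simp)

theorem caseA_of : SumStmt → NTStmt → ThmBStmt → ThmB1Stmt → TransferStmt → Transfer2Stmt →
    CertGoodStmt → CaseAStmt := by
  intro hSum hNT hB hB1 hTr hTr2 hCG
  intro p hp hp3 n U W hPU hPW hW1 k hkU hk5 hWk
  obtain ⟨a, ha1, hka⟩ := hPU k hkU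
  have hc : (finRotate k).cycleType = {k} := by
    obtain ⟨k', rfl⟩ : ∃ k', k = k' + 2 := ⟨k - 2, by omega⟩
    exact cycleType_finRotate
  have hkle : ({k} : Multiset ℕ) ≤ U.cycleType := Multiset.singleton_le.mpr hkU
  have hcU : (finRotate k).cycleType ≤ U.cycleType := by rw [hc]; exact hkle
  have hUsum : U.cycleType.sum ≤ n := fpcasea_sum_le U
  have hWsum : W.cycleType.sum ≤ n := fpcasea_sum_le W
  have hroomU : (U.cycleType - (finRotate k).cycleType).sum + k ≤ n := by
    rw [hc]
    have h2 : U.cycleType.sum = (U.cycleType - {k}).sum + k := by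
      conv_lhs => rw [← tsub_add_cancel_of_le hkle]
      simp
    omega
  have hkn : k ≤ n := by omega
  have hW0 : W.cycleType ≠ 0 := by
    intro h; exact hW1 (Equiv.Perm.cycleType_eq_zero.mp h)
  have hWle : ∀ x ∈ W.cycleType, x ≤ p ^ a := by
    intro x hx; rw [← hka]; exact hWk x hx
  obtain ⟨s, hst, hs0, hssum, hroomW⟩ :=
    hSum p hp a n W.cycleType hPW hWle hW0 hWsum (by rw [← hka]; exact hkn)
  rw [← hka] at hssum hroomW
  have hpk : p ∣ k := by rw [hka]; exact dvd_pow_self p (by omega)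
  by_cases hsk : s = {k}
  · obtain ⟨d, τ, hd, hτ, hC1, hC2⟩ := hB1 p hp hp3 a k hka hk5
    exact hTr2 p hp k n (finRotate k) d τ U W hcU hroomU (by rw [hd, ← hsk]; exact hst)
      (by rw [hd, ← hsk]; exact hroomW) hτ (hCG p hp k hpk d hC1) (hCG p hp k hpk _ hC2)
  · obtain ⟨d, hd, hC⟩ := hB p hp hp3 a k hka hk5 s
      (fun x hx => hPW x (Multiset.mem_of_le hst hx)) hs0 hssum hsk
    refine hTr p hp k n (finRotate k) d U W hcU hroomU (by rw [hd]; exact hst)
      (by rw [hd]; exact hroomW) (hCG p hp k hpk d hC) ?_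
    by_contra hcon
    push Not at hcon
    obtain ⟨h1, h2⟩ := hcon
    rw [Equiv.Perm.centralizer_le_alternating_iff] at h2
    obtain ⟨_, hcard, hcount⟩ := h2
    simp only [Fintype.card_fin] at hcard
    have hnd : W.cycleType.Nodup := Multiset.nodup_iff_count_le_one.mpr hcount
    have hW := hNT p hp hp3 a ha1 W.cycleType hPW hWle hnd (by rw [← hka]; omega)
      (by rw [← hka]; omega)
    rw [← hka] at hW
    rw [hW] at hst
    rcases Multiset.le_singleton.mp hst with h | h
    · exact hs0 h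
    · exact hsk h

end Cfsg.Agent.Lib.Helper83.Fp
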