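import Cfsg.Agent.Lib.Helper83.FpDefs
import Cfsg.Agent.Lib.Helper13.FpCASEB
import Cfsg.Agent.Lib.Helper2.FpB3a
import Cfsg.Agent.Lib.Helper24.FpDECOMP
import Cfsg.Agent.Lib.Helper24.FpNT
import Cfsg.Agent.Lib.Helper24.FpPAR1
import Cfsg.Agent.Lib.Helper24.FpPAR2
import Cfsg.Agent.Lib.Helper25.FpPP
import Cfsg.Agent.Lib.Helper25.FpSYM
import Cfsg.Agent.Lib.Helper25.FpT4
import Cfsg.Agent.Lib.Helper27.FpS9a
import Cfsg.Agent.Lib.Helper27.FpS9b
import Cfsg.Agent.Lib.Helper33.FpSUM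
import Cfsg.Agent.Lib.Helper34.FpBASE5
import Cfsg.Agent.Lib.Helper34.FpFINAL
import Cfsg.Agent.Lib.Helper35.FpMAIN
import Cfsg.Agent.Lib.Helper35.FpTHMB
import Cfsg.Agent.Lib.Helper54.FpB3b
import Cfsg.Agent.Lib.Helper54.FpCG
import Cfsg.Agent.Lib.Helper54.FpTHMB1
import Cfsg.Agent.Lib.Helper54.FpTR1
import Cfsg.Agent.Lib.Helper54.FpTR2
import Cfsg.Agent.Lib.Helper61.FpB1a
import Cfsg.Agent.Lib.Helper61.FpB1b
import Cfsg.Agent.Lib.Helper69.FpT2
import Cfsg.Agent.Lib.Helper71.FpB2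
import Cfsg.Agent.Lib.Helper77.FpT3
import Cfsg.Agent.Lib.Helper78.FpROT
import Cfsg.Agent.Lib.Helper8.FpEMB
import Cfsg.Agent.Lib.Helper8.FpEXT
import Cfsg.Agent.Lib.Helper82.FpT5
import Cfsg.Agent.Lib.Helper83.FpCASEA
import Cfsg.Agent.Lib.Helper9.FpBASE6a
import Cfsg.Agent.Lib.Helper94.FpT1
import Cfsg.Agent.Lib.Helper99.FpB3c
import Cfsg.Agent.Lib.Helper99.FpBASE6b

/-! Fp hive (S2276): final assembly (owner helper83). -/

set_option autoImplicit false

namespace Cfsg.Agent.Lib.Helper83.Fp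

open Equiv


theorem final : FinalStmt :=
  have hA5 := a5_not_solvable
  have hTr := transfer_of (emb_of ext_conj) ext_conj par1 restrict_good
  have hTr2 := transfer2_of (emb_of ext_conj) ext_conj par2 restrict_good
  have hB := thmB_of comm_three_cycle three_cycle_cert rot_three_cycle decomp b2 b3a b3b b3c s9a s9b
  have hB1 := thmB1_of comm_three_cycle three_cycle_cert b1a b1b
  have hCG := cert_good_of fix_not_ppow hA5
  final_of (main_of pp_cycleType good_symm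
    (caseA_of sum_select nt_single hB hB1 hTr hTr2 hCG)
    (caseB_of hTr (base5 hA5) base6a (base6b hA5)))

end Cfsg.Agent.Lib.Helper83.Fp
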