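import Mathlib
import Cfsg.Prelude.Def_RootSubgroups
import Cfsg.Agent.Lib.Helper83.RootSub

set_option autoImplicit false

namespace Cfsg.Agent.Lib.Helper83

open Cfsg
open scoped commutatorElement

variable {G : Type*} [Group G]

/-- The dichotomy for subgroups of a rank one group normalized by it (inside an ambient group). -/
theorem rop_dichotomy {A B N : Subgroup G} (h : IsRankOnePair A B)
    (hN : ∀ x ∈ A ⊔ B, conjBy N x = N) (hle : N ≤ A ⊔ B) :
    B ≤ N ⊔ A ∨ N ≤ Subgroup.centralizer ((A ⊔ B : Subgroup G) : Set G) := by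
  have hNmem : ∀ x ∈ A ⊔ B, ∀ n ∈ N, x * n * x⁻¹ ∈ N := by
    intro x hx n hn
    have := conj_mem_conjBy (g := x) hn
    rw [hN x hx] at this
    exact this
  by_cases hcase : ∀ n ∈ N, conjBy A n = A
  · right
    have hBn : ∀ n ∈ N, conjBy B n = B := by
      obtain ⟨x, hx, hxB⟩ := rop_B_mem_unip h
      intro n hn
      have h1 : x⁻¹ * n * x ∈ N := by
        have := hNmem x⁻¹ (Subgroup.inv_mem _ hx) n hn
        simpa using this
      have h2 := hcase _ h1
      rw [hxB, conjBy_conjBy]
      have h3 : n * x = x * (x⁻¹ * n * x) := by simp [mul_assoc]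
      rw [h3, ← conjBy_conjBy, h2]
    intro n hn
    have hAle : A ≤ Subgroup.centralizer {n} := by
      intro a ha
      rw [Subgroup.mem_centralizer_singleton_iff]
      have hc1 : n * a * n⁻¹ * a⁻¹ ∈ N := by
        have := hNmem a (Subgroup.mem_sup_left ha) n⁻¹ (N.inv_mem hn)
        have h2 := N.mul_mem hn this
        simpa [mul_assoc] using h2
      have hc2 : n * a * n⁻¹ * a⁻¹ ∈ A := by
        have h1 : n * a * n⁻¹ ∈ conjBy A n := conj_mem_conjBy ha
        rw [hcase n hn] at h1
        exact A.mul_mem h1 (A.inv_mem ha)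
      have := rop_norm_left h hc2 (hBn _ hc1)
      have h3 : n * a = a * n := by
        have := congrArg (· * (a * n)) this
        simpa [mul_assoc] using this
      exact h3.symm
    have hBle : B ≤ Subgroup.centralizer {n} := by
      intro b hb
      rw [Subgroup.mem_centralizer_singleton_iff]
      have hc1 : n * b * n⁻¹ * b⁻¹ ∈ N := by
        have := hNmem b (Subgroup.mem_sup_right hb) n⁻¹ (N.inv_mem hn)
        have h2 := N.mul_mem hn this
        simpa [mul_assoc] using h2
      have hc2 : n * b * n⁻¹ * b⁻¹ ∈ B := by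
        have h1 : n * b * n⁻¹ ∈ conjBy B n := conj_mem_conjBy hb
        rw [hBn n hn] at h1
        exact B.mul_mem h1 (B.inv_mem hb)
      have := rop_norm_right h hc2 (hcase _ hc1)
      have h3 : n * b = b * n := by
        have := congrArg (· * (b * n)) this
        simpa [mul_assoc] using this
      exact h3.symm
    rw [Subgroup.mem_centralizer_iff]
    intro x hx
    have := (sup_le hAle hBle) hx
    rw [Subgroup.mem_centralizer_singleton_iff] at this
    exact this
  · left
    push Not at hcase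
    obtain ⟨n, hn, hne⟩ := hcase
    have hD : conjBy A n ∈ unipotentSubgroups A B := ⟨n, hle hn, rfl⟩
    obtain ⟨a, ⟨ha, hca⟩, -⟩ := rop_regular h hD (rop_B_mem_unip h) hne h.ne.symm
    rw [← hca, conjBy_conjBy]
    exact conjBy_le_of_mem le_sup_right
      (Subgroup.mul_mem _ (Subgroup.mem_sup_right ha) (Subgroup.mem_sup_left hn))

section Map

variable {H : Type*} [Group H]

theorem map_conjBy (f : G →* H) (A : Subgroup G) (g : G) :
    (conjBy A g).map f = conjBy (A.map f) (f g) := by
  ext y
  rw [mem_conjBy, Subgroup.mem_map, Subgroup.mem_map]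
  constructor
  · rintro ⟨x, hx, rfl⟩
    rw [mem_conjBy] at hx
    exact ⟨g⁻¹ * x * g, hx, by simp⟩
  · rintro ⟨a, ha, hay⟩
    refine ⟨g * a * g⁻¹, conj_mem_conjBy ha, ?_⟩
    rw [map_mul, map_mul, hay, map_inv]
    simp [mul_assoc]

theorem map_nilpotent (f : G →* H) {A : Subgroup G} (hA : Group.IsNilpotent A) :
    Group.IsNilpotent (A.map f) := by
  have := hA
  have hs : Function.Surjective (f.subgroupMap A) := f.subgroupMap_surjective A
  exact Group.nilpotent_of_surjective _ hs

/-- The image of a rank one pair is a rank one pair, or the two images coincide. -/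
theorem map_rop_or_eq {A B : Subgroup G} (h : IsRankOnePair A B) (f : G →* H) :
    A.map f = B.map f ∨ IsRankOnePair (A.map f) (B.map f) := by
  have hNn : ∀ x ∈ A ⊔ B, conjBy (f.ker ⊓ (A ⊔ B)) x = f.ker ⊓ (A ⊔ B) := by
    intro x hx
    apply conjBy_eq_self_iff.2
    rw [Subgroup.mem_normalizer_iff]
    intro n
    constructor
    · rintro ⟨h1, h2⟩
      refine ⟨?_, Subgroup.mul_mem _ (Subgroup.mul_mem _ hx h2) (Subgroup.inv_mem _ hx)⟩
      exact (MonoidHom.normal_ker f).conj_mem n h1 x
    · rintro ⟨h1, h2⟩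
      refine ⟨?_, ?_⟩
      · have := (MonoidHom.normal_ker f).conj_mem _ h1 x⁻¹
        simpa [mul_assoc] using this
      · have := Subgroup.mul_mem _ (Subgroup.mul_mem _ (Subgroup.inv_mem _ hx) h2) hx
        simpa [mul_assoc] using this
  have hNn' : ∀ x ∈ B ⊔ A, conjBy (f.ker ⊓ (A ⊔ B)) x = f.ker ⊓ (A ⊔ B) := by
    intro x hx; rw [sup_comm] at hx; exact hNn x hx
  have hmapN : (f.ker ⊓ (A ⊔ B)).map f = ⊥ := by
    rw [eq_bot_iff]
    rintro _ ⟨x, hx, rfl⟩
    rw [Subgroup.mem_bot]
    exact MonoidHom.mem_ker.1 hx.1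
  have key : (B ≤ (f.ker ⊓ (A ⊔ B)) ⊔ A ∧ A ≤ (f.ker ⊓ (A ⊔ B)) ⊔ B) ∨
      f.ker ⊓ (A ⊔ B) ≤ Subgroup.centralizer ((A ⊔ B : Subgroup G) : Set G) := by
    rcases rop_dichotomy h hNn inf_le_right with h1 | h1
    · rcases rop_dichotomy (RankOnePair_symm h) hNn' (by rw [sup_comm]; exact inf_le_right) with h2 | h2
      · exact Or.inl ⟨h1, h2⟩
      · right; rw [sup_comm B A] at h2; exact h2
    · exact Or.inr h1
  rcases key with ⟨h1, h2⟩ | hc
  · left
    apply le_antisymm
    · have := Subgroup.map_mono (f := f) h2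
      rw [Subgroup.map_sup, hmapN, bot_sup_eq] at this
      exact this
    · have := Subgroup.map_mono (f := f) h1
      rw [Subgroup.map_sup, hmapN, bot_sup_eq] at this
      exact this
  · right
    have hinjA : ∀ a ∈ A, f a = 1 → a = 1 := by
      intro a ha hfa
      have hn : a ∈ f.ker ⊓ (A ⊔ B) := ⟨MonoidHom.mem_ker.2 hfa, Subgroup.mem_sup_left ha⟩
      have := hc hn
      apply rop_norm_left h ha
      apply conjBy_eq_self_iff.2
      apply Subgroup.centralizer_le_normalizer
      rw [Subgroup.mem_centralizer_iff] at this ⊢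
      intro b hb
      exact this b (Subgroup.mem_sup_right hb)
    have hinjB : ∀ b ∈ B, f b = 1 → b = 1 := by
      intro b hb hfb
      have hn : b ∈ f.ker ⊓ (A ⊔ B) := ⟨MonoidHom.mem_ker.2 hfb, Subgroup.mem_sup_right hb⟩
      have := hc hn
      apply rop_norm_right h hb
      apply conjBy_eq_self_iff.2
      apply Subgroup.centralizer_le_normalizer
      rw [Subgroup.mem_centralizer_iff] at this ⊢
      intro a ha
      exact this a (Subgroup.mem_sup_left ha)
    have hroc : ∀ {A B : Subgroup G}, RankOneCondition A B → (∀ b ∈ B, f b = 1 → b = 1) →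
        RankOneCondition (A.map f) (B.map f) := by
      intro A B hAB hinj
      rintro _ ⟨a, ha, rfl⟩ ha1
      have ha1' : a ≠ 1 := by
        intro hc'; apply ha1; rw [hc', map_one]
      obtain ⟨b, hb, hb1, hcon⟩ := hAB a ha ha1'
      refine ⟨f b, Subgroup.mem_map_of_mem f hb, fun hc' => hb1 (hinj b hb hc'), ?_⟩
      rw [← map_inv, ← map_inv, ← map_conjBy, ← map_conjBy, hcon]
    refine ⟨?_, map_nilpotent f h.nilpotent_left, map_nilpotent f h.nilpotent_right,
      hroc h.cond_left hinjB, hroc h.cond_right hinjA⟩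
    intro heq
    -- B ≤ N ⊔ A with N central, so A is normalized by B
    apply rop_not_le_normalizer (RankOnePair_symm h)
    intro b hb
    obtain ⟨a, ha, hab⟩ : f b ∈ A.map f := by rw [heq]; exact Subgroup.mem_map_of_mem f hb
    have hn : b * a⁻¹ ∈ f.ker ⊓ (A ⊔ B) := by
      refine ⟨?_, Subgroup.mul_mem _ (Subgroup.mem_sup_right hb) (Subgroup.inv_mem _ (Subgroup.mem_sup_left ha))⟩
      show b * a⁻¹ ∈ f.ker
      rw [MonoidHom.mem_ker, map_mul, map_inv, hab, mul_inv_cancel]
    have hcen := hc hn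
    have h1 : b * a⁻¹ ∈ Subgroup.normalizer (A : Set G) := by
      apply Subgroup.centralizer_le_normalizer
      rw [Subgroup.mem_centralizer_iff] at hcen ⊢
      intro x hx
      exact hcen x (Subgroup.mem_sup_left hx)
    have h2 : a ∈ Subgroup.normalizer (A : Set G) := Subgroup.le_normalizer ha
    have := Subgroup.mul_mem _ h1 h2
    simpa [mul_assoc] using this

end Map

end Cfsg.Agent.Lib.Helper83
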