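import Mathlib
import Cfsg.Prelude.Def_RootSubgroups
import Cfsg.Agent.Lib.Helper83.RootSub2

set_option autoImplicit false

namespace Cfsg.Agent.Lib.Helper83

open Cfsg
open scoped commutatorElement

variable {G : Type*} [Group G] {S : Set (Subgroup G)}

theorem FAdj_symm {A B : Subgroup G} (h : FAdj S A B) : FAdj S B A :=
  ⟨h.2.1, h.1, RankOnePair_symm h.2.2⟩

theorem rtg_FAdj_symm {A B : Subgroup G} (h : Relation.ReflTransGen (FAdj S) A B) :
    Relation.ReflTransGen (FAdj S) B A := by
  induction h with
  | refl => exact Relation.ReflTransGen.refl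
  | tail _ hstep ih => exact Relation.ReflTransGen.head (FAdj_symm hstep) ih

theorem comp_eq_of_rtg {A B : Subgroup G} (h : Relation.ReflTransGen (FAdj S) A B) :
    componentOf (FAdj S) S A = componentOf (FAdj S) S B := by
  ext E
  constructor
  · rintro ⟨hE, hAE⟩
    exact ⟨hE, (rtg_FAdj_symm h).trans hAE⟩
  · rintro ⟨hE, hBE⟩
    exact ⟨hE, h.trans hBE⟩

theorem exists_FAdj_of_comp {A : Subgroup G} (h : ∃ A' ∈ componentOf (FAdj S) S A, A' ≠ A) :
    ∃ A', FAdj S A A' := by
  obtain ⟨A'', ⟨-, hp⟩, hne⟩ := h
  rcases Relation.ReflTransGen.cases_head hp with h1 | ⟨c, hc, -⟩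
  · exact absurd h1.symm hne
  · exact ⟨c, hc⟩

/-- core lemma for `no line between components` -/
theorem no_line_core (hS : IsRootSubgroupSet S) {A A' B F : Subgroup G} (hA : A ∈ S) (hA' : A' ∈ S)
    (hB : B ∈ S) (hF : F ∈ S) (hAA' : IsRankOnePair A A')
    {a b : G} (ha : a ∈ A) (ha1 : a ≠ 1) (hb : b ∈ B) (hb1 : b ≠ 1)
    (hAB : A ≤ Subgroup.centralizer (B : Set G)) (hf : a * b ∈ F) (hf1 : a * b ≠ 1)
    (h1 : ¬ IsRankOnePair A' B) (h2 : ¬ IsRankOnePair A' F) : False := by
  have hbA : ∀ x ∈ A, x * b = b * x := fun x hx =>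
    ((Subgroup.mem_centralizer_iff.1 (hAB hx)) b hb).symm
  have hAab := hS.commutative A hA
  have hA'ab := hS.commutative A' hA'
  have hab : a * b = b * a := hbA a ha
  have hfA : ∀ x ∈ A, x * (a * b) = (a * b) * x := by
    intro x hx
    rw [← mul_assoc, comm_of_isMulCommutative hAab hx ha, mul_assoc, hbA x hx, mul_assoc]
  -- Step 1
  have hc1 : RootCommutatorCase S B A' := by
    rcases hS.pair B hB A' hA' with h | h | h
    · exfalso
      rw [Subgroup.commutator_eq_bot_iff_le_centralizer] at h
      have hbc : b ∈ Subgroup.centralizer ((A ⊔ A' : Subgroup G) : Set G) := by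
        have h3 : A ⊔ A' ≤ Subgroup.centralizer {b} := by
          apply sup_le
          · intro x hx
            rw [Subgroup.mem_centralizer_singleton_iff]
            exact hbA x hx
          · intro x hx
            rw [Subgroup.mem_centralizer_singleton_iff]
            exact ((Subgroup.mem_centralizer_iff.1 (h hb)) x hx)
        rw [Subgroup.mem_centralizer_iff]
        intro x hx
        have := h3 hx
        rw [Subgroup.mem_centralizer_singleton_iff] at this
        exact this
      apply central_translate_not_root hS hA hA' hAA' hbc hb1 a ha ha1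
      rw [← hab]
      exact ⟨hf1, F, hF, hf⟩
    · exact absurd (RankOnePair_symm h) h1
    · exact h
  -- Step 2
  have hc2 : RootCommutatorCase S F A' := by
    rcases hS.pair F hF A' hA' with h | h | h
    · exfalso
      rw [Subgroup.commutator_eq_bot_iff_le_centralizer] at h
      have hfc : a * b ∈ Subgroup.centralizer ((A ⊔ A' : Subgroup G) : Set G) := by
        have h3 : A ⊔ A' ≤ Subgroup.centralizer {a * b} := by
          apply sup_le
          · intro x hx
            rw [Subgroup.mem_centralizer_singleton_iff]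
            exact hfA x hx
          · intro x hx
            rw [Subgroup.mem_centralizer_singleton_iff]
            exact ((Subgroup.mem_centralizer_iff.1 (h hf)) x hx)
        rw [Subgroup.mem_centralizer_iff]
        intro x hx
        have := h3 hx
        rw [Subgroup.mem_centralizer_singleton_iff] at this
        exact this
      have ha1' : a⁻¹ ≠ 1 := by simpa using ha1
      apply central_translate_not_root hS hA hA' hAA' hfc hf1 a⁻¹ (A.inv_mem ha) ha1'
      have : a * b * a⁻¹ = b := by rw [hab]; simp
      rw [this]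
      exact ⟨hb1, B, hB, hb⟩
    · exact absurd (RankOnePair_symm h) h2
    · exact h
  -- Step 3
  have hP : conjBy A' b ≤ Subgroup.centralizer (A' : Set G) := commCase_conj_comm hA'ab hc1 hb
  have hQ : conjBy A' (a * b) ≤ Subgroup.centralizer (A' : Set G) := commCase_conj_comm hA'ab hc2 hf
  have hQ2 : conjBy A' (a * b) ≤ Subgroup.centralizer (conjBy A' a : Set G) := by
    rw [← conjBy_conjBy]
    exact le_centralizer_conj a hP
  have hQeq : conjBy A' (a * b) = conjBy (conjBy A' a) b := by
    rw [conjBy_conjBy, hab]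
  -- Step 4
  have hA''S : conjBy A' a ∈ S := hS.conj_mem A' hA' a
  have hne : conjBy A' a ≠ A' := fun hc => ha1 (rop_norm_left hAA' ha hc)
  have hmem1 : A' ∈ unipotentSubgroups A A' := rop_B_mem_unip hAA'
  have hmem2 : conjBy A' a ∈ unipotentSubgroups A A' := unip_conj hmem1 (Subgroup.mem_sup_left ha)
  obtain ⟨hrop, hsup⟩ := rop_pair_of_unip hAA' hmem2 hmem1 hne
  obtain ⟨a'', ha'', ha''1⟩ := rop_exists_left hrop
  have hzQ : b * a'' * b⁻¹ ∈ conjBy A' (a * b) := by
    rw [hQeq]; exact conj_mem_conjBy ha''
  have hz1 : b * a'' * b⁻¹ ≠ 1 := by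
    intro hc
    apply ha''1
    have := congrArg (fun t => b⁻¹ * t * b) hc
    simpa [mul_assoc] using this
  have hzc : b * a'' * b⁻¹ ∈ Subgroup.centralizer ((conjBy A' a ⊔ A' : Subgroup G) : Set G) := by
    have h3 : conjBy A' a ⊔ A' ≤ Subgroup.centralizer {b * a'' * b⁻¹} := by
      apply sup_le
      · intro x hx
        rw [Subgroup.mem_centralizer_singleton_iff]
        exact (Subgroup.mem_centralizer_iff.1 (hQ2 hzQ)) x hx
      · intro x hx
        rw [Subgroup.mem_centralizer_singleton_iff]
        exact (Subgroup.mem_centralizer_iff.1 (hQ hzQ)) x hx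
    rw [Subgroup.mem_centralizer_iff]
    intro x hx
    have := h3 hx
    rw [Subgroup.mem_centralizer_singleton_iff] at this
    exact this
  rcases hS.pair B hB (conjBy A' a) hA''S with h | h | h
  · rw [Subgroup.commutator_eq_bot_iff_le_centralizer] at h
    have h4 : conjBy (conjBy A' a) b = conjBy A' a := conjBy_eq_self_of_le_centralizer hb h
    rw [hQeq, h4] at hQ
    exact rop_not_le_centralizer hrop hQ
  · apply h1
    have h5 := rop_conj h a⁻¹
    have h6 : conjBy B a⁻¹ = B := by
      apply conjBy_eq_self_iff.2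
      apply Subgroup.centralizer_le_normalizer
      rw [Subgroup.mem_centralizer_iff]
      intro x hx
      exact (Subgroup.mem_centralizer_iff.1 (hAB (A.inv_mem ha))) x hx
    rw [h6, conjBy_conjBy] at h5
    simp only [inv_mul_cancel, conjBy_one] at h5
    exact RankOnePair_symm h5
  · have hc : b * a'' * b⁻¹ * a''⁻¹ ∈ ⁅B, conjBy A' a⁆ := by
      have := Subgroup.commutator_mem_commutator hb ha''
      rw [commutatorElement_def] at this
      exact this
    have hc1' : b * a'' * b⁻¹ * a''⁻¹ ≠ 1 := by
      intro hcon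
      have h7 : b * a'' * b⁻¹ = a'' := by
        have := congrArg (· * a'') hcon
        simpa [mul_assoc] using this
      rw [h7] at hzQ
      apply ha''1
      apply rop_norm_left hrop ha''
      exact conjBy_eq_self_iff.2 (Subgroup.centralizer_le_normalizer _ (hQ hzQ))
    have ha''1' : a''⁻¹ ≠ 1 := by simpa using ha''1
    exact central_translate_not_root hS hA''S hA' hrop hzc hz1 a''⁻¹ (Subgroup.inv_mem _ ha'') ha''1'
      ⟨hc1', _, h.1, hc⟩

end Cfsg.Agent.Lib.Helper83
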