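import Mathlib
import Cfsg.Prelude.Def_RootSubgroups
import Cfsg.Agent.Lib.Helper83.RootSub3

set_option autoImplicit false

namespace Cfsg.Agent.Lib.Helper83

open Cfsg
open scoped commutatorElement

variable {G : Type*} [Group G] {S : Set (Subgroup G)}

theorem conjBy_commutator_of_mem_sup (A B : Subgroup G) {x : G} (hx : x ∈ A ⊔ B) :
    conjBy ⁅A, B⁆ x = ⁅A, B⁆ := by
  apply conjBy_eq_self_iff.2
  exact (sup_le (Subgroup.normalizer_commutator_ge_left A B) (Subgroup.normalizer_commutator_ge_right A B)) hx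

/-- all element commutators trivial implies the commutator subgroup is trivial -/
theorem commutator_eq_bot_of_forall {A B : Subgroup G}
    (h : ∀ a ∈ A, a ≠ 1 → ∀ b ∈ B, b ≠ 1 → a * b = b * a) : ⁅A, B⁆ = ⊥ := by
  rw [Subgroup.commutator_eq_bot_iff_le_centralizer]
  intro a ha
  rw [Subgroup.mem_centralizer_iff]
  intro b hb
  by_cases ha1 : a = 1
  · rw [ha1]; simp
  by_cases hb1 : b = 1
  · rw [hb1]; simp
  exact (h a ha ha1 b hb hb1).symm

/-- for a rank one pair of members, the commutator subgroup is not a member -/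
theorem rop_commutator_not_mem (hS : IsRootSubgroupSet S) {A B : Subgroup G} (hA : A ∈ S) (hB : B ∈ S)
    (h : IsRankOnePair A B) : ⁅A, B⁆ ∉ S := by
  intro hC
  have hle : ⁅A, B⁆ ≤ A ⊔ B := Subgroup.commutator_le_sup A B
  rcases rop_dichotomy h (fun x hx => conjBy_commutator_of_mem_sup A B hx) hle with h1 | h1
  · -- B ≤ C ⊔ A
    rcases hS.pair _ hC A hA with h2 | h2 | h2
    · rw [Subgroup.commutator_eq_bot_iff_le_centralizer] at h2
      apply rop_not_le_normalizer (RankOnePair_symm h)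
      refine h1.trans (sup_le ?_ Subgroup.le_normalizer)
      exact h2.trans (Subgroup.centralizer_le_normalizer _)
    · apply rop_not_le_normalizer (RankOnePair_symm h2)
      exact Subgroup.normalizer_commutator_ge_left A B
    · apply hS.ne_bot _ h2.1
      apply commutator_eq_bot_of_forall
      intro c hc hc1 a ha ha1
      by_contra hne
      have hz : ⁅c, a⁆ ∈ ⁅⁅A, B⁆, A⁆ := Subgroup.commutator_mem_commutator hc ha
      have hzc : ⁅c, a⁆ ∈ Subgroup.centralizer ((A ⊔ B : Subgroup G) : Set G) := by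
        rw [Subgroup.mem_centralizer_iff]
        intro x hx
        have hx' : x ∈ ⁅A, B⁆ ⊔ A := (sup_le le_sup_right h1) hx
        exact (h2.2.1 _ hz x hx').symm
      have hz1 : ⁅c, a⁆ ≠ 1 := by
        intro hcon
        exact hne (commutatorElement_eq_one_iff_mul_comm.1 hcon)
      apply central_translate_not_root hS hA hB h hzc hz1 a ha ha1
      refine ⟨?_, conjBy A c, hS.conj_mem A hA c, ?_⟩
      · intro hcon
        apply ha1
        have h3 : c * a * c⁻¹ = 1 := by
          rw [commutatorElement_def] at hcon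
          simpa [mul_assoc] using hcon
        have := congrArg (fun t => c⁻¹ * t * c) h3
        simpa [mul_assoc] using this
      · have : ⁅c, a⁆ * a = c * a * c⁻¹ := by
          rw [commutatorElement_def]; simp [mul_assoc]
        rw [this]
        exact conj_mem_conjBy ha
  · -- C central
    apply hS.ne_bot _ hC
    apply commutator_eq_bot_of_forall
    intro a ha ha1 b hb hb1
    by_contra hne
    have hz : ⁅a, b⁆ ∈ ⁅A, B⁆ := Subgroup.commutator_mem_commutator ha hb
    have hzc : ⁅a, b⁆ ∈ Subgroup.centralizer ((B ⊔ A : Subgroup G) : Set G) := by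
      rw [sup_comm]; exact h1 hz
    have hz1 : ⁅a, b⁆ ≠ 1 := by
      intro hcon
      exact hne (commutatorElement_eq_one_iff_mul_comm.1 hcon)
    apply central_translate_not_root hS hB hA (RankOnePair_symm h) hzc hz1 b hb hb1
    refine ⟨?_, conjBy B a, hS.conj_mem B hB a, ?_⟩
    · intro hcon
      apply hb1
      have h3 : a * b * a⁻¹ = 1 := by
        rw [commutatorElement_def] at hcon
        simpa [mul_assoc] using hcon
      have := congrArg (fun t => a⁻¹ * t * a) h3
      simpa [mul_assoc] using this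
    · have : ⁅a, b⁆ * b = a * b * a⁻¹ := by
        rw [commutatorElement_def]; simp [mul_assoc]
      rw [this]
      exact conj_mem_conjBy hb

/-- if `⁅A, B⁆ ∈ S` and `A` has a partner then `(A, B)` is in the commutator case -/
theorem commCase_of_mem (hS : IsRootSubgroupSet S) {A B : Subgroup G} (hA : A ∈ S) (hB : B ∈ S)
    (hC : ⁅A, B⁆ ∈ S) : RootCommutatorCase S A B := by
  rcases hS.pair A hA B hB with h | h | h
  · exact absurd h (hS.ne_bot _ hC)
  · exact absurd hC (rop_commutator_not_mem hS hA hB h)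
  · exact h

/-- `A` is different from `⁅A, B⁆` in the commutator case -/
theorem commCase_ne (hS : IsRootSubgroupSet S) {A B : Subgroup G}
    (hc : RootCommutatorCase S A B) : A ≠ ⁅A, B⁆ := by
  intro heq
  apply hS.ne_bot _ hc.1
  rw [Subgroup.commutator_eq_bot_iff_le_centralizer]
  intro a ha
  rw [Subgroup.mem_centralizer_iff]
  intro b hb
  rw [heq] at ha
  exact (hc.2.1 a ha b (Subgroup.mem_sup_right hb)).symm

/-- In the commutator case with `A` non-isolated, no nonidentity element of `B` commutes with a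
nonidentity element of `A`. -/
theorem commCase_cent_trivial (hS : IsRootSubgroupSet S) {A B E : Subgroup G} (hA : A ∈ S)
    (hE : E ∈ S) (hAE : IsRankOnePair A E) (hc : RootCommutatorCase S A B)
    {a b : G} (ha : a ∈ A) (ha1 : a ≠ 1) (hb : b ∈ B) (hab : a * b = b * a) : b = 1 := by
  by_contra hb1
  have hmem : a ∈ conjBy A b := by
    have : a = b * a * b⁻¹ := by rw [← hab]; simp
    rw [this]; exact conj_mem_conjBy ha
  rcases root_ti hS hA hE hAE (conjBy A b) (hS.conj_mem A hA b) with h | h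
  · have : a ∈ A ⊓ conjBy A b := ⟨ha, hmem⟩
    rw [h, Subgroup.mem_bot] at this
    exact ha1 this
  · -- b normalizes A, so ⁅A,B⁆ ≤ A
    have hle : ⁅A, B⁆ ≤ A := by
      rw [← hc.2.2.2 b hb hb1, Subgroup.closure_le]
      rintro _ ⟨a', ha', rfl⟩
      have h1 : b * a'⁻¹ * b⁻¹ ∈ conjBy A b := conj_mem_conjBy (A.inv_mem ha')
      rw [← h] at h1
      have := A.mul_mem ha' h1
      simpa [mul_assoc] using this
    rcases root_ti hS hA hE hAE _ hc.1 with h2 | h2
    · apply hS.ne_bot _ hc.1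
      rw [← h2]; exact (inf_eq_right.2 hle).symm
    · exact commCase_ne hS hc h2

/-- the commutator isomorphism `B ≃ ⁅A, B⁆` -/
theorem commCase_equiv (hS : IsRootSubgroupSet S) {A B E : Subgroup G} (hA : A ∈ S)
    (hE : E ∈ S) (hAE : IsRankOnePair A E) (hc : RootCommutatorCase S A B)
    {a : G} (ha : a ∈ A) (ha1 : a ≠ 1) :
    ∃ φ : ↥B ≃* ↥⁅A, B⁆, ∀ b : ↥B, (φ b : G) = a⁻¹ * (b : G)⁻¹ * a * b := by
  have hmemC : ∀ b ∈ B, a⁻¹ * b⁻¹ * a * b ∈ ⁅A, B⁆ := by
    intro b hb
    have := Subgroup.commutator_mem_commutator (A.inv_mem ha) (B.inv_mem hb)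
    rw [commutatorElement_def] at this
    simpa using this
  have hcentral : ∀ c ∈ ⁅A, B⁆, ∀ x ∈ A ⊔ B, c * x = x * c := hc.2.1
  let φ : ↥B →* ↥⁅A, B⁆ := MonoidHom.mk' (fun b => ⟨a⁻¹ * (b : G)⁻¹ * a * b, hmemC b b.2⟩) (by
    intro b b'
    apply Subtype.ext
    show a⁻¹ * ((b : G) * b')⁻¹ * a * (b * b') = (a⁻¹ * (b : G)⁻¹ * a * b) * (a⁻¹ * (b' : G)⁻¹ * a * b')
    have h1 := hcentral _ (hmemC b b.2) _ (Subgroup.mem_sup_right b'.2)
    have h2 := hcentral _ (hmemC b' b'.2) _ (Subgroup.commutator_le_sup A B (hmemC b b.2))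
    calc a⁻¹ * ((b : G) * b')⁻¹ * a * (b * b')
        = a⁻¹ * (b' : G)⁻¹ * a * ((a⁻¹ * (b : G)⁻¹ * a * b) * b') := by simp [mul_assoc]
      _ = a⁻¹ * (b' : G)⁻¹ * a * (b' * (a⁻¹ * (b : G)⁻¹ * a * b)) := by rw [h1]
      _ = (a⁻¹ * (b' : G)⁻¹ * a * b') * (a⁻¹ * (b : G)⁻¹ * a * b) := by simp [mul_assoc]
      _ = (a⁻¹ * (b : G)⁻¹ * a * b) * (a⁻¹ * (b' : G)⁻¹ * a * b') := h2)
  have hφ : ∀ b : ↥B, (φ b : G) = a⁻¹ * (b : G)⁻¹ * a * b := fun b => rfl
  have hinj : Function.Injective φ := by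
    rw [injective_iff_map_eq_one]
    intro b hb
    have h1 : a⁻¹ * (b : G)⁻¹ * a * b = 1 := by
      rw [← hφ b, hb]; rfl
    have h2 : a * (b : G) = b * a := by
      have := congrArg (fun t => (b : G) * a * t) h1
      simpa [mul_assoc] using this
    exact Subtype.ext (commCase_cent_trivial hS hA hE hAE hc ha ha1 b.2 h2)
  have hsurj : Function.Surjective φ := by
    have ha1' : a⁻¹ ≠ 1 := by simpa using ha1
    have hcl := hc.2.2.1 a⁻¹ (A.inv_mem ha) ha1'
    have hsub : ⁅A, B⁆ ≤ (MonoidHom.range φ).map (Subgroup.subtype _) := by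
      refine hcl.ge.trans ?_
      rw [Subgroup.closure_le]
      rintro _ ⟨b, hb, rfl⟩
      refine ⟨φ ⟨b⁻¹, B.inv_mem hb⟩, ⟨_, rfl⟩, ?_⟩
      show a⁻¹ * (b⁻¹)⁻¹ * a * b⁻¹ = a⁻¹ * b * a⁻¹⁻¹ * b⁻¹
      simp
    intro c
    obtain ⟨_, ⟨b, rfl⟩, hb⟩ := hsub c.2
    exact ⟨b, Subtype.ext hb⟩
  exact ⟨MulEquiv.ofBijective φ ⟨hinj, hsurj⟩, fun b => rfl⟩

theorem mem_sup_of_comm {A C : Subgroup G} (h : A ≤ Subgroup.centralizer (C : Set G)) {x : G}
    (hx : x ∈ A ⊔ C) : ∃ a ∈ A, ∃ c ∈ C, x = a * c := by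
  let K : Subgroup G :=
    { carrier := {x | ∃ a ∈ A, ∃ c ∈ C, x = a * c}
      one_mem' := ⟨1, A.one_mem, 1, C.one_mem, by simp⟩
      mul_mem' := by
        rintro _ _ ⟨a, ha, c, hc, rfl⟩ ⟨a', ha', c', hc', rfl⟩
        refine ⟨a * a', A.mul_mem ha ha', c * c', C.mul_mem hc hc', ?_⟩
        have := (Subgroup.mem_centralizer_iff.1 (h ha')) c hc
        calc a * c * (a' * c') = a * (c * a') * c' := by simp [mul_assoc]
          _ = a * (a' * c) * c' := by rw [this]
          _ = a * a' * (c * c') := by simp [mul_assoc]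
      inv_mem' := by
        rintro _ ⟨a, ha, c, hc, rfl⟩
        refine ⟨a⁻¹, A.inv_mem ha, c⁻¹, C.inv_mem hc, ?_⟩
        have := (Subgroup.mem_centralizer_iff.1 (h (A.inv_mem ha))) c⁻¹ (C.inv_mem hc)
        rw [mul_inv_rev, this] }
  have hK : A ⊔ C ≤ K := by
    apply sup_le
    · intro a ha; exact ⟨a, ha, 1, C.one_mem, by simp⟩
    · intro c hc; exact ⟨1, A.one_mem, c, hc, by simp⟩
  exact hK hx

/-- In the commutator case, `a * c` is conjugate to `a` under `B`. -/
theorem commCase_mul_eq_conj (hS : IsRootSubgroupSet S) {A B E : Subgroup G} (hA : A ∈ S)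
    (hE : E ∈ S) (hAE : IsRankOnePair A E) (hc : RootCommutatorCase S A B)
    {a c : G} (ha : a ∈ A) (ha1 : a ≠ 1) (hcC : c ∈ ⁅A, B⁆) : ∃ b ∈ B, a * c = b * a * b⁻¹ := by
  obtain ⟨φ, hφ⟩ := commCase_equiv hS hA hE hAE hc ha ha1
  obtain ⟨b', hb'⟩ := φ.surjective ⟨c, hcC⟩
  have h1 : a⁻¹ * (b' : G)⁻¹ * a * b' = c := by
    rw [← hφ b', hb']
  refine ⟨(b' : G)⁻¹, B.inv_mem b'.2, ?_⟩
  rw [← h1]; simp [mul_assoc]

theorem commCase_centralizes {A B : Subgroup G} (hc : RootCommutatorCase S A B) :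
    ⁅A, B⁆ ≤ Subgroup.centralizer ((A ⊔ B : Subgroup G) : Set G) := by
  intro c hcC
  rw [Subgroup.mem_centralizer_iff]
  intro x hx
  exact (hc.2.1 c hcC x hx).symm

/-- a member contained in `⁅A, B⁆` equals it (commutator case, `A` non-isolated) -/
theorem commCase_sub_eq (hS : IsRootSubgroupSet S) {A B E F : Subgroup G} (hA : A ∈ S)
    (hE : E ∈ S) (hAE : IsRankOnePair A E) (hc : RootCommutatorCase S A B)
    (hF : F ∈ S) (hFC : F ≤ ⁅A, B⁆) : F = ⁅A, B⁆ := by
  have hCS := hc.1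
  have hCcA : ⁅A, B⁆ ≤ Subgroup.centralizer (A : Set G) := by
    intro c hcC
    rw [Subgroup.mem_centralizer_iff]
    intro x hx
    exact (hc.2.1 c hcC x (Subgroup.mem_sup_left hx)).symm
  rcases hS.pair F hF E hE with h | h | h
  · exfalso
    rw [Subgroup.commutator_eq_bot_iff_le_centralizer] at h
    obtain ⟨z, hz, hz1⟩ := exists_ne_one_of_ne_bot (hS.ne_bot F hF)
    obtain ⟨a, ha, ha1⟩ := rop_exists_left hAE
    have hzc : z ∈ Subgroup.centralizer ((A ⊔ E : Subgroup G) : Set G) := by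
      have h3 : A ⊔ E ≤ Subgroup.centralizer {z} := by
        apply sup_le
        · intro x hx
          rw [Subgroup.mem_centralizer_singleton_iff]
          exact ((Subgroup.mem_centralizer_iff.1 (hCcA (hFC hz))) x hx)
        · intro x hx
          rw [Subgroup.mem_centralizer_singleton_iff]
          exact ((Subgroup.mem_centralizer_iff.1 (h hz)) x hx)
      rw [Subgroup.mem_centralizer_iff]
      intro x hx
      have := h3 hx
      rw [Subgroup.mem_centralizer_singleton_iff] at this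
      exact this
    apply central_translate_not_root hS hA hE hAE hzc hz1 a ha ha1
    have hza : z * a = a * z := ((Subgroup.mem_centralizer_iff.1 (hCcA (hFC hz))) a ha).symm
    obtain ⟨b, hb, hb'⟩ := commCase_mul_eq_conj hS hA hE hAE hc ha ha1 (hFC hz)
    rw [hza, hb']
    refine ⟨?_, conjBy A b, hS.conj_mem A hA b, conj_mem_conjBy ha⟩
    intro hcon
    apply ha1
    have := congrArg (fun t => b⁻¹ * t * b) hcon
    simpa [mul_assoc] using this
  · rcases root_ti hS hF hE h _ hCS with h1 | h1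
    · exfalso
      apply hS.ne_bot F hF
      rw [← h1]; exact (inf_eq_left.2 hFC).symm
    · exact h1
  · -- commutator case (F, E)
    have hEab := hS.commutative E hE
    rcases hS.pair ⁅A, B⁆ hCS E hE with h1 | h1 | h1
    · exfalso
      apply hS.ne_bot _ h.1
      rw [eq_bot_iff, ← h1]
      exact Subgroup.commutator_mono hFC le_rfl
    · exfalso
      obtain ⟨f, hf, hf1⟩ := exists_ne_one_of_ne_bot (hS.ne_bot F hF)
      exact rop_conj_not_comm (RankOnePair_symm h1) (hFC hf) hf1 (commCase_conj_comm hEab h hf)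
    · have hEF := commCase_symm h
      have hEC := commCase_symm h1
      obtain ⟨e, he, he1⟩ := rop_exists_right hAE
      obtain ⟨f₀, hf₀, hf₀1⟩ := exists_ne_one_of_ne_bot (hS.ne_bot F hF)
      have heq : ⁅E, F⁆ = ⁅E, ⁅A, B⁆⁆ := by
        rw [← hEF.2.2.2 f₀ hf₀ hf₀1, ← hEC.2.2.2 f₀ (hFC hf₀) hf₀1]
      obtain ⟨ψ, hψ⟩ := commCase_equiv hS hE hA (RankOnePair_symm hAE) hEC he he1
      obtain ⟨ψ', hψ'⟩ := commCase_equiv hS hE hA (RankOnePair_symm hAE) hEF he he1
      apply le_antisymm hFC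
      intro c hcC
      have h2 : (ψ ⟨c, hcC⟩ : G) ∈ ⁅E, F⁆ := by rw [heq]; exact (ψ ⟨c, hcC⟩).2
      obtain ⟨f, hf⟩ := ψ'.surjective ⟨_, h2⟩
      have h3 : ψ ⟨(f : G), hFC f.2⟩ = ψ ⟨c, hcC⟩ := by
        apply Subtype.ext
        rw [hψ]
        have := congrArg Subtype.val hf
        rw [hψ'] at this
        exact this
      have h4 := ψ.injective h3
      have h5 : (f : G) = c := congrArg Subtype.val h4
      rw [← h5]; exact f.2

/-- the members of `S` inside `A ⊔ ⁅A, B⁆` -/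
theorem commCase_members (hS : IsRootSubgroupSet S) {A B E : Subgroup G} (hA : A ∈ S)
    (hE : E ∈ S) (hAE : IsRankOnePair A E) (hc : RootCommutatorCase S A B) :
    membersIn S (A ⊔ ⁅A, B⁆) = (fun b : G => conjBy A b) '' (B : Set G) ∪ {⁅A, B⁆} := by
  have hAcC : A ≤ Subgroup.centralizer ((⁅A, B⁆ : Subgroup G) : Set G) := by
    intro a ha
    rw [Subgroup.mem_centralizer_iff]
    intro c hcC
    exact hc.2.1 c hcC a (Subgroup.mem_sup_left ha)
  ext F
  constructor
  · rintro ⟨hFS, hFle⟩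
    by_cases hFC : F ≤ ⁅A, B⁆
    · right
      exact commCase_sub_eq hS hA hE hAE hc hFS hFC
    · left
      obtain ⟨x, hxF, hxC⟩ := SetLike.not_le_iff_exists.1 hFC
      obtain ⟨a, ha, c, hcC, rfl⟩ := mem_sup_of_comm hAcC (hFle hxF)
      have ha1 : a ≠ 1 := by
        intro hcon
        apply hxC
        rw [hcon, one_mul]; exact hcC
      obtain ⟨b, hb, hb'⟩ := commCase_mul_eq_conj hS hA hE hAE hc ha ha1 hcC
      refine ⟨b, hb, ?_⟩
      show conjBy A b = F
      have hx1 : a * c ≠ 1 := by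
        rw [hb']
        intro hcon
        apply ha1
        have := congrArg (fun t => b⁻¹ * t * b) hcon
        simpa [mul_assoc] using this
      rcases root_ti hS (hS.conj_mem A hA b) (hS.conj_mem E hE b) (rop_conj hAE b) F hFS with h | h
      · exfalso
        have : a * c ∈ conjBy A b ⊓ F := ⟨by rw [hb']; exact conj_mem_conjBy ha, hxF⟩
        rw [h, Subgroup.mem_bot] at this
        exact hx1 this
      · exact h
  · rintro (⟨b, hb, rfl⟩ | hF)
    · refine ⟨hS.conj_mem A hA b, ?_⟩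
      intro x hx
      rw [mem_conjBy] at hx
      have h1 : ⁅b, b⁻¹ * x * b⁆ ∈ ⁅A, B⁆ := by
        rw [Subgroup.commutator_comm]
        exact Subgroup.commutator_mem_commutator hb hx
      have h2 : x = ⁅b, b⁻¹ * x * b⁆ * (b⁻¹ * x * b) := by
        rw [commutatorElement_def]; simp [mul_assoc]
      rw [h2]
      exact Subgroup.mul_mem _ (Subgroup.mem_sup_right h1) (Subgroup.mem_sup_left hx)
    · rw [Set.mem_singleton_iff] at hF
      rw [hF]
      exact ⟨hc.1, le_sup_right⟩

theorem commCase_partition (hS : IsRootSubgroupSet S) {A B E : Subgroup G} (hA : A ∈ S)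
    (hE : E ∈ S) (hAE : IsRankOnePair A E) (hc : RootCommutatorCase S A B) :
    IsSubgroupPartition (A ⊔ ⁅A, B⁆) (membersIn S (A ⊔ ⁅A, B⁆)) := by
  have hAcC : A ≤ Subgroup.centralizer ((⁅A, B⁆ : Subgroup G) : Set G) := by
    intro a ha
    rw [Subgroup.mem_centralizer_iff]
    intro c hcC
    exact hc.2.1 c hcC a (Subgroup.mem_sup_left ha)
  have hmem := commCase_members hS hA hE hAE hc
  refine ⟨fun F hF => hF.2, ?_, ?_⟩
  · intro x hx hx1
    obtain ⟨a, ha, c, hcC, rfl⟩ := mem_sup_of_comm hAcC hx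
    by_cases ha1 : a = 1
    · refine ⟨⁅A, B⁆, ⟨hc.1, le_sup_right⟩, ?_⟩
      rw [ha1, one_mul]; exact hcC
    · obtain ⟨b, hb, hb'⟩ := commCase_mul_eq_conj hS hA hE hAE hc ha ha1 hcC
      refine ⟨conjBy A b, ?_, by rw [hb']; exact conj_mem_conjBy ha⟩
      rw [hmem]; left; exact ⟨b, hb, rfl⟩
  · intro F hF F' hF' hne
    have hti : ∀ b : G, ∀ F'' ∈ S, conjBy A b ⊓ F'' = ⊥ ∨ conjBy A b = F'' := fun b F'' hF'' =>
      root_ti hS (hS.conj_mem A hA b) (hS.conj_mem E hE b) (rop_conj hAE b) F'' hF''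
    have hFS := hF.1
    have hF'S := hF'.1
    rw [hmem] at hF hF'
    rcases hF with ⟨b, hb, rfl⟩ | hF
    · rcases hti b F' hF'S with h | h
      · exact h
      · exact absurd h hne
    · rcases hF' with ⟨b, hb, rfl⟩ | hF'
      · rcases hti b F hFS with h | h
        · rw [inf_comm]; exact h
        · exact absurd h.symm hne
      · rw [Set.mem_singleton_iff] at hF hF'
        exact absurd (hF.trans hF'.symm) hne

end Cfsg.Agent.Lib.Helper83
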