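import Mathlib
import Cfsg.Prelude.Def_RootSubgroups
import Cfsg.Agent.Lib.Helper83.RootSub4

set_option autoImplicit false

namespace Cfsg.Agent.Lib.Helper83

open Cfsg
open scoped commutatorElement

variable {G : Type*} [Group G] {S : Set (Subgroup G)}

/-- If the image of a subgroup under a multiplicative map generates `K`, the map is onto `K`. -/
theorem surj_of_closure {H K : Subgroup G} (f : G → G)
    (hmul : ∀ x ∈ H, ∀ y ∈ H, f (x * y) = f x * f y)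
    (hcl : Subgroup.closure (f '' (H : Set G)) = K) : ∀ c ∈ K, ∃ x ∈ H, f x = c := by
  have h1 : f 1 = 1 := by
    have := hmul 1 H.one_mem 1 H.one_mem
    rw [mul_one] at this
    exact (mul_eq_left.1 this.symm)
  let L : Subgroup G :=
    { carrier := f '' (H : Set G)
      one_mem' := ⟨1, H.one_mem, h1⟩
      mul_mem' := by
        rintro _ _ ⟨x, hx, rfl⟩ ⟨y, hy, rfl⟩
        exact ⟨x * y, H.mul_mem hx hy, hmul x hx y hy⟩
      inv_mem' := by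
        rintro _ ⟨x, hx, rfl⟩
        refine ⟨x⁻¹, H.inv_mem hx, ?_⟩
        have := hmul x⁻¹ (H.inv_mem hx) x hx
        rw [inv_mul_cancel, h1] at this
        exact eq_inv_of_mul_eq_one_left this.symm }
  have hL : Subgroup.closure (f '' (H : Set G)) = L := Subgroup.closure_eq L
  intro c hc
  rw [← hcl, hL] at hc
  exact hc

section CommCase

variable {A B : Subgroup G}

theorem commCase_comm_left (hc : RootCommutatorCase S A B) {c x : G} (hcC : c ∈ ⁅A, B⁆) (hx : x ∈ A) :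
    c * x = x * c := hc.2.1 c hcC x (Subgroup.mem_sup_left hx)

theorem commCase_comm_right (hc : RootCommutatorCase S A B) {c x : G} (hcC : c ∈ ⁅A, B⁆) (hx : x ∈ B) :
    c * x = x * c := hc.2.1 c hcC x (Subgroup.mem_sup_right hx)

/-- for `a ∈ A#`, `b ↦ ⁅a, b⁆` maps `B` onto `⁅A, B⁆` -/
theorem commCase_surj_right (hc : RootCommutatorCase S A B) {a : G} (ha : a ∈ A) (ha1 : a ≠ 1) :
    ∀ c ∈ ⁅A, B⁆, ∃ b ∈ B, ⁅a, b⁆ = c := by
  apply surj_of_closure (fun b => a * b * a⁻¹ * b⁻¹) _ (hc.2.2.1 a ha ha1)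
  intro b hb b' hb'
  have hmem : a * b' * a⁻¹ * b'⁻¹ ∈ ⁅A, B⁆ := Subgroup.commutator_mem_commutator ha hb'
  have h1 := hc.2.1 _ hmem (a * b * a⁻¹)
    (Subgroup.mul_mem _ (Subgroup.mul_mem _ (Subgroup.mem_sup_left ha) (Subgroup.mem_sup_right hb))
      (Subgroup.inv_mem _ (Subgroup.mem_sup_left ha)))
  show a * (b * b') * a⁻¹ * (b * b')⁻¹ = a * b * a⁻¹ * b⁻¹ * (a * b' * a⁻¹ * b'⁻¹)
  calc a * (b * b') * a⁻¹ * (b * b')⁻¹ = (a * b * a⁻¹) * (a * b' * a⁻¹ * b'⁻¹) * b⁻¹ := by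
        simp [mul_assoc]
    _ = (a * b' * a⁻¹ * b'⁻¹) * (a * b * a⁻¹) * b⁻¹ := by rw [h1]
    _ = (a * b' * a⁻¹ * b'⁻¹) * (a * b * a⁻¹ * b⁻¹) := by simp [mul_assoc]
    _ = a * b * a⁻¹ * b⁻¹ * (a * b' * a⁻¹ * b'⁻¹) := by
        have hmem2 : a * b * a⁻¹ * b⁻¹ ∈ ⁅A, B⁆ := Subgroup.commutator_mem_commutator ha hb
        exact hc.2.1 _ hmem _ (Subgroup.commutator_le_sup A B hmem2)

/-- for `b ∈ B#`, `a ↦ ⁅a, b⁆` maps `A` onto `⁅A, B⁆` -/
theorem commCase_surj_left (hc : RootCommutatorCase S A B) {b : G} (hb : b ∈ B) (hb1 : b ≠ 1) :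
    ∀ c ∈ ⁅A, B⁆, ∃ a ∈ A, ⁅a, b⁆ = c := by
  apply surj_of_closure (fun a => a * b * a⁻¹ * b⁻¹) _ (hc.2.2.2 b hb hb1)
  intro a ha a' ha'
  have hmem : a' * b * a'⁻¹ * b⁻¹ ∈ ⁅A, B⁆ := Subgroup.commutator_mem_commutator ha' hb
  have h1 := hc.2.1 _ hmem a (Subgroup.mem_sup_left ha)
  show a * a' * b * (a * a')⁻¹ * b⁻¹ = a * b * a⁻¹ * b⁻¹ * (a' * b * a'⁻¹ * b⁻¹)
  have hmem2 : a * b * a⁻¹ * b⁻¹ ∈ ⁅A, B⁆ := Subgroup.commutator_mem_commutator ha hb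
  calc a * a' * b * (a * a')⁻¹ * b⁻¹ = a * (a' * b * a'⁻¹ * b⁻¹) * (b * a⁻¹ * b⁻¹) := by
        simp [mul_assoc]
    _ = (a' * b * a'⁻¹ * b⁻¹) * a * (b * a⁻¹ * b⁻¹) := by rw [← h1]
    _ = (a' * b * a'⁻¹ * b⁻¹) * (a * b * a⁻¹ * b⁻¹) := by simp [mul_assoc]
    _ = a * b * a⁻¹ * b⁻¹ * (a' * b * a'⁻¹ * b⁻¹) :=
        hc.2.1 _ hmem _ (Subgroup.commutator_le_sup A B hmem2)

/-- inverse form -/
theorem commCase_surj_left' (hc : RootCommutatorCase S A B) {b : G} (hb : b ∈ B) (hb1 : b ≠ 1) :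
    ∀ c ∈ ⁅A, B⁆, ∃ a ∈ A, ⁅b, a⁆ = c := by
  intro c hcC
  obtain ⟨a, ha, h⟩ := commCase_surj_left hc hb hb1 c⁻¹ (Subgroup.inv_mem _ hcC)
  refine ⟨a, ha, ?_⟩
  rw [← commutatorElement_inv, h, inv_inv]

theorem commCase_surj_right' (hc : RootCommutatorCase S A B) {a : G} (ha : a ∈ A) (ha1 : a ≠ 1) :
    ∀ c ∈ ⁅A, B⁆, ∃ b ∈ B, ⁅b, a⁆ = c := by
  intro c hcC
  obtain ⟨b, hb, h⟩ := commCase_surj_right hc ha ha1 c⁻¹ (Subgroup.inv_mem _ hcC)
  refine ⟨b, hb, ?_⟩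
  rw [← commutatorElement_inv, h, inv_inv]

/-- `A ⊓ ⁅A, B⁆ = ⊥` in the commutator case -/
theorem commCase_inf_eq_bot (hS : IsRootSubgroupSet S) (hc : RootCommutatorCase S A B) :
    A ⊓ ⁅A, B⁆ = ⊥ := by
  rw [eq_bot_iff]
  rintro a ⟨ha, haC⟩
  rw [Subgroup.mem_bot]
  by_contra ha1
  exact commCase_not_of_comm hS ha ha1 (fun b hb => commCase_comm_right hc haC hb) hc

/-- the centralizer of `B` in `A ⊔ ⁅A, B⁆` is `⁅A, B⁆` -/
theorem commCase_cent_right (hS : IsRootSubgroupSet S) (hc : RootCommutatorCase S A B) {x : G}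
    (hx : x ∈ A ⊔ ⁅A, B⁆) (hxB : ∀ b ∈ B, b * x = x * b) : x ∈ ⁅A, B⁆ := by
  have hAcC : A ≤ Subgroup.centralizer ((⁅A, B⁆ : Subgroup G) : Set G) := by
    intro a ha
    rw [Subgroup.mem_centralizer_iff]
    intro c hcC
    exact commCase_comm_left hc hcC ha
  obtain ⟨a, ha, c, hcC, rfl⟩ := mem_sup_of_comm hAcC hx
  by_cases ha1 : a = 1
  · rw [ha1, one_mul]; exact hcC
  · exfalso
    apply commCase_not_of_comm hS ha ha1 _ hc
    intro b hb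
    have h1 := hxB b hb
    have h2 := commCase_comm_right hc hcC hb
    -- b * (a * c) = a * c * b, c * b = b * c
    have : b * a * c = a * b * c := by
      rw [mul_assoc, h1, mul_assoc, h2, ← mul_assoc]
    exact (mul_right_cancel this).symm

/-- the centralizer of `A` ... symmetric version: elements of `B ⊔ ⁅A, B⁆` commuting with `A` -/
theorem commCase_cent_left (hS : IsRootSubgroupSet S) (hc : RootCommutatorCase S A B) {x : G}
    (hx : x ∈ B ⊔ ⁅A, B⁆) (hxA : ∀ a ∈ A, a * x = x * a) : x ∈ ⁅A, B⁆ := by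
  have h := commCase_cent_right hS (commCase_symm hc) (x := x)
  rw [Subgroup.commutator_comm B A] at h
  exact h hx hxA

end CommCase

end Cfsg.Agent.Lib.Helper83
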