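import Mathlib
import Cfsg.Prelude.Def_RootSubgroups
import Cfsg.Agent.Lib.Helper83.RootSub5

set_option autoImplicit false

namespace Cfsg.Agent.Lib.Helper83

open Cfsg
open scoped commutatorElement

variable {G : Type*} [Group G] {S : Set (Subgroup G)}

theorem conjBy_inf (H K : Subgroup G) (g : G) : conjBy (H ⊓ K) g = conjBy H g ⊓ conjBy K g := by
  ext x
  simp only [mem_conjBy, Subgroup.mem_inf]

theorem conjBy_bot (g : G) : conjBy (⊥ : Subgroup G) g = ⊥ := by
  ext x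
  rw [mem_conjBy, Subgroup.mem_bot, Subgroup.mem_bot]
  constructor
  · intro h
    have := congrArg (fun t => g * t * g⁻¹) h
    simpa [mul_assoc] using this
  · intro h; rw [h]; simp

theorem conjBy_eq_of_forall_le {H K : Subgroup G} (h : ∀ z ∈ H, conjBy K z ≤ K) :
    ∀ z ∈ H, conjBy K z = K := by
  intro z hz
  apply le_antisymm (h z hz)
  have := conjBy_mono z (h z⁻¹ (H.inv_mem hz))
  rw [conjBy_conjBy] at this
  simpa [conjBy_one] using this

/-- The configuration `⁅A, B⁆ = C`, `⁅D, C⁆ = A`, both in the commutator case. -/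
structure OppConfig (S : Set (Subgroup G)) (A B C D : Subgroup G) : Prop where
  hS : IsRootSubgroupSet S
  hA : A ∈ S
  hB : B ∈ S
  hC : C ∈ S
  hD : D ∈ S
  eqC : ⁅A, B⁆ = C
  eqA : ⁅D, C⁆ = A
  caseAB : RootCommutatorCase S A B
  caseDC : RootCommutatorCase S D C

namespace OppConfig

variable {A B C D : Subgroup G}

theorem symm (h : OppConfig S A B C D) : OppConfig S C D A B where
  hS := h.hS
  hA := h.hC
  hB := h.hD
  hC := h.hA
  hD := h.hB
  eqC := by rw [Subgroup.commutator_comm]; exact h.eqA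
  eqA := by rw [Subgroup.commutator_comm]; exact h.eqC
  caseAB := commCase_symm h.caseDC
  caseDC := commCase_symm h.caseAB

theorem commCA (h : OppConfig S A B C D) {c a : G} (hc : c ∈ C) (ha : a ∈ A) : c * a = a * c := by
  have hc' : c ∈ ⁅A, B⁆ := by rw [h.eqC]; exact hc
  exact commCase_comm_left h.caseAB hc' ha

theorem commCB (h : OppConfig S A B C D) {c b : G} (hc : c ∈ C) (hb : b ∈ B) : c * b = b * c := by
  have hc' : c ∈ ⁅A, B⁆ := by rw [h.eqC]; exact hc
  exact commCase_comm_right h.caseAB hc' hb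

theorem commAD (h : OppConfig S A B C D) {a d : G} (ha : a ∈ A) (hd : d ∈ D) : a * d = d * a :=
  h.symm.commCB ha hd

theorem memC (h : OppConfig S A B C D) {a b : G} (ha : a ∈ A) (hb : b ∈ B) : ⁅b, a⁆ ∈ C := by
  rw [← h.eqC, Subgroup.commutator_comm]
  exact Subgroup.commutator_mem_commutator hb ha

theorem memA (h : OppConfig S A B C D) {d c : G} (hd : d ∈ D) (hc : c ∈ C) : ⁅d, c⁆ ∈ A := by
  rw [← h.eqA]
  exact Subgroup.commutator_mem_commutator hd hc

theorem surjBA (h : OppConfig S A B C D) {b : G} (hb : b ∈ B) (hb1 : b ≠ 1) :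
    ∀ c ∈ C, ∃ a ∈ A, ⁅b, a⁆ = c := by
  intro c hc
  exact commCase_surj_left' h.caseAB hb hb1 c (by rw [h.eqC]; exact hc)

theorem surjDC (h : OppConfig S A B C D) {d : G} (hd : d ∈ D) (hd1 : d ≠ 1) :
    ∀ a ∈ A, ∃ c ∈ C, ⁅d, c⁆ = a := by
  intro a ha
  exact commCase_surj_right h.caseDC hd hd1 a (by rw [h.eqA]; exact ha)

theorem neBotA (h : OppConfig S A B C D) : A ≠ ⊥ := h.hS.ne_bot A h.hA
theorem neBotB (h : OppConfig S A B C D) : B ≠ ⊥ := h.hS.ne_bot B h.hB
theorem neBotC (h : OppConfig S A B C D) : C ≠ ⊥ := h.hS.ne_bot C h.hC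
theorem neBotD (h : OppConfig S A B C D) : D ≠ ⊥ := h.hS.ne_bot D h.hD

/-- conjugation by `b ∈ B` on `A`: `b a b⁻¹ = ⁅b, a⁆ * a` -/
theorem conj_eq (b a : G) : b * a * b⁻¹ = ⁅b, a⁆ * a := by
  rw [commutatorElement_def]; simp [mul_assoc]

/-- `(B, D)` is not in the commutator case -/
theorem not_commCase (h : OppConfig S A B C D) : ¬ RootCommutatorCase S B D := by
  intro hE
  obtain ⟨b, hb, hb1⟩ := exists_ne_one_of_ne_bot h.neBotB
  obtain ⟨d, hd, hd1⟩ := exists_ne_one_of_ne_bot h.neBotD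
  have hb1' : b⁻¹ ≠ 1 := by simpa using hb1
  have hDab := h.hS.commutative D h.hD
  -- d' = b d b⁻¹ commutes with d
  have hcomm : (b * d * b⁻¹) * d = d * (b * d * b⁻¹) := by
    have h1 := commCase_conj_comm hDab hE hb (conj_mem_conjBy hd)
    exact (Subgroup.mem_centralizer_iff.1 h1 d hd).symm
  -- d commutes with every element of C
  have key : ∀ c' ∈ C, d * c' = c' * d := by
    intro c' hc'
    obtain ⟨a₂, ha₂, h2⟩ := h.surjBA hb hb1 c' hc'
    obtain ⟨c, hc, h3⟩ := h.surjDC hd hd1 a₂ ha₂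
    obtain ⟨a, ha, h4⟩ := h.surjBA (B.inv_mem hb) hb1' c hc
    -- y = d' a d'⁻¹ = c' * a₂ * a
    have hy : (b * d * b⁻¹) * a * (b * d * b⁻¹)⁻¹ = c' * (a₂ * a) := by
      have e1 : b⁻¹ * a * b = c * a := by
        have := conj_eq b⁻¹ a
        rw [inv_inv, h4] at this
        exact this
      have e2 : d * (c * a) * d⁻¹ = a₂ * (c * a) := by
        have e3 : d * c * d⁻¹ = a₂ * c := by rw [conj_eq, h3]
        have e4 : d * a * d⁻¹ = a := by rw [← h.commAD ha hd]; simp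
        calc d * (c * a) * d⁻¹ = (d * c * d⁻¹) * (d * a * d⁻¹) := by simp [mul_assoc]
          _ = a₂ * c * a := by rw [e3, e4]
          _ = a₂ * (c * a) := by rw [mul_assoc]
      have e5 : b * (a₂ * (c * a)) * b⁻¹ = c' * a₂ * a := by
        have e6 : b * a₂ * b⁻¹ = c' * a₂ := by rw [conj_eq, h2]
        have e7 : b * (c * a) * b⁻¹ = a := by
          rw [← e1]; simp [mul_assoc]
        calc b * (a₂ * (c * a)) * b⁻¹ = (b * a₂ * b⁻¹) * (b * (c * a) * b⁻¹) := by simp [mul_assoc]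
          _ = c' * a₂ * a := by rw [e6, e7]
      calc (b * d * b⁻¹) * a * (b * d * b⁻¹)⁻¹ = b * (d * (b⁻¹ * a * b) * d⁻¹) * b⁻¹ := by
            simp [mul_assoc]
        _ = b * (a₂ * (c * a)) * b⁻¹ := by rw [e1, e2]
        _ = c' * (a₂ * a) := by rw [e5, mul_assoc]
    -- d commutes with y
    have hdy : d * ((b * d * b⁻¹) * a * (b * d * b⁻¹)⁻¹) = ((b * d * b⁻¹) * a * (b * d * b⁻¹)⁻¹) * d := by
      have hda : d * a = a * d := (h.commAD ha hd).symm
      calc d * ((b * d * b⁻¹) * a * (b * d * b⁻¹)⁻¹)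
          = (d * (b * d * b⁻¹)) * a * (b * d * b⁻¹)⁻¹ := by simp [mul_assoc]
        _ = ((b * d * b⁻¹) * d) * a * (b * d * b⁻¹)⁻¹ := by rw [hcomm]
        _ = (b * d * b⁻¹) * (d * a) * (b * d * b⁻¹)⁻¹ := by simp [mul_assoc]
        _ = (b * d * b⁻¹) * (a * d) * (b * d * b⁻¹)⁻¹ := by rw [hda]
        _ = (b * d * b⁻¹) * a * (d * (b * d * b⁻¹)⁻¹) := by simp [mul_assoc]
        _ = (b * d * b⁻¹) * a * ((b * d * b⁻¹)⁻¹ * d) := by
            congr 1
            have := congrArg (fun t => (b * d * b⁻¹)⁻¹ * t * (b * d * b⁻¹)⁻¹) hcomm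
            simpa [mul_assoc] using this
        _ = ((b * d * b⁻¹) * a * (b * d * b⁻¹)⁻¹) * d := by simp [mul_assoc]
    rw [hy] at hdy
    have hd2 : d * (a₂ * a) = (a₂ * a) * d := (h.commAD (A.mul_mem ha₂ ha) hd).symm
    have : d * c' * (a₂ * a) = c' * d * (a₂ * a) := by
      calc d * c' * (a₂ * a) = d * (c' * (a₂ * a)) := by rw [mul_assoc]
        _ = c' * (a₂ * a) * d := hdy
        _ = c' * ((a₂ * a) * d) := by rw [mul_assoc]
        _ = c' * (d * (a₂ * a)) := by rw [hd2]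
        _ = c' * d * (a₂ * a) := by rw [mul_assoc]
    exact mul_right_cancel this
  have hcl := h.caseDC.2.2.1 d hd hd1
  rw [h.eqA] at hcl
  have : (fun c : G => d * c * d⁻¹ * c⁻¹) '' (C : Set G) ⊆ {1} := by
    rintro _ ⟨c, hc, rfl⟩
    rw [Set.mem_singleton_iff]
    show d * c * d⁻¹ * c⁻¹ = 1
    rw [key c hc]; simp
  have hbot : A = ⊥ := by
    rw [← hcl, Subgroup.closure_eq_bot_iff]; exact this
  exact absurd hbot h.neBotA

theorem rankOne (h : OppConfig S A B C D) : IsRankOnePair B D := by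
  rcases h.hS.pair B h.hB D h.hD with h1 | h1 | h1
  · exfalso
    -- D commutes with A and B, hence with C
    rw [Subgroup.commutator_eq_bot_iff_le_centralizer] at h1
    apply h.neBotA
    rw [← h.eqA, Subgroup.commutator_eq_bot_iff_le_centralizer]
    intro d hd
    have hAB : A ⊔ B ≤ Subgroup.centralizer {d} := by
      apply sup_le
      · intro a ha
        rw [Subgroup.mem_centralizer_singleton_iff]
        exact h.commAD ha hd
      · intro b hb
        rw [Subgroup.mem_centralizer_singleton_iff]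
        exact (Subgroup.mem_centralizer_iff.1 (h1 hb) d hd).symm
    rw [Subgroup.mem_centralizer_iff]
    intro c hc
    have hc' : c ∈ A ⊔ B := by
      rw [← h.eqC] at hc
      exact Subgroup.commutator_le_sup A B hc
    have := hAB hc'
    rw [Subgroup.mem_centralizer_singleton_iff] at this
    exact this
  · exact h1
  · exact absurd h1 h.not_commCase

theorem inf_eq_bot (h : OppConfig S A B C D) : A ⊓ C = ⊥ := by
  have := commCase_inf_eq_bot h.hS h.caseAB
  rw [h.eqC] at this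
  exact this

theorem A_le_centralizer_C (h : OppConfig S A B C D) : A ≤ Subgroup.centralizer (C : Set G) := by
  intro a ha
  rw [Subgroup.mem_centralizer_iff]
  intro c hc
  exact h.commCA hc ha

/-- `B` normalizes `N = A ⊔ C` -/
theorem conjN_B (h : OppConfig S A B C D) {b : G} (hb : b ∈ B) : conjBy (A ⊔ C) b = A ⊔ C := by
  have hle : ∀ b ∈ B, conjBy (A ⊔ C) b ≤ A ⊔ C := by
    intro b hb
    rw [conjBy_sup]
    apply sup_le
    · intro x hx
      rw [mem_conjBy] at hx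
      have h1 : x = ⁅b, b⁻¹ * x * b⁆ * (b⁻¹ * x * b) := by
        rw [commutatorElement_def]; simp [mul_assoc]
      rw [h1]
      exact Subgroup.mul_mem _ (Subgroup.mem_sup_right (h.memC hx hb)) (Subgroup.mem_sup_left hx)
    · intro x hx
      rw [mem_conjBy] at hx
      have h1 : x = b⁻¹ * x * b := by
        have := h.commCB hx hb
        -- (b⁻¹ x b) * b = b * (b⁻¹ x b)
        have h2 : b⁻¹ * x * b * b = x * b := by
          rw [this]; simp [mul_assoc]
        exact (mul_right_cancel h2).symm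
      rw [h1]; exact Subgroup.mem_sup_right hx
  apply le_antisymm (hle b hb)
  have := conjBy_mono b (hle b⁻¹ (B.inv_mem hb))
  rw [conjBy_conjBy] at this
  simpa [conjBy_one] using this

theorem conjN_D (h : OppConfig S A B C D) {d : G} (hd : d ∈ D) : conjBy (A ⊔ C) d = A ⊔ C := by
  have := h.symm.conjN_B hd
  rw [sup_comm] at this
  exact this

/-- the centralizer of `B` in `N` is `C` -/
theorem centN_B (h : OppConfig S A B C D) {x : G} (hx : x ∈ A ⊔ C) (hxB : ∀ b ∈ B, b * x = x * b) :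
    x ∈ C := by
  have := commCase_cent_right h.hS h.caseAB (x := x)
  rw [h.eqC] at this
  exact this hx hxB

theorem centN_D (h : OppConfig S A B C D) {x : G} (hx : x ∈ A ⊔ C) (hxD : ∀ d ∈ D, d * x = x * d) :
    x ∈ A := by
  have := h.symm.centN_B (x := x)
  rw [sup_comm] at this
  exact this hx hxD

/-- partner elements give equal conjugates -/
theorem conj_eq_of_partner (h : OppConfig S A B C D) {b d : G} (hb : b ∈ B) (hd : d ∈ D)
    (hK : conjBy B d⁻¹ = conjBy D b⁻¹) : conjBy C d⁻¹ = conjBy A b⁻¹ := by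
  ext x
  rw [mem_conjBy, mem_conjBy, inv_inv, inv_inv]
  constructor
  · intro hx
    -- d x d⁻¹ ∈ C
    have hxN : b * x * b⁻¹ ∈ A ⊔ C := by
      have h1 : d * x * d⁻¹ ∈ A ⊔ C := Subgroup.mem_sup_right hx
      have h2 : x ∈ conjBy (A ⊔ C) d⁻¹ := by rw [mem_conjBy, inv_inv]; exact h1
      rw [h.conjN_D (D.inv_mem hd)] at h2
      have h3 : b * x * b⁻¹ ∈ conjBy (A ⊔ C) b := conj_mem_conjBy h2
      rw [h.conjN_B hb] at h3
      exact h3
    apply h.centN_D hxN
    intro d' hd'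
    -- b⁻¹ d' b ∈ conjBy D b⁻¹ = conjBy B d⁻¹, so = d⁻¹ b' d
    have h1 : b⁻¹ * d' * b ∈ conjBy D b⁻¹ := by
      have := conj_mem_conjBy (g := b⁻¹) hd'
      rwa [inv_inv] at this
    rw [← hK, mem_conjBy, inv_inv] at h1
    -- d (b⁻¹ d' b) d⁻¹ ∈ B commutes with d x d⁻¹ ∈ C
    have h2 := h.commCB hx h1
    -- deduce d' * (b x b⁻¹) = (b x b⁻¹) * d'
    have h3 : (b⁻¹ * d' * b) * x = x * (b⁻¹ * d' * b) := by
      have := congrArg (fun t => d⁻¹ * t * d) h2
      simp only [mul_assoc, inv_mul_cancel_left, inv_mul_cancel, mul_one] at this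
      simpa [mul_assoc] using this.symm
    have := congrArg (fun t => b * t * b⁻¹) h3
    simpa [mul_assoc] using this
  · intro hx
    have hxN : d * x * d⁻¹ ∈ A ⊔ C := by
      have h1 : b * x * b⁻¹ ∈ A ⊔ C := Subgroup.mem_sup_left hx
      have h2 : x ∈ conjBy (A ⊔ C) b⁻¹ := by rw [mem_conjBy, inv_inv]; exact h1
      rw [h.conjN_B (B.inv_mem hb)] at h2
      have h3 : d * x * d⁻¹ ∈ conjBy (A ⊔ C) d := conj_mem_conjBy h2
      rw [h.conjN_D hd] at h3
      exact h3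
    apply h.centN_B hxN
    intro b' hb'
    have h1 : d⁻¹ * b' * d ∈ conjBy B d⁻¹ := by
      have := conj_mem_conjBy (g := d⁻¹) hb'
      rwa [inv_inv] at this
    rw [hK, mem_conjBy, inv_inv] at h1
    have h2 := h.commAD hx h1
    have h3 : (d⁻¹ * b' * d) * x = x * (d⁻¹ * b' * d) := by
      have := congrArg (fun t => b⁻¹ * t * b) h2
      simp only [mul_assoc, inv_mul_cancel_left, inv_mul_cancel, mul_one] at this
      simpa [mul_assoc] using this.symm
    have := congrArg (fun t => d * t * d⁻¹) h3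
    simpa [mul_assoc] using this

/-- `N` is normalized by `B ⊔ D` -/
theorem conjN (h : OppConfig S A B C D) {x : G} (hx : x ∈ B ⊔ D) : conjBy (A ⊔ C) x = A ⊔ C := by
  have hle : B ⊔ D ≤ Subgroup.normalizer ((A ⊔ C : Subgroup G) : Set G) := by
    apply sup_le
    · intro b hb; exact conjBy_eq_self_iff.1 (h.conjN_B hb)
    · intro d hd; exact conjBy_eq_self_iff.1 (h.conjN_D hd)
  exact conjBy_eq_self_iff.2 (hle hx)

theorem exists_B_of_D (h : OppConfig S A B C D) {d : G} (hd : d ∈ D) (hd1 : d ≠ 1) :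
    ∃ b ∈ B, b ≠ 1 ∧ conjBy C d = conjBy A b := by
  have hd1' : d⁻¹ ≠ 1 := by simpa using hd1
  obtain ⟨b', hb', hb'1, hK⟩ := h.rankOne.cond_right d⁻¹ (D.inv_mem hd) hd1'
  have := h.conj_eq_of_partner hb' (D.inv_mem hd) hK.symm
  rw [inv_inv] at this
  exact ⟨b'⁻¹, B.inv_mem hb', by simpa using hb'1, this⟩

theorem exists_D_of_B (h : OppConfig S A B C D) {b : G} (hb : b ∈ B) (hb1 : b ≠ 1) :
    ∃ d ∈ D, d ≠ 1 ∧ conjBy A b = conjBy C d := by
  have hb1' : b⁻¹ ≠ 1 := by simpa using hb1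
  obtain ⟨d', hd', hd'1, hK⟩ := h.rankOne.cond_left b⁻¹ (B.inv_mem hb) hb1'
  have := h.conj_eq_of_partner (B.inv_mem hb) hd' hK
  rw [inv_inv] at this
  exact ⟨d'⁻¹, D.inv_mem hd', by simpa using hd'1, this.symm⟩

theorem conjC_B (h : OppConfig S A B C D) {b : G} (hb : b ∈ B) : conjBy C b = C := by
  apply conjBy_eq_self_iff.2
  apply Subgroup.centralizer_le_normalizer
  rw [Subgroup.mem_centralizer_iff]
  intro c hc
  exact h.commCB hc hb

theorem conjA_D (h : OppConfig S A B C D) {d : G} (hd : d ∈ D) : conjBy A d = A :=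
  h.symm.conjC_B hd

theorem orbit_sets_eq (h : OppConfig S A B C D) :
    (fun b : G => conjBy A b) '' (B : Set G) ∪ {C} = (fun d : G => conjBy C d) '' (D : Set G) ∪ {A} := by
  ext E
  constructor
  · rintro (⟨b, hb, rfl⟩ | hE)
    · by_cases hb1 : b = 1
      · right; rw [hb1]; exact conjBy_one A
      · obtain ⟨d, hd, -, hd'⟩ := h.exists_D_of_B hb hb1
        left; exact ⟨d, hd, hd'.symm⟩
    · rw [Set.mem_singleton_iff] at hE
      left; exact ⟨1, D.one_mem, by rw [hE]; exact conjBy_one C⟩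
  · rintro (⟨d, hd, rfl⟩ | hE)
    · by_cases hd1 : d = 1
      · right; rw [hd1]; exact conjBy_one C
      · obtain ⟨b, hb, -, hb'⟩ := h.exists_B_of_D hd hd1
        left; exact ⟨b, hb, hb'.symm⟩
    · rw [Set.mem_singleton_iff] at hE
      left; exact ⟨1, B.one_mem, by rw [hE]; exact conjBy_one A⟩

theorem orbit_eq (h : OppConfig S A B C D) :
    {E | ∃ x ∈ B ⊔ D, E = conjBy A x} = (fun b : G => conjBy A b) '' (B : Set G) ∪ {C} := by
  apply Set.Subset.antisymm
  · rintro E ⟨x, hx, rfl⟩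
    have hinv := conjBy_invariant_sup (Δ := (fun b : G => conjBy A b) '' (B : Set G) ∪ {C}) (A := B) (B := D)
      (by
        rintro b' hb' E (⟨b, hb, rfl⟩ | hE)
        · left; exact ⟨b' * b, B.mul_mem hb' hb, (conjBy_conjBy A b b').symm⟩
        · rw [Set.mem_singleton_iff] at hE
          right; rw [hE, h.conjC_B hb']; rfl)
      (by
        intro d' hd' E hE
        rw [h.orbit_sets_eq] at hE ⊢
        rcases hE with ⟨d, hd, rfl⟩ | hE
        · left; exact ⟨d' * d, D.mul_mem hd' hd, (conjBy_conjBy C d d').symm⟩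
        · rw [Set.mem_singleton_iff] at hE
          right; rw [hE, h.conjA_D hd']; rfl)
    exact hinv x hx A (Or.inl ⟨1, B.one_mem, conjBy_one A⟩)
  · rintro E (⟨b, hb, rfl⟩ | hE)
    · exact ⟨b, Subgroup.mem_sup_left hb, rfl⟩
    · rw [Set.mem_singleton_iff] at hE
      obtain ⟨d, hd, hd1⟩ := exists_ne_one_of_ne_bot h.neBotD
      obtain ⟨b, hb, -, hb'⟩ := h.exists_B_of_D hd hd1
      refine ⟨d⁻¹ * b, Subgroup.mul_mem _ (Subgroup.inv_mem _ (Subgroup.mem_sup_right hd))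
        (Subgroup.mem_sup_left hb), ?_⟩
      rw [hE, ← conjBy_conjBy, ← hb', conjBy_conjBy]; simp [conjBy_one]

theorem orbit_eq' (h : OppConfig S A B C D) :
    {E | ∃ x ∈ B ⊔ D, E = conjBy A x} = {E | ∃ x ∈ B ⊔ D, E = conjBy C x} := by
  have hC : C ∈ {E | ∃ x ∈ B ⊔ D, E = conjBy A x} := by
    rw [h.orbit_eq]; right; rfl
  obtain ⟨x₀, hx₀, hx₀'⟩ := hC
  ext E
  constructor
  · rintro ⟨x, hx, rfl⟩
    refine ⟨x * x₀⁻¹, Subgroup.mul_mem _ hx (Subgroup.inv_mem _ hx₀), ?_⟩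
    rw [hx₀', conjBy_conjBy]; simp [mul_assoc]
  · rintro ⟨x, hx, rfl⟩
    exact ⟨x * x₀, Subgroup.mul_mem _ hx hx₀, by rw [hx₀', conjBy_conjBy]⟩

theorem inf_conjC (h : OppConfig S A B C D) {d : G} (hd : d ∈ D) : A ⊓ conjBy C d = ⊥ := by
  rw [eq_bot_iff]
  intro x hx
  obtain ⟨hxA, hxC⟩ := Subgroup.mem_inf.1 hx
  rw [mem_conjBy] at hxC
  rw [Subgroup.mem_bot]
  -- x = d c d⁻¹ with c = d⁻¹ x d
  have h1 : x = ⁅d, d⁻¹ * x * d⁆ * (d⁻¹ * x * d) := by
    rw [commutatorElement_def]; simp [mul_assoc]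
  have h2 : ⁅d, d⁻¹ * x * d⁆ ∈ A := h.memA hd hxC
  have h3 : d⁻¹ * x * d ∈ A := by
    have : d⁻¹ * x * d = (⁅d, d⁻¹ * x * d⁆)⁻¹ * x := by
      rw [commutatorElement_def]; simp [mul_assoc]
    rw [this]; exact A.mul_mem (A.inv_mem h2) hxA
  have h4 : d⁻¹ * x * d ∈ A ⊓ C := Subgroup.mem_inf.2 ⟨h3, hxC⟩
  rw [h.inf_eq_bot, Subgroup.mem_bot] at h4
  have := congrArg (fun t => d * t * d⁻¹) h4
  simpa [mul_assoc] using this

theorem inf_conjA (h : OppConfig S A B C D) {b : G} (hb : b ∈ B) : C ⊓ conjBy A b = ⊥ :=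
  h.symm.inf_conjC hb

theorem partition (h : OppConfig S A B C D) :
    IsSubgroupPartition (A ⊔ C) {E | ∃ x ∈ B ⊔ D, E = conjBy A x} := by
  refine ⟨?_, ?_, ?_⟩
  · rintro E ⟨x, hx, rfl⟩
    rw [← h.conjN hx]
    exact conjBy_mono x le_sup_left
  · intro x hx hx1
    obtain ⟨a, ha, c, hc, rfl⟩ := mem_sup_of_comm h.A_le_centralizer_C hx
    rw [h.orbit_eq]
    by_cases ha1 : a = 1
    · refine ⟨C, Or.inr rfl, ?_⟩
      rw [ha1, one_mul]; exact hc
    · obtain ⟨b, hb, hb'⟩ := commCase_surj_right' h.caseAB ha ha1 c (by rw [h.eqC]; exact hc)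
      refine ⟨conjBy A b, Or.inl ⟨b, hb, rfl⟩, ?_⟩
      have : a * c = b * a * b⁻¹ := by
        rw [OppConfig.conj_eq, hb', h.commCA hc ha]
      rw [this]; exact conj_mem_conjBy ha
  · intro E₁ hE₁ E₂ hE₂ hne
    rw [h.orbit_eq] at hE₁ hE₂
    have key : ∀ b₁ ∈ B, ∀ b₂ ∈ B, conjBy A b₁ ≠ conjBy A b₂ → conjBy A b₁ ⊓ conjBy A b₂ = ⊥ := by
      intro b₁ hb₁ b₂ hb₂ hne'
      have hb3 : b₁⁻¹ * b₂ ≠ 1 := by
        intro hcon
        apply hne'
        have : b₂ = b₁ := by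
          have := congrArg (fun t => b₁ * t) hcon
          simpa using this
        rw [this]
      obtain ⟨d, hd, -, hd'⟩ := h.exists_D_of_B (B.mul_mem (B.inv_mem hb₁) hb₂) hb3
      have h1 : conjBy A b₂ = conjBy (conjBy A (b₁⁻¹ * b₂)) b₁ := by
        rw [conjBy_conjBy]; simp
      have h2 : conjBy A b₁ ⊓ conjBy A b₂ = conjBy (A ⊓ conjBy A (b₁⁻¹ * b₂)) b₁ := by
        rw [conjBy_inf, ← h1]
      rw [h2, hd', h.inf_conjC hd, conjBy_bot]
    rcases hE₁ with ⟨b₁, hb₁, rfl⟩ | hE₁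
    · rcases hE₂ with ⟨b₂, hb₂, rfl⟩ | hE₂
      · exact key b₁ hb₁ b₂ hb₂ hne
      · rw [Set.mem_singleton_iff] at hE₂
        rw [hE₂, inf_comm]; exact h.inf_conjA hb₁
    · rw [Set.mem_singleton_iff] at hE₁
      rcases hE₂ with ⟨b₂, hb₂, rfl⟩ | hE₂
      · rw [hE₁]; exact h.inf_conjA hb₂
      · rw [Set.mem_singleton_iff] at hE₂
        exact absurd (hE₁.trans hE₂.symm) hne

theorem cent_central (h : OppConfig S A B C D) :
    ∀ x ∈ (B ⊔ D) ⊓ Subgroup.centralizer ((A ⊔ C : Subgroup G) : Set G), ∀ y ∈ B ⊔ D, x * y = y * x := by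
  have hK : ∀ z ∈ B ⊔ D, conjBy ((B ⊔ D) ⊓ Subgroup.centralizer ((A ⊔ C : Subgroup G) : Set G)) z =
      (B ⊔ D) ⊓ Subgroup.centralizer ((A ⊔ C : Subgroup G) : Set G) := by
    apply conjBy_eq_of_forall_le
    intro z hz k hk
    rw [mem_conjBy] at hk
    obtain ⟨hk1, hk2⟩ := Subgroup.mem_inf.1 hk
    refine Subgroup.mem_inf.2 ⟨?_, ?_⟩
    · have := Subgroup.mul_mem _ (Subgroup.mul_mem _ hz hk1) (Subgroup.inv_mem _ hz)
      simpa [mul_assoc] using this
    · rw [Subgroup.mem_centralizer_iff] at hk2 ⊢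
      intro n hn
      have hn' : z⁻¹ * n * z ∈ A ⊔ C := by
        have : z⁻¹ * n * z ∈ conjBy (A ⊔ C) z⁻¹ := by
          have := conj_mem_conjBy (g := z⁻¹) hn
          rwa [inv_inv] at this
        rwa [h.conjN (Subgroup.inv_mem _ hz)] at this
      have h3 := hk2 _ hn'
      have := congrArg (fun t => z * t * z⁻¹) h3
      simpa [mul_assoc] using this
  rcases rop_dichotomy h.rankOne hK inf_le_left with h1 | h1
  · exfalso
    apply h.neBotA
    rw [← h.eqA, Subgroup.commutator_eq_bot_iff_le_centralizer]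
    refine h1.trans (sup_le ?_ ?_)
    · intro k hk
      have := (Subgroup.mem_inf.1 hk).2
      rw [Subgroup.mem_centralizer_iff] at this ⊢
      intro c hc
      exact this c (Subgroup.mem_sup_right hc)
    · intro b hb
      rw [Subgroup.mem_centralizer_iff]
      intro c hc
      exact h.commCB hc hb
  · intro x hx y hy
    exact ((Subgroup.mem_centralizer_iff.1 (h1 hx)) y hy).symm

end OppConfig

theorem oppConfig_of (hS : IsRootSubgroupSet S) {A B D : Subgroup G} (hA : A ∈ S) (hB : B ∈ S)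
    (hC : ⁅A, B⁆ ∈ S) (hD : D ∈ S) (hDC : ⁅D, ⁅A, B⁆⁆ = A) : OppConfig S A B ⁅A, B⁆ D where
  hS := hS
  hA := hA
  hB := hB
  hC := hC
  hD := hD
  eqC := rfl
  eqA := hDC
  caseAB := commCase_of_mem hS hA hB hC
  caseDC := commCase_of_mem hS hD hC (by rw [hDC]; exact hA)

end Cfsg.Agent.Lib.Helper83
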