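import Mathlib
import Cfsg.Prelude.Def_RootSubgroups
import Cfsg.Agent.Lib.Helper83.RootSub6

set_option autoImplicit false

namespace Cfsg.Agent.Lib.Helper83

open Cfsg
open scoped commutatorElement

variable {G : Type*} [Group G] {S : Set (Subgroup G)}

/-- conjugation distributes over subgroup commutators -/
theorem conjBy_commutator (H K : Subgroup G) (g : G) : conjBy ⁅H, K⁆ g = ⁅conjBy H g, conjBy K g⁆ :=
  Subgroup.map_commutator H K _

/-- element identity behind `(★)`: if `a` commutes with `f` and `c = ⁅d, f⁆` commutes with `d` and `f`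
then `⁅d⁻¹ a d, f⁆ = ⁅d⁻¹ a d, c⁆`. -/
theorem comm_star_elem {a d f : G} (haf : a * f = f * a) (hcd : ⁅d, f⁆ * d = d * ⁅d, f⁆)
    (hcf : ⁅d, f⁆ * f = f * ⁅d, f⁆) :
    ⁅d⁻¹ * a * d, f⁆ = ⁅d⁻¹ * a * d, ⁅d, f⁆⁆ := by
  set c := ⁅d, f⁆ with hc
  have h1 : d * f * d⁻¹ = c * f := by rw [hc, commutatorElement_def]; group
  have h2 : d⁻¹ * f * d = c⁻¹ * f := by
    have : f = d⁻¹ * (c * f) * d := by rw [← h1]; group
    have h3 : d⁻¹ * (c * f) * d = c * (d⁻¹ * f * d) := by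
      have hcd' : d⁻¹ * c = c * d⁻¹ := by
        have := congrArg (fun t => d⁻¹ * t * d⁻¹) hcd
        simp only [mul_assoc, mul_inv_cancel, mul_one, inv_mul_cancel_left] at this
        exact this
      calc d⁻¹ * (c * f) * d = (d⁻¹ * c) * f * d := by group
        _ = (c * d⁻¹) * f * d := by rw [hcd']
        _ = c * (d⁻¹ * f * d) := by group
    rw [h3] at this
    calc d⁻¹ * f * d = c⁻¹ * (c * (d⁻¹ * f * d)) := by group
      _ = c⁻¹ * f := by rw [← this]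
  have hdc : d * c * d⁻¹ = c := by
    calc d * c * d⁻¹ = (d * c) * d⁻¹ := by group
      _ = (c * d) * d⁻¹ := by rw [hcd]
      _ = c := by group
  have haf' : a * f * a⁻¹ = f := by rw [haf]; group
  have hcf' : c⁻¹ * f = f * c⁻¹ := by
    have := congrArg (fun t => c⁻¹ * t * c⁻¹) hcf
    simp only [mul_assoc, mul_inv_cancel, mul_one, inv_mul_cancel_left] at this
    exact this.symm
  -- a₁ f a₁⁻¹ = (a₁ c a₁⁻¹) c⁻¹ f
  have key : (d⁻¹ * a * d) * f * (d⁻¹ * a * d)⁻¹ = ((d⁻¹ * a * d) * c * (d⁻¹ * a * d)⁻¹) * c⁻¹ * f := by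
    have e1 : (d⁻¹ * a * d) * f * (d⁻¹ * a * d)⁻¹ = d⁻¹ * a * (d * f * d⁻¹) * a⁻¹ * d := by group
    have e2 : (d⁻¹ * a * d) * c * (d⁻¹ * a * d)⁻¹ = d⁻¹ * a * (d * c * d⁻¹) * a⁻¹ * d := by group
    rw [e1, e2, h1, hdc]
    have e3 : d⁻¹ * a * (c * f) * a⁻¹ * d = d⁻¹ * a * c * a⁻¹ * (a * f * a⁻¹) * d := by group
    rw [e3, haf']
    have e4 : d⁻¹ * a * c * a⁻¹ * f * d = d⁻¹ * a * c * a⁻¹ * d * (d⁻¹ * f * d) := by group
    rw [e4, h2]
    group
  rw [commutatorElement_def, commutatorElement_def, key]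
  have : (d⁻¹ * a * d) * c * (d⁻¹ * a * d)⁻¹ * c⁻¹ * f * f⁻¹ = (d⁻¹ * a * d) * c * (d⁻¹ * a * d)⁻¹ * c⁻¹ := by
    group
  rw [this]


/-- `D ≤ C(⁅D, F⁆)` in the commutator case -/
theorem commCase_left_le_centralizer {D F : Subgroup G} (hc : RootCommutatorCase S D F) :
    D ≤ Subgroup.centralizer ((⁅D, F⁆ : Subgroup G) : Set G) := by
  intro d hd
  rw [Subgroup.mem_centralizer_iff]
  intro c hcC
  exact commCase_comm_left hc hcC hd

theorem commCase_right_le_centralizer {D F : Subgroup G} (hc : RootCommutatorCase S D F) :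
    F ≤ Subgroup.centralizer ((⁅D, F⁆ : Subgroup G) : Set G) := by
  intro d hd
  rw [Subgroup.mem_centralizer_iff]
  intro c hcC
  exact commCase_comm_right hc hcC hd

/-- `(★)`: if `A` commutes with `F`, `(D, F)` is in the commutator case and `D^{a₀⁻¹} = A^{d⁻¹}`, then
`⁅D, F⁆^{a₀⁻¹} = ⁅A, ⁅D, F⁆⁆^{d⁻¹}`. -/
theorem comm_star {A D F : Subgroup G} (hAF : A ≤ Subgroup.centralizer (F : Set G))
    (hc : RootCommutatorCase S D F) {d a₀ : G} (hd : d ∈ D) (hd1 : d ≠ 1) (ha₀ : a₀ ∈ A)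
    (hconj : conjBy D a₀⁻¹ = conjBy A d⁻¹) :
    conjBy ⁅D, F⁆ a₀⁻¹ = conjBy ⁅A, ⁅D, F⁆⁆ d⁻¹ := by
  rw [conjBy_commutator, conjBy_commutator, hconj,
    conjBy_eq_self_of_le_centralizer (A.inv_mem ha₀) hAF,
    conjBy_eq_self_of_le_centralizer (D.inv_mem hd) (commCase_left_le_centralizer hc)]
  have hkey : ∀ a₁ ∈ conjBy A d⁻¹, ∀ f ∈ F, ⁅a₁, f⁆ = ⁅a₁, ⁅d, f⁆⁆ := by
    intro a₁ ha₁ f hf
    rw [mem_conjBy, inv_inv] at ha₁
    have hcC : ⁅d, f⁆ ∈ ⁅D, F⁆ := Subgroup.commutator_mem_commutator hd hf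
    have := comm_star_elem (a := d * a₁ * d⁻¹) (d := d) (f := f)
      ((Subgroup.mem_centralizer_iff.1 (hAF ha₁)) f hf).symm
      (commCase_comm_left hc hcC hd) (commCase_comm_right hc hcC hf)
    have e : d⁻¹ * (d * a₁ * d⁻¹) * d = a₁ := by group
    rw [e] at this
    exact this
  apply le_antisymm
  · rw [Subgroup.commutator_le]
    intro a₁ ha₁ f hf
    rw [hkey a₁ ha₁ f hf]
    exact Subgroup.commutator_mem_commutator ha₁ (Subgroup.commutator_mem_commutator hd hf)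
  · rw [Subgroup.commutator_le]
    intro a₁ ha₁ f' hf'
    obtain ⟨f, hf, rfl⟩ := commCase_surj_right hc hd hd1 f' hf'
    rw [← hkey a₁ ha₁ f hf]
    exact Subgroup.commutator_mem_commutator ha₁ hf


/-- If `A` is opposite `D`, commutes with `F`, and `(D, F)` is in the commutator case, then `(A, ⁅D, F⁆)` is in the
commutator case. -/
theorem commCase_of_opposite (hS : IsRootSubgroupSet S) {A D F : Subgroup G} (hA : A ∈ S)
    (hAD : IsRankOnePair A D) (hAF : A ≤ Subgroup.centralizer (F : Set G))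
    (hc : RootCommutatorCase S D F) : RootCommutatorCase S A ⁅D, F⁆ := by
  obtain ⟨d, hd, hd1⟩ := rop_exists_right hAD
  obtain ⟨a₀, ha₀, ha₀1, hconj⟩ := (RankOnePair_symm hAD).cond_left d hd hd1
  have star := comm_star hAF hc hd hd1 ha₀ hconj
  rcases hS.pair A hA ⁅D, F⁆ hc.1 with h | h | h
  · exfalso
    rw [h, conjBy_bot] at star
    apply hS.ne_bot _ hc.1
    have := congrArg (fun H => conjBy H a₀) star
    simpa [conjBy_conjBy, conjBy_one, conjBy_bot] using this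
  · exfalso
    have ha₀i : a₀⁻¹ ≠ 1 := by simpa using ha₀1
    apply rop_conj_not_comm (RankOnePair_symm h) (A.inv_mem ha₀) ha₀i
    apply le_centralizer_symm
    have hFU : F ≤ Subgroup.centralizer ((conjBy ⁅D, F⁆ a₀⁻¹ : Subgroup G) : Set G) := by
      have := le_centralizer_conj a₀⁻¹ (commCase_right_le_centralizer hc)
      rwa [conjBy_eq_self_of_le_centralizer (A.inv_mem ha₀) hAF] at this
    have hFM : F ≤ Subgroup.centralizer ((⁅A, ⁅D, F⁆⁆ : Subgroup G) : Set G) := by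
      apply le_centralizer_symm
      refine (Subgroup.commutator_le_sup A ⁅D, F⁆).trans (sup_le hAF ?_)
      exact le_centralizer_symm (commCase_right_le_centralizer hc)
    have hKU : conjBy F d⁻¹ ≤ Subgroup.centralizer ((conjBy ⁅D, F⁆ a₀⁻¹ : Subgroup G) : Set G) := by
      rw [star]
      exact le_centralizer_conj d⁻¹ hFM
    have hle : ⁅D, F⁆ ≤ F ⊔ conjBy F d⁻¹ := by
      intro f' hf'
      have hdi : d⁻¹ ≠ 1 := by simpa using hd1
      obtain ⟨f, hf, rfl⟩ := commCase_surj_right hc (D.inv_mem hd) hdi f' hf'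
      rw [commutatorElement_def]
      have h1 : d⁻¹ * f * (d⁻¹)⁻¹ ∈ conjBy F d⁻¹ := conj_mem_conjBy hf
      exact Subgroup.mul_mem _ (Subgroup.mem_sup_right h1) (Subgroup.mem_sup_left (F.inv_mem hf))
    exact hle.trans (sup_le hFU hKU)
  · exact h


/-- Key lemma: if `A` is opposite `D`, commutes with `F`, `(D, F)` is in the commutator case and all products `f a`
are root elements, then `⁅A, ⁅D, F⁆⁆ = F`. -/
theorem comm_comm_eq (hS : IsRootSubgroupSet S) {A D F : Subgroup G} (hA : A ∈ S) (hD : D ∈ S)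
    (hF : F ∈ S) (hAD : IsRankOnePair A D) (hAF : A ≤ Subgroup.centralizer (F : Set G))
    (hc : RootCommutatorCase S D F) (hTI : F ⊓ ⁅A, ⁅D, F⁆⁆ = ⊥ ∨ F = ⁅A, ⁅D, F⁆⁆)
    (hroot : ∀ f ∈ F, f ≠ 1 → ∀ a ∈ A, a ≠ 1 → f * a ∈ rootElements S) : ⁅A, ⁅D, F⁆⁆ = F := by
  have hcA : RootCommutatorCase S A ⁅D, F⁆ := commCase_of_opposite hS hA hAD hAF hc
  rcases hTI with hbot | heq
  swap
  · exact heq.symm
  exfalso
  have hDF' := commCase_left_le_centralizer hc
  have hFF' := commCase_right_le_centralizer hc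
  have hAF'' := commCase_left_le_centralizer hcA
  have hF'F'' := commCase_right_le_centralizer hcA
  have hFF'' : F ≤ Subgroup.centralizer ((⁅A, ⁅D, F⁆⁆ : Subgroup G) : Set G) := by
    apply le_centralizer_symm
    refine (Subgroup.commutator_le_sup A ⁅D, F⁆).trans (sup_le hAF ?_)
    exact le_centralizer_symm hFF'
  -- A maps F' into N₀
  have hAF'le : ∀ a ∈ A, conjBy ⁅D, F⁆ a ≤ ⁅D, F⁆ ⊔ ⁅A, ⁅D, F⁆⁆ := by
    intro a ha y hy
    obtain ⟨f', hf', rfl⟩ := Subgroup.mem_map.1 hy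
    show a * f' * a⁻¹ ∈ _
    have : a * f' * a⁻¹ = ⁅a, f'⁆ * f' := by rw [commutatorElement_def]; group
    rw [this]
    exact Subgroup.mul_mem _ (Subgroup.mem_sup_right (Subgroup.commutator_mem_commutator ha hf'))
      (Subgroup.mem_sup_left hf')
  have hAN : ∀ a ∈ A, conjBy (⁅D, F⁆ ⊔ ⁅A, ⁅D, F⁆⁆) a ≤ ⁅D, F⁆ ⊔ ⁅A, ⁅D, F⁆⁆ := by
    intro a ha
    rw [conjBy_sup, conjBy_eq_self_of_le_centralizer ha hAF'']
    exact sup_le (hAF'le a ha) le_sup_right
  have hDN : ∀ d ∈ D, conjBy (⁅D, F⁆ ⊔ ⁅A, ⁅D, F⁆⁆) d ≤ ⁅D, F⁆ ⊔ ⁅A, ⁅D, F⁆⁆ := by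
    intro d hd
    rw [conjBy_sup, conjBy_eq_self_of_le_centralizer hd hDF']
    refine sup_le le_sup_left ?_
    by_cases hd1 : d = 1
    · rw [hd1, conjBy_one]; exact le_sup_right
    have hdi : d⁻¹ ≠ 1 := by simpa using hd1
    obtain ⟨a₁, ha₁, -, hconj⟩ := (RankOnePair_symm hAD).cond_left d⁻¹ (D.inv_mem hd) hdi
    have star := comm_star hAF hc (D.inv_mem hd) hdi ha₁ hconj
    rw [inv_inv] at star
    rw [← star]
    exact hAF'le _ (A.inv_mem ha₁)
  let Q : Subgroup G :=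
    { carrier := {y | conjBy (⁅D, F⁆ ⊔ ⁅A, ⁅D, F⁆⁆) y = ⁅D, F⁆ ⊔ ⁅A, ⁅D, F⁆⁆ ∧
        ∀ f ∈ F, y * f * y⁻¹ * f⁻¹ ∈ ⁅D, F⁆ ⊔ ⁅A, ⁅D, F⁆⁆}
      one_mem' := by
        refine ⟨conjBy_one _, ?_⟩
        intro f _
        simp
      mul_mem' := by
        rintro y₁ y₂ ⟨h1, h1'⟩ ⟨h2, h2'⟩
        refine ⟨by rw [← conjBy_conjBy, h2, h1], ?_⟩
        intro f hf
        have e : y₁ * y₂ * f * (y₁ * y₂)⁻¹ * f⁻¹ =
            (y₁ * (y₂ * f * y₂⁻¹ * f⁻¹) * y₁⁻¹) * (y₁ * f * y₁⁻¹ * f⁻¹) := by group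
        rw [e]
        refine Subgroup.mul_mem _ ?_ (h1' f hf)
        have := conj_mem_conjBy (g := y₁) (h2' f hf)
        rwa [h1] at this
      inv_mem' := by
        rintro y ⟨h1, h1'⟩
        have hinv : conjBy (⁅D, F⁆ ⊔ ⁅A, ⁅D, F⁆⁆) y⁻¹ = ⁅D, F⁆ ⊔ ⁅A, ⁅D, F⁆⁆ := by
          rw [conjBy_eq_iff, inv_inv, h1]
        refine ⟨hinv, ?_⟩
        intro f hf
        have e : y⁻¹ * f * y⁻¹⁻¹ * f⁻¹ = y⁻¹ * (y * f * y⁻¹ * f⁻¹)⁻¹ * y⁻¹⁻¹ := by group
        rw [e]
        have := conj_mem_conjBy (g := y⁻¹) (Subgroup.inv_mem _ (h1' f hf))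
        rwa [hinv] at this }
  have hAQ : A ≤ Q := by
    intro a ha
    refine ⟨conjBy_eq_of_forall_le hAN a ha, ?_⟩
    intro f hf
    have := (Subgroup.mem_centralizer_iff.1 (hAF ha)) f hf
    have e : a * f * a⁻¹ * f⁻¹ = 1 := by rw [← this]; group
    rw [e]; exact Subgroup.one_mem _
  have hDQ : D ≤ Q := by
    intro d hd
    refine ⟨conjBy_eq_of_forall_le hDN d hd, ?_⟩
    intro f hf
    exact Subgroup.mem_sup_left (Subgroup.commutator_mem_commutator hd hf)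
  obtain ⟨x, hx, hDx⟩ := rop_B_mem_unip hAD
  have hxQ : x ∈ Q := (sup_le hAQ hDQ) hx
  obtain ⟨f, hf, hf1⟩ := exists_ne_one_of_ne_bot (hS.ne_bot F hF)
  obtain ⟨a, ha, ha1⟩ := rop_exists_left hAD
  obtain ⟨m', hm', m'', hm'', hn₀⟩ := mem_sup_of_comm hF'F'' (hxQ.2 f hf)
  -- z = m'' * f
  have hzA : ∀ a' ∈ A, a' * (m'' * f) = (m'' * f) * a' := by
    intro a' ha'
    have h1 := (Subgroup.mem_centralizer_iff.1 (hAF'' ha')) m'' hm''
    have h2 := (Subgroup.mem_centralizer_iff.1 (hAF ha')) f hf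
    calc a' * (m'' * f) = (a' * m'') * f := by group
      _ = (m'' * a') * f := by rw [h1]
      _ = m'' * (a' * f) := by group
      _ = m'' * (f * a') := by rw [h2]
      _ = (m'' * f) * a' := by group
  have hzeq : m'' * f = m'⁻¹ * (x * f * x⁻¹) := by
    have : x * f * x⁻¹ = m' * m'' * f := by rw [← hn₀]; group
    rw [this]; group
  have hzD : ∀ d' ∈ D, d' * (m'' * f) = (m'' * f) * d' := by
    intro d' hd'
    have hd'' : x⁻¹ * d' * x ∈ A := by rw [hDx] at hd'; exact mem_conjBy.1 hd'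
    have h1 := (Subgroup.mem_centralizer_iff.1 (hAF hd'')) f hf
    have h2 : d' * (x * f * x⁻¹) = (x * f * x⁻¹) * d' := by
      have e1 : d' * (x * f * x⁻¹) = x * ((x⁻¹ * d' * x) * f) * x⁻¹ := by group
      have e2 : (x * f * x⁻¹) * d' = x * (f * (x⁻¹ * d' * x)) * x⁻¹ := by group
      rw [e1, e2, h1]
    have h3 := (Subgroup.mem_centralizer_iff.1 (hDF' hd')) m'⁻¹ (Subgroup.inv_mem _ hm')
    rw [hzeq]
    calc d' * (m'⁻¹ * (x * f * x⁻¹)) = (d' * m'⁻¹) * (x * f * x⁻¹) := by group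
      _ = (m'⁻¹ * d') * (x * f * x⁻¹) := by rw [h3]
      _ = m'⁻¹ * (d' * (x * f * x⁻¹)) := by group
      _ = m'⁻¹ * ((x * f * x⁻¹) * d') := by rw [h2]
      _ = m'⁻¹ * (x * f * x⁻¹) * d' := by group
  have hz : m'' * f ∈ Subgroup.centralizer ((A ⊔ D : Subgroup G) : Set G) := by
    have hle : A ⊔ D ≤ Subgroup.centralizer {m'' * f} := by
      apply sup_le
      · intro a' ha'
        rw [Subgroup.mem_centralizer_singleton_iff]
        exact hzA a' ha'
      · intro d' hd'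
        rw [Subgroup.mem_centralizer_singleton_iff]
        exact hzD d' hd'
    rw [Subgroup.mem_centralizer_iff]
    intro y hy
    have := hle hy
    rw [Subgroup.mem_centralizer_singleton_iff] at this
    exact this
  have hz1 : m'' * f ≠ 1 := by
    intro hcon
    have : f = m''⁻¹ := by
      have := congrArg (fun t => m''⁻¹ * t) hcon
      simpa using this
    have hmem : f ∈ F ⊓ ⁅A, ⁅D, F⁆⁆ := ⟨hf, by rw [this]; exact Subgroup.inv_mem _ hm''⟩
    rw [hbot, Subgroup.mem_bot] at hmem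
    exact hf1 hmem
  obtain ⟨hfa1, E, hES, hfaE⟩ := hroot f hf hf1 a ha ha1
  obtain ⟨f'₀, hf'₀, hcomm⟩ := commCase_surj_right' hcA ha ha1 m'' hm''
  have hconj : m'' * f * a = f'₀ * (f * a) * f'₀⁻¹ := by
    have h1 := (Subgroup.mem_centralizer_iff.1 (hFF' hf)) f'₀ hf'₀
    have h2 := (Subgroup.mem_centralizer_iff.1 (hFF'' hf)) m'' hm''
    have e1 : f'₀ * (f * a) * f'₀⁻¹ = (f'₀ * f) * f'₀⁻¹ * (f'₀ * a * f'₀⁻¹ * a⁻¹) * a := by group
    rw [e1, h1]
    have e2 : f'₀ * a * f'₀⁻¹ * a⁻¹ = ⁅f'₀, a⁆ := by rw [commutatorElement_def]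
    rw [e2, hcomm]
    have e3 : f * f'₀ * f'₀⁻¹ * m'' * a = (f * m'') * a := by group
    rw [e3, ← h2]
  apply central_translate_not_root hS hA hD hAD hz hz1 a ha ha1
  refine ⟨?_, conjBy E f'₀, hS.conj_mem E hES f'₀, ?_⟩
  · rw [hconj]
    intro hcon
    apply hfa1
    have := congrArg (fun t => f'₀⁻¹ * t * f'₀) hcon
    simpa [mul_assoc] using this
  · rw [hconj]
    exact conj_mem_conjBy hfaE


/-- the line `A ⊔ C` of two commuting abelian subgroups is abelian -/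
theorem sup_le_centralizer_of_comm {A C : Subgroup G} (hA : IsMulCommutative A) (hC : IsMulCommutative C)
    (hAC : A ≤ Subgroup.centralizer (C : Set G)) :
    A ⊔ C ≤ Subgroup.centralizer ((A ⊔ C : Subgroup G) : Set G) := by
  have h1 : A ≤ Subgroup.centralizer ((A ⊔ C : Subgroup G) : Set G) := by
    apply le_centralizer_symm
    exact sup_le (le_centralizer_self_of_comm hA) (le_centralizer_symm hAC)
  have h2 : C ≤ Subgroup.centralizer ((A ⊔ C : Subgroup G) : Set G) := by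
    apply le_centralizer_symm
    exact sup_le hAC (le_centralizer_self_of_comm hC)
  exact sup_le h1 h2

/-- A member `E ≠ A` of a partitioned line through `A` does not commute with a rank one partner `D` of `A`. -/
theorem line_member_not_comm (hS : IsRootSubgroupSet S) {A C D E : Subgroup G} (hA : A ∈ S) (hD : D ∈ S)
    (hAD : IsRankOnePair A D) (hAC : A ≤ Subgroup.centralizer (C : Set G))
    (hpart : IsSubgroupPartition (A ⊔ C) (membersIn S (A ⊔ C)))
    (hE : E ∈ membersIn S (A ⊔ C)) (hEA : E ≠ A) (hCS : C ∈ S) :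
    ¬ D ≤ Subgroup.centralizer (E : Set G) := by
  intro hDE
  have hAab := hS.commutative A hA
  have hCab := hS.commutative C hCS
  have hLab := sup_le_centralizer_of_comm hAab hCab hAC
  have hEA' : E ≤ Subgroup.centralizer (A : Set G) := by
    intro e he
    have := hLab (hE.2 he)
    rw [Subgroup.mem_centralizer_iff] at this ⊢
    intro a ha
    exact this a (Subgroup.mem_sup_left ha)
  have hti : A ⊓ E = ⊥ := by
    rcases root_ti hS hA hD hAD E hE.1 with h | h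
    · exact h
    · exact absurd h.symm hEA
  obtain ⟨e, he, he1⟩ := exists_ne_one_of_ne_bot (hS.ne_bot E hE.1)
  obtain ⟨a, ha, ha1⟩ := rop_exists_left hAD
  have hz : e ∈ Subgroup.centralizer ((A ⊔ D : Subgroup G) : Set G) := by
    have hle : A ⊔ D ≤ Subgroup.centralizer (E : Set G) := sup_le (le_centralizer_symm hEA') hDE
    exact (le_centralizer_symm hle) he
  apply central_translate_not_root hS hA hD hAD hz he1 a ha ha1
  have hne : e * a ≠ 1 := by
    intro hcon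
    have : e = a⁻¹ := eq_inv_of_mul_eq_one_left hcon
    have hmem : e ∈ A ⊓ E := ⟨by rw [this]; exact A.inv_mem ha, he⟩
    rw [hti, Subgroup.mem_bot] at hmem
    exact he1 hmem
  have hmemL : e * a ∈ A ⊔ C := Subgroup.mul_mem _ (hE.2 he) (Subgroup.mem_sup_left ha)
  obtain ⟨M, hM, hxM⟩ := hpart.2.1 _ hmemL hne
  exact ⟨hne, M, hM.1, hxM⟩

/-- On a partitioned line through `A` there is a member `F ≠ A` in the commutator case with a given rank one
partner `D` of `A`; moreover `C ≤ A ⊔ F`. -/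
theorem line_special_member (hS : IsRootSubgroupSet S) {A C D : Subgroup G} (hA : A ∈ S) (hD : D ∈ S)
    (hAD : IsRankOnePair A D) (hC : C ∈ linePartners S A) :
    ∃ F ∈ membersIn S (A ⊔ C), F ≠ A ∧ RootCommutatorCase S D F ∧ (F = C ∨ (IsRankOnePair D C ∧
      ∃ c₀ ∈ C, c₀ ≠ 1 ∧ c₀ ∈ A ⊔ F)) := by
  obtain ⟨⟨hCS, hCA, hcomm⟩, hpart⟩ := hC
  rw [Subgroup.commutator_eq_bot_iff_le_centralizer] at hcomm
  have hCmem : C ∈ membersIn S (A ⊔ C) := ⟨hCS, le_sup_right⟩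
  have hnc : ∀ {E : Subgroup G}, E ∈ membersIn S (A ⊔ C) → E ≠ A → C ∈ S →
      ¬ D ≤ Subgroup.centralizer (E : Set G) :=
    fun {E} h1 h2 h3 => line_member_not_comm hS hA hD hAD hcomm hpart h1 h2 h3
  rcases hS.pair D hD C hCS with h | h | h
  · exfalso
    rw [Subgroup.commutator_eq_bot_iff_le_centralizer] at h
    exact hnc hCmem hCA hCS h
  · -- the trick
    obtain ⟨d, hd, hd1⟩ := rop_exists_right hAD
    obtain ⟨a₀, ha₀, ha₀1, e1⟩ := (RankOnePair_symm hAD).cond_left d hd hd1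
    obtain ⟨c₀, hc₀, hc₀1, e2⟩ := h.cond_left d hd hd1
    have hti : A ⊓ C = ⊥ := by
      rcases root_ti hS hA hD hAD C hCS with h' | h'
      · exact h'
      · exact absurd h'.symm hCA
    have h3 : conjBy D a₀⁻¹ ≤ Subgroup.centralizer ((conjBy D c₀⁻¹ : Subgroup G) : Set G) := by
      rw [e1, e2]
      exact le_centralizer_conj d⁻¹ hcomm
    have h4 : conjBy D (c₀ * a₀⁻¹) ≤ Subgroup.centralizer (D : Set G) := by
      have := le_centralizer_conj c₀ h3
      rw [conjBy_conjBy, conjBy_conjBy, mul_inv_cancel, conjBy_one] at this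
      exact this
    have hf1 : c₀ * a₀⁻¹ ≠ 1 := by
      intro hcon
      have : c₀ = a₀ := by
        have := congrArg (fun t => t * a₀) hcon
        simpa using this
      have hmem : c₀ ∈ A ⊓ C := ⟨by rw [this]; exact ha₀, hc₀⟩
      rw [hti, Subgroup.mem_bot] at hmem
      exact hc₀1 hmem
    have hfL : c₀ * a₀⁻¹ ∈ A ⊔ C :=
      Subgroup.mul_mem _ (Subgroup.mem_sup_right hc₀) (Subgroup.mem_sup_left (A.inv_mem ha₀))
    obtain ⟨F, hFm, hfF⟩ := hpart.2.1 _ hfL hf1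
    have hFA : F ≠ A := by
      intro hcon
      rw [hcon] at hfF
      have : c₀ ∈ A := by
        have := A.mul_mem hfF ha₀
        simpa using this
      have hmem : c₀ ∈ A ⊓ C := ⟨this, hc₀⟩
      rw [hti, Subgroup.mem_bot] at hmem
      exact hc₀1 hmem
    refine ⟨F, hFm, hFA, ?_, Or.inr ⟨h, c₀, hc₀, hc₀1, ?_⟩⟩
    · rcases hS.pair D hD F hFm.1 with h' | h' | h'
      · exfalso
        rw [Subgroup.commutator_eq_bot_iff_le_centralizer] at h'
        exact hnc hFm hFA hCS h'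
      · exfalso
        exact rop_conj_not_comm h' hfF hf1 h4
      · exact h'
    · have : c₀ = (c₀ * a₀⁻¹) * a₀ := by group
      rw [this]
      exact Subgroup.mul_mem _ (Subgroup.mem_sup_right hfF) (Subgroup.mem_sup_left ha₀)
  · exact ⟨C, hCmem, hCA, h, Or.inl rfl⟩


/-- Structure of a partitioned line `A ⊔ C` through `A` relative to a rank one partner `D` of `A`: there is a
member `F` with `(D, F)` in the commutator case, `⁅A, ⁅D, F⁆⁆ = F` and `A ⊔ F = A ⊔ C`. -/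
theorem line_structure (hS : IsRootSubgroupSet S) (hiso : ∀ E ∈ S, ∃ E' ∈ S, IsRankOnePair E E')
    {A C D : Subgroup G} (hA : A ∈ S) (hD : D ∈ S)
    (hAD : IsRankOnePair A D) (hC : C ∈ linePartners S A) :
    ∃ F ∈ S, F ≠ A ∧ A ≤ Subgroup.centralizer (F : Set G) ∧ RootCommutatorCase S D F ∧
      RootCommutatorCase S A ⁅D, F⁆ ∧ ⁅A, ⁅D, F⁆⁆ = F ∧ A ⊔ F = A ⊔ C := by
  obtain ⟨F, hFm, hFA, hc, halt⟩ := line_special_member hS hA hD hAD hC
  obtain ⟨⟨hCS, hCA, hcomm⟩, hpart⟩ := hC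
  rw [Subgroup.commutator_eq_bot_iff_le_centralizer] at hcomm
  have hAab := hS.commutative A hA
  have hCab := hS.commutative C hCS
  have hLab := sup_le_centralizer_of_comm hAab hCab hcomm
  have hAF : A ≤ Subgroup.centralizer (F : Set G) := by
    apply le_centralizer_symm
    intro f hf
    have := hLab (hFm.2 hf)
    rw [Subgroup.mem_centralizer_iff] at this ⊢
    intro a ha
    exact this a (Subgroup.mem_sup_left ha)
  have hti : A ⊓ F = ⊥ := by
    rcases root_ti hS hA hD hAD F hFm.1 with h | h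
    · exact h
    · exact absurd h.symm hFA
  have hcA := commCase_of_opposite hS hA hAD hAF hc
  have hTI : F ⊓ ⁅A, ⁅D, F⁆⁆ = ⊥ ∨ F = ⁅A, ⁅D, F⁆⁆ := by
    obtain ⟨E', hE', hFE'⟩ := hiso F hFm.1
    exact root_ti hS hFm.1 hE' hFE' _ hcA.1
  have hroot : ∀ f ∈ F, f ≠ 1 → ∀ a ∈ A, a ≠ 1 → f * a ∈ rootElements S := by
    intro f hf hf1 a ha _
    have hne : f * a ≠ 1 := by
      intro hcon
      have : f = a⁻¹ := eq_inv_of_mul_eq_one_left hcon
      have hmem : f ∈ A ⊓ F := ⟨by rw [this]; exact A.inv_mem ha, hf⟩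
      rw [hti, Subgroup.mem_bot] at hmem
      exact hf1 hmem
    have hmemL : f * a ∈ A ⊔ C := Subgroup.mul_mem _ (hFm.2 hf) (Subgroup.mem_sup_left ha)
    obtain ⟨M, hM, hxM⟩ := hpart.2.1 _ hmemL hne
    exact ⟨hne, M, hM.1, hxM⟩
  have heq := comm_comm_eq hS hA hD hFm.1 hAD hAF hc hTI hroot
  refine ⟨F, hFm.1, hFA, hAF, hc, hcA, heq, ?_⟩
  apply le_antisymm (sup_le le_sup_left hFm.2)
  refine sup_le le_sup_left ?_
  rcases halt with h | ⟨hDC, c₀, hc₀, hc₀1, hc₀L⟩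
  · rw [h]; exact le_sup_right
  · have hpartF := commCase_partition hS hA hD hAD hcA
    rw [heq] at hpartF
    obtain ⟨M, hM, hxM⟩ := hpartF.2.1 _ hc₀L hc₀1
    rcases root_ti hS hCS hD (RankOnePair_symm hDC) M hM.1 with h | h
    · exfalso
      have hmem : c₀ ∈ C ⊓ M := ⟨hc₀, hxM⟩
      rw [h, Subgroup.mem_bot] at hmem
      exact hc₀1 hmem
    · rw [h]; exact hM.2

end Cfsg.Agent.Lib.Helper83
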