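import Mathlib
import Cfsg.Prelude.Def_RootSubgroups
import Cfsg.Agent.Lib.Helper83.Line
import Cfsg.Agent.Lib.Helper83.ConjRep

set_option autoImplicit false

namespace Cfsg.Agent.Lib.Helper83

open Cfsg
open scoped commutatorElement

variable {G : Type*} [Group G] {S : Set (Subgroup G)}

theorem linePartners_symm {A B : Subgroup G} (hA : A ∈ S) (h : B ∈ linePartners S A) :
    A ∈ linePartners S B := by
  obtain ⟨⟨_, hne, hcomm⟩, hpart⟩ := h
  refine ⟨⟨hA, hne.symm, by rw [Subgroup.commutator_comm]; exact hcomm⟩, ?_⟩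
  rw [sup_comm]; exact hpart

theorem membersIn_conj (hS : IsRootSubgroupSet S) (L : Subgroup G) (g : G) {C : Subgroup G} :
    C ∈ membersIn S (conjBy L g) ↔ conjBy C g⁻¹ ∈ membersIn S L := by
  constructor
  · rintro ⟨hCS, hCle⟩
    refine ⟨hS.conj_mem C hCS g⁻¹, ?_⟩
    have := conjBy_mono g⁻¹ hCle
    rwa [conjBy_conjBy, inv_mul_cancel, conjBy_one] at this
  · rintro ⟨hCS, hCle⟩
    have h1 := hS.conj_mem _ hCS g
    rw [conjBy_conjBy, mul_inv_cancel, conjBy_one] at h1
    refine ⟨h1, ?_⟩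
    have := conjBy_mono g hCle
    rwa [conjBy_conjBy, mul_inv_cancel, conjBy_one] at this

theorem partition_conj (hS : IsRootSubgroupSet S) {L : Subgroup G}
    (h : IsSubgroupPartition L (membersIn S L)) (g : G) :
    IsSubgroupPartition (conjBy L g) (membersIn S (conjBy L g)) := by
  refine ⟨fun C hC => hC.2, ?_, ?_⟩
  · intro x hx hx1
    have hx0 : g⁻¹ * x * g ∈ L := mem_conjBy.1 hx
    have hx01 : g⁻¹ * x * g ≠ 1 := by
      intro hcon
      apply hx1
      have := congrArg (fun t => g * t * g⁻¹) hcon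
      simpa [mul_assoc] using this
    obtain ⟨C₀, hC₀, hxC₀⟩ := h.2.1 _ hx0 hx01
    refine ⟨conjBy C₀ g, ?_, mem_conjBy.2 hxC₀⟩
    rw [membersIn_conj hS, conjBy_conjBy, inv_mul_cancel, conjBy_one]
    exact hC₀
  · intro C hC D hD hne
    rw [membersIn_conj hS] at hC hD
    have hne' : conjBy C g⁻¹ ≠ conjBy D g⁻¹ := fun hcon => hne (conjBy_inj hcon)
    have := h.2.2 _ hC _ hD hne'
    rw [← conjBy_inf] at this
    have h2 := congrArg (fun H => conjBy H g) this
    simpa [conjBy_conjBy, conjBy_one, conjBy_bot] using h2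

theorem linePartners_conj (hS : IsRootSubgroupSet S) {A B : Subgroup G}
    (h : B ∈ linePartners S A) (g : G) : conjBy B g ∈ linePartners S (conjBy A g) := by
  obtain ⟨⟨hBS, hne, hcomm⟩, hpart⟩ := h
  refine ⟨⟨hS.conj_mem B hBS g, fun hcon => hne (conjBy_inj hcon), ?_⟩, ?_⟩
  · rw [← conjBy_commutator, hcomm, conjBy_bot]
  · rw [← conjBy_sup]
    exact partition_conj hS hpart g

/-- in the commutator case (with `A` non-isolated) the commutator is a line partner of `A` -/
theorem linePartner_of_commCase (hS : IsRootSubgroupSet S) {A B E : Subgroup G} (hA : A ∈ S)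
    (hE : E ∈ S) (hAE : IsRankOnePair A E) (hc : RootCommutatorCase S A B) :
    ⁅A, B⁆ ∈ linePartners S A := by
  refine ⟨⟨hc.1, (commCase_ne hS hc).symm, ?_⟩, commCase_partition hS hA hE hAE hc⟩
  rw [Subgroup.commutator_eq_bot_iff_le_centralizer]
  exact commCase_left_le_centralizer hc

/-- in a class with a rank one pair every member has a rank one partner -/
theorem class_has_partner (hS : IsRootSubgroupClass S) {A B : Subgroup G} (hA : A ∈ S) (hB : B ∈ S)
    (hAB : IsRankOnePair A B) : ∀ E ∈ S, ∃ E' ∈ S, IsRankOnePair E E' := by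
  intro E hE
  obtain ⟨g, rfl⟩ := hS.2.2 A hA E hE
  exact ⟨conjBy B g, hS.1.conj_mem B hB g, rop_conj hAB g⟩


/-- In a nondegenerate class, every member has a line partner. -/
theorem nondeg_exists_linePartner (hS : IsRootSubgroupClass S) (hnd : IsNondegenerateRootSet S)
    {A : Subgroup G} (hA : A ∈ S) : ∃ C, C ∈ linePartners S A := by
  obtain ⟨-, ⟨P₁, hP₁, P₂, hP₂, hP⟩, ⟨P, hP', Q, hQ, hc⟩⟩ := hnd
  obtain ⟨E, hE, hPE⟩ := class_has_partner hS hP₁ hP₂ hP P hP'
  have h1 := linePartner_of_commCase hS.1 hP' hE hPE hc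
  obtain ⟨g, rfl⟩ := hS.2.2 P hP' A hA
  exact ⟨_, linePartners_conj hS.1 h1 g⟩

/-- The special point on a line through `A`, relative to a rank one partner `B` (class version). -/
theorem nondeg_line_partner (hS : IsRootSubgroupClass S) (hnd : IsNondegenerateRootSet S)
    {A B : Subgroup G} (hA : A ∈ S) (hB : B ∈ S) (hAB : IsRankOnePair A B) :
    ∃ F ∈ S, F ∈ linePartners S A ∧ RootCommutatorCase S B F ∧ RootCommutatorCase S A ⁅B, F⁆ ∧
      ⁅A, ⁅B, F⁆⁆ = F := by
  obtain ⟨C, hC⟩ := nondeg_exists_linePartner hS hnd hA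
  have hiso := class_has_partner hS hA hB hAB
  obtain ⟨F, hFS, hFA, hAF, hc, hcA, heq, hsup⟩ := line_structure hS.1 hiso hA hB hAB hC
  refine ⟨F, hFS, ⟨⟨hFS, hFA, ?_⟩, ?_⟩, hc, hcA, heq⟩
  · rw [Subgroup.commutator_eq_bot_iff_le_centralizer]; exact hAF
  · rw [hsup]; exact hC.2

/-- a rank one pair `(A, B)` acting on the natural module `F ⊔ ⁅B, F⁆` is special -/
theorem special_of_line (hS : IsRootSubgroupSet S) {A B F : Subgroup G} (hA : A ∈ S) (hB : B ∈ S)
    (hAB : IsRankOnePair A B) (hF : F ∈ S) (hAF : A ≤ Subgroup.centralizer (F : Set G))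
    (hc : RootCommutatorCase S B F) (hcA : RootCommutatorCase S A ⁅B, F⁆) (heq : ⁅A, ⁅B, F⁆⁆ = F) :
    IsSpecialRankOnePair A B := by
  have hFab := hS.commutative F hF
  have hF'ab := hS.commutative _ hc.1
  have hFF' : F ≤ Subgroup.centralizer ((⁅B, F⁆ : Subgroup G) : Set G) := commCase_right_le_centralizer hc
  have hBF' : B ≤ Subgroup.centralizer ((⁅B, F⁆ : Subgroup G) : Set G) := commCase_left_le_centralizer hc
  have hNab := sup_le_centralizer_of_comm hFab hF'ab hFF'
  -- conjugation by A and B preserves N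
  have hAN : ∀ a ∈ A, conjBy (F ⊔ ⁅B, F⁆) a ≤ F ⊔ ⁅B, F⁆ := by
    intro a ha
    rw [conjBy_sup, conjBy_eq_self_of_le_centralizer ha hAF]
    refine sup_le le_sup_left ?_
    intro y hy
    obtain ⟨f', hf', rfl⟩ := Subgroup.mem_map.1 hy
    show a * f' * a⁻¹ ∈ _
    have : a * f' * a⁻¹ = ⁅a, f'⁆ * f' := by rw [commutatorElement_def]; group
    rw [this]
    refine Subgroup.mul_mem _ (Subgroup.mem_sup_left ?_) (Subgroup.mem_sup_right hf')
    rw [← heq]
    exact Subgroup.commutator_mem_commutator ha hf'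
  have hBN : ∀ b ∈ B, conjBy (F ⊔ ⁅B, F⁆) b ≤ F ⊔ ⁅B, F⁆ := by
    intro b hb
    rw [conjBy_sup, conjBy_eq_self_of_le_centralizer hb hBF']
    refine sup_le ?_ le_sup_right
    intro y hy
    obtain ⟨f, hf, rfl⟩ := Subgroup.mem_map.1 hy
    show b * f * b⁻¹ ∈ _
    have : b * f * b⁻¹ = ⁅b, f⁆ * f := by rw [commutatorElement_def]; group
    rw [this]
    exact Subgroup.mul_mem _ (Subgroup.mem_sup_right (Subgroup.commutator_mem_commutator hb hf))
      (Subgroup.mem_sup_left hf)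
  have hnorm : A ⊔ B ≤ Subgroup.normalizer ((F ⊔ ⁅B, F⁆ : Subgroup G) : Set G) := by
    apply sup_le
    · intro a ha
      exact conjBy_eq_self_iff.1 (conjBy_eq_of_forall_le hAN a ha)
    · intro b hb
      exact conjBy_eq_self_iff.1 (conjBy_eq_of_forall_le hBN b hb)
  apply special_of_module hAB (N := F ⊔ ⁅B, F⁆) ?_ hnorm
  · -- quadratic
    intro a ha a' ha' n hn
    obtain ⟨f, hf, c, hcC, rfl⟩ := mem_sup_of_comm hFF' hn
    have h1 := (Subgroup.mem_centralizer_iff.1 (hAF ha)) f hf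
    have hmem : ⁅a, c⁆ ∈ F := by
      rw [← heq]; exact Subgroup.commutator_mem_commutator ha hcC
    have h2 : f * ⁅a, c⁆ = ⁅a, c⁆ * f := comm_of_isMulCommutative hFab hf hmem
    have e : a * (f * c) * a⁻¹ * (f * c)⁻¹ = ⁅a, c⁆ := by
      have e1 : a * (f * c) * a⁻¹ * (f * c)⁻¹ = (a * f) * (c * a⁻¹ * c⁻¹) * f⁻¹ := by group
      rw [e1, ← h1]
      have e2 : f * a * (c * a⁻¹ * c⁻¹) * f⁻¹ = (f * ⁅a, c⁆) * f⁻¹ := by
        rw [commutatorElement_def]; group
      rw [e2, h2]; group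
    rw [e]
    have h3 := (Subgroup.mem_centralizer_iff.1 (hAF ha')) _ hmem
    rw [← h3]; group
  · -- not quadratic
    obtain ⟨b, hb, hb1⟩ := rop_exists_right hAB
    obtain ⟨a, ha, ha1⟩ := rop_exists_left hAB
    obtain ⟨f, hf, hf1⟩ := exists_ne_one_of_ne_bot (hS.ne_bot F hF)
    refine ⟨b, Subgroup.mem_sup_right hb, a, Subgroup.mem_sup_left ha, f, Subgroup.mem_sup_left hf, ?_⟩
    have hcne : b * f * b⁻¹ * f⁻¹ ≠ 1 := by
      intro hcon
      apply hf1
      apply commCase_cent_trivial hS hB hA (RankOnePair_symm hAB) hc hb hb1 hf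
      have := congrArg (fun t => t * f * b) hcon
      simpa [mul_assoc] using this
    have hcmem : b * f * b⁻¹ * f⁻¹ ∈ ⁅B, F⁆ := Subgroup.commutator_mem_commutator hb hf
    intro hcon
    apply hcne
    apply commCase_cent_trivial hS hA hB hAB hcA ha ha1 hcmem
    have := congrArg (fun t => t * a) hcon
    simpa [mul_assoc] using this
  · intro x hx y hy
    exact ((Subgroup.mem_centralizer_iff.1 (hNab hx)) y hy).symm

end Cfsg.Agent.Lib.Helper83
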