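import Mathlib
import Cfsg.Prelude.Def_RootSubgroups
import Cfsg.Agent.Lib.Helper83.Nondeg

set_option autoImplicit false

namespace Cfsg.Agent.Lib.Helper83

open Cfsg
open scoped commutatorElement

variable {G : Type*} [Group G] {S : Set (Subgroup G)}

/-- The structure of a line `P ⊔ Q` seen from a point `P` with rank one partner `D`: the special point `F`, the
root subgroup `F' = ⁅D, F⁆` normalizing the line, fixing `F` and transitive on the other points. -/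
theorem line_point_trans (hS : IsRootSubgroupSet S) (hiso : ∀ E ∈ S, ∃ E' ∈ S, IsRankOnePair E E')
    {P Q D : Subgroup G} (hP : P ∈ S) (hD : D ∈ S) (hPD : IsRankOnePair P D)
    (hQ : Q ∈ linePartners S P) :
    ∃ F ∈ S, F ≠ P ∧ F ∈ linePartners S P ∧ P ⊔ F = P ⊔ Q ∧
      ∃ F' ∈ normalizingMembers S (P ⊔ Q), RootCommutatorCase S P F' ∧ ⁅P, F'⁆ = F ∧
        (∀ f' ∈ F', conjBy F f' = F) ∧
        membersIn S (P ⊔ Q) = (fun f' : G => conjBy P f') '' (F' : Set G) ∪ {F} := by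
  obtain ⟨F, hFS, hFP, hPF, hc, hcA, heq, hsup⟩ := line_structure hS hiso hP hD hPD hQ
  have hmem := commCase_members hS hP hD hPD hcA
  rw [heq, hsup] at hmem
  have hFfix : ∀ f' ∈ ⁅D, F⁆, conjBy F f' = F := by
    intro f' hf'
    apply conjBy_eq_self_of_le_centralizer hf'
    have := commCase_right_le_centralizer hcA
    rw [heq] at this
    exact this
  have hFL : F ∈ linePartners S P := by
    refine ⟨⟨hFS, hFP, ?_⟩, ?_⟩
    · rw [Subgroup.commutator_eq_bot_iff_le_centralizer]; exact hPF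
    · rw [hsup]; exact hQ.2
  refine ⟨F, hFS, hFP, hFL, hsup, ⁅D, F⁆, ⟨hc.1, ?_⟩, hcA, heq, hFfix, hmem⟩
  -- F' normalizes the line
  have hle : ∀ f' ∈ ⁅D, F⁆, conjBy (P ⊔ Q) f' ≤ P ⊔ Q := by
    intro f' hf'
    rw [← hsup, conjBy_sup, hFfix f' hf']
    refine sup_le ?_ le_sup_right
    have : conjBy P f' ∈ membersIn S (P ⊔ Q) := by
      rw [hmem]; exact Or.inl ⟨f', hf', rfl⟩
    rw [hsup]
    exact this.2
  intro f' hf'
  exact conjBy_eq_self_iff.1 (conjBy_eq_of_forall_le hle f' hf')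


/-- version of `line_point_trans` exposing `F' = ⁅D, F⁆` -/
theorem line_point_trans' (hS : IsRootSubgroupSet S) (hiso : ∀ E ∈ S, ∃ E' ∈ S, IsRankOnePair E E')
    {P Q D : Subgroup G} (hP : P ∈ S) (hD : D ∈ S) (hPD : IsRankOnePair P D)
    (hQ : Q ∈ linePartners S P) :
    ∃ F ∈ S, F ≠ P ∧ F ∈ linePartners S P ∧ P ⊔ F = P ⊔ Q ∧ RootCommutatorCase S D F ∧
      ⁅D, F⁆ ∈ normalizingMembers S (P ⊔ Q) ∧ RootCommutatorCase S P ⁅D, F⁆ ∧ ⁅P, ⁅D, F⁆⁆ = F ∧
        (∀ f' ∈ ⁅D, F⁆, conjBy F f' = F) ∧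
        membersIn S (P ⊔ Q) = (fun f' : G => conjBy P f') '' ((⁅D, F⁆ : Subgroup G) : Set G) ∪ {F} := by
  obtain ⟨F, hFS, hFP, hPF, hc, hcA, heq, hsup⟩ := line_structure hS hiso hP hD hPD hQ
  have hmem := commCase_members hS hP hD hPD hcA
  rw [heq, hsup] at hmem
  have hFfix : ∀ f' ∈ ⁅D, F⁆, conjBy F f' = F := by
    intro f' hf'
    apply conjBy_eq_self_of_le_centralizer hf'
    have := commCase_right_le_centralizer hcA
    rw [heq] at this
    exact this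
  have hFL : F ∈ linePartners S P := by
    refine ⟨⟨hFS, hFP, ?_⟩, ?_⟩
    · rw [Subgroup.commutator_eq_bot_iff_le_centralizer]; exact hPF
    · rw [hsup]; exact hQ.2
  refine ⟨F, hFS, hFP, hFL, hsup, hc, ⟨hc.1, ?_⟩, hcA, heq, hFfix, hmem⟩
  have hle : ∀ f' ∈ ⁅D, F⁆, conjBy (P ⊔ Q) f' ≤ P ⊔ Q := by
    intro f' hf'
    rw [← hsup, conjBy_sup, hFfix f' hf']
    refine sup_le ?_ le_sup_right
    have : conjBy P f' ∈ membersIn S (P ⊔ Q) := by
      rw [hmem]; exact Or.inl ⟨f', hf', rfl⟩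
    rw [hsup]
    exact this.2
  intro f' hf'
  exact conjBy_eq_self_iff.1 (conjBy_eq_of_forall_le hle f' hf')

end Cfsg.Agent.Lib.Helper83
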