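import Mathlib
import Cfsg.Prelude.Def_RootSubgroups
import Cfsg.Agent.Lib.Helper83.LineTrans
import Cfsg.Agent.S5038

set_option autoImplicit false

namespace Cfsg.Agent.Lib.Helper83

open Cfsg
open scoped commutatorElement

variable {G : Type*} [Group G] {S : Set (Subgroup G)}

/-- For two distinct points `M₁ ≠ M₂` of a line there is a root subgroup `E` with `⁅M₁, E⁆ = M₂`. -/
theorem exists_comm_of_line (hS : IsRootSubgroupSet S) (hiso : ∀ E ∈ S, ∃ E' ∈ S, IsRankOnePair E E')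
    {P Q : Subgroup G} (hP : P ∈ S) (hQ : Q ∈ linePartners S P) {M₁ M₂ : Subgroup G}
    (h1 : M₁ ∈ membersIn S (P ⊔ Q)) (h2 : M₂ ∈ membersIn S (P ⊔ Q)) (hne : M₁ ≠ M₂) :
    ∃ E ∈ S, RootCommutatorCase S M₁ E ∧ ⁅M₁, E⁆ = M₂ := by
  have hF : ∀ A ∈ S, ¬ IsIsolatedIn (FAdj S) S A := by
    intro A hA
    obtain ⟨E', hE', hAE'⟩ := hiso A hA
    exact not_isolated_of_partner hA hE' hAE'
  obtain ⟨D, hD, hPD⟩ := hiso P hP
  obtain ⟨F, hFS, hFP, hFL, hsup, F', hF'N, hcA, heq, hFfix, hmem⟩ :=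
    line_point_trans hS hiso hP hD hPD hQ
  have hPT : P ∈ membersIn S (P ⊔ Q) := ⟨hP, le_sup_left⟩
  have hFT : F ∈ membersIn S (P ⊔ Q) := by rw [hmem]; exact Or.inr rfl
  obtain ⟨x, -, hx1, hx2⟩ := Cfsg.Agent.S5038.result hS hF hP hQ P hPT F hFT M₁ h1 M₂ h2 hFP.symm hne
  have hE : conjBy F' x ∈ S := hS.conj_mem F' hF'N.1 x
  have hcomm : ⁅M₁, conjBy F' x⁆ = M₂ := by
    rw [← hx1, ← conjBy_commutator, heq, hx2]
  exact ⟨conjBy F' x, hE, commCase_of_mem hS h1.1 hE (by rw [hcomm]; exact h2.1), hcomm⟩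

end Cfsg.Agent.Lib.Helper83
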