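import Mathlib
import Cfsg.Prelude.Def_RootSubgroups
import Cfsg.Agent.Lib.Helper83.LineTrans2

set_option autoImplicit false

namespace Cfsg.Agent.Lib.Helper83

open Cfsg
open scoped commutatorElement

variable {G : Type*} [Group G] {S : Set (Subgroup G)}

/-- a root subgroup `E` with `⁅F, E⁆ = A` is a line partner of `A` -/
theorem linePartner_of_comm_eq (hS : IsRootSubgroupSet S) (hiso : ∀ E ∈ S, ∃ E' ∈ S, IsRankOnePair E E')
    {A F E : Subgroup G} (_hA : A ∈ S) (hE : E ∈ S) (hc : RootCommutatorCase S F E) (heq : ⁅F, E⁆ = A) :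
    E ∈ linePartners S A := by
  obtain ⟨E', hE', hEE'⟩ := hiso E hE
  have := linePartner_of_commCase hS hE hE' hEE' (commCase_symm hc)
  rw [Subgroup.commutator_comm, heq] at this
  exact linePartners_symm hE this

/-- every point of a line through `A` is conjugate to `A` under any subgroup `R` containing the line partners of `A`
and a rank one partner `B` of `A`. -/
theorem line_points_conj (hS : IsRootSubgroupSet S) (hiso : ∀ E ∈ S, ∃ E' ∈ S, IsRankOnePair E E')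
    {A B C R : Subgroup G} (hA : A ∈ S) (hB : B ∈ S) (hAB : IsRankOnePair A B)
    (hC : C ∈ linePartners S A) (hΛ : ∀ C' ∈ linePartners S A, C' ≤ R) (hBR : B ≤ R) :
    A ≤ R ∧ ∀ M ∈ membersIn S (A ⊔ C), ∃ r ∈ R, M = conjBy A r := by
  obtain ⟨F, hFS, hFA, hFL, hsup, hc, hF'N, hcA, heq, hFfix, hmem⟩ :=
    line_point_trans' hS hiso hA hB hAB hC
  have hFR : F ≤ R := hΛ F hFL
  have hF'R : ⁅B, F⁆ ≤ R := (Subgroup.commutator_le_sup B F).trans (sup_le hBR hFR)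
  have hAT : A ∈ membersIn S (A ⊔ C) := ⟨hA, le_sup_left⟩
  have hFT : F ∈ membersIn S (A ⊔ C) := by rw [hmem]; exact Or.inr rfl
  obtain ⟨C₂, hC₂S, hc₂, heq₂⟩ := exists_comm_of_line hS hiso hA hC hFT hAT hFA
  have hC₂L : C₂ ∈ linePartners S A := linePartner_of_comm_eq hS hiso hA hC₂S hc₂ heq₂
  have hC₂R : C₂ ≤ R := hΛ C₂ hC₂L
  have hAR : A ≤ R := by
    rw [← heq₂]
    exact (Subgroup.commutator_le_sup F C₂).trans (sup_le hFR hC₂R)
  refine ⟨hAR, ?_⟩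
  intro M hM
  rw [hmem] at hM
  rcases hM with ⟨f', hf', rfl⟩ | hM
  · exact ⟨f', hF'R hf', rfl⟩
  rw [Set.mem_singleton_iff] at hM
  subst hM
  obtain ⟨c, hc₂mem, hc1⟩ := exists_ne_one_of_ne_bot (hS.ne_bot C₂ hC₂S)
  obtain ⟨D, hD, hAD⟩ := hiso A hA
  have hti : M ⊓ A = ⊥ := by
    rcases root_ti hS hA hD hAD M hFS with h | h
    · rw [inf_comm]; exact h
    · exact absurd h.symm hFA
  -- M₀ = conjBy M c⁻¹
  have hM₀le : conjBy M c⁻¹ ≤ A ⊔ C := by
    rw [← hsup]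
    intro y hy
    obtain ⟨f, hf, rfl⟩ := Subgroup.mem_map.1 hy
    show c⁻¹ * f * c⁻¹⁻¹ ∈ _
    have : c⁻¹ * f * c⁻¹⁻¹ = ⁅c⁻¹, f⁆ * f := by rw [commutatorElement_def]; group
    rw [this]
    refine Subgroup.mul_mem _ (Subgroup.mem_sup_left ?_) (Subgroup.mem_sup_right hf)
    rw [← heq₂, Subgroup.commutator_comm]
    exact Subgroup.commutator_mem_commutator (C₂.inv_mem hc₂mem) hf
  have hM₀T : conjBy M c⁻¹ ∈ membersIn S (A ⊔ C) := ⟨hS.conj_mem M hFS c⁻¹, hM₀le⟩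
  have hM₀ne : conjBy M c⁻¹ ≠ M := by
    intro hcon
    apply hc1
    have hci : c⁻¹ = 1 := by
      obtain ⟨f, hf, hf1⟩ := exists_ne_one_of_ne_bot (hS.ne_bot M hFS)
      obtain ⟨M', hM', hMM'⟩ := hiso M hFS
      apply commCase_cent_trivial hS hFS hM' hMM' hc₂ hf hf1 (C₂.inv_mem hc₂mem)
      have h1 : c⁻¹ * f * c⁻¹⁻¹ ∈ M := by
        have := conj_mem_conjBy (g := c⁻¹) hf
        rwa [hcon] at this
      have h2 : ⁅c⁻¹, f⁆ ∈ M := by
        rw [commutatorElement_def]; exact M.mul_mem h1 (M.inv_mem hf)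
      have h3 : ⁅c⁻¹, f⁆ ∈ A := by
        rw [← heq₂, Subgroup.commutator_comm]
        exact Subgroup.commutator_mem_commutator (C₂.inv_mem hc₂mem) hf
      have h4 : ⁅c⁻¹, f⁆ ∈ M ⊓ A := ⟨h2, h3⟩
      rw [hti, Subgroup.mem_bot] at h4
      exact (commutatorElement_eq_one_iff_mul_comm.1 h4).symm
    simpa using hci
  rw [hmem] at hM₀T
  rcases hM₀T with ⟨f', hf', hf'eq⟩ | hM₀
  · refine ⟨c * f', R.mul_mem (hC₂R hc₂mem) (hF'R hf'), ?_⟩
    have hf'eq' : conjBy A f' = conjBy M c⁻¹ := hf'eq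
    rw [← conjBy_conjBy, hf'eq', conjBy_conjBy]
    simp [conjBy_one]
  · exact absurd hM₀ hM₀ne

end Cfsg.Agent.Lib.Helper83
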