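import Mathlib
import Cfsg.Prelude.Def_SporadicB

/-!
# Locally `S₃` sets of 3-transpositions, part a: word lemmas

* `b23_isPGroup`: a group generated by `u, v` with `u³ = v³ = (uv)³ = (uv⁻¹)³ = 1` is a 3-group;
* basic calculus of 3-transpositions;
* the `A₃` lemma.
-/

set_option autoImplicit false

namespace Cfsg.Agent.Lib.Helper83.LocS3

open Cfsg

variable {G : Type*} [Group G]

section B23

variable {u v : G}

theorem b23_rel1 (huv : (u * v) ^ 3 = 1) : u * v * u = v⁻¹ * u⁻¹ * v⁻¹ := by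
  have h : u * v * u * (v * u * v) = 1 := by
    rw [← huv, pow_succ, pow_two]; group
  have := eq_inv_of_mul_eq_one_left h
  rw [this]; group

theorem b23_comm_u (hv : v ^ 3 = 1) (huv : (u * v) ^ 3 = 1)
    (huv' : (u * v⁻¹) ^ 3 = 1) : Commute u (u⁻¹ * v⁻¹ * u * v) := by
  have h1 : u * v * u = v⁻¹ * u⁻¹ * v⁻¹ := b23_rel1 huv
  have h2 : u * v⁻¹ * u = v * u⁻¹ * v := by
    have := b23_rel1 huv'
    simpa using this
  have h3 : v * v = v⁻¹ := by
    have : v * v * v = 1 := by rw [← hv, pow_succ, pow_two]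
    exact eq_inv_of_mul_eq_one_left this
  have h3' : v⁻¹ * v⁻¹ = v := by
    have : v⁻¹ * v⁻¹ = (v * v)⁻¹ := by group
    rw [this, h3, inv_inv]
  show u * (u⁻¹ * v⁻¹ * u * v) = u⁻¹ * v⁻¹ * u * v * u
  have e1 : u * (u⁻¹ * v⁻¹ * u * v) = v⁻¹ * u * v := by group
  have e2 : u⁻¹ * v⁻¹ * u * v * u = u⁻¹ * v⁻¹ * (u * v * u) := by group
  rw [e1, e2, h1]
  have e3 : u⁻¹ * v⁻¹ * (v⁻¹ * u⁻¹ * v⁻¹) = u⁻¹ * (v⁻¹ * v⁻¹) * u⁻¹ * v⁻¹ := by group
  rw [e3, h3']
  -- goal: v⁻¹ * u * v = u⁻¹ * v * u⁻¹ * v⁻¹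
  have e4 : u * v⁻¹ * u * v = v * u⁻¹ * v⁻¹ := by
    rw [h2]
    have : v * u⁻¹ * v * v = v * u⁻¹ * (v * v) := by group
    rw [this, h3]
  -- from e4: v⁻¹ * u * v = u⁻¹ * (v * u⁻¹ * v⁻¹)
  have e5 : v⁻¹ * u * v = u⁻¹ * (u * v⁻¹ * u * v) := by group
  rw [e5, e4]; group

theorem b23_comm_v (hu : u ^ 3 = 1) (huv : (u * v) ^ 3 = 1)
    (huv' : (u * v⁻¹) ^ 3 = 1) : Commute v (u⁻¹ * v⁻¹ * u * v) := by
  have hvu : (v * u) ^ 3 = 1 := by
    have : (v * u) ^ 3 = v * (u * v) ^ 3 * v⁻¹ := by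
      simp only [pow_succ, pow_zero, one_mul]; group
    rw [this, huv]; group
  have hvu' : (v * u⁻¹) ^ 3 = 1 := by
    have : (v * u⁻¹) ^ 3 = ((u * v⁻¹) ^ 3)⁻¹ := by
      simp only [pow_succ, pow_zero, one_mul]; group
    rw [this, huv', inv_one]
  have h := b23_comm_u (u := v) (v := u) hu hvu hvu'
  -- v commutes with v⁻¹ u⁻¹ v u = (u⁻¹ v⁻¹ u v)⁻¹
  have e : u⁻¹ * v⁻¹ * u * v = (v⁻¹ * u⁻¹ * v * u)⁻¹ := by group
  rw [e]
  exact h.inv_right

theorem b23_cube (hu : u ^ 3 = 1) (hv : v ^ 3 = 1) (huv : (u * v) ^ 3 = 1)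
    (huv' : (u * v⁻¹) ^ 3 = 1) : (u⁻¹ * v⁻¹ * u * v) ^ 3 = 1 := by
  set c := u⁻¹ * v⁻¹ * u * v with hc
  have hcu : Commute u c := b23_comm_u hv huv huv'
  have e : v⁻¹ * u * v = u * c := by rw [hc]; group
  have h1 : (u * c) ^ 3 = 1 := by
    rw [← e]
    have : (v⁻¹ * u * v) ^ 3 = v⁻¹ * u ^ 3 * v := by
      simp only [pow_succ, pow_zero, one_mul]; group
    rw [this, hu]; group
  rw [hcu.mul_pow, hu, one_mul] at h1
  exact h1

/-- a group generated by `u, v` with `u³ = v³ = (uv)³ = (uv⁻¹)³ = 1` is a 3-group -/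
theorem b23_isPGroup (hu : u ^ 3 = 1) (hv : v ^ 3 = 1) (huv : (u * v) ^ 3 = 1)
    (huv' : (u * v⁻¹) ^ 3 = 1) : IsPGroup 3 (Subgroup.closure ({u, v} : Set G)) := by
  have : Fact (Nat.Prime 3) := ⟨by norm_num⟩
  set c := u⁻¹ * v⁻¹ * u * v with hc
  have hcu : Commute u c := b23_comm_u hv huv huv'
  have hcv : Commute v c := b23_comm_v hu huv huv'
  have hc3 : c ^ 3 = 1 := b23_cube hu hv huv huv'
  have hpz : ∀ x : G, x ^ 3 = 1 → IsPGroup 3 (Subgroup.zpowers x) := by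
    intro x hx g
    obtain ⟨g, k, rfl⟩ := g
    refine ⟨1, ?_⟩
    apply Subtype.ext
    show (x ^ k) ^ (3 ^ 1) = 1
    rw [pow_one, ← zpow_natCast, ← zpow_mul, mul_comm, zpow_mul, zpow_natCast, hx, one_zpow]
  -- A = <u> ⊔ <c>
  have hA : IsPGroup 3 (Subgroup.zpowers u ⊔ Subgroup.zpowers c : Subgroup G) := by
    apply IsPGroup.to_sup_of_normal_right' (hpz u hu) (hpz c hc3)
    rw [Subgroup.zpowers_le]
    rw [Subgroup.mem_normalizer_iff]
    intro h
    have : u * h * u⁻¹ ∈ Subgroup.zpowers c ↔ h ∈ Subgroup.zpowers c := by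
      constructor
      · rintro ⟨k, hk⟩
        refine ⟨k, ?_⟩
        have : h = u⁻¹ * (u * h * u⁻¹) * u := by group
        rw [this, ← hk]
        have hcomm : Commute u (c ^ k) := hcu.zpow_right k
        have : u⁻¹ * c ^ k * u = c ^ k := by
          rw [mul_assoc, ← hcomm.eq]; group
        exact this.symm
      · rintro ⟨k, rfl⟩
        refine ⟨k, ?_⟩
        have hcomm : Commute u (c ^ k) := hcu.zpow_right k
        show c ^ k = u * c ^ k * u⁻¹
        rw [hcomm.eq]; group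
    exact this.symm
  set A : Subgroup G := Subgroup.zpowers u ⊔ Subgroup.zpowers c with hAdef
  have huA : u ∈ A := Subgroup.mem_sup_left (Subgroup.mem_zpowers u)
  have hcA : c ∈ A := Subgroup.mem_sup_right (Subgroup.mem_zpowers c)
  -- conjugation by v and v⁻¹ maps A into A
  have key : ∀ w : G, w * u * w⁻¹ ∈ A → w * c * w⁻¹ ∈ A → ∀ h ∈ A, w * h * w⁻¹ ∈ A := by
    intro w h1 h2 h hh
    have hle : A ≤ A.comap (MulAut.conj w).toMonoidHom := by
      rw [hAdef, sup_le_iff, Subgroup.zpowers_le, Subgroup.zpowers_le]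
      exact ⟨by simpa [Subgroup.mem_comap, MulAut.conj_apply] using h1,
        by simpa [Subgroup.mem_comap, MulAut.conj_apply] using h2⟩
    have := hle hh
    simpa [Subgroup.mem_comap, MulAut.conj_apply] using this
  have hv1 : v * u * v⁻¹ = u * c⁻¹ := by
    -- v⁻¹ u v = u c, so u = v (u c) v⁻¹ = (v u v⁻¹) c
    have e : v⁻¹ * u * v = u * c := by rw [hc]; group
    have : v * u * v⁻¹ * c = u := by
      have hcc : v * c * v⁻¹ = c := by rw [hcv.eq]; group
      calc v * u * v⁻¹ * c = v * u * v⁻¹ * (v * c * v⁻¹) := by rw [hcc]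
        _ = v * (u * c) * v⁻¹ := by group
        _ = v * (v⁻¹ * u * v) * v⁻¹ := by rw [e]
        _ = u := by group
    calc v * u * v⁻¹ = v * u * v⁻¹ * c * c⁻¹ := by group
      _ = u * c⁻¹ := by rw [this]
  have hv2 : v⁻¹ * u * v⁻¹⁻¹ = u * c := by rw [hc]; group
  have hvc : v * c * v⁻¹ = c := by rw [hcv.eq]; group
  have hvc' : v⁻¹ * c * v⁻¹⁻¹ = c := by
    rw [inv_inv, mul_assoc, ← hcv.eq]; group
  have hvn : Subgroup.zpowers v ≤ Subgroup.normalizer (A : Set G) := by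
    rw [Subgroup.zpowers_le, Subgroup.mem_normalizer_iff]
    intro h
    constructor
    · intro hh
      exact key v (by rw [hv1]; exact A.mul_mem huA (A.inv_mem hcA)) (by rw [hvc]; exact hcA) h hh
    · intro hh
      have := key v⁻¹ (by rw [hv2]; exact A.mul_mem huA hcA) (by rw [hvc']; exact hcA) _ hh
      have e : v⁻¹ * (v * h * v⁻¹) * v⁻¹⁻¹ = h := by group
      rwa [e] at this
  have hH : IsPGroup 3 (Subgroup.zpowers v ⊔ A : Subgroup G) :=
    IsPGroup.to_sup_of_normal_right' (hpz v hv) hA hvn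
  apply hH.to_le
  rw [Subgroup.closure_le]
  intro x hx
  rcases hx with rfl | rfl
  · exact Subgroup.mem_sup_right huA
  · exact Subgroup.mem_sup_left (Subgroup.mem_zpowers _)

end B23

section TT

variable {D : Set G}

theorem tt_sq (hD : IsThreeTranspositionSet D) {x : G} (hx : x ∈ D) : x * x = 1 := by
  have := hD.1 x hx
  rw [← pow_two, ← this, pow_orderOf_eq_one]

theorem tt_inv (hD : IsThreeTranspositionSet D) {x : G} (hx : x ∈ D) : x⁻¹ = x :=
  inv_eq_of_mul_eq_one_right (tt_sq hD hx)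

theorem tt_ne_one (hD : IsThreeTranspositionSet D) {x : G} (hx : x ∈ D) : x ≠ 1 := by
  intro h
  have := hD.1 x hx
  rw [h, orderOf_one] at this
  omega

theorem inv_commute_of_sq {x y : G} (hx : x * x = 1) (hy : y * y = 1) (h : (x * y) ^ 2 = 1) :
    Commute x y := by
  show x * y = y * x
  have h1 : x * y * (x * y) = 1 := by rw [← pow_two]; exact h
  have h2 : x * y = (x * y)⁻¹ := eq_inv_of_mul_eq_one_left h1
  rw [h2, mul_inv_rev, inv_eq_of_mul_eq_one_right hx, inv_eq_of_mul_eq_one_right hy]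

theorem tt_cube (hD : IsThreeTranspositionSet D) {x y : G} (hx : x ∈ D) (hy : y ∈ D)
    (h : ¬ Commute x y) : (x * y) ^ 3 = 1 := by
  rcases hD.2 x hx y hy with h2 | h3
  · exact absurd (inv_commute_of_sq (tt_sq hD hx) (tt_sq hD hy) h2) h
  · exact h3

theorem braid_of_cube {x y : G} (hx : x * x = 1) (hy : y * y = 1) (h : (x * y) ^ 3 = 1) :
    x * y * x = y * x * y := by
  have h1 : x * y * x * (y * x * y) = 1 := by
    rw [← h, pow_succ, pow_two]; group
  have h2 := eq_inv_of_mul_eq_one_left h1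
  rw [h2, mul_inv_rev, mul_inv_rev, inv_eq_of_mul_eq_one_right hx, inv_eq_of_mul_eq_one_right hy,
    mul_assoc]

theorem tt_braid (hD : IsThreeTranspositionSet D) {x y : G} (hx : x ∈ D) (hy : y ∈ D)
    (h : ¬ Commute x y) : x * y * x = y * x * y :=
  braid_of_cube (tt_sq hD hx) (tt_sq hD hy) (tt_cube hD hx hy h)

theorem tt_conj_mem (hD : IsThreeTranspositionSet D) (hconj : ∀ g : G, ∀ d ∈ D, g * d * g⁻¹ ∈ D)
    {x y : G} (hx : x ∈ D) (hy : y ∈ D) : x * y * x ∈ D := by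
  have := hconj x y hy
  rwa [tt_inv hD hx] at this

/-- the `A₃` lemma: if `x, z` commute and `e` braids with both, then `e` commutes with its conjugate
under `x * z` -/
theorem a3_commute {x z e : G} (hx : x * x = 1) (hz : z * z = 1)
    (hxz : Commute x z) (hex : x * e * x = e * x * e) (hez : z * e * z = e * z * e) :
    Commute e (x * z * e * (x * z)⁻¹) := by
  have hxi : x⁻¹ = x := inv_eq_of_mul_eq_one_right hx
  have hzi : z⁻¹ = z := inv_eq_of_mul_eq_one_right hz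
  have hs : x * z * e * (x * z)⁻¹ = x * (z * e * z) * x := by
    rw [mul_inv_rev, hxi, hzi]; group
  rw [hs, hez]
  show e * (x * (e * z * e) * x) = x * (e * z * e) * x * e
  have zx : z * x = x * z := hxz.eq.symm
  calc e * (x * (e * z * e) * x) = (e * x * e) * z * e * x := by group
    _ = (x * e * x) * z * e * x := by rw [hex]
    _ = x * e * (x * z) * e * x := by group
    _ = x * e * (z * x) * e * x := by rw [zx]
    _ = x * e * z * (x * e * x) := by group
    _ = x * e * z * (e * x * e) := by rw [hex]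
    _ = x * (e * z * e) * x * e := by group

theorem a3_ne {x z e : G} (hx : x * x = 1) (hz : z * z = 1) (he : e * e = 1)
    (hex : x * e * x = e * x * e) (hez : z * e * z = e * z * e) (hne : x ≠ z) :
    x * z * e * (x * z)⁻¹ ≠ e := by
  have hxi : x⁻¹ = x := inv_eq_of_mul_eq_one_right hx
  have hzi : z⁻¹ = z := inv_eq_of_mul_eq_one_right hz
  have hei : e⁻¹ = e := inv_eq_of_mul_eq_one_right he
  intro h
  rw [mul_inv_rev, hxi, hzi] at h
  have h1 : z * e * z = x * e * x := by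
    calc z * e * z = x * (x * z * e * (z * x)) * x := by
          have : x * (x * z * e * (z * x)) * x = (x * x) * z * e * z * (x * x) := by group
          rw [this, hx]; group
      _ = x * e * x := by rw [h]
  rw [hez, hex] at h1
  have h2 : z = x := by
    calc z = e * (e * z * e) * e := by
          have : e * (e * z * e) * e = (e * e) * z * (e * e) := by group
          rw [this, he]; group
      _ = e * (e * x * e) * e := by rw [h1]
      _ = x := by
          have : e * (e * x * e) * e = (e * e) * x * (e * e) := by group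
          rw [this, he]; group
  exact hne h2.symm

end TT

section S3facts

open Equiv

theorem s3_noncomm : ∀ σ τ : Perm (Fin 3), σ * σ = 1 → τ * τ = 1 → σ ≠ 1 → τ ≠ 1 → σ ≠ τ →
    σ * τ ≠ τ * σ := by decide

theorem s3_three_aux : ∀ σ τ ρ : Perm (Fin 3), (σ * σ = 1 ∧ τ * τ = 1 ∧ ρ * ρ = 1 ∧ σ ≠ 1 ∧ τ ≠ 1 ∧
    ρ ≠ 1 ∧ σ ≠ τ) → (ρ = σ ∨ ρ = τ ∨ ρ = σ * τ * σ) := by decide

theorem s3_three (σ τ ρ : Perm (Fin 3)) (h1 : σ * σ = 1) (h2 : τ * τ = 1) (h3 : ρ * ρ = 1)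
    (h4 : σ ≠ 1) (h5 : τ ≠ 1) (h6 : ρ ≠ 1) (h7 : σ ≠ τ) : ρ = σ ∨ ρ = τ ∨ ρ = σ * τ * σ :=
  s3_three_aux σ τ ρ ⟨h1, h2, h3, h4, h5, h6, h7⟩

end S3facts

end Cfsg.Agent.Lib.Helper83.LocS3
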