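import Cfsg.Agent.Lib.Helper83.LocS3a

/-!
# Locally `S₃` sets of 3-transpositions, part b: the local structure
-/

set_option autoImplicit false

namespace Cfsg.Agent.Lib.Helper83.LocS3

open Cfsg

variable {G : Type*} [Group G] {D : Set G}

/-- the members of `D` other than `x` commuting with `x` -/
def Dd (D : Set G) (x : G) : Set G := {y | y ∈ D ∧ y ≠ x ∧ Commute x y}

/-- the standing hypotheses -/
structure Ctx (D : Set G) : Prop where
  tt : IsThreeTranspositionSet D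
  conj : ∀ g : G, ∀ d ∈ D, g * d * g⁻¹ ∈ D
  s3 : ∀ d ∈ D, Nonempty (↥(Subgroup.closure (Dd D d)) ≃* Equiv.Perm (Fin 3))

namespace Ctx

variable (h : Ctx D)
include h

theorem sq {x : G} (hx : x ∈ D) : x * x = 1 := tt_sq h.tt hx
theorem inv {x : G} (hx : x ∈ D) : x⁻¹ = x := tt_inv h.tt hx
theorem ne_one {x : G} (hx : x ∈ D) : x ≠ 1 := tt_ne_one h.tt hx

theorem braid {x y : G} (hx : x ∈ D) (hy : y ∈ D) (hn : ¬ Commute x y) :
    x * y * x = y * x * y := tt_braid h.tt hx hy hn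

theorem cube {x y : G} (hx : x ∈ D) (hy : y ∈ D) (hn : ¬ Commute x y) :
    (x * y) ^ 3 = 1 := tt_cube h.tt hx hy hn

theorem conj_mem {x y : G} (hx : x ∈ D) (hy : y ∈ D) : x * y * x ∈ D :=
  tt_conj_mem h.tt h.conj hx hy

theorem Dd_conj (g : G) {x y : G} (hy : y ∈ Dd D x) : g * y * g⁻¹ ∈ Dd D (g * x * g⁻¹) := by
  obtain ⟨hyD, hne, hc⟩ := hy
  refine ⟨h.conj g y hyD, ?_, ?_⟩
  · intro he
    apply hne
    have : y = g⁻¹ * (g * y * g⁻¹) * g := by group
    rw [this, he]; group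
  · show g * x * g⁻¹ * (g * y * g⁻¹) = g * y * g⁻¹ * (g * x * g⁻¹)
    have e1 : g * x * g⁻¹ * (g * y * g⁻¹) = g * (x * y) * g⁻¹ := by group
    have e2 : g * y * g⁻¹ * (g * x * g⁻¹) = g * (y * x) * g⁻¹ := by group
    rw [e1, e2, hc.eq]

theorem Dd_conj_iff (g : G) {x y : G} : g * y * g⁻¹ ∈ Dd D (g * x * g⁻¹) ↔ y ∈ Dd D x := by
  constructor
  · intro hy
    have := h.Dd_conj g⁻¹ hy
    have e1 : g⁻¹ * (g * y * g⁻¹) * g⁻¹⁻¹ = y := by group
    have e2 : g⁻¹ * (g * x * g⁻¹) * g⁻¹⁻¹ = x := by group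
    rwa [e1, e2] at this
  · exact h.Dd_conj g

omit h in
theorem Dd_symm {x y : G} (hx : x ∈ D) (hy : y ∈ Dd D x) : x ∈ Dd D y :=
  ⟨hx, fun e => hy.2.1 e.symm, hy.2.2.symm⟩

/-- transport of a member of `Dd D x` to `S₃` -/
theorem transport {x : G} (e : ↥(Subgroup.closure (Dd D x)) ≃* Equiv.Perm (Fin 3)) {y : G}
    (hy : y ∈ Dd D x) :
    e ⟨y, Subgroup.subset_closure hy⟩ * e ⟨y, Subgroup.subset_closure hy⟩ = 1 ∧
      e ⟨y, Subgroup.subset_closure hy⟩ ≠ 1 := by
  constructor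
  · rw [← map_mul]
    have : (⟨y, Subgroup.subset_closure hy⟩ : ↥(Subgroup.closure (Dd D x))) *
        ⟨y, Subgroup.subset_closure hy⟩ = 1 := Subtype.ext (h.sq hy.1)
    rw [this, map_one]
  · intro h1
    have : (⟨y, Subgroup.subset_closure hy⟩ : ↥(Subgroup.closure (Dd D x))) = 1 := by
      apply e.injective; rw [h1, map_one]
    exact h.ne_one hy.1 (congrArg Subtype.val this)

theorem not_commute {x y z : G} (hx : x ∈ D) (hy : y ∈ Dd D x) (hz : z ∈ Dd D x) (hne : y ≠ z) :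
    ¬ Commute y z := by
  obtain ⟨e⟩ := h.s3 x hx
  obtain ⟨h1, h2⟩ := h.transport e hy
  obtain ⟨h3, h4⟩ := h.transport e hz
  intro hc
  apply s3_noncomm _ _ h1 h3 h2 h4
  · intro he
    exact hne (congrArg Subtype.val (e.injective he))
  · rw [← map_mul, ← map_mul]
    congr 1
    exact Subtype.ext hc.eq

theorem conj_mem_Dd {x y z : G} (hy : y ∈ Dd D x) (hz : z ∈ Dd D x) : y * z * y ∈ Dd D x := by
  have := h.Dd_conj y (x := x) hz
  have e : y * x * y⁻¹ = x := by rw [← hy.2.2.eq]; group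
  rwa [e, h.inv hy.1] at this

theorem mem_cases {x y z w : G} (hx : x ∈ D) (hy : y ∈ Dd D x) (hz : z ∈ Dd D x)
    (hw : w ∈ Dd D x) (hne : y ≠ z) : w = y ∨ w = z ∨ w = y * z * y := by
  obtain ⟨e⟩ := h.s3 x hx
  obtain ⟨h1, h2⟩ := h.transport e hy
  obtain ⟨h3, h4⟩ := h.transport e hz
  obtain ⟨h5, h6⟩ := h.transport e hw
  have hne' : e ⟨y, Subgroup.subset_closure hy⟩ ≠ e ⟨z, Subgroup.subset_closure hz⟩ := by
    intro he
    exact hne (congrArg Subtype.val (e.injective he))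
  rcases s3_three _ _ _ h1 h3 h5 h2 h4 h6 hne' with hh | hh | hh
  · left; exact congrArg Subtype.val (e.injective hh)
  · right; left; exact congrArg Subtype.val (e.injective hh)
  · right; right
    rw [← map_mul, ← map_mul] at hh
    exact congrArg Subtype.val (e.injective hh)

theorem exists_pair {x : G} (hx : x ∈ D) : ∃ y ∈ Dd D x, ∃ z ∈ Dd D x, y ≠ z := by
  by_contra hcon
  push Not at hcon
  obtain ⟨e⟩ := h.s3 x hx
  have : IsMulCommutative ↥(Subgroup.closure (Dd D x)) :=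
    Subgroup.isMulCommutative_closure (fun a ha b hb => by rw [hcon a ha b hb])
  have hcomm : ∀ σ τ : Equiv.Perm (Fin 3), σ * τ = τ * σ := by
    intro σ τ
    have := IsMulCommutative.is_comm.comm (e.symm σ) (e.symm τ)
    have := congrArg e this
    simpa using this
  have := hcomm (Equiv.swap 0 1) (Equiv.swap 1 2)
  revert this
  decide

theorem third_ne {x y z : G} (hx : x ∈ D) (hy : y ∈ Dd D x) (hz : z ∈ Dd D x) (hne : y ≠ z) :
    y * z * y ≠ y ∧ y * z * y ≠ z := by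
  have hn := h.not_commute hx hy hz hne
  constructor
  · intro he
    apply hne
    have h1 : z * y = 1 := by
      calc z * y = y * (y * z * y) := by
            have : y * (y * z * y) = (y * y) * z * y := by group
            rw [this, h.sq hy.1, one_mul]
        _ = y * y := by rw [he]
        _ = 1 := h.sq hy.1
    have h2 : z = y⁻¹ := eq_inv_of_mul_eq_one_left h1
    rw [h2, h.inv hy.1]
  · intro he
    apply hn
    show y * z = z * y
    have : y * z = (y * z * y) * y := by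
      rw [mul_assoc (y * z), h.sq hy.1, mul_one]
    rw [this, he]

end Ctx

end Cfsg.Agent.Lib.Helper83.LocS3
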