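import Cfsg.Agent.Lib.Helper83.LocS3b
import Cfsg.Agent.S2530

/-!
# Locally `S₃` sets of 3-transpositions, part c: the `S₅` case
-/

set_option autoImplicit false

namespace Cfsg.Agent.Lib.Helper83.LocS3

open Cfsg Equiv

variable {G : Type*} [Group G] {D : Set G}

/-- a Coxeter chain of type `A₄` inside `D` -/
structure Chain (D : Set G) (s0 s1 s2 s3 : G) : Prop where
  m0 : s0 ∈ D
  m1 : s1 ∈ D
  m2 : s2 ∈ D
  m3 : s3 ∈ D
  n01 : ¬ Commute s0 s1
  n12 : ¬ Commute s1 s2
  n23 : ¬ Commute s2 s3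
  c02 : Commute s0 s2
  c03 : Commute s0 s3
  c13 : Commute s1 s3
  ne02 : s0 ≠ s2

theorem sq_of_commute {x y : G} (hx : x * x = 1) (hy : y * y = 1) (h : Commute x y) :
    (x * y) ^ 2 = 1 := by
  rw [pow_two]
  calc x * y * (x * y) = x * (y * x) * y := by group
    _ = x * (x * y) * y := by rw [h.eq]
    _ = (x * x) * (y * y) := by group
    _ = 1 := by rw [hx, hy, one_mul]

theorem cube_swap {x y : G} (h : (x * y) ^ 3 = 1) (hx : x * x = 1) (hy : y * y = 1) :
    (y * x) ^ 3 = 1 := by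
  have e : y * x = (x * y)⁻¹ := by
    rw [mul_inv_rev, inv_eq_of_mul_eq_one_right hx, inv_eq_of_mul_eq_one_right hy]
  rw [e, inv_pow, h, inv_one]

theorem exists_lift (h : Ctx D) {s0 s1 s2 s3 : G} (c : Chain D s0 s1 s2 s3) :
    ∃ φ : Perm (Fin 5) →* G, φ (swap 0 1) = s0 ∧ φ (swap 1 2) = s1 ∧ φ (swap 2 3) = s2 ∧
      φ (swap 3 4) = s3 := by
  obtain ⟨cs, hcs⟩ := Cfsg.Agent.S2530.result 4
  have q0 := h.sq c.m0
  have q1 := h.sq c.m1
  have q2 := h.sq c.m2
  have q3 := h.sq c.m3
  have k01 := h.cube c.m0 c.m1 c.n01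
  have k12 := h.cube c.m1 c.m2 c.n12
  have k23 := h.cube c.m2 c.m3 c.n23
  have k10 := cube_swap k01 q0 q1
  have k21 := cube_swap k12 q1 q2
  have k32 := cube_swap k23 q2 q3
  have t02 := sq_of_commute q0 q2 c.c02
  have t03 := sq_of_commute q0 q3 c.c03
  have t13 := sq_of_commute q1 q3 c.c13
  have t20 := sq_of_commute q2 q0 c.c02.symm
  have t30 := sq_of_commute q3 q0 c.c03.symm
  have t31 := sq_of_commute q3 q1 c.c13.symm
  have hf : (CoxeterMatrix.A 4).IsLiftable (![s0, s1, s2, s3] : Fin 4 → G) := by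
    intro i j
    rw [Cfsg.Agent.S2530.A_apply]
    fin_cases i <;> fin_cases j <;> simp <;> assumption
  refine ⟨cs.lift ⟨_, hf⟩, ?_, ?_, ?_, ?_⟩
  · have := cs.lift_apply_simple hf 0
    rw [hcs 0] at this
    simpa using this
  · have := cs.lift_apply_simple hf 1
    rw [hcs 1] at this
    simpa using this
  · have := cs.lift_apply_simple hf 2
    rw [hcs 2] at this
    simpa using this
  · have := cs.lift_apply_simple hf 3
    rw [hcs 3] at this
    simpa using this


theorem lift_injective {s0 s2 : G} (φ : Perm (Fin 5) →* G) (h0 : φ (swap 0 1) = s0)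
    (h2 : φ (swap 2 3) = s2) (q2 : s2 * s2 = 1) (hne : s0 ≠ s2) : Function.Injective φ := by
  rw [← MonoidHom.ker_eq_bot_iff]
  by_contra hk
  have hnt : Nontrivial φ.ker := (Subgroup.nontrivial_iff_ne_bot _).mpr hk
  have hle := Equiv.Perm.alternatingGroup_le_of_normal (α := Fin 5) (by simp) hnt
  have hm : (swap (0 : Fin 5) 1 * swap 2 3) ∈ alternatingGroup (Fin 5) := by
    rw [Equiv.Perm.mem_alternatingGroup]; decide
  have := hle hm
  rw [MonoidHom.mem_ker, map_mul, h0, h2] at this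
  apply hne
  have e : s0 = s2⁻¹ := eq_inv_of_mul_eq_one_left this
  rw [e, inv_eq_of_mul_eq_one_right q2]

/-- non-commuting members are conjugate by their product -/
theorem conj_by_prod {x y : G} (hx : x * x = 1) (hy : y * y = 1) (hb : x * y * x = y * x * y) :
    (x * y) * x * (x * y)⁻¹ = y := by
  rw [mul_inv_rev, inv_eq_of_mul_eq_one_right hx, inv_eq_of_mul_eq_one_right hy]
  calc x * y * x * (y * x) = (x * y * x) * y * x := by group
    _ = (y * x * y) * y * x := by rw [hb]
    _ = y * x * (y * y) * x := by group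
    _ = y * (x * x) := by rw [hy]; group
    _ = y := by rw [hx, mul_one]

section PartA

variable (h : Ctx D) {s0 s1 s2 s3 : G} (c : Chain D s0 s1 s2 s3) (φ : Perm (Fin 5) →* G)

/-- the conjugates of `s0` under the image of `φ` -/
def TT (φ : Perm (Fin 5) →* G) (s0 : G) : Set G := {x | ∃ σ : Perm (Fin 5), x = φ σ * s0 * (φ σ)⁻¹}

theorem TT_conj {x : G} (hx : x ∈ TT φ s0) (σ : Perm (Fin 5)) : φ σ * x * (φ σ)⁻¹ ∈ TT φ s0 := by
  obtain ⟨τ, rfl⟩ := hx
  refine ⟨σ * τ, ?_⟩
  rw [map_mul]; group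

theorem TT_self : s0 ∈ TT φ s0 := ⟨1, by simp⟩

include h in
theorem TT_sub (hs : s0 ∈ D) : TT φ s0 ⊆ D := by
  rintro x ⟨σ, rfl⟩
  exact h.conj _ _ hs

end PartA

theorem conj_commute {x z : G} (y : G) (hc : Commute x z) :
    Commute (y * x * y⁻¹) (y * z * y⁻¹) := by
  show y * x * y⁻¹ * (y * z * y⁻¹) = y * z * y⁻¹ * (y * x * y⁻¹)
  have e1 : y * x * y⁻¹ * (y * z * y⁻¹) = y * (x * z) * y⁻¹ := by group
  have e2 : y * z * y⁻¹ * (y * x * y⁻¹) = y * (z * x) * y⁻¹ := by group
  rw [e1, e2, hc.eq]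

/-- the four-group argument: an element of `D` braiding with the six transpositions of an `S₄`
cannot exist -/
theorem no_extra (h : Ctx D) {x y z e : G} (hx : x ∈ D) (hy : y ∈ D) (hz : z ∈ D) (he : e ∈ D)
    (hxz : Commute x z) (hxy : ¬ Commute x y) (hyz : ¬ Commute y z) (hne : x ≠ z)
    (n1 : ¬ Commute x e) (n2 : ¬ Commute z e) (n3 : ¬ Commute (y * x * y) e)
    (n4 : ¬ Commute (y * z * y) e) (n5 : ¬ Commute (z * (y * x * y) * z) e)
    (n6 : ¬ Commute y e) : False := by
  have qx := h.sq hx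
  have qy := h.sq hy
  have qz := h.sq hz
  have qe := h.sq he
  have ix := h.inv hx
  have iy := h.inv hy
  have iz := h.inv hz
  set u := y * x * y with hu
  set v := y * z * y with hv
  set w := z * u * z with hw
  have huD : u ∈ D := h.conj_mem hy hx
  have hvD : v ∈ D := h.conj_mem hy hz
  have hwD : w ∈ D := h.conj_mem hz huD
  have qu := h.sq huD
  have qv := h.sq hvD
  have qw := h.sq hwD
  have huv : Commute u v := by
    have := conj_commute y hxz
    rwa [iy] at this
  -- y = z v z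
  have hyv : y = z * v * z := by
    have hb : y * z * y = z * y * z := h.braid hy hz hyz
    rw [hv, hb]
    have : z * (z * y * z) * z = (z * z) * y * (z * z) := by group
    rw [this, qz]; group
  have hwy : Commute w y := by
    have := conj_commute z huv
    rw [iz] at this
    rw [hyv]
    exact this
  have huv_ne : u ≠ v := by
    intro hh
    apply hne
    have : x = y * u * y := by
      rw [hu]
      have : y * (y * x * y) * y = (y * y) * x * (y * y) := by group
      rw [this, qy]; group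
    rw [this, hh, hv]
    have : y * (y * z * y) * y = (y * y) * z * (y * y) := by group
    rw [this, qy]; group
  have hwy_ne : w ≠ y := by
    intro hh
    apply huv_ne
    have e1 : u = z * w * z := by
      rw [hw]
      have : z * (z * u * z) * z = (z * z) * u * (z * z) := by group
      rw [this, qz]; group
    have e2 : v = z * y * z := by
      rw [hyv]
      have : z * (z * v * z) * z = (z * z) * v * (z * z) := by group
      rw [this, qz]; group
    rw [e1, e2, hh]
  -- the three products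
  have s1i : (x * z)⁻¹ = x * z := by rw [mul_inv_rev, ix, iz, hxz.eq]
  have s2i : (u * v)⁻¹ = u * v := by rw [mul_inv_rev, h.inv huD, h.inv hvD, huv.eq]
  have s3i : (w * y)⁻¹ = w * y := by rw [mul_inv_rev, h.inv hwD, iy, hwy.eq]
  have hs2 : u * v = y * (x * z) * y := by
    rw [hu, hv]
    have : y * x * y * (y * z * y) = y * x * (y * y) * z * y := by group
    rw [this, qy]; group
  have hb : x * y * x = y * x * y := h.braid hx hy hxy
  have hs3 : w * y = x * z * (u * v) := by
    rw [hs2, hw, hu]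
    -- z (y x y) z y = x z y x z y
    have zx : z * x = x * z := hxz.eq.symm
    calc z * (y * x * y) * z * y = z * (x * y * x) * z * y := by rw [hb]
      _ = (z * x) * y * x * z * y := by group
      _ = (x * z) * y * x * z * y := by rw [zx]
      _ = x * z * (y * (x * z) * y) := by group
  have hs3' : w * y = u * v * (x * z) := by
    have : (w * y)⁻¹ = (x * z * (u * v))⁻¹ := by rw [hs3]
    rw [s3i, mul_inv_rev, s1i, s2i] at this
    exact this
  -- the A3 lemma three times
  have bx := h.braid hx he n1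
  have bz := h.braid hz he n2
  have bu := h.braid huD he n3
  have bv := h.braid hvD he n4
  have bw := h.braid hwD he n5
  have by' := h.braid hy he n6
  have c1 := a3_commute qx qz hxz bx bz
  have c2 := a3_commute qu qv huv bu bv
  have c3 := a3_commute qw qy hwy bw by'
  have d1 := a3_ne qx qz qe bx bz hne
  have d2 := a3_ne qu qv qe bu bv huv_ne
  have d3 := a3_ne qw qy qe bw by' hwy_ne
  have hE2 : u * v * e * (u * v)⁻¹ ∈ Dd D e := ⟨h.conj _ _ he, d2, c2⟩
  have hE3 : w * y * e * (w * y)⁻¹ ∈ Dd D e := ⟨h.conj _ _ he, d3, c3⟩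
  -- E3 = σ2 E1 σ2⁻¹
  have hE3' : w * y * e * (w * y)⁻¹ = u * v * (x * z * e * (x * z)⁻¹) * (u * v)⁻¹ := by
    rw [hs3']; group
  have hcomm : Commute (u * v * e * (u * v)⁻¹) (w * y * e * (w * y)⁻¹) := by
    rw [hE3']
    exact conj_commute (u * v) c1
  have heq : u * v * e * (u * v)⁻¹ = w * y * e * (w * y)⁻¹ := by
    by_contra hne'
    exact h.not_commute he hE2 hE3 hne' hcomm
  rw [hE3'] at heq
  apply d1
  have : x * z * e * (x * z)⁻¹ = (u * v)⁻¹ * (u * v * (x * z * e * (x * z)⁻¹) * (u * v)⁻¹) * (u * v) := by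
    group
  rw [this, ← heq]; group


/-- Part A: a Coxeter chain of type `A₄` forces `⟨D⟩ ≅ S₅` -/
theorem partA (h : Ctx D) {s0 s1 s2 s3 : G} (c : Chain D s0 s1 s2 s3) :
    Nonempty (↥(Subgroup.closure D) ≃* Perm (Fin 5)) := by
  obtain ⟨φ, e0, e1, e2, e3⟩ := exists_lift h c
  have hinj := lift_injective φ e0 e2 (h.sq c.m2) c.ne02
  have q0 := h.sq c.m0
  have q1 := h.sq c.m1
  have q2 := h.sq c.m2
  have q3 := h.sq c.m3
  have i2 := h.inv c.m2
  have i3 := h.inv c.m3
  have m1T : s1 ∈ TT φ s0 := by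
    refine ⟨swap 0 1 * swap 1 2, ?_⟩
    rw [map_mul, e0, e1]
    exact (conj_by_prod q0 q1 (h.braid c.m0 c.m1 c.n01)).symm
  have m2T : s2 ∈ TT φ s0 := by
    have := TT_conj φ m1T (swap 1 2 * swap 2 3)
    rw [map_mul, e1, e2, conj_by_prod q1 q2 (h.braid c.m1 c.m2 c.n12)] at this
    exact this
  have m3T : s3 ∈ TT φ s0 := by
    have := TT_conj φ m2T (swap 2 3 * swap 3 4)
    rw [map_mul, e2, e3, conj_by_prod q2 q3 (h.braid c.m2 c.m3 c.n23)] at this
    exact this
  have hTD : TT φ s0 ⊆ D := TT_sub h φ c.m0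
  have h2 : s2 ∈ Dd D s0 := ⟨c.m2, c.ne02.symm, c.c02⟩
  have h3 : s3 ∈ Dd D s0 := by
    refine ⟨c.m3, ?_, c.c03⟩
    intro he
    apply c.n23
    rw [he]
    exact c.c02.symm
  have h23 : s2 ≠ s3 := by
    intro he
    apply c.n23
    rw [he]
  have hDd0 : ∀ y ∈ Dd D s0, y ∈ TT φ s0 := by
    intro y hy
    rcases h.mem_cases c.m0 h2 h3 hy h23 with rfl | rfl | rfl
    · exact m2T
    · exact m3T
    · have := TT_conj φ m3T (swap 2 3)
      rwa [e2, i2] at this
  have hDdT : ∀ x ∈ TT φ s0, ∀ y ∈ Dd D x, y ∈ TT φ s0 := by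
    rintro x ⟨σ, rfl⟩ y hy
    have hy' : φ σ * ((φ σ)⁻¹ * y * φ σ) * (φ σ)⁻¹ ∈ Dd D (φ σ * s0 * (φ σ)⁻¹) := by
      have : φ σ * ((φ σ)⁻¹ * y * φ σ) * (φ σ)⁻¹ = y := by group
      rw [this]; exact hy
    rw [h.Dd_conj_iff] at hy'
    have := TT_conj φ (hDd0 _ hy') σ
    have e : φ σ * ((φ σ)⁻¹ * y * φ σ) * (φ σ)⁻¹ = y := by group
    rwa [e] at this
  have hall : ∀ e ∈ D, e ∈ TT φ s0 := by
    intro e he
    by_contra heT
    have hnc : ∀ x ∈ TT φ s0, ¬ Commute x e := by
      intro x hx hc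
      have : e ∈ Dd D x := ⟨he, fun heq => heT (heq ▸ hx), hc⟩
      exact heT (hDdT x hx e this)
    have hu : s2 * s1 * s2 ∈ TT φ s0 := by
      have := TT_conj φ m1T (swap 2 3)
      rwa [e2, i2] at this
    have hv : s2 * s3 * s2 ∈ TT φ s0 := by
      have := TT_conj φ m3T (swap 2 3)
      rwa [e2, i2] at this
    have hw : s3 * (s2 * s1 * s2) * s3 ∈ TT φ s0 := by
      have := TT_conj φ hu (swap 3 4)
      rwa [e3, i3] at this
    have hne13 : s1 ≠ s3 := by
      intro he13
      apply c.n01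
      rw [he13]
      exact c.c03
    exact no_extra h c.m1 c.m2 c.m3 he c.c13 c.n12 c.n23 hne13 (hnc _ m1T) (hnc _ m3T) (hnc _ hu)
      (hnc _ hv) (hnc _ hw) (hnc _ m2T)
  -- closure D = range φ
  have hle : Subgroup.closure D ≤ φ.range := by
    rw [Subgroup.closure_le]
    intro e he
    obtain ⟨σ, rfl⟩ := hall e he
    refine ⟨σ * swap 0 1 * σ⁻¹, ?_⟩
    rw [map_mul, map_mul, e0, map_inv]
  have hge : φ.range ≤ Subgroup.closure D := by
    rintro _ ⟨σ, rfl⟩
    have hσ : σ ∈ Submonoid.closure (Set.range fun i : Fin 4 => swap i.castSucc i.succ) := by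
      rw [Equiv.Perm.mclosure_swap_castSucc_succ 4]; trivial
    induction hσ using Submonoid.closure_induction with
    | mem x hx =>
      obtain ⟨i, rfl⟩ := hx
      apply Subgroup.subset_closure
      fin_cases i
      · show φ (swap 0 1) ∈ D
        rw [e0]; exact c.m0
      · show φ (swap 1 2) ∈ D
        rw [e1]; exact c.m1
      · show φ (swap 2 3) ∈ D
        rw [e2]; exact c.m2
      · show φ (swap 3 4) ∈ D
        rw [e3]; exact c.m3
    | one => rw [map_one]; exact Subgroup.one_mem _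
    | mul x y _ _ hx hy => rw [map_mul]; exact Subgroup.mul_mem _ hx hy
  have heq : Subgroup.closure D = φ.range := le_antisymm hle hge
  exact ⟨(MulEquiv.subgroupCongr heq).trans (MonoidHom.ofInjective hinj).symm⟩

end Cfsg.Agent.Lib.Helper83.LocS3
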