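import Cfsg.Agent.Lib.Helper83.LocS3b
import Cfsg.Agent.Lib.Helper91.Baer
import Cfsg.Agent.Lib.Helper84.PCore

/-!
# Locally `S₃` sets of 3-transpositions, part d: the `K₃,₃` case
-/

set_option autoImplicit false

namespace Cfsg.Agent.Lib.Helper83.LocS3

open Cfsg

variable {G : Type*} [Group G] {D : Set G}

/-- all commuting components are of type `K₃,₃` -/
def AllK (D : Set G) : Prop :=
  ∀ d ∈ D, ∀ b ∈ Dd D d, ∀ c ∈ Dd D d, ∀ c1 ∈ Dd D c, c1 = d ∨ Commute c1 b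

section K

variable (h : Ctx D) (hK : AllK D)
include h hK

theorem Dd_sub {d b c : G} (hd : d ∈ D) (hb : b ∈ Dd D d) (hc : c ∈ Dd D d) :
    Dd D c ⊆ Dd D b := by
  intro c1 hc1
  rcases hK d hd b hb c hc c1 hc1 with rfl | hcomm
  · exact Ctx.Dd_symm hd hb
  · refine ⟨hc1.1, ?_, hcomm.symm⟩
    rintro rfl
    exact h.not_commute hd hb hc hc1.2.1 hc1.2.2.symm

theorem Dd_eq {d b c : G} (hd : d ∈ D) (hb : b ∈ Dd D d) (hc : c ∈ Dd D d) :
    Dd D b = Dd D c :=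
  Set.Subset.antisymm (Dd_sub h hK hd hc hb) (Dd_sub h hK hd hb hc)

theorem mem_Dd_iff {x p z : G} (hx : x ∈ D) (hp : p ∈ Dd D x) :
    z ∈ Dd D p ↔ z ∈ D ∧ Dd D z = Dd D x := by
  constructor
  · intro hz
    exact ⟨hz.1, Dd_eq h hK hp.1 hz (Ctx.Dd_symm hx hp)⟩
  · rintro ⟨hz, heq⟩
    rw [← heq] at hp
    exact Ctx.Dd_symm hz hp

end K

/-- two different members of one fibre -/
def SF (D : Set G) (x y : G) : Prop := x ∈ D ∧ y ∈ D ∧ x ≠ y ∧ Dd D y = Dd D x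

/-- `e` lies outside the component of `x` -/
def Out (D : Set G) (x e : G) : Prop := e ∈ D ∧ e ∉ Dd D x ∧ Dd D e ≠ Dd D x

section K2

variable (h : Ctx D) (hK : AllK D)
include h hK

theorem SF.not_commute {x y : G} (hs : SF D x y) : ¬ Commute x y := by
  obtain ⟨hx, hy, hne, heq⟩ := hs
  obtain ⟨p, hp, -, -, -⟩ := h.exists_pair hx
  have h1 : x ∈ Dd D p := Ctx.Dd_symm hx hp
  have h2 : y ∈ Dd D p := (mem_Dd_iff h hK hx hp).mpr ⟨hy, heq⟩
  exact h.not_commute hp.1 h1 h2 hne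

theorem SF.third {x y : G} (hs : SF D x y) : SF D x (x * y * x) := by
  obtain ⟨hx, hy, hne, heq⟩ := hs
  obtain ⟨p, hp, -, -, -⟩ := h.exists_pair hx
  have h1 : x ∈ Dd D p := Ctx.Dd_symm hx hp
  have h2 : y ∈ Dd D p := (mem_Dd_iff h hK hx hp).mpr ⟨hy, heq⟩
  have h3 := h.conj_mem_Dd h1 h2
  refine ⟨hx, h3.1, ?_, ((mem_Dd_iff h hK hx hp).mp h3).2⟩
  exact fun e => (h.third_ne hp.1 h1 h2 hne).1 e.symm

end K2

section K3

variable (h : Ctx D)
include h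

theorem SF.conj {x y : G} (hs : SF D x y) (g : G) : SF D (g * x * g⁻¹) (g * y * g⁻¹) := by
  obtain ⟨hx, hy, hne, heq⟩ := hs
  refine ⟨h.conj g x hx, h.conj g y hy, ?_, ?_⟩
  · intro e
    apply hne
    have : x = g⁻¹ * (g * x * g⁻¹) * g := by group
    rw [this, e]; group
  · ext z
    have e1 : z = g * (g⁻¹ * z * g) * g⁻¹ := by group
    rw [e1, h.Dd_conj_iff, h.Dd_conj_iff, heq]

end K3

end Cfsg.Agent.Lib.Helper83.LocS3
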