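import Cfsg.Agent.Lib.Helper83.LocS3d
import Cfsg.Agent.Lib.Helper46.Width1

/-!
# Locally `S₃` sets of 3-transpositions, part e: elements outside a `K₃,₃` component
-/

set_option autoImplicit false

namespace Cfsg.Agent.Lib.Helper83.LocS3

open Cfsg

variable {G : Type*} [Group G] {D : Set G}

theorem fibre_aux {θ θi e : G} (h1 : θ * θi = 1) (h2 : θ * θ = θi)
    (heq : θi * e * θ = θ * e * θi) : e = θ * e * θi := by
  have h3 : θi * θi = θ := by
    rw [← h2]
    calc θ * θ * (θ * θ) = θ * (θ * θ) * θ := by group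
      _ = θ * θi * θ := by rw [h2]
      _ = θ := by rw [h1, one_mul]
  calc e = θ * (θi * e * θ) * θi := by
        have : θ * (θi * e * θ) * θi = (θ * θi) * e * (θ * θi) := by group
        rw [this, h1]; group
    _ = θ * (θ * e * θi) * θi := by rw [heq]
    _ = (θ * θ) * e * (θi * θi) := by group
    _ = θi * e * θ := by rw [h2, h3]
    _ = θ * e * θi := heq

section O

variable (h : Ctx D) (hK : AllK D)
include h hK

omit h hK in
theorem Out.not_commute_fibre {x e z : G} (ho : Out D x e) (hzx : Dd D z = Dd D x) :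
    ¬ Commute z e := by
  intro hc
  by_cases hze : e = z
  · exact ho.2.2 (by rw [hze, hzx])
  · apply ho.2.1
    rw [← hzx]
    exact ⟨ho.1, hze, hc⟩

theorem Out.not_commute_perp {x e p : G} (hx : x ∈ D) (ho : Out D x e) (hp : p ∈ Dd D x) :
    ¬ Commute p e := by
  intro hc
  by_cases hpe : e = p
  · exact ho.2.1 (hpe ▸ hp)
  · have : e ∈ Dd D p := ⟨ho.1, hpe, hc⟩
    exact ho.2.2 ((mem_Dd_iff h hK hx hp).mp this).2

theorem Out.conj_mem {x e z p : G} (hx : x ∈ D) (ho : Out D x e) (hz : z ∈ D)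
    (hzx : Dd D z = Dd D x) (hp : p ∈ Dd D x) : (z * p) * e * (z * p)⁻¹ ∈ Dd D e := by
  have hpz : p ∈ Dd D z := hzx ▸ hp
  have hzp : Commute z p := hpz.2.2
  have hne : z ≠ p := fun e => hpz.2.1 e.symm
  have n1 := Out.not_commute_fibre ho hzx
  have n2 := Out.not_commute_perp h hK hx ho hp
  have b1 : z * e * z = e * z * e := h.braid hz ho.1 n1
  have b2 : p * e * p = e * p * e := h.braid hp.1 ho.1 n2
  exact ⟨h.conj _ _ ho.1, a3_ne (h.sq hz) (h.sq hp.1) (h.sq ho.1) b1 b2 hne,
    a3_commute (h.sq hz) (h.sq hp.1) hzp b1 b2⟩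

omit h hK in
theorem SF.symm {x y : G} (hs : SF D x y) : SF D y x :=
  ⟨hs.2.1, hs.1, fun e => hs.2.2.1 e.symm, hs.2.2.2.symm⟩

omit h hK in
theorem Out.of_SF {x y e : G} (hs : SF D x y) (ho : Out D x e) : Out D y e :=
  ⟨ho.1, by rw [hs.2.2.2]; exact ho.2.1, by rw [hs.2.2.2]; exact ho.2.2⟩

/-- the conjugate of `e` under `x * y` lies in the fibre of `e` -/
theorem Out.fibre_mem {x y e : G} (hs : SF D x y) (ho : Out D x e) :
    SF D e ((x * y) * e * (x * y)⁻¹) := by
  obtain ⟨hx, hy, hxy, hyx⟩ := hs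
  obtain ⟨p, hp, -, -, -⟩ := h.exists_pair hx
  have hP : (x * p) * e * (x * p)⁻¹ ∈ Dd D e := Out.conj_mem h hK hx ho hx rfl hp
  have h1 : (y * p) * e * (y * p)⁻¹ ∈ Dd D e := Out.conj_mem h hK hx ho hy hyx hp
  have k1 := h.Dd_conj (x * p) h1
  have hpy : Commute y p := by
    have : p ∈ Dd D y := hyx ▸ hp
    exact this.2.2
  have e0 : x * p * (y * p) = x * y := by
    calc x * p * (y * p) = x * (p * y) * p := by group
      _ = x * (y * p) * p := by rw [hpy.eq]
      _ = x * y * (p * p) := by group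
      _ = x * y := by rw [h.sq hp.1, mul_one]
  have e1 : x * p * (y * p * e * (y * p)⁻¹) * (x * p)⁻¹ = (x * y) * e * (x * y)⁻¹ := by
    rw [← e0]; group
  rw [e1] at k1
  have k2 := (mem_Dd_iff h hK ho.1 hP).mp k1
  refine ⟨ho.1, k2.1, ?_, k2.2⟩
  have n1 := Out.not_commute_fibre ho (rfl : Dd D x = Dd D x)
  have n2 := Out.not_commute_fibre ho hyx
  exact (a3_ne (h.sq hx) (h.sq hy) (h.sq ho.1) (h.braid hx ho.1 n1) (h.braid hy ho.1 n2) hxy).symm

/-- the fibre of `e` consists of the conjugates of `e` under the powers of `x * y` -/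
theorem Out.fibre_cases {x y e y' : G} (hs : SF D x y) (ho : Out D x e) (hs' : SF D e y') :
    y' = (x * y) * e * (x * y)⁻¹ ∨ y' = (y * x) * e * (y * x)⁻¹ := by
  have hA := Out.fibre_mem h hK hs ho
  have hB := Out.fibre_mem h hK (SF.symm hs) (Out.of_SF hs ho)
  obtain ⟨hx, hy, hxy, hyx⟩ := hs
  obtain ⟨P, hP, -, -, -⟩ := h.exists_pair ho.1
  have mA := (mem_Dd_iff h hK ho.1 hP).mpr ⟨hA.2.1, hA.2.2.2⟩
  have mB := (mem_Dd_iff h hK ho.1 hP).mpr ⟨hB.2.1, hB.2.2.2⟩
  have my := (mem_Dd_iff h hK ho.1 hP).mpr ⟨hs'.2.1, hs'.2.2.2⟩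
  have me : e ∈ Dd D P := Ctx.Dd_symm ho.1 hP
  have hn : ¬ Commute x y := SF.not_commute h hK ⟨hx, hy, hxy, hyx⟩
  have hcube : (x * y) ^ 3 = 1 := h.cube hx hy hn
  have hinv : (x * y)⁻¹ = y * x := by rw [mul_inv_rev, h.inv hx, h.inv hy]
  have hinv' : (y * x)⁻¹ = x * y := by rw [mul_inv_rev, h.inv hx, h.inv hy]
  have hsq : (x * y) * (x * y) = y * x := by
    rw [← hinv]
    have : (x * y) * (x * y) * (x * y) = 1 := by rw [← hcube, pow_succ, pow_two]
    exact eq_inv_of_mul_eq_one_left this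
  have hAB : (y * x) * e * (y * x)⁻¹ ≠ (x * y) * e * (x * y)⁻¹ := by
    intro heq
    apply hA.2.2.1
    rw [hinv'] at heq
    rw [hinv] at heq ⊢
    exact fibre_aux (by rw [← hinv]; group) hsq heq
  rcases h.mem_cases hP.1 me mA mB hA.2.2.1 with hc | hc | hc
  · exact absurd hc.symm hB.2.2.1
  · exact absurd hc hAB
  · rcases h.mem_cases hP.1 me mA my hA.2.2.1 with hd | hd | hd
    · exact absurd hd.symm hs'.2.2.1
    · left; exact hd
    · right; rw [hd, ← hc]

end O

section P3

variable (h : Ctx D) (hK : AllK D)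
include h hK

theorem SF.cube {x y : G} (hs : SF D x y) : (x * y) ^ 3 = 1 :=
  h.cube hs.1 hs.2.1 (SF.not_commute h hK hs)

/-- the products of two pairs inside fibres generate a 3-group -/
theorem SF.isPGroup {x y x' y' : G} (hs : SF D x y) (hs' : SF D x' y') :
    IsPGroup 3 (Subgroup.closure ({x * y, x' * y'} : Set G)) := by
  have hc1 := SF.cube h hK hs
  have hc2 := SF.cube h hK hs'
  obtain ⟨hx, hy, hxy, hyx⟩ := hs
  obtain ⟨hx', hy', hxy', hyx'⟩ := hs'
  by_cases hA : Dd D x' = Dd D x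
  · -- same fibre
    obtain ⟨p, hp, -, -, -⟩ := h.exists_pair hx
    obtain ⟨ε⟩ := h.s3 p hp.1
    have m1 : x ∈ Dd D p := Ctx.Dd_symm hx hp
    have m2 : y ∈ Dd D p := (mem_Dd_iff h hK hx hp).mpr ⟨hy, hyx⟩
    have m3 : x' ∈ Dd D p := (mem_Dd_iff h hK hx hp).mpr ⟨hx', hA⟩
    have m4 : y' ∈ Dd D p := (mem_Dd_iff h hK hx hp).mpr ⟨hy', hyx'.trans hA⟩
    haveI : Finite ↥(Subgroup.closure (Dd D p)) := Finite.of_equiv _ ε.symm.toEquiv
    have hcard : Nat.card ↥(Subgroup.closure (Dd D p)) = 6 := by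
      rw [Nat.card_congr ε.toEquiv, Nat.card_eq_fintype_card, Fintype.card_perm]
      rfl
    apply Cfsg.Agent.Lib.Helper46.isPGroup_three_closure (Subgroup.closure (Dd D p)) 1
      (by rw [hcard]; norm_num)
    · intro w hw
      rcases hw with rfl | rfl
      · exact Subgroup.mul_mem _ (Subgroup.subset_closure m1) (Subgroup.subset_closure m2)
      · exact Subgroup.mul_mem _ (Subgroup.subset_closure m3) (Subgroup.subset_closure m4)
    · intro w hw
      rcases hw with rfl | rfl
      · exact hc1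
      · exact hc2
  · by_cases hB : x' ∈ Dd D x
    · -- commuting fibres
      have hy'x : y' ∈ Dd D x :=
        (mem_Dd_iff h hK hx' (Ctx.Dd_symm hx hB)).mpr ⟨hy', hyx'⟩
      have hB' : x' ∈ Dd D y := hyx ▸ hB
      have hy'y : y' ∈ Dd D y := hyx ▸ hy'x
      have hcomm : Commute (x * y) (x' * y') :=
        (hB.2.2.mul_right hy'x.2.2).mul_left (hB'.2.2.mul_right hy'y.2.2)
      apply b23_isPGroup hc1 hc2
      · rw [hcomm.mul_pow, hc1, hc2, one_mul]
      · rw [hcomm.inv_right.mul_pow, hc1, inv_pow, hc2, inv_one, one_mul]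
    · -- outside
      have ho : Out D x x' := ⟨hx', hB, hA⟩
      have n1 := Out.not_commute_fibre ho (rfl : Dd D x = Dd D x)
      have n2 := Out.not_commute_fibre ho hyx
      have hs3 := SF.third h hK ⟨hx, hy, hxy, hyx⟩
      have n3 := Out.not_commute_fibre ho hs3.2.2.2
      have hu : (x * y) ^ 3 = 1 := hc1
      have hv : (x * x') ^ 3 = 1 := h.cube hx hx' n1
      have huv : ((x * y) * (x * x')) ^ 3 = 1 := by
        have : (x * y) * (x * x') = (x * y * x) * x' := by group
        rw [this]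
        exact h.cube hs3.2.1 hx' n3
      have huv' : ((x * y) * (x * x')⁻¹) ^ 3 = 1 := by
        have e1 : (x * y) * (x * x')⁻¹ = x * (y * x') * x⁻¹ := by
          rw [mul_inv_rev, h.inv hx']; group
        have e2 : (x * (y * x') * x⁻¹) ^ 3 = x * (y * x') ^ 3 * x⁻¹ := by
          simp only [pow_succ, pow_zero, one_mul]; group
        rw [e1, e2, h.cube hy hx' n2]; group
      have hP := b23_isPGroup hu hv huv huv'
      apply hP.to_le
      rw [Subgroup.closure_le]
      have mu : x * y ∈ Subgroup.closure ({x * y, x * x'} : Set G) :=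
        Subgroup.subset_closure (by simp)
      have mv : x * x' ∈ Subgroup.closure ({x * y, x * x'} : Set G) :=
        Subgroup.subset_closure (by simp)
      have hvi : (x * x')⁻¹ = x' * x := by rw [mul_inv_rev, h.inv hx, h.inv hx']
      have hui : (x * y)⁻¹ = y * x := by rw [mul_inv_rev, h.inv hx, h.inv hy]
      have mvi : x' * x ∈ Subgroup.closure ({x * y, x * x'} : Set G) := by
        rw [← hvi]; exact Subgroup.inv_mem _ mv
      have mui : y * x ∈ Subgroup.closure ({x * y, x * x'} : Set G) := by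
        rw [← hui]; exact Subgroup.inv_mem _ mu
      intro w hw
      rcases hw with rfl | rfl
      · exact mu
      · rcases Out.fibre_cases h hK ⟨hx, hy, hxy, hyx⟩ ho ⟨hx', hy', hxy', hyx'⟩ with hc | hc
        · -- y' = θ x' θ⁻¹
          rw [hc, hui]
          have : x' * (x * y * x' * (y * x)) = (x' * x) * (y * x) * (x * x') * (y * x) := by
            have : (x' * x) * (y * x) * (x * x') * (y * x)
                = x' * x * y * (x * x) * x' * (y * x) := by group
            rw [this, h.sq hx]; group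
          rw [SetLike.mem_coe, this]
          exact Subgroup.mul_mem _ (Subgroup.mul_mem _ (Subgroup.mul_mem _ mvi mui) mv) mui
        · -- y' = θ⁻¹ x' θ
          have hui' : (y * x)⁻¹ = x * y := by rw [mul_inv_rev, h.inv hx, h.inv hy]
          rw [hc, hui']
          have : x' * (y * x * x' * (x * y)) = (x' * x) * (x * y) * (x * x') * (x * y) := by
            have : (x' * x) * (x * y) * (x * x') * (x * y)
                = x' * (x * x) * y * x * x' * (x * y) := by group
            rw [this, h.sq hx]; group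
          rw [SetLike.mem_coe, this]
          exact Subgroup.mul_mem _ (Subgroup.mul_mem _ (Subgroup.mul_mem _ mvi mu) mv) mu

/-- the product of two members of one fibre lies in the largest normal 3-subgroup -/
theorem SF.mem_pCore [Finite G] {x y : G} (hs : SF D x y) : x * y ∈ pCore 3 G := by
  haveI : Fact (Nat.Prime 3) := ⟨by norm_num⟩
  obtain ⟨N, hN, hNp, hXN⟩ := Cfsg.Agent.Lib.Helper91.baer_suzuki (p := 3)
      (Subgroup.zpowers (x * y)) (by
    intro g
    have heq : Subgroup.zpowers (x * y) ⊔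
        (Subgroup.zpowers (x * y)).map (MulAut.conj g).toMonoidHom
        = Subgroup.closure {x * y, (g * x * g⁻¹) * (g * y * g⁻¹)} := by
      rw [MonoidHom.map_zpowers, Subgroup.zpowers_eq_closure, Subgroup.zpowers_eq_closure,
        ← Subgroup.closure_union]
      congr 1
      ext w
      simp only [Set.union_singleton, Set.mem_insert_iff, Set.mem_singleton_iff,
        MulEquiv.coe_toMonoidHom, MulAut.conj_apply]
      constructor
      · rintro (hw | hw)
        · right; rw [hw]; group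
        · left; exact hw
      · rintro (hw | hw)
        · right; exact hw
        · left; rw [hw]; group
    rw [heq]
    exact SF.isPGroup h hK hs (SF.conj h hs g))
  apply Cfsg.Agent.Lib.Helper84.le_pCore hN hNp
  exact hXN (Subgroup.mem_zpowers _)

end P3

end Cfsg.Agent.Lib.Helper83.LocS3
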