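import Cfsg.Agent.Lib.Helper83.LocS3e

/-!
# Locally `S₃` sets of 3-transpositions, part f: the `K₃,₃` case, conclusion
-/

set_option autoImplicit false

namespace Cfsg.Agent.Lib.Helper83.LocS3

open Cfsg

variable {G : Type*} [Group G] {D : Set G}

section F

variable (h : Ctx D) (hK : AllK D)
include h hK

/-- the arithmetic heart of the `K₃,₃` case -/
theorem no_out_core [Finite G] {e t g : G}
    (hO : Nat.card (pCore 3 ↥(Subgroup.centralizer ({e} : Set G))) = 3)
    (he : e ∈ D) (ht : t ∈ pCore 3 G) (hte : Commute t e) (ht1 : t ≠ 1) (hg : g * g = 1)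
    (hgt : g * t * g⁻¹ = t⁻¹) (hp : g * e * g⁻¹ ∈ Dd D e) : False := by
  haveI : Fact (Nat.Prime 3) := ⟨by norm_num⟩
  have hgi : g⁻¹ = g := inv_eq_of_mul_eq_one_right hg
  obtain ⟨q, hq, hqp⟩ : ∃ q ∈ Dd D e, q ≠ g * e * g⁻¹ := by
    obtain ⟨y, hy, z, hz, hyz⟩ := h.exists_pair he
    by_cases hyd : y = g * e * g⁻¹
    · exact ⟨z, hz, fun e => hyz (hyd.trans e.symm)⟩
    · exact ⟨y, hy, hyd⟩
  have hs : SF D (g * e * g⁻¹) q := ⟨hp.1, hq.1, fun e => hqp e.symm, Dd_eq h hK he hq hp⟩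
  have hcore := SF.mem_pCore h hK hs
  have hcube := SF.cube h hK hs
  set p := g * e * g⁻¹ with hpdef
  have hpC : p * q ∈ Subgroup.centralizer ({e} : Set G) := by
    rw [Subgroup.mem_centralizer_iff]
    intro w hw
    rw [Set.mem_singleton_iff] at hw
    subst hw
    exact (hp.2.2.mul_right hq.2.2).eq
  have htC : t ∈ Subgroup.centralizer ({e} : Set G) := by
    rw [Subgroup.mem_centralizer_iff]
    intro w hw
    rw [Set.mem_singleton_iff] at hw
    subst hw
    exact hte.eq.symm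
  have hNn : ((pCore 3 G).subgroupOf (Subgroup.centralizer ({e} : Set G))).Normal :=
    (Cfsg.Agent.Lib.Helper84.pCore_normal 3 G).subgroupOf _
  have hNp : IsPGroup 3 ((pCore 3 G).subgroupOf (Subgroup.centralizer ({e} : Set G))) :=
    (Cfsg.Agent.Lib.Helper84.pCore_isPGroup 3 G).comap_subtype
  have hle := Cfsg.Agent.Lib.Helper84.le_pCore hNn hNp
  have m1 : (⟨t, htC⟩ : ↥(Subgroup.centralizer ({e} : Set G))) ∈
      pCore 3 ↥(Subgroup.centralizer ({e} : Set G)) := hle (Subgroup.mem_subgroupOf.mpr ht)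
  have m2 : (⟨p * q, hpC⟩ : ↥(Subgroup.centralizer ({e} : Set G))) ∈
      pCore 3 ↥(Subgroup.centralizer ({e} : Set G)) := hle (Subgroup.mem_subgroupOf.mpr hcore)
  have hpq1 : p * q ≠ 1 := by
    intro h1
    apply hs.2.2.1
    have : p = q⁻¹ := eq_inv_of_mul_eq_one_left h1
    rw [this, h.inv hq.1]
  have hne : (⟨⟨p * q, hpC⟩, m2⟩ : ↥(pCore 3 ↥(Subgroup.centralizer ({e} : Set G)))) ≠ 1 := by
    intro h1
    apply hpq1
    have := congrArg (fun z : ↥(pCore 3 ↥(Subgroup.centralizer ({e} : Set G))) => ((z : ↥(Subgroup.centralizer ({e} : Set G))) : G)) h1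
    simpa using this
  obtain ⟨k, hk⟩ := mem_zpowers_of_prime_card hO (g := (⟨⟨p * q, hpC⟩, m2⟩ :
    ↥(pCore 3 ↥(Subgroup.centralizer ({e} : Set G))))) (g' := ⟨⟨t, htC⟩, m1⟩) hne
  have hk' : (p * q) ^ k = t := by
    have := congrArg (fun z : ↥(pCore 3 ↥(Subgroup.centralizer ({e} : Set G))) => ((z : ↥(Subgroup.centralizer ({e} : Set G))) : G)) hk
    simpa using this
  -- conjugate by g
  have hgp : g * p * g⁻¹ = e := by
    rw [hpdef, hgi]
    have : g * (g * e * g) * g = (g * g) * e * (g * g) := by group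
    rw [this, hg]; group
  set q' := g * q * g⁻¹ with hq'def
  have hq' : q' ∈ D := h.conj g q hq.1
  have h1 : t⁻¹ = (e * q') ^ k := by
    rw [← hgt, ← hk', ← conj_zpow]
    congr 1
    rw [← hgp, hq'def]; group
  have hinvert : e * (e * q') * e⁻¹ = (e * q')⁻¹ := by
    rw [mul_inv_rev, h.inv he, h.inv hq']
    have : e * (e * q') * e = (e * e) * q' * e := by group
    rw [this, h.sq he, one_mul]
  have h2 : e * t⁻¹ * e⁻¹ = t := by
    rw [h1, ← conj_zpow, hinvert, inv_zpow, ← h1, inv_inv]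
  have h3 : e * t⁻¹ * e⁻¹ = t⁻¹ := by
    rw [← hte.inv_left.eq]; group
  have h4 : t = t⁻¹ := h2.symm.trans h3
  have h5 : t * t = 1 := by
    nth_rewrite 2 [h4]
    exact mul_inv_cancel t
  have h6 : t ^ 3 = 1 := by
    rw [← hk', ← zpow_natCast, ← zpow_mul, mul_comm, zpow_mul, zpow_natCast, hcube, one_zpow]
  apply ht1
  calc t = t ^ 3 := by rw [pow_succ, pow_two, h5, one_mul]
    _ = 1 := h6

theorem no_out_aux [Finite G]
    (hO : ∀ d ∈ D, Nat.card (pCore 3 ↥(Subgroup.centralizer ({d} : Set G))) = 3)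
    {d d' a b e : G} (hd : d ∈ D) (hdd : SF D d d') (ha : a ∈ Dd D d) (hb : b ∈ Dd D d)
    (hab : a ≠ b) (ho : Out D d e)
    (heq : (a * b) * e * (a * b)⁻¹ = (d * d') * e * (d * d')⁻¹) : False := by
  have hsa : SF D a b := ⟨ha.1, hb.1, hab, Dd_eq h hK hd hb ha⟩
  have ha' : a ∈ Dd D d' := by rw [hdd.2.2.2]; exact ha
  have hb' : b ∈ Dd D d' := by rw [hdd.2.2.2]; exact hb
  have c1 : Commute d a := ha.2.2
  have c2 : Commute d b := hb.2.2
  have c3 : Commute d' a := ha'.2.2
  have c4 : Commute d' b := hb'.2.2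
  have F3 : Commute (a * b) (d * d') :=
    ((c1.symm.mul_right c3.symm).mul_left (c2.symm.mul_right c4.symm))
  have F1 : (d * a) * (a * b) * (d * a)⁻¹ = (a * b)⁻¹ := by
    have e1 : (d * a) * (a * b) * (d * a)⁻¹ = d * ((a * a) * b * a⁻¹) * d⁻¹ := by group
    have e2 : (a * a) * b * a⁻¹ = (a * b)⁻¹ := by
      rw [h.sq ha.1, one_mul, mul_inv_rev, h.inv hb.1]
    rw [e1, e2, ((c1.mul_right c2).inv_right).eq]; group
  have F2 : (d * a) * (d * d') * (d * a)⁻¹ = (d * d')⁻¹ := by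
    have e1 : (d * a) * (d * d') * (d * a)⁻¹ = d * (a * (d * d') * a⁻¹) * d⁻¹ := by group
    have e2 : a * (d * d') * a⁻¹ = d * d' := by
      rw [(c1.symm.mul_right c3.symm).eq]; group
    have e3 : d * (d * d') * d⁻¹ = (d * d) * d' * d⁻¹ := by group
    rw [e1, e2, e3, h.sq hd, one_mul, mul_inv_rev, h.inv hdd.2.1]
  apply no_out_core h hK (hO e ho.1) ho.1 (t := (d * d')⁻¹ * (a * b)) (g := d * a)
  · exact Subgroup.mul_mem _ (Subgroup.inv_mem _ (SF.mem_pCore h hK hdd)) (SF.mem_pCore h hK hsa)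
  · show (d * d')⁻¹ * (a * b) * e = e * ((d * d')⁻¹ * (a * b))
    calc (d * d')⁻¹ * (a * b) * e = (d * d')⁻¹ * ((a * b) * e * (a * b)⁻¹) * (a * b) := by group
      _ = (d * d')⁻¹ * ((d * d') * e * (d * d')⁻¹) * (a * b) := by rw [heq]
      _ = e * ((d * d')⁻¹ * (a * b)) := by group
  · intro h1
    have h2 : a * b = d * d' := (inv_mul_eq_one.mp h1).symm
    have h3 : Commute a (a * b) := by rw [h2]; exact c1.symm.mul_right c3.symm
    apply h.not_commute hd ha hb hab
    show a * b = b * a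
    have h4 : a * (a * b) = a * b * a := h3.eq
    have h5 : a * (a * b) = a * (b * a) := by rw [h4]; group
    exact mul_left_cancel h5
  · calc d * a * (d * a) = d * (a * d) * a := by group
      _ = d * (d * a) * a := by rw [c1.eq]
      _ = (d * d) * (a * a) := by group
      _ = 1 := by rw [h.sq hd, h.sq ha.1, one_mul]
  · have e1 : d * a * ((d * d')⁻¹ * (a * b)) * (d * a)⁻¹
        = ((d * a) * (d * d') * (d * a)⁻¹)⁻¹ * ((d * a) * (a * b) * (d * a)⁻¹) := by group
    rw [e1, F1, F2, inv_inv, ← F3.inv_left.eq]; group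
  · exact Out.conj_mem h hK hd ho hd rfl ha

/-- under the condition on `O₃` of the centralizers, nothing lies outside a component -/
theorem no_out [Finite G]
    (hO : ∀ d ∈ D, Nat.card (pCore 3 ↥(Subgroup.centralizer ({d} : Set G))) = 3)
    {d e : G} (hd : d ∈ D) (ho : Out D d e) : False := by
  obtain ⟨a, ha, b, hb, hab⟩ := h.exists_pair hd
  have hda : d ∈ Dd D a := Ctx.Dd_symm hd ha
  obtain ⟨d', hd', hdd'⟩ : ∃ d' ∈ Dd D a, d' ≠ d := by
    obtain ⟨y, hy, z, hz, hyz⟩ := h.exists_pair ha.1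
    by_cases hyd : y = d
    · exact ⟨z, hz, fun e => hyz (hyd.trans e.symm)⟩
    · exact ⟨y, hy, hyd⟩
  have hm := (mem_Dd_iff h hK hd ha).mp hd'
  have hsd : SF D d d' := ⟨hd, hm.1, fun e => hdd' e.symm, hm.2⟩
  have hsa : SF D a b := ⟨ha.1, hb.1, hab, Dd_eq h hK hd hb ha⟩
  have hoa : Out D a e := ⟨ho.1, fun he => ho.2.2 ((mem_Dd_iff h hK hd ha).mp he).2,
    fun heq => ho.2.1 ((mem_Dd_iff h hK ha.1 hda).mpr ⟨ho.1, heq⟩)⟩
  have hE1 := Out.fibre_mem h hK hsa hoa
  rcases Out.fibre_cases h hK hsd ho hE1 with hc | hc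
  · exact no_out_aux h hK hO hd hsd ha hb hab ho hc
  · have ha' : a ∈ Dd D d' := by rw [hm.2]; exact ha
    have hb' : b ∈ Dd D d' := by rw [hm.2]; exact hb
    exact no_out_aux h hK hO hm.1 (SF.symm hsd) ha' hb' hab (Out.of_SF hsd ho) hc

end F

section Prod

open Equiv

theorem s3_center_trivial : ∀ σ : Perm (Fin 3), (∀ τ : Perm (Fin 3), σ * τ = τ * σ) → σ = 1 := by
  decide

/-- two commuting copies of `S₃` generate `S₃ × S₃` -/
theorem prod_iso (H K : Subgroup G) (eH : ↥H ≃* Perm (Fin 3)) (eK : ↥K ≃* Perm (Fin 3))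
    (hcomm : ∀ x ∈ H, ∀ y ∈ K, Commute x y) :
    Nonempty (↥(H ⊔ K) ≃* Perm (Fin 3) × Perm (Fin 3)) := by
  let f : Perm (Fin 3) →* G := H.subtype.comp eH.symm.toMonoidHom
  let g : Perm (Fin 3) →* G := K.subtype.comp eK.symm.toMonoidHom
  have comm : ∀ m n, Commute (f m) (g n) := fun m n =>
    hcomm _ (eH.symm m).2 _ (eK.symm n).2
  have hf : Function.Injective f := H.subtype_injective.comp eH.symm.injective
  have hg : Function.Injective g := K.subtype_injective.comp eK.symm.injective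
  have hfr : f.range = H := by
    ext x
    constructor
    · rintro ⟨m, rfl⟩
      exact (eH.symm m).2
    · intro hx
      exact ⟨eH ⟨x, hx⟩, by simp [f]⟩
  have hgr : g.range = K := by
    ext x
    constructor
    · rintro ⟨m, rfl⟩
      exact (eK.symm m).2
    · intro hx
      exact ⟨eK ⟨x, hx⟩, by simp [g]⟩
  have hdisj : Disjoint f.range g.range := by
    rw [hfr, hgr, Subgroup.disjoint_def]
    intro x hxH hxK
    have h1 : eH ⟨x, hxH⟩ = 1 := by
      apply s3_center_trivial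
      intro τ
      have h2 : Commute (eH.symm τ : G) x := hcomm _ (eH.symm τ).2 x hxK
      have h3 : (⟨x, hxH⟩ : ↥H) * eH.symm τ = eH.symm τ * ⟨x, hxH⟩ := Subtype.ext h2.eq.symm
      have h4 := congrArg eH h3
      simpa using h4
    have h5 : (⟨x, hxH⟩ : ↥H) = 1 := by
      apply eH.injective
      rw [h1, map_one]
    exact congrArg Subtype.val h5
  have hinj : Function.Injective (MonoidHom.noncommCoprod f g comm) :=
    (MonoidHom.noncommCoprod_injective f g comm).mpr ⟨hf, hg, hdisj⟩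
  have hrange : (MonoidHom.noncommCoprod f g comm).range = H ⊔ K := by
    rw [MonoidHom.noncommCoprod_range, hfr, hgr]
  exact ⟨((MonoidHom.ofInjective hinj).trans (MulEquiv.subgroupCongr hrange)).symm⟩

end Prod

section B

variable (h : Ctx D) (hK : AllK D)
include h hK

/-- the `K₃,₃` case -/
theorem partB [Finite G] (hne : D.Nonempty)
    (hO : ∀ d ∈ D, Nat.card (pCore 3 ↥(Subgroup.centralizer ({d} : Set G))) = 3) :
    Nonempty (↥(Subgroup.closure D) ≃* Equiv.Perm (Fin 3) × Equiv.Perm (Fin 3)) := by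
  obtain ⟨d, hd⟩ := hne
  obtain ⟨a, ha, -, -, -⟩ := h.exists_pair hd
  have hda : d ∈ Dd D a := Ctx.Dd_symm hd ha
  have hDeq : D = Dd D d ∪ Dd D a := by
    apply Set.Subset.antisymm
    · intro e he
      by_contra hcon
      rw [Set.mem_union, not_or] at hcon
      apply no_out h hK hO hd (e := e)
      refine ⟨he, hcon.1, ?_⟩
      intro heq
      exact hcon.2 ((mem_Dd_iff h hK hd ha).mpr ⟨he, heq⟩)
    · intro e he
      rcases he with he | he
      · exact he.1
      · exact he.1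
  obtain ⟨e1⟩ := h.s3 d hd
  obtain ⟨e2⟩ := h.s3 a ha.1
  have hc0 : ∀ x ∈ Dd D d, ∀ y ∈ Dd D a, Commute x y := by
    intro x hx y hy
    have hy' := (mem_Dd_iff h hK hd ha).mp hy
    have : x ∈ Dd D y := by rw [hy'.2]; exact hx
    exact this.2.2.symm
  have hc1 : ∀ x ∈ Dd D d, ∀ y ∈ Subgroup.closure (Dd D a), Commute x y := by
    intro x hx y hy
    induction hy using Subgroup.closure_induction with
    | mem y hy => exact hc0 x hx y hy
    | one => exact Commute.one_right x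
    | mul y z _ _ ihy ihz => exact ihy.mul_right ihz
    | inv y _ ih => exact ih.inv_right
  have hc2 : ∀ x ∈ Subgroup.closure (Dd D d), ∀ y ∈ Subgroup.closure (Dd D a), Commute x y := by
    intro x hx y hy
    induction hx using Subgroup.closure_induction with
    | mem x hx => exact hc1 x hx y hy
    | one => exact Commute.one_left y
    | mul x z _ _ ihx ihz => exact ihx.mul_left ihz
    | inv x _ ih => exact ih.inv_left
  obtain ⟨φ⟩ := prod_iso _ _ e1 e2 hc2
  have hcl : Subgroup.closure D = Subgroup.closure (Dd D d) ⊔ Subgroup.closure (Dd D a) := by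
    rw [← Subgroup.closure_union, ← hDeq]
  exact ⟨(MulEquiv.subgroupCongr hcl).trans φ⟩

end B

end Cfsg.Agent.Lib.Helper83.LocS3
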