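import Cfsg.Agent.Lib.Helper8.OrthF3

/-!
# Reflections over the field with three elements: vector constructions
-/

set_option autoImplicit false

namespace Cfsg.Agent.Lib.Helper83.OrthRefl

open Matrix Module QuadraticMap
open Cfsg.Agent.Lib.Helper13 Cfsg.Agent.Lib.Helper8

variable {ι : Type} [Fintype ι] [DecidableEq ι]

theorem z3_sq : ∀ c : ZMod 3, c ≠ 0 → c * c = 1 := by decide
theorem z3_two_mul_ne : ∀ c : ZMod 3, c ≠ 0 → 2 * c ≠ 0 := by decide
theorem z3_a : ∀ e c : ZMod 3, e ≠ 0 → c ≠ 0 → e + e * c * (2 * c) = 0 := by decide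
theorem z3_b : ∀ e c : ZMod 3, e ≠ 0 → c ≠ 0 → c + (e * c) * (e * c) * c + (e * c) * e = 0 := by
  decide
theorem z3_c : ∀ P c : ZMod 3, c ≠ 0 → P + c * P * (2 * c) = 0 := by decide
theorem z3_d : ∀ p q c : ZMod 3, p ≠ 0 →
    q + ((c - q) * p) * ((c - q) * p) * 0 + ((c - q) * p) * p = c := by decide
theorem z3_e : ∀ p q : ZMod 3, p ≠ 0 →
    q + (-(q * p)) * (-(q * p)) * 0 + (-(q * p)) * p = 0 := by decide
theorem z3_f : ∀ p : ZMod 3, p ≠ 0 → p * p = 1 := by decide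
theorem z3_g : ∀ x y : ZMod 3, x + y = 0 → x + -1 * y = 0 → x = 0 := by decide

section general

variable {F : Type*} [Field F]

omit [Fintype ι] [DecidableEq ι] in
theorem quad_add_smul (Q : QuadraticForm F (ι → F)) (x y : ι → F) (a : F) :
    Q (x + a • y) = Q x + a * a * Q y + a * polar (⇑Q) x y := by
  have := quad_expand Q x y 0 a 0
  simp only [zero_smul, add_zero, zero_mul, mul_zero] at this
  exact this

/-- equal reflections have the same perp -/
theorem polar_eq_zero_of_reflElt_eq (Q : QuadraticForm F (ι → F)) (a b : ι → F) (ha : Q a ≠ 0)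
    (hb : Q b ≠ 0) (h : reflElt Q a ha = reflElt Q b hb) (x : ι → F)
    (hx : polar (⇑Q) a x = 0) : polar (⇑Q) b x = 0 := by
  have hm : Cfsg.reflectionMatrix (⇑Q) a = Cfsg.reflectionMatrix (⇑Q) b := by
    rw [← coe_reflElt Q a ha, ← coe_reflElt Q b hb, h]
  have h1 := reflectionMatrix_mulVec_of_polar_eq_zero Q a x hx
  rw [hm, reflectionMatrix_mulVec] at h1
  have h2 : ((Q b)⁻¹ * polar (⇑Q) b x) • b = 0 := sub_eq_self.mp h1
  have hb0 : b ≠ 0 := by
    rintro rfl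
    exact hb (QuadraticMap.map_zero Q)
  rcases smul_eq_zero.mp h2 with h3 | h3
  · rcases mul_eq_zero.mp h3 with h4 | h4
    · exact absurd (inv_eq_zero.mp h4) hb
    · exact h4
  · exact absurd h3 hb0

end general

variable (Q : QuadraticForm (ZMod 3) (ι → ZMod 3))

/-- the hyperbolic configuration attached to two non-orthogonal centres -/
theorem exists_hyp (hQ : (QuadraticMap.polarBilin Q).Nondegenerate) (c : ZMod 3) (hc : c ≠ 0)
    (u v : ι → ZMod 3) (hu : Q u = c) (hv : Q v = c) (huv : polar (⇑Q) u v ≠ 0)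
    (hne : ∀ a : ZMod 3, v ≠ a • u) :
    ∃ ρ y : ι → ZMod 3, Q ρ = 0 ∧ polar (⇑Q) u ρ = 0 ∧ polar (⇑Q) u y = 0 ∧
      polar (⇑Q) ρ y ≠ 0 ∧ v = ρ + (-(polar (⇑Q) u v * c)) • u := by
  set e := polar (⇑Q) u v with he
  have huu : polar (⇑Q) u u = 2 * c := by
    rw [polar_self, hu]; simp
  obtain ⟨ρ, hρ⟩ : ∃ ρ : ι → ZMod 3, ρ = v + (e * c) • u := ⟨_, rfl⟩
  have hρ0 : ρ ≠ 0 := by
    intro h0
    apply hne (-(e * c))
    rw [hρ] at h0
    rw [neg_smul]
    exact eq_neg_of_add_eq_zero_left h0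
  have h1 : polar (⇑Q) u ρ = 0 := by
    rw [hρ, polar_add_right, polar_smul_right, huu, smul_eq_mul, ← he]
    exact z3_a e c huv hc
  have h2 : Q ρ = 0 := by
    rw [hρ, quad_add_smul, hu, hv, polar_comm, ← he]
    exact z3_b e c huv hc
  obtain ⟨y', hy'⟩ := exists_polar_ne_zero Q hQ ρ hρ0
  refine ⟨ρ, y' + (c * polar (⇑Q) u y') • u, h2, h1, ?_, ?_, ?_⟩
  · rw [polar_add_right, polar_smul_right, huu, smul_eq_mul]
    exact z3_c _ c hc
  · rw [polar_add_right, polar_smul_right, polar_comm (⇑Q) ρ u, h1, smul_zero, add_zero]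
    exact hy'
  · rw [hρ, neg_smul]; abel

/-- a centre orthogonal to `u` and not to `v`, for non-orthogonal `u`, `v` -/
theorem exists_E1 (hQ : (QuadraticMap.polarBilin Q).Nondegenerate) (c : ZMod 3) (hc : c ≠ 0)
    (u v : ι → ZMod 3) (hu : Q u = c) (hv : Q v = c) (huv : polar (⇑Q) u v ≠ 0)
    (hne : ∀ a : ZMod 3, v ≠ a • u) :
    ∃ w : ι → ZMod 3, Q w = c ∧ polar (⇑Q) u w = 0 ∧ polar (⇑Q) w v ≠ 0 := by
  obtain ⟨ρ, y, hρQ, huρ, huy, hρy, hvρ⟩ := exists_hyp Q hQ c hc u v hu hv huv hne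
  set p := polar (⇑Q) ρ y with hp
  set q := Q y with hq
  refine ⟨y + ((c - q) * p) • ρ, ?_, ?_, ?_⟩
  · rw [quad_add_smul, hρQ, polar_comm (⇑Q) y ρ, ← hp, ← hq]
    exact z3_d p q c hρy
  · rw [polar_add_right, polar_smul_right, huy, huρ, smul_zero, add_zero]
  · have hρρ : polar (⇑Q) ρ ρ = 0 := by rw [polar_self, hρQ]; simp
    rw [hvρ, polar_add_right, polar_smul_right, polar_add_left, polar_add_left, polar_smul_left,
      polar_smul_left, hρρ, polar_comm (⇑Q) y ρ, ← hp, polar_comm (⇑Q) y u, huy,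
      polar_comm (⇑Q) ρ u, huρ]
    simpa using hρy

/-- a centre orthogonal to both `u` and `v`, for non-orthogonal `u`, `v` -/
theorem exists_E3 (hQ : (QuadraticMap.polarBilin Q).Nondegenerate)
    (hn : 5 ≤ finrank (ZMod 3) (ι → ZMod 3)) (c : ZMod 3) (hc : c ≠ 0)
    (u v : ι → ZMod 3) (hu : Q u = c) (hv : Q v = c) (huv : polar (⇑Q) u v ≠ 0)
    (hne : ∀ a : ZMod 3, v ≠ a • u) :
    ∃ z : ι → ZMod 3, Q z = c ∧ polar (⇑Q) u z = 0 ∧ polar (⇑Q) v z = 0 := by
  obtain ⟨ρ, y, hρQ, huρ, huy, hρy, hvρ⟩ := exists_hyp Q hQ c hc u v hu hv huv hne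
  set p := polar (⇑Q) ρ y with hp
  set q := Q y with hq
  have hρρ : polar (⇑Q) ρ ρ = 0 := by rw [polar_self, hρQ]; simp
  obtain ⟨y₂, hy₂⟩ : ∃ y₂ : ι → ZMod 3, y₂ = y + (-(q * p)) • ρ := ⟨_, rfl⟩
  have hy₂Q : Q y₂ = 0 := by
    rw [hy₂, quad_add_smul, hρQ, polar_comm (⇑Q) y ρ, ← hp, ← hq]
    exact z3_e p q hρy
  have hρy₂ : polar (⇑Q) ρ y₂ = p := by
    rw [hy₂, polar_add_right, polar_smul_right, hρρ, smul_zero, add_zero]
  have huy₂ : polar (⇑Q) u y₂ = 0 := by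
    rw [hy₂, polar_add_right, polar_smul_right, huy, huρ, smul_zero, add_zero]
  obtain ⟨f, hf⟩ : ∃ f : ι → ZMod 3, f = p • y₂ := ⟨_, rfl⟩
  have hfQ : Q f = 0 := by rw [hf, QuadraticMap.map_smul, hy₂Q, smul_zero]
  have hρf : polar (⇑Q) ρ f = 1 := by
    rw [hf, polar_smul_right, hρy₂, smul_eq_mul]
    exact z3_f p hρy
  have huf : polar (⇑Q) u f = 0 := by rw [hf, polar_smul_right, huy₂, smul_zero]
  have hff : polar (⇑Q) f f = 0 := by rw [polar_self, hfQ]; simp
  obtain ⟨a, ha⟩ : ∃ a : ι → ZMod 3, a = ρ + (1 : ZMod 3) • f := ⟨_, rfl⟩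
  obtain ⟨b, hb⟩ : ∃ b : ι → ZMod 3, b = ρ + (-1 : ZMod 3) • f := ⟨_, rfl⟩
  have haQ : Q a = 1 := by
    rw [ha, quad_add_smul, hρQ, hfQ, hρf]; ring
  have hbQ : Q b = -1 := by
    rw [hb, quad_add_smul, hρQ, hfQ, hρf]; ring
  have hab : polar (⇑Q) a b = 0 := by
    rw [ha, hb, polar_add_right, polar_smul_right, polar_add_left, polar_add_left,
      polar_smul_left, polar_smul_left, hρρ, hff, polar_comm (⇑Q) f ρ, hρf]
    simp
  have hua : polar (⇑Q) u a = 0 := by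
    rw [ha, polar_add_right, polar_smul_right, huρ, huf, smul_zero, add_zero]
  have hub : polar (⇑Q) u b = 0 := by
    rw [hb, polar_add_right, polar_smul_right, huρ, huf, smul_zero, add_zero]
  have hu' : Q u ≠ 0 := by rw [hu]; exact hc
  obtain ⟨z, hzQ, hz⟩ := exists_norm_eq_F3 Q hQ (![u, a, b] : Fin 3 → ι → ZMod 3)
    (by
      intro i j hij
      fin_cases i <;> fin_cases j
      · exact absurd rfl hij
      · exact hua
      · exact hub
      · show polar (⇑Q) a u = 0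
        rw [polar_comm]; exact hua
      · exact absurd rfl hij
      · exact hab
      · show polar (⇑Q) b u = 0
        rw [polar_comm]; exact hub
      · show polar (⇑Q) b a = 0
        rw [polar_comm]; exact hab
      · exact absurd rfl hij)
    (by
      intro i
      fin_cases i
      · exact hu'
      · show Q a ≠ 0
        rw [haQ]; decide
      · show Q b ≠ 0
        rw [hbQ]; decide)
    (by rw [Fintype.card_fin]; exact hn) c hc
  have hzu : polar (⇑Q) u z = 0 := hz 0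
  have hza : polar (⇑Q) a z = 0 := hz 1
  have hzb : polar (⇑Q) b z = 0 := hz 2
  have hρz : polar (⇑Q) ρ z = 0 := by
    rw [ha, polar_add_left, polar_smul_left, smul_eq_mul, one_mul] at hza
    rw [hb, polar_add_left, polar_smul_left, smul_eq_mul] at hzb
    exact z3_g _ _ hza hzb
  refine ⟨z, hzQ, hzu, ?_⟩
  rw [hvρ, polar_add_left, polar_smul_left, hρz, hzu, smul_zero, add_zero]

omit [DecidableEq ι] in
/-- a centre orthogonal to `u` and not to `v`, for orthogonal `u`, `v`, with a witness that its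
reflection differs from that of `v` -/
theorem exists_E2 (hQ : (QuadraticMap.polarBilin Q).Nondegenerate)
    (hn : 5 ≤ finrank (ZMod 3) (ι → ZMod 3)) (c : ZMod 3) (hc : c ≠ 0)
    (u v : ι → ZMod 3) (hu : Q u = c) (hv : Q v = c) (huv : polar (⇑Q) u v = 0) :
    ∃ w x : ι → ZMod 3, Q w = c ∧ polar (⇑Q) u w = 0 ∧ polar (⇑Q) w v ≠ 0 ∧
      polar (⇑Q) v x = 0 ∧ polar (⇑Q) w x ≠ 0 := by
  have hu' : Q u ≠ 0 := by rw [hu]; exact hc
  have hv' : Q v ≠ 0 := by rw [hv]; exact hc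
  obtain ⟨z₁, hz₁Q, hz₁⟩ := exists_norm_eq_F3 Q hQ (![u, v] : Fin 2 → ι → ZMod 3)
    (by
      intro i j hij
      fin_cases i <;> fin_cases j
      · exact absurd rfl hij
      · exact huv
      · show polar (⇑Q) v u = 0
        rw [polar_comm]; exact huv
      · exact absurd rfl hij)
    (by
      intro i
      fin_cases i
      · exact hu'
      · exact hv')
    (by rw [Fintype.card_fin]; omega) c hc
  have hz₁u : polar (⇑Q) u z₁ = 0 := hz₁ 0
  have hz₁v : polar (⇑Q) v z₁ = 0 := hz₁ 1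
  have hz₁' : Q z₁ ≠ 0 := by rw [hz₁Q]; exact hc
  obtain ⟨z₂, hz₂Q, hz₂⟩ := exists_norm_eq_F3 Q hQ (![u, v, z₁] : Fin 3 → ι → ZMod 3)
    (by
      intro i j hij
      fin_cases i <;> fin_cases j
      · exact absurd rfl hij
      · exact huv
      · exact hz₁u
      · show polar (⇑Q) v u = 0
        rw [polar_comm]; exact huv
      · exact absurd rfl hij
      · exact hz₁v
      · show polar (⇑Q) z₁ u = 0
        rw [polar_comm]; exact hz₁u
      · show polar (⇑Q) z₁ v = 0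
        rw [polar_comm]; exact hz₁v
      · exact absurd rfl hij)
    (by
      intro i
      fin_cases i
      · exact hu'
      · exact hv'
      · exact hz₁')
    (by rw [Fintype.card_fin]; exact hn) (-c) (neg_ne_zero.2 hc)
  have hz₂u : polar (⇑Q) u z₂ = 0 := hz₂ 0
  have hz₂v : polar (⇑Q) v z₂ = 0 := hz₂ 1
  have hz₂z : polar (⇑Q) z₁ z₂ = 0 := hz₂ 2
  have hvv : polar (⇑Q) v v = 2 * c := by rw [polar_self, hv]; simp
  have hzz : polar (⇑Q) z₁ z₁ = 2 * c := by rw [polar_self, hz₁Q]; simp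
  refine ⟨v + (1 : ZMod 3) • z₁ + (1 : ZMod 3) • z₂, z₁, ?_, ?_, ?_, hz₁v, ?_⟩
  · rw [quad_expand, hv, hz₁Q, hz₂Q, hz₁v, hz₂v, hz₂z]
    ring
  · rw [polar_add_right, polar_add_right, polar_smul_right, polar_smul_right, huv, hz₁u, hz₂u]
    simp
  · rw [polar_add_left, polar_add_left, polar_smul_left, polar_smul_left, hvv,
      polar_comm (⇑Q) z₁ v, hz₁v, polar_comm (⇑Q) z₂ v, hz₂v]
    simpa using z3_two_mul_ne c hc
  · rw [polar_add_left, polar_add_left, polar_smul_left, polar_smul_left, hz₁v, hzz,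
      polar_comm (⇑Q) z₂ z₁, hz₂z]
    simpa using z3_two_mul_ne c hc

omit [DecidableEq ι] in
/-- two orthogonal centres -/
theorem exists_orth_pair (hQ : (QuadraticMap.polarBilin Q).Nondegenerate)
    (hn : 5 ≤ finrank (ZMod 3) (ι → ZMod 3)) (c : ZMod 3) (hc : c ≠ 0) :
    ∃ u v : ι → ZMod 3, Q u = c ∧ Q v = c ∧ polar (⇑Q) u v = 0 := by
  obtain ⟨u, hu, _⟩ := exists_norm_eq_F3 Q hQ (fun i : Fin 0 => i.elim0)
    (fun i => i.elim0) (fun i => i.elim0) (by rw [Fintype.card_fin]; omega) c hc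
  have hu' : Q u ≠ 0 := by rw [hu]; exact hc
  obtain ⟨v, hv, hv2⟩ := exists_norm_eq_F3 Q hQ (fun _ : Fin 1 => u)
    (fun i j hij => absurd (Subsingleton.elim i j) hij) (fun _ => hu')
    (by rw [Fintype.card_fin]; omega) c hc
  exact ⟨u, v, hu, hv, hv2 0⟩

end Cfsg.Agent.Lib.Helper83.OrthRefl
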