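import Cfsg.Agent.Lib.Helper83.LocS3a
import Cfsg.Agent.Lib.Helper46.TTQ3

/-!
# Criteria for a class of 3-transpositions: central `O₂`, `O₃`, connected commuting graph
-/

set_option autoImplicit false

namespace Cfsg.Agent.Lib.Helper83.TTC

open Cfsg Cfsg.Agent.Lib.Helper83.LocS3

variable {G : Type*} [Group G] {D : Set G}

theorem eq_one_of_pow_of_isPGroup {p q : ℕ} (hp : p.Prime) (hq : q.Prime) (hpq : p ≠ q)
    {N : Subgroup G} (hN : IsPGroup p N) {x : G} (hx : x ∈ N) (hxq : x ^ q = 1) : x = 1 := by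
  obtain ⟨k, hk⟩ := hN ⟨x, hx⟩
  have hk' : x ^ (p ^ k) = 1 := by
    have := congrArg Subtype.val hk
    simpa using this
  have h1 : orderOf x ∣ q := orderOf_dvd_of_pow_eq_one hxq
  have h2 : orderOf x ∣ p ^ k := orderOf_dvd_of_pow_eq_one hk'
  have hcop : Nat.Coprime q (p ^ k) :=
    Nat.Coprime.pow_right k ((Nat.coprime_primes hq hp).mpr (Ne.symm hpq))
  have h3 : orderOf x ∣ Nat.gcd q (p ^ k) := Nat.dvd_gcd h1 h2
  rw [hcop.gcd_eq_one, Nat.dvd_one] at h3
  exact orderOf_eq_one_iff.mp h3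

/-- a noncentral normal subgroup contains the product of two different members of the class -/
theorem exists_mul_mem_of_not_le_center (hD : IsThreeTranspositionClass D) {N : Subgroup G}
    (hN : N.Normal) (hNZ : ¬ N ≤ Subgroup.center G) :
    ∃ d ∈ D, ∃ e ∈ D, d ≠ e ∧ d * e ∈ N := by
  have hconj := Cfsg.Agent.Lib.Helper46.class_conj hD
  rw [SetLike.not_le_iff_exists] at hNZ
  obtain ⟨n, hn, hnZ⟩ := hNZ
  have : ¬ ∀ d ∈ D, Commute n d := fun hall =>
    hnZ (Cfsg.Agent.Lib.Helper46.mem_center_of_commute_gen hD.2.2 (fun d hd => (hall d hd).symm))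
  push Not at this
  obtain ⟨d, hd, hnd⟩ := this
  refine ⟨d, hd, n * d * n⁻¹, hconj n d hd, ?_, ?_⟩
  · intro he
    apply hnd
    show n * d = d * n
    calc n * d = (n * d * n⁻¹) * n := by group
      _ = d * n := by rw [← he]
  · have hdi : d⁻¹ = d := tt_inv hD.1 hd
    have : d * (n * d * n⁻¹) = (d * n * d⁻¹) * n⁻¹ := by rw [hdi]; group
    rw [this]
    exact N.mul_mem (hN.conj_mem n hn d) (N.inv_mem hn)

theorem pCore_three_le_center [Finite G] (hD : IsThreeTranspositionClass D)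
    (E1 : ∀ d ∈ D, ∀ e ∈ D, ¬ Commute d e → ∃ f ∈ D, f ≠ d ∧ Commute f d ∧ ¬ Commute f e) :
    pCore 3 G ≤ Subgroup.center G := by
  haveI : Fact (Nat.Prime 3) := ⟨by norm_num⟩
  by_contra hcon
  have hN := Cfsg.Agent.Lib.Helper84.pCore_normal 3 G
  have hNp := Cfsg.Agent.Lib.Helper84.pCore_isPGroup 3 G
  have hT := hD.1
  have hconj := Cfsg.Agent.Lib.Helper46.class_conj hD
  obtain ⟨d, hd, e, he, hde, hmem⟩ := exists_mul_mem_of_not_le_center hD hN hcon
  have hd2 := tt_sq hT hd
  have he2 := tt_sq hT he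
  have hdi := tt_inv hT hd
  have hei := tt_inv hT he
  have hde1 : d * e ≠ 1 := by
    intro h1
    apply hde
    rw [← hei]; exact eq_inv_of_mul_eq_one_left h1
  have hnc : ¬ Commute d e := by
    intro hc
    apply hde1
    apply eq_one_of_pow_of_isPGroup (by norm_num : Nat.Prime 3) Nat.prime_two (by norm_num)
      hNp hmem
    rw [pow_two]
    calc d * e * (d * e) = d * (e * d) * e := by group
      _ = d * (d * e) * e := by rw [hc.eq]
      _ = (d * d) * (e * e) := by group
      _ = 1 := by rw [hd2, he2, one_mul]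
  obtain ⟨f, hf, hfd, hcfd, hnfe⟩ := E1 d hd e he hnc
  have hf2 := tt_sq hT hf
  have hfi := tt_inv hT hf
  -- y = f (d e) f⁻¹
  have hy : f * (d * e) * f⁻¹ ∈ pCore 3 G := hN.conj_mem _ hmem f
  have hxy : (d * e) * (f * (d * e) * f⁻¹) ∈ pCore 3 G := (pCore 3 G).mul_mem hmem hy
  have hrew : (d * e) * (f * (d * e) * f⁻¹) = (d * e * d) * (f * e * f) := by
    rw [hfi]
    calc d * e * (f * (d * e) * f) = d * e * ((f * d) * e * f) := by group
      _ = d * e * ((d * f) * e * f) := by rw [hcfd.eq]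
      _ = (d * e * d) * (f * e * f) := by group
  rw [hrew] at hxy
  have b1 : d * e * d = e * d * e := tt_braid hT hd he hnc
  have b2 : f * e * f = e * f * e := tt_braid hT hf he hnfe
  have hcomm0 : Commute e (d * f * e * (d * f)⁻¹) := a3_commute hd2 hf2 hcfd.symm b1 b2
  have hne0 : d * f * e * (d * f)⁻¹ ≠ e := a3_ne hd2 hf2 he2 b1 b2 (Ne.symm hfd)
  have hconjd : d * (d * f * e * (d * f)⁻¹) * d = f * e * f := by
    rw [mul_inv_rev, hdi, hfi]
    have : d * (d * f * e * (f * d)) * d = (d * d) * f * e * f * (d * d) := by group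
    rw [this, hd2]; group
  have hcomm : Commute (d * e * d) (f * e * f) := by
    rw [← hconjd]
    show d * e * d * (d * (d * f * e * (d * f)⁻¹) * d) = d * (d * f * e * (d * f)⁻¹) * d * (d * e * d)
    have e1 : d * e * d * (d * (d * f * e * (d * f)⁻¹) * d)
        = d * e * (d * d) * (d * f * e * (d * f)⁻¹) * d := by group
    have e2 : d * (d * f * e * (d * f)⁻¹) * d * (d * e * d)
        = d * ((d * f * e * (d * f)⁻¹) * (d * d) * e) * d := by group
    rw [e1, e2, hd2, mul_one, mul_one, mul_assoc d e, hcomm0.eq]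
  have hne : d * e * d ≠ f * e * f := by
    intro heq
    apply hne0
    have : d * f * e * (d * f)⁻¹ = d * (f * e * f) * d := by
      rw [mul_inv_rev, hdi, hfi]; group
    rw [this, ← heq]
    have : d * (d * e * d) * d = (d * d) * e * (d * d) := by group
    rw [this, hd2]; group
  have ht1 : (d * e * d) * (f * e * f) ≠ 1 := by
    intro h1
    apply hne
    have h2 : d * e * d = (f * e * f)⁻¹ := eq_inv_of_mul_eq_one_left h1
    rw [h2, mul_inv_rev, mul_inv_rev, hfi, hei, mul_assoc]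
  apply ht1
  apply eq_one_of_pow_of_isPGroup (by norm_num : Nat.Prime 3) Nat.prime_two (by norm_num) hNp hxy
  have s1 : (d * e * d) * (d * e * d) = 1 := by
    have : (d * e * d) * (d * e * d) = d * e * (d * d) * e * d := by group
    rw [this, hd2, mul_one, mul_assoc d e, he2, mul_one, hd2]
  have s2 : (f * e * f) * (f * e * f) = 1 := by
    have : (f * e * f) * (f * e * f) = f * e * (f * f) * e * f := by group
    rw [this, hf2, mul_one, mul_assoc f e, he2, mul_one, hf2]
  rw [pow_two]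
  calc (d * e * d) * (f * e * f) * ((d * e * d) * (f * e * f))
      = (d * e * d) * ((f * e * f) * (d * e * d)) * (f * e * f) := by group
    _ = (d * e * d) * ((d * e * d) * (f * e * f)) * (f * e * f) := by rw [hcomm.eq]
    _ = ((d * e * d) * (d * e * d)) * ((f * e * f) * (f * e * f)) := by group
    _ = 1 := by rw [s1, s2, one_mul]

theorem pCore_two_le_center [Finite G] (hD : IsThreeTranspositionClass D)
    (E2 : ∀ d ∈ D, ∀ e ∈ D, d ≠ e → Commute d e → ∃ f ∈ D, Commute f d ∧ ¬ Commute f e) :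
    pCore 2 G ≤ Subgroup.center G := by
  haveI : Fact (Nat.Prime 2) := ⟨Nat.prime_two⟩
  by_contra hcon
  have hN := Cfsg.Agent.Lib.Helper84.pCore_normal 2 G
  have hNp := Cfsg.Agent.Lib.Helper84.pCore_isPGroup 2 G
  have hT := hD.1
  obtain ⟨d, hd, e, he, hde, hmem⟩ := exists_mul_mem_of_not_le_center hD hN hcon
  have hd2 := tt_sq hT hd
  have he2 := tt_sq hT he
  have hdi := tt_inv hT hd
  have hei := tt_inv hT he
  have hde1 : d * e ≠ 1 := by
    intro h1
    apply hde
    rw [← hei]; exact eq_inv_of_mul_eq_one_left h1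
  have hc : Commute d e := by
    by_contra hnc
    apply hde1
    exact eq_one_of_pow_of_isPGroup Nat.prime_two (by norm_num : Nat.Prime 3) (by norm_num)
      hNp hmem (tt_cube hT hd he hnc)
  obtain ⟨f, hf, hcfd, hnfe⟩ := E2 d hd e he hde hc
  have hf2 := tt_sq hT hf
  have hfi := tt_inv hT hf
  have hy : f * (d * e) * f⁻¹ ∈ pCore 2 G := hN.conj_mem _ hmem f
  have hxy : (d * e)⁻¹ * (f * (d * e) * f⁻¹) ∈ pCore 2 G :=
    (pCore 2 G).mul_mem ((pCore 2 G).inv_mem hmem) hy
  have hrew : (d * e)⁻¹ * (f * (d * e) * f⁻¹) = (e * f)⁻¹ := by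
    have hcube : (e * f) ^ 3 = 1 := tt_cube hT he hf (fun h => hnfe h.symm)
    have h3 : (e * f) * (e * f) * (e * f) = 1 := by rw [← hcube, pow_succ, pow_two]
    have h4 : (e * f) * (e * f) = (e * f)⁻¹ := eq_inv_of_mul_eq_one_left h3
    rw [← h4, mul_inv_rev, hdi, hei, hfi]
    calc e * d * (f * (d * e) * f) = e * d * ((f * d) * e * f) := by group
      _ = e * d * ((d * f) * e * f) := by rw [hcfd.eq]
      _ = e * (d * d) * f * e * f := by group
      _ = e * f * (e * f) := by rw [hd2, mul_one]; group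
  rw [hrew] at hxy
  have hef : e * f ∈ pCore 2 G := by
    have := (pCore 2 G).inv_mem hxy
    rwa [inv_inv] at this
  have hef1 : e * f = 1 :=
    eq_one_of_pow_of_isPGroup Nat.prime_two (by norm_num : Nat.Prime 3) (by norm_num)
      hNp hef (tt_cube hT he hf (fun h => hnfe h.symm))
  apply hnfe
  have : e = f := by
    rw [← hfi]; exact eq_inv_of_mul_eq_one_left hef1
  rw [this]

theorem connected_of_common_neighbour (hne : D.Nonempty)
    (E3 : ∀ d ∈ D, ∀ e ∈ D, ¬ Commute d e →
      ∃ f ∈ D, f ≠ d ∧ f ≠ e ∧ Commute f d ∧ Commute f e) :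
    (commutingGraph D).Connected := by
  haveI : Nonempty ↥D := hne.to_subtype
  refine ⟨?_⟩
  intro a b
  by_cases hab : a = b
  · rw [hab]
  by_cases hc : Commute (a : G) (b : G)
  · apply SimpleGraph.Adj.reachable
    show (SimpleGraph.fromRel _).Adj a b
    rw [SimpleGraph.fromRel_adj]
    exact ⟨hab, Or.inl hc⟩
  · obtain ⟨f, hf, hfa, hfb, hcfa, hcfb⟩ := E3 a a.2 b b.2 hc
    have h1 : (commutingGraph D).Adj a ⟨f, hf⟩ := by
      show (SimpleGraph.fromRel _).Adj a ⟨f, hf⟩
      rw [SimpleGraph.fromRel_adj]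
      exact ⟨fun h => hfa (congrArg Subtype.val h).symm, Or.inr hcfa⟩
    have h2 : (commutingGraph D).Adj ⟨f, hf⟩ b := by
      show (SimpleGraph.fromRel _).Adj ⟨f, hf⟩ b
      rw [SimpleGraph.fromRel_adj]
      exact ⟨fun h => hfb (congrArg Subtype.val h), Or.inl hcfb⟩
    exact h1.reachable.trans h2.reachable

end Cfsg.Agent.Lib.Helper83.TTC
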