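import Cfsg.Agent.Lib.Helper83.OrthRefl1
import Cfsg.Agent.Lib.Helper83.TTCentral
import Cfsg.Agent.Lib.Helper46.TTM1

/-!
# The groups generated by one class of reflections over the field with three elements
-/

set_option autoImplicit false

namespace Cfsg.Agent.Lib.Helper83.OrthRefl

open Matrix Module QuadraticMap
open Cfsg Cfsg.Agent.Lib.Helper13 Cfsg.Agent.Lib.Helper8

variable {ι : Type} [Fintype ι] [DecidableEq ι]

variable (Q : QuadraticForm (ZMod 3) (ι → ZMod 3)) (c : ZMod 3) (hc : c ≠ 0)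

/-- the class of reflections, inside the subgroup they generate -/
abbrev DSet : Set ↥(Cfsg.reflectionSubgroup (⇑Q) c) :=
  {g : ↥(Cfsg.reflectionSubgroup (⇑Q) c) |
    (g : ↥(Cfsg.isometryGroup (ZMod 3) (⇑Q))) ∈ Cfsg.reflectionsOfNorm (⇑Q) c}

/-- the reflection with centre `v`, as a member of the reflection subgroup -/
noncomputable def rD (v : ι → ZMod 3) (hv : Q v = c) : ↥(Cfsg.reflectionSubgroup (⇑Q) c) :=
  ⟨reflElt Q v (by rw [hv]; exact hc),
    reflElt_mem_reflectionSubgroup Q c v (by rw [hv]; exact hc) hv⟩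

theorem rD_mem (v : ι → ZMod 3) (hv : Q v = c) : rD Q c hc v hv ∈ DSet Q c :=
  ⟨v, hv, rfl⟩

theorem exists_rD {d : ↥(Cfsg.reflectionSubgroup (⇑Q) c)} (hd : d ∈ DSet Q c) :
    ∃ (v : ι → ZMod 3) (hv : Q v = c), d = rD Q c hc v hv := by
  obtain ⟨v, hv, hdv⟩ := hd
  exact ⟨v, hv, Subtype.ext (eq_reflElt_of_coe Q _ v (by rw [hv]; exact hc) hdv)⟩

theorem rD_commute {u v : ι → ZMod 3} (hu : Q u = c) (hv : Q v = c)
    (huv : polar (⇑Q) u v = 0) : Commute (rD Q c hc u hu) (rD Q c hc v hv) := by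
  apply Subtype.ext
  exact reflElt_commute Q u v _ _ huv

theorem rD_ne {u v : ι → ZMod 3} (hu : Q u = c) (hv : Q v = c) (x : ι → ZMod 3)
    (hux : polar (⇑Q) u x = 0) (hvx : polar (⇑Q) v x ≠ 0) :
    rD Q c hc u hu ≠ rD Q c hc v hv := by
  intro h
  apply hvx
  have h' := congrArg Subtype.val h
  exact polar_eq_zero_of_reflElt_eq Q u v _ _ h' x hux

theorem rD_not_commute {u v : ι → ZMod 3} (hu : Q u = c) (hv : Q v = c)
    (huv : polar (⇑Q) u v ≠ 0) (hne : rD Q c hc u hu ≠ rD Q c hc v hv) :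
    ¬ Commute (rD Q c hc u hu) (rD Q c hc v hv) := by
  intro hcomm
  apply hne
  have hu' : Q u ≠ 0 := by rw [hu]; exact hc
  have hv' : Q v ≠ 0 := by rw [hv]; exact hc
  have hbraid := reflElt_braid Q u v hu' hv' (by rw [hu, hv]) _ rfl
    (zmod3_sq_one _ (mul_ne_zero (inv_ne_zero hu') huv))
  have hc' : reflElt Q u hu' * reflElt Q v hv' = reflElt Q v hv' * reflElt Q u hu' :=
    congrArg Subtype.val hcomm.eq
  have hu2 := reflElt_mul_self Q u hu'
  have hv2 := reflElt_mul_self Q v hv'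
  apply Subtype.ext
  show reflElt Q u hu' = reflElt Q v hv'
  have e1 : reflElt Q u hu' * reflElt Q v hv' * reflElt Q u hu' = reflElt Q v hv' := by
    rw [hc', mul_assoc, hu2, mul_one]
  have e2 : reflElt Q v hv' * reflElt Q u hu' * reflElt Q v hv' = reflElt Q u hu' := by
    rw [← hc', mul_assoc, hv2, mul_one]
  rw [← e2, ← hbraid, e1]

theorem polar_eq_zero_of_commute {u v : ι → ZMod 3} (hu : Q u = c) (hv : Q v = c)
    (hne : rD Q c hc u hu ≠ rD Q c hc v hv)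
    (hcomm : Commute (rD Q c hc u hu) (rD Q c hc v hv)) : polar (⇑Q) u v = 0 := by
  by_contra h
  exact rD_not_commute Q c hc hu hv h hne hcomm

theorem not_smul_of_ne {u v : ι → ZMod 3} (hu : Q u = c) (hv : Q v = c)
    (hne : rD Q c hc u hu ≠ rD Q c hc v hv) : ∀ a : ZMod 3, v ≠ a • u := by
  intro a hva
  apply hne
  have ha : a ≠ 0 := by
    rintro rfl
    rw [zero_smul] at hva
    rw [hva, QuadraticMap.map_zero] at hv
    exact hc hv.symm
  apply Subtype.ext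
  show reflElt Q u _ = reflElt Q v _
  apply reflElt_eq_of_matrix
  rw [hva, reflectionMatrix_smul Q a ha]

variable (hQ : (QuadraticMap.polarBilin Q).Nondegenerate)
  (hn : 5 ≤ finrank (ZMod 3) (ι → ZMod 3))
include hc hQ hn

theorem polar_self_ne {v : ι → ZMod 3} (hv : Q v = c) : polar (⇑Q) v v ≠ 0 := by
  rw [polar_self, hv]
  simpa using z3_two_mul_ne c hc

theorem isClass : IsThreeTranspositionClass (DSet Q c) :=
  isThreeTranspositionClass_F3 Q hQ (by omega) c hc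

theorem E1 : ∀ d ∈ DSet Q c, ∀ e ∈ DSet Q c, ¬ Commute d e →
    ∃ f ∈ DSet Q c, f ≠ d ∧ Commute f d ∧ ¬ Commute f e := by
  intro d hd e he hnc
  obtain ⟨u, hu, rfl⟩ := exists_rD Q c hc hd
  obtain ⟨v, hv, rfl⟩ := exists_rD Q c hc he
  have hne : rD Q c hc u hu ≠ rD Q c hc v hv := fun h => hnc (h ▸ Commute.refl _)
  have huv : polar (⇑Q) u v ≠ 0 := fun h => hnc (rD_commute Q c hc hu hv h)
  obtain ⟨w, hw, huw, hwv⟩ := exists_E1 Q hQ c hc u v hu hv huv (not_smul_of_ne Q c hc hu hv hne)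
  have hwu : polar (⇑Q) w u = 0 := by rw [polar_comm]; exact huw
  refine ⟨rD Q c hc w hw, rD_mem Q c hc w hw, ?_, rD_commute Q c hc hw hu hwu, ?_⟩
  · exact (rD_ne Q c hc hu hw w huw (polar_self_ne Q c hc hQ hn hw)).symm
  · apply rD_not_commute Q c hc hw hv hwv
    exact rD_ne Q c hc hw hv u hwu (by rw [polar_comm]; exact huv)

theorem E2 : ∀ d ∈ DSet Q c, ∀ e ∈ DSet Q c, d ≠ e → Commute d e →
    ∃ f ∈ DSet Q c, Commute f d ∧ ¬ Commute f e := by
  intro d hd e he hne hcomm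
  obtain ⟨u, hu, rfl⟩ := exists_rD Q c hc hd
  obtain ⟨v, hv, rfl⟩ := exists_rD Q c hc he
  have huv : polar (⇑Q) u v = 0 := polar_eq_zero_of_commute Q c hc hu hv hne hcomm
  obtain ⟨w, x, hw, huw, hwv, hvx, hwx⟩ := exists_E2 Q hQ hn c hc u v hu hv huv
  have hwu : polar (⇑Q) w u = 0 := by rw [polar_comm]; exact huw
  refine ⟨rD Q c hc w hw, rD_mem Q c hc w hw, rD_commute Q c hc hw hu hwu, ?_⟩
  apply rD_not_commute Q c hc hw hv hwv
  exact (rD_ne Q c hc hv hw x hvx hwx).symm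

theorem E3 : ∀ d ∈ DSet Q c, ∀ e ∈ DSet Q c, ¬ Commute d e →
    ∃ f ∈ DSet Q c, f ≠ d ∧ f ≠ e ∧ Commute f d ∧ Commute f e := by
  intro d hd e he hnc
  obtain ⟨u, hu, rfl⟩ := exists_rD Q c hc hd
  obtain ⟨v, hv, rfl⟩ := exists_rD Q c hc he
  have hne : rD Q c hc u hu ≠ rD Q c hc v hv := fun h => hnc (h ▸ Commute.refl _)
  have huv : polar (⇑Q) u v ≠ 0 := fun h => hnc (rD_commute Q c hc hu hv h)
  obtain ⟨z, hz, huz, hvz⟩ := exists_E3 Q hQ hn c hc u v hu hv huv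
    (not_smul_of_ne Q c hc hu hv hne)
  have hzu : polar (⇑Q) z u = 0 := by rw [polar_comm]; exact huz
  have hzv : polar (⇑Q) z v = 0 := by rw [polar_comm]; exact hvz
  refine ⟨rD Q c hc z hz, rD_mem Q c hc z hz, ?_, ?_, rD_commute Q c hc hz hu hzu,
    rD_commute Q c hc hz hv hzv⟩
  · exact (rD_ne Q c hc hu hz z huz (polar_self_ne Q c hc hQ hn hz)).symm
  · exact (rD_ne Q c hc hv hz z hvz (polar_self_ne Q c hc hQ hn hz)).symm

theorem exists_commuting_pair :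
    ∃ a ∈ DSet Q c, ∃ b ∈ DSet Q c, a ≠ b ∧ Commute a b := by
  obtain ⟨u, v, hu, hv, huv⟩ := exists_orth_pair Q hQ hn c hc
  refine ⟨rD Q c hc u hu, rD_mem Q c hc u hu, rD Q c hc v hv, rD_mem Q c hc v hv, ?_,
    rD_commute Q c hc hu hv huv⟩
  exact rD_ne Q c hc hu hv v huv (polar_self_ne Q c hc hQ hn hv)

theorem isPrimitive : IsPrimitiveUnderConj (DSet Q c) := by
  have hC := isClass Q c hc hQ hn
  obtain ⟨a, ha, b, hb, hab, _⟩ := exists_commuting_pair Q c hc hQ hn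
  apply Cfsg.Agent.Lib.Helper46.primitive_of_connected hC ⟨a, ha, b, hb, hab⟩
  · exact TTC.pCore_two_le_center hC (E2 Q c hc hQ hn)
  · exact TTC.pCore_three_le_center hC (E1 Q c hc hQ hn)
  · exact TTC.connected_of_common_neighbour ⟨a, ha⟩ (E3 Q c hc hQ hn)

/-- the structure theorem -/
theorem structure_thm :
    ∃ L : Subgroup ↥(Cfsg.reflectionSubgroup (⇑Q) c), L.Normal ∧ IsQuasisimple L ∧ L.index ≤ 2 ∧
      generalizedFittingSubgroup ↥(Cfsg.reflectionSubgroup (⇑Q) c) =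
        L ⊔ Subgroup.center ↥(Cfsg.reflectionSubgroup (⇑Q) c) :=
  Cfsg.Agent.Lib.Helper46.primitive_structure (isClass Q c hc hQ hn)
    (exists_commuting_pair Q c hc hQ hn) (isPrimitive Q c hc hQ hn)

end Cfsg.Agent.Lib.Helper83.OrthRefl
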