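import Mathlib
import Cfsg.Prelude.Def_LieClassical
import Cfsg.Agent.Lib.Helper14.P4Defs
import Cfsg.Agent.Lib.Helper14.Us3Basic
import Cfsg.Agent.Lib.Helper10.P4I5A

/-!
# S6001 hive, leaf P4U-I5: elements of order 5 of `GU 4 F p` (`p` of order 4 mod 5) are
`GL`-conjugate.

Over `F = 𝔽_{p²}` the golden-ratio polynomial `s² - s - 1` has two roots `s, 1 - s` exchanged by the
Frobenius; `Φ₅ = (T² + sT + 1)(T² + (1-s)T + 1)`, the two factors have no roots in `F`, and the
adjoint exchanges the two corresponding primary components of a unitary `x` of order `5`, so both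
are non-zero; hence `x` has a cyclic vector with annihilator `Φ₅`.
-/

set_option autoImplicit false

namespace Cfsg.Agent.Lib.Helper14.P4

open Matrix

section field
variable {F : Type*} [Field F] [Fintype F] {p : ℕ} [Fact p.Prime] [CharP F p]

omit [CharP F p] in
theorem ui5_coprime (hord : orderOf (p : ZMod 5) = 4) : Nat.Coprime 5 (p ^ 2 - 1) := by
  rw [Nat.coprime_comm]
  apply (Nat.Coprime.symm)
  rw [Nat.Prime.coprime_iff_not_dvd (by norm_num)]
  intro hdvd
  have hp1 : 1 ≤ p ^ 2 := Nat.one_le_pow _ _ (Fact.out : p.Prime).pos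
  have h1 : ((p ^ 2 - 1 : ℕ) : ZMod 5) = 0 := (ZMod.natCast_eq_zero_iff _ _).2 hdvd
  have h2 : (p : ZMod 5) ^ 2 = 1 := by
    have : (p ^ 2 : ℕ) = (p ^ 2 - 1) + 1 := by omega
    have h3 : ((p ^ 2 : ℕ) : ZMod 5) = ((p ^ 2 - 1 : ℕ) : ZMod 5) + 1 := by
      conv_lhs => rw [this]
      push_cast
      rfl
    rw [h1, zero_add] at h3
    rw [← h3]
    push_cast
    rfl
  have h4 := orderOf_dvd_of_pow_eq_one h2
  rw [hord] at h4
  omega

omit [CharP F p] in
/-- there are no non-trivial fifth roots of unity in `F` -/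
theorem ui5_fifth_root (hF : Fintype.card F = p ^ 2) (hord : orderOf (p : ZMod 5) = 4)
    (a : F) (ha : a ^ 5 = 1) : a = 1 := by
  have ha0 : a ≠ 0 := by
    rintro rfl
    simp at ha
  have h1 := FiniteField.pow_card_sub_one_eq_one a ha0
  rw [hF] at h1
  have h2 : a ^ (Nat.gcd 5 (p ^ 2 - 1)) = 1 := pow_gcd_eq_one.2 ⟨ha, h1⟩
  rw [ui5_coprime hord, pow_one] at h2
  exact h2

omit [Fintype F] in
theorem ui5_five_ne (hord : orderOf (p : ZMod 5) = 4) : (5 : F) ≠ 0 := by
  intro h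
  have h1 : ((5 : ℕ) : F) = 0 := by exact_mod_cast h
  rw [CharP.cast_eq_zero_iff F p 5] at h1
  have h2 : p = 5 := (Nat.prime_dvd_prime_iff_eq (Fact.out : p.Prime) (by norm_num)).1 h1
  have h3 : (p : ZMod 5) ^ 4 = 1 := by
    rw [← hord]; exact pow_orderOf_eq_one _
  rw [h2] at h3
  revert h3
  decide


/-- Frobenius-fixed elements are squares (`p` odd). -/
theorem ui5_sq (hF : Fintype.card F = p ^ 2) (hp2 : p ≠ 2) (a : F) (ha : a ^ p = a) :
    ∃ d : F, d * d = a := by
  by_cases ha0 : a = 0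
  · exact ⟨0, by simp [ha0]⟩
  have hp : p.Prime := Fact.out
  have hodd : p % 2 = 1 := by
    rcases hp.eq_two_or_odd with h | h
    · exact absurd h hp2
    · exact h
  have hch : ringChar F ≠ 2 := by
    rw [ringChar.eq F p]; exact hp2
  have h1 : a ^ (p - 1) = 1 := by
    have h2 : a ^ (p - 1) * a = 1 * a := by
      rw [← pow_succ, one_mul]
      have : p - 1 + 1 = p := by have := hp.pos; omega
      rw [this, ha]
    exact mul_right_cancel₀ ha0 h2
  have h3 : Fintype.card F / 2 = (p - 1) * ((p + 1) / 2) := by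
    rw [hF]
    obtain ⟨k, hk⟩ : ∃ k, p = 2 * k + 1 := ⟨p / 2, by omega⟩
    subst hk
    have e1 : (2 * k + 1) ^ 2 = 2 * (2 * k * k + 2 * k) + 1 := by ring
    have e2 : 2 * k + 1 - 1 = 2 * k := by omega
    have e3 : (2 * k + 1 + 1) / 2 = k + 1 := by omega
    rw [e1, e2, e3]
    have e4 : (2 * (2 * k * k + 2 * k) + 1) / 2 = 2 * k * k + 2 * k := by omega
    rw [e4]; ring
  have h4 : IsSquare a := by
    rw [FiniteField.isSquare_iff hch ha0, h3, pow_mul, h1, one_pow]
  obtain ⟨d, hd⟩ := h4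
  exact ⟨d, hd.symm⟩

/-- no root of `T² + sT + 1` in `F` when `s² - s - 1 = 0` -/
theorem ui5_no_root (hF : Fintype.card F = p ^ 2) (hord : orderOf (p : ZMod 5) = 4)
    (s : F) (hs : s * s - s - 1 = 0) (z : F) : z * z + s * z + 1 ≠ 0 := by
  intro hz
  have h5 : z ^ 5 = 1 := by
    linear_combination (z - 1) * (z * z + (1 - s) * z + 1) * hz + (z - 1) * z ^ 2 * hs
  have h1 := ui5_fifth_root hF hord z h5
  subst h1
  have h2 : s = -2 := by linear_combination hz
  subst h2
  apply ui5_five_ne (F := F) hord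
  linear_combination hs

/-- a root of the golden-ratio polynomial -/
theorem ui5_exists_root (hF : Fintype.card F = p ^ 2) (hord : orderOf (p : ZMod 5) = 4) :
    ∃ s : F, s * s - s - 1 = 0 := by
  by_cases hp2 : p = 2
  · subst hp2
    have h2 : (2 : F) = 0 := by
      have := CharP.cast_eq_zero F 2
      exact_mod_cast this
    have hcard : Fintype.card F = 4 := by rw [hF]; norm_num
    have : ∃ a : F, a ≠ 0 ∧ a ≠ 1 := by
      classical
      by_contra hcon
      push Not at hcon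
      have hsub : (Finset.univ : Finset F) ⊆ {0, 1} := by
        intro a _
        by_cases ha : a = 0
        · simp [ha]
        · simp [hcon a ha]
      have := Finset.card_le_card hsub
      rw [Finset.card_univ, hcard] at this
      have h3 : ({0, 1} : Finset F).card ≤ 2 := Finset.card_le_two
      omega
    obtain ⟨a, ha0, ha1⟩ := this
    have h3 := FiniteField.pow_card_sub_one_eq_one a ha0
    rw [hcard] at h3
    have h4 : (a - 1) * (a * a + a + 1) = 0 := by
      have : a ^ 3 = 1 := h3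
      linear_combination this
    rcases mul_eq_zero.1 h4 with h | h
    · exact absurd (sub_eq_zero.1 h) ha1
    · exact ⟨a, by linear_combination h - (a + 1) * h2⟩
  · have h5 : (5 : F) ^ p = 5 := by
      have := map_ofNat (Cfsg.Agent.Lib.Helper5.frobQ hF) 5
      exact this
    obtain ⟨d, hd⟩ := ui5_sq hF hp2 5 h5
    have h2 : (2 : F) ≠ 0 := by
      intro h
      have h1 : ((2 : ℕ) : F) = 0 := by exact_mod_cast h
      rw [CharP.cast_eq_zero_iff F p 2] at h1
      exact hp2 ((Nat.prime_dvd_prime_iff_eq (Fact.out : p.Prime) (by norm_num)).1 h1)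
    refine ⟨(1 + d) / 2, ?_⟩
    field_simp
    linear_combination hd

/-- the Frobenius exchanges the two roots -/
theorem ui5_frob_root (hF : Fintype.card F = p ^ 2) (hord : orderOf (p : ZMod 5) = 4)
    (s : F) (hs : s * s - s - 1 = 0) : s ^ p = 1 - s := by
  set φ := Cfsg.Agent.Lib.Helper5.frobQ hF with hφ
  have hφs : φ s = s ^ p := rfl
  have h1 : φ s * φ s - φ s - 1 = 0 := by
    have := congrArg φ hs
    simpa using this
  rw [hφs] at h1
  have h2 : (s ^ p - s) * (s ^ p - (1 - s)) = 0 := by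
    linear_combination h1 - hs
  rcases mul_eq_zero.1 h2 with h | h
  · exfalso
    have hfix : s ^ p = s := sub_eq_zero.1 h
    by_cases hp2 : p = 2
    · subst hp2
      have : (1 : F) = 0 := by linear_combination hfix - hs
      exact one_ne_zero this
    · have h2' : (2 : F) ≠ 0 := by
        intro h
        have h1 : ((2 : ℕ) : F) = 0 := by exact_mod_cast h
        rw [CharP.cast_eq_zero_iff F p 2] at h1
        exact hp2 ((Nat.prime_dvd_prime_iff_eq (Fact.out : p.Prime) (by norm_num)).1 h1)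
      have hδ : (s * s - 4) ^ p = s * s - 4 := by
        have e : φ (s * s - 4) = φ s * φ s - 4 := by
          rw [map_sub, map_mul]
          congr 1
          exact map_ofNat φ 4
        rw [hφs, hfix] at e
        exact e
      obtain ⟨e, he⟩ := ui5_sq hF hp2 _ hδ
      apply ui5_no_root hF hord s hs ((-s + e) / 2)
      field_simp
      linear_combination he
  · exact sub_eq_zero.1 h

end field


section abstract
variable {F : Type*} [Field F] {V : Type*} [AddCommGroup V] [Module F V]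

/-- a nonzero vector killed by a rootless quadratic in `f` is independent of its image -/
theorem ui5_pair_indep (f : Module.End F V) (s : F)
    (hroot : ∀ z : F, z * z + s * z + 1 ≠ 0) (v : V) (hv : v ≠ 0)
    (h : f (f v) = -(s • f v) - v) (α β : F) (hαβ : α • v + β • f v = 0) : α = 0 ∧ β = 0 := by
  by_cases hβ : β = 0
  · subst hβ
    rw [zero_smul, add_zero] at hαβ
    exact ⟨(smul_eq_zero.1 hαβ).resolve_right hv, rfl⟩
  · exfalso
    have h0 : β • f v = -(α • v) := eq_neg_of_add_eq_zero_right hαβ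
    have h1 : f v = (-(β⁻¹ * α)) • v := by
      calc f v = β⁻¹ • (β • f v) := by rw [smul_smul, inv_mul_cancel₀ hβ, one_smul]
        _ = (-(β⁻¹ * α)) • v := by rw [h0, smul_neg, smul_smul, neg_smul]
    set z := -(β⁻¹ * α) with hz
    have h2 : f (f v) = (z * z) • v := by rw [h1, map_smul, h1, smul_smul]
    have h3 : (z * z + s * z + 1) • v = 0 := by
      rw [h, h1] at h2
      linear_combination (norm := module) -h2
    rcases smul_eq_zero.1 h3 with h4 | h4
    · exact hroot z h4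
    · exact hv h4

/-- the kernel of the quadratic is `f`-stable (on the span of `v, f v`) -/
theorem ui5_quad_span (f : Module.End F V) (s : F) (v : V) (h : f (f v) = -(s • f v) - v)
    (A B : F) :
    f (f (A • v + B • f v)) = -(s • f (A • v + B • f v)) - (A • v + B • f v) := by
  simp only [map_add, map_smul, h, map_sub, map_neg]
  module

/-- the two kernels meet trivially -/
theorem ui5_inter (f : Module.End F V) (s₁ s₂ : F) (hs : s₁ ≠ s₂) (w : V)
    (h₁ : f (f w) = -(s₁ • f w) - w) (h₂ : f (f w) = -(s₂ • f w) - w) : w = 0 := by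
  have h3 : (s₁ - s₂) • f w = 0 := by
    have := h₁.symm.trans h₂
    linear_combination (norm := module) -this
  have h4 : f w = 0 := (smul_eq_zero.1 h3).resolve_left (sub_ne_zero.2 hs)
  rw [h4, map_zero, smul_zero, neg_zero, zero_sub] at h₁
  exact neg_eq_zero.1 h₁.symm

/-- the cyclic vector -/
theorem ui5_indep (f : Module.End F V) (s₁ s₂ : F) (hs : s₁ ≠ s₂) (v₁ v₂ : V)
    (h₁ : f (f v₁) = -(s₁ • f v₁) - v₁) (h₂ : f (f v₂) = -(s₂ • f v₂) - v₂)
    (i₁ : ∀ α β : F, α • v₁ + β • f v₁ = 0 → α = 0 ∧ β = 0)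
    (i₂ : ∀ α β : F, α • v₂ + β • f v₂ = 0 → α = 0 ∧ β = 0) :
    LinearIndependent F (fun i : Fin 4 => (f ^ (i : ℕ)) (v₁ + v₂)) := by
  rw [Fintype.linearIndependent_iff]
  intro c hc
  have e2 : ∀ w, (f ^ 2) w = f (f w) := fun w => by rw [pow_two]; rfl
  have e3 : ∀ w, (f ^ 3) w = f (f (f w)) := fun w => by rw [pow_succ, pow_two]; rfl
  have hc' : c 0 • (v₁ + v₂) + c 1 • f (v₁ + v₂) + c 2 • f (f (v₁ + v₂)) +
      c 3 • f (f (f (v₁ + v₂))) = 0 := by
    rw [Fin.sum_univ_four] at hc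
    simpa [e2, e3] using hc
  simp only [map_add, map_sub, map_neg, map_smul, h₁, h₂] at hc'
  set A₁ := c 0 - c 2 + s₁ * c 3 with hA₁
  set B₁ := c 1 - s₁ * c 2 + (s₁ * s₁ - 1) * c 3 with hB₁
  set A₂ := c 0 - c 2 + s₂ * c 3 with hA₂
  set B₂ := c 1 - s₂ * c 2 + (s₂ * s₂ - 1) * c 3 with hB₂
  have hsum : (A₁ • v₁ + B₁ • f v₁) + (A₂ • v₂ + B₂ • f v₂) = 0 := by
    rw [hA₁, hB₁, hA₂, hB₂]
    linear_combination (norm := module) hc'
  have hw : A₁ • v₁ + B₁ • f v₁ = -(A₂ • v₂ + B₂ • f v₂) := eq_neg_of_add_eq_zero_left hsum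
  have q₁ := ui5_quad_span f s₁ v₁ h₁ A₁ B₁
  have q₂ := ui5_quad_span f s₂ v₂ h₂ A₂ B₂
  have q₂' : f (f (A₁ • v₁ + B₁ • f v₁)) =
      -(s₂ • f (A₁ • v₁ + B₁ • f v₁)) - (A₁ • v₁ + B₁ • f v₁) := by
    rw [hw, map_neg, map_neg, q₂]
    module
  have hw0 := ui5_inter f s₁ s₂ hs _ q₁ q₂'
  have hw0' : A₂ • v₂ + B₂ • f v₂ = 0 := by
    rw [hw0] at hw
    exact neg_eq_zero.1 hw.symm
  obtain ⟨a1, b1⟩ := i₁ _ _ hw0
  obtain ⟨a2, b2⟩ := i₂ _ _ hw0'
  have hne : s₁ - s₂ ≠ 0 := sub_ne_zero.2 hs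
  have c3 : c 3 = 0 := by
    have : (s₁ - s₂) * c 3 = 0 := by rw [hA₁] at a1; rw [hA₂] at a2; linear_combination a1 - a2
    exact (mul_eq_zero.1 this).resolve_left hne
  have c2 : c 2 = 0 := by
    have : (s₁ - s₂) * c 2 = 0 := by
      rw [hB₁] at b1; rw [hB₂] at b2
      linear_combination b2 - b1 + (s₁ * s₁ - s₂ * s₂) * c3
    exact (mul_eq_zero.1 this).resolve_left hne
  have c0 : c 0 = 0 := by rw [hA₁] at a1; linear_combination a1 + c2 - s₁ * c3
  have c1 : c 1 = 0 := by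
    rw [hB₁] at b1; linear_combination b1 + s₁ * c2 - (s₁ * s₁ - 1) * c3
  intro i
  fin_cases i
  · exact c0
  · exact c1
  · exact c2
  · exact c3

/-- the top iterate on one primary component -/
theorem ui5_top (f : Module.End F V) (s : F) (hs : s * s - s - 1 = 0) (v : V)
    (h : f (f v) = -(s • f v) - v) :
    f (f (f (f v))) = -(v + f v + f (f v) + f (f (f v))) := by
  have hs' : (s * s) • f v = (s + 1) • f v := by
    congr 1; linear_combination hs
  have hs'' : (s * s) • v = (s + 1) • v := by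
    congr 1; linear_combination hs
  have k3 : f (f (f v)) = s • f v + s • v := by
    rw [h, map_sub, map_neg, map_smul, h]
    linear_combination (norm := module) hs'
  have k4 : f (f (f (f v))) = -(f v) - s • v := by
    rw [k3, map_add, map_smul, map_smul, h]
    linear_combination (norm := module) -hs'
  rw [k4, k3, h]
  module

end abstract


section mat
variable {F : Type*} [Field F] [Fintype F] {p : ℕ}

open Cfsg.Agent.Lib.Helper14.Us3

/-- the test matrix `D(s) = X³ - sX² + sX - 1 = (X² + (1-s)X + 1)(X - 1)` -/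
def ui5_D (X : Matrix (Fin 4) (Fin 4) F) (s : F) : Matrix (Fin 4) (Fin 4) F :=
  X ^ 3 - s • X ^ 2 + s • X - 1

theorem ui5_frm_D (hF : Fintype.card F = p ^ 2) (X : Matrix (Fin 4) (Fin 4) F) (s : F) :
    frm p (ui5_D X s) = ui5_D (frm p X) (s ^ p) := by
  have hadd : ∀ A B : Matrix (Fin 4) (Fin 4) F, frm p (A + B) = frm p A + frm p B :=
    fun A B => map_add (Cfsg.Agent.Lib.Helper5.frobQ hF).mapMatrix A B
  have hsub : ∀ A B : Matrix (Fin 4) (Fin 4) F, frm p (A - B) = frm p A - frm p B :=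
    fun A B => map_sub (Cfsg.Agent.Lib.Helper5.frobQ hF).mapMatrix A B
  have hpow : ∀ (A : Matrix (Fin 4) (Fin 4) F) (k : ℕ), frm p (A ^ k) = frm p A ^ k :=
    fun A k => map_pow (Cfsg.Agent.Lib.Helper5.frobQ hF).mapMatrix A k
  unfold ui5_D
  rw [hsub, hadd, hsub, frm_smul, frm_smul, hpow, hpow, frm_one hF]

omit [Fintype F] in
theorem ui5_transpose_D (X : Matrix (Fin 4) (Fin 4) F) (s : F) :
    (ui5_D X s)ᵀ = ui5_D Xᵀ s := by
  unfold ui5_D
  simp only [transpose_sub, transpose_add, transpose_smul, transpose_pow, transpose_one]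

/-- the adjoint symmetry -/
theorem ui5_D_frob (hF : Fintype.card F = p ^ 2) (X : Matrix (Fin 4) (Fin 4) F)
    (hX5 : X ^ 5 = 1) (hU : Xᵀ * frm p X = 1) (s : F) (h : ui5_D X s = 0) :
    ui5_D X (s ^ p) = 0 := by
  have hYX : (frm p X)ᵀ * X = 1 := by
    have := congrArg Matrix.transpose hU
    rw [transpose_mul, transpose_transpose, transpose_one] at this
    exact this
  have hY : (frm p X)ᵀ = X ^ 4 := by
    calc (frm p X)ᵀ = (frm p X)ᵀ * X ^ 5 := by rw [hX5, mul_one]
      _ = ((frm p X)ᵀ * X) * X ^ 4 := by rw [pow_succ' X 4, ← mul_assoc]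
      _ = X ^ 4 := by rw [hYX, one_mul]
  have h1 : ui5_D (X ^ 4) (s ^ p) = 0 := by
    rw [← hY, ← ui5_transpose_D, ← ui5_frm_D hF, h]
    have : frm p (0 : Matrix (Fin 4) (Fin 4) F) = 0 :=
      map_zero (Cfsg.Agent.Lib.Helper5.frobQ hF).mapMatrix
    rw [this, transpose_zero]
  unfold ui5_D at h1 ⊢
  have h12 : (X ^ 4) ^ 3 = X ^ 2 := by
    rw [← pow_mul, show 4 * 3 = 5 * 2 + 2 from rfl, pow_add, pow_mul, hX5, one_pow, one_mul]
  have h8 : (X ^ 4) ^ 2 = X ^ 3 := by
    rw [← pow_mul, show 4 * 2 = 5 * 1 + 3 from rfl, pow_add, pow_mul, hX5, one_pow, one_mul]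
  rw [h12, h8] at h1
  have h2 := congrArg (fun M => X ^ 3 * M) h1
  simp only [mul_sub, mul_add, mul_smul_comm, ← pow_add, mul_one, mul_zero] at h2
  have h6 : X ^ (3 + 3) = X := by
    rw [show 3 + 3 = 5 * 1 + 1 from rfl, pow_add, pow_mul, hX5, one_pow, one_mul, pow_one]
  have h7 : X ^ (3 + 4) = X ^ 2 := by
    rw [show 3 + 4 = 5 * 1 + 2 from rfl, pow_add, pow_mul, hX5, one_pow, one_mul]
  have h5 : X ^ (3 + 2) = 1 := hX5
  rw [h6, h7, h5] at h2
  linear_combination (norm := module) -h2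

end mat


section main
variable {F : Type*} [Field F] [Fintype F] {p : ℕ} [Fact p.Prime] [CharP F p]

open Cfsg.Agent.Lib.Helper14.Us3

omit [Fintype F] in
theorem ui5_root_ne (h5 : (5 : F) ≠ 0) (s : F) (hs : s * s - s - 1 = 0) : s ≠ 1 - s := by
  intro h
  apply h5
  have h' : s - (1 - s) = 0 := sub_eq_zero.2 h
  linear_combination (-4) * hs + (2 * s - 1) * h'

omit [Fintype F] in
theorem ui5_root_other (s : F) (hs : s * s - s - 1 = 0) : (1 - s) * (1 - s) - (1 - s) - 1 = 0 := by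
  linear_combination hs

/-- both primary components are non-zero -/
theorem ui5_D_ne (hF : Fintype.card F = p ^ 2) (hord : orderOf (p : ZMod 5) = 4)
    (s : F) (hs : s * s - s - 1 = 0) (X : Matrix (Fin 4) (Fin 4) F)
    (hX5 : X ^ 5 = 1) (hX1 : X ≠ 1) (hU : Xᵀ * frm p X = 1) : ui5_D X s ≠ 0 := by
  intro h
  have h' := ui5_D_frob hF X hX5 hU s h
  rw [ui5_frob_root hF hord s hs] at h'
  unfold ui5_D at h h'
  have hne : s - (1 - s) ≠ 0 := sub_ne_zero.2 (ui5_root_ne (ui5_five_ne hord) s hs)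
  have h1 : (s - (1 - s)) • (X - X ^ 2) = 0 := by
    linear_combination (norm := module) h - h'
  have h2 : X - X ^ 2 = 0 := (smul_eq_zero.1 h1).resolve_left hne
  apply hX1
  have h3 : X ^ 4 * (X - X ^ 2) = 0 := by rw [h2, mul_zero]
  rw [mul_sub, ← pow_succ, ← pow_add, hX5] at h3
  have h6 : X ^ (4 + 2) = X := by
    rw [show 4 + 2 = 5 * 1 + 1 from rfl, pow_add, pow_mul, hX5, one_pow, one_mul, pow_one]
  rw [h6] at h3
  exact (sub_eq_zero.1 h3).symm

omit [Fintype F] [Fact p.Prime] [CharP F p] in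
/-- a non-zero vector in the kernel of `X² + sX + 1` -/
theorem ui5_exists_vec (s : F) (hs : s * s - s - 1 = 0) (X : Matrix (Fin 4) (Fin 4) F)
    (hX5 : X ^ 5 = 1) (hD : ui5_D X s ≠ 0) :
    ∃ v : Fin 4 → F, v ≠ 0 ∧ X *ᵥ (X *ᵥ v) = -(s • X *ᵥ v) - v := by
  have hex : ∃ w : Fin 4 → F, ui5_D X s *ᵥ w ≠ 0 := by
    by_contra hcon
    push Not at hcon
    apply hD
    apply Matrix.toLin'.injective
    apply LinearMap.ext
    intro w
    rw [Matrix.toLin'_apply, hcon w]
    simp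
  obtain ⟨w, hw⟩ := hex
  refine ⟨ui5_D X s *ᵥ w, hw, ?_⟩
  have hkey : (X * X + s • X + 1) * ui5_D X s = 0 := by
    unfold ui5_D
    have e : (X ^ 2 + s • X + 1) * (X ^ 3 - s • X ^ 2 + s • X - 1) =
        X ^ 5 - 1 + (1 + s - s * s) • (X ^ 3 - X ^ 2) := by
      simp only [add_mul, mul_sub, mul_add, smul_mul_assoc, mul_smul_comm, one_mul, mul_one,
        ← pow_add, ← pow_succ, ← pow_succ', Nat.reduceAdd]
      rw [← pow_two X]
      module
    rw [← pow_two, e, hX5, sub_self, zero_add]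
    have : 1 + s - s * s = 0 := by linear_combination -hs
    rw [this, zero_smul]
  have h1 := congrArg (fun M => M *ᵥ w) hkey
  simp only [← Matrix.mulVec_mulVec, Matrix.add_mulVec, Matrix.smul_mulVec, Matrix.one_mulVec,
    Matrix.zero_mulVec] at h1
  linear_combination (norm := module) h1

/-- the cyclic basis for a unitary element of order five -/
theorem ui5_exists_basis (hF : Fintype.card F = p ^ 2) (hord : orderOf (p : ZMod 5) = 4)
    (x : GL (Fin 4) F) (hxU : x ∈ Cfsg.GU 4 F p) (hx : x ^ 5 = 1) (hx1 : x ≠ 1) :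
    ∃ b : Module.Basis (Fin 4) F (Fin 4 → F),
      Matrix.toLin' (x : Matrix (Fin 4) (Fin 4) F) (b 0) = b 1 ∧
      Matrix.toLin' (x : Matrix (Fin 4) (Fin 4) F) (b 1) = b 2 ∧
      Matrix.toLin' (x : Matrix (Fin 4) (Fin 4) F) (b 2) = b 3 ∧
      Matrix.toLin' (x : Matrix (Fin 4) (Fin 4) F) (b 3) = -(b 0 + b 1 + b 2 + b 3) := by
  obtain ⟨s, hs⟩ := ui5_exists_root (F := F) hF hord
  have hs2 := ui5_root_other s hs
  have hne := ui5_root_ne (ui5_five_ne (F := F) hord) s hs
  set X : Matrix (Fin 4) (Fin 4) F := (x : Matrix (Fin 4) (Fin 4) F) with hX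
  have hU : Xᵀ * frm p X = 1 := (mem_GU_iff hF x).1 hxU
  have hX5 : X ^ 5 = 1 := by
    have h1 : ((x ^ 5 : GL (Fin 4) F) : Matrix (Fin 4) (Fin 4) F) = 1 := by rw [hx]; rfl
    rw [Units.val_pow_eq_pow_val] at h1
    exact h1
  have hX1 : X ≠ 1 := by
    intro h
    apply hx1
    apply Units.ext
    exact h
  obtain ⟨v₁, hv₁, h₁⟩ := ui5_exists_vec s hs X hX5 (ui5_D_ne hF hord s hs X hX5 hX1 hU)
  obtain ⟨v₂, hv₂, h₂⟩ := ui5_exists_vec (1 - s) hs2 X hX5
    (ui5_D_ne hF hord (1 - s) hs2 X hX5 hX1 hU)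
  set f : Module.End F (Fin 4 → F) := Matrix.toLin' X with hf
  have hfv : ∀ v, f v = X *ᵥ v := fun v => Matrix.toLin'_apply X v
  have g₁ : f (f v₁) = -(s • f v₁) - v₁ := by simp only [hfv]; exact h₁
  have g₂ : f (f v₂) = -((1 - s) • f v₂) - v₂ := by simp only [hfv]; exact h₂
  have hli := ui5_indep f s (1 - s) hne v₁ v₂ g₁ g₂
    (ui5_pair_indep f s (ui5_no_root hF hord s hs) v₁ hv₁ g₁)
    (ui5_pair_indep f (1 - s) (ui5_no_root hF hord (1 - s) hs2) v₂ hv₂ g₂)
  have hcard : Fintype.card (Fin 4) = Module.finrank F (Fin 4 → F) := by simp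
  refine ⟨basisOfLinearIndependentOfCardEqFinrank hli hcard, ?_⟩
  simp only [coe_basisOfLinearIndependentOfCardEqFinrank]
  have e2 : ∀ w, (f ^ 2) w = f (f w) := fun w => by rw [pow_two]; rfl
  have e3 : ∀ w, (f ^ 3) w = f (f (f w)) := fun w => by rw [pow_succ, pow_two]; rfl
  refine ⟨?_, ?_, ?_, ?_⟩
  · simp
  · simp [e2]
  · simp [e2, e3]
  · simp only [Fin.val_zero, pow_zero, Module.End.one_apply, Fin.val_one, pow_one]
    show f ((f ^ 3) (v₁ + v₂)) = -((v₁ + v₂) + f (v₁ + v₂) + (f ^ 2) (v₁ + v₂) + (f ^ 3) (v₁ + v₂))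
    rw [e2, e3]
    have t₁ := ui5_top f s hs v₁ g₁
    have t₂ := ui5_top f (1 - s) hs2 v₂ g₂
    simp only [map_add]
    rw [t₁, t₂]
    module

end main

variable {F : Type*} [Field F] [Fintype F] {p : ℕ} [Fact p.Prime] [CharP F p]

/-- P4U-I5.  `p` of order 4 mod 5: all elements of order 5 of `GU 4 F p` are `GL`-conjugate. -/
theorem gl_conj_of_pow_five_unitary (hF : Fintype.card F = p ^ 2)
    (hord : orderOf (p : ZMod 5) = 4)
    (x y : GL (Fin 4) F) (hxU : x ∈ Cfsg.GU 4 F p) (hyU : y ∈ Cfsg.GU 4 F p)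
    (hx : x ^ 5 = 1) (hy : y ^ 5 = 1) (hx1 : x ≠ 1) (hy1 : y ≠ 1) :
    ∃ g : GL (Fin 4) F, g⁻¹ * x * g = y := by
  obtain ⟨b, hb0, hb1, hb2, hb3⟩ := ui5_exists_basis hF hord x hxU hx hx1
  obtain ⟨c, hc0, hc1, hc2, hc3⟩ := ui5_exists_basis hF hord y hyU hy hy1
  obtain ⟨φ, hφ⟩ := i5a_equiv_of_bases b c (Matrix.toLin' (x : Matrix (Fin 4) (Fin 4) F))
    (Matrix.toLin' (y : Matrix (Fin 4) (Fin 4) F)) (by
      intro i
      fin_cases i
      · simp [hb0, hc0]
      · simp [hb1, hc1]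
      · simp [hb2, hc2]
      · simp [hb3, hc3])
  exact i5a_conj_of_equiv x y φ hφ

end Cfsg.Agent.Lib.Helper14.P4
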