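import Mathlib
import Cfsg.Prelude.Def_RootSubgroups
import Cfsg.Agent.Lib.Helper83.QuadMod

set_option autoImplicit false

namespace Cfsg.Agent.Lib.Helper83

open Cfsg

section Quad2

variable {X : Type*} [Group X] {R : Type*} [Ring R]

theorem quad_pow (ρ : X →* R) (a : X) (hα : (ρ a - 1) * (ρ a - 1) = 0) (k : ℕ) :
    ρ (a ^ k) - 1 = k • (ρ a - 1) := by
  induction k with
  | zero => simp
  | succ k ih =>
    rw [pow_succ, map_mul, succ_nsmul]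
    have e : ρ (a ^ k) * ρ a - 1 = (ρ (a ^ k) - 1) + (ρ a - 1) + (ρ (a ^ k) - 1) * (ρ a - 1) := by
      noncomm_ring
    rw [e, ih, smul_mul_assoc, hα, smul_zero, add_zero]

/-- relations (*) and (**) in the quadratic group `A^b = B^a`. -/
theorem quad_star {ρ : X →* R} {A B : Subgroup X} (hA : QuadOn ρ A) (hB : QuadOn ρ B)
    {a b a' b'' : X} (ha : a ∈ A) (hb : b ∈ B) (hconj : conjBy A b⁻¹ = conjBy B a⁻¹)
    (ha' : a' ∈ A) (hb'' : b'' ∈ B) :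
    (ρ a' - 1) * (ρ b'' - 1) = (ρ a' - 1) * (ρ b - 1) * (ρ a - 1) * (ρ b'' - 1) ∧
    (ρ b'' - 1) * (ρ a' - 1) = (ρ b'' - 1) * (ρ a - 1) * (ρ b - 1) * (ρ a' - 1) := by
  have hαα : (ρ a - 1) * (ρ a - 1) = 0 := hA a ha a ha
  have hββ : (ρ b - 1) * (ρ b - 1) = 0 := hB b hb b hb
  have hα'α : (ρ a' - 1) * (ρ a - 1) = 0 := hA a ha a' ha'
  have hαα' : (ρ a - 1) * (ρ a' - 1) = 0 := hA a' ha' a ha
  have hββ'' : (ρ b - 1) * (ρ b'' - 1) = 0 := hB b'' hb'' b hb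
  have hβ''β : (ρ b'' - 1) * (ρ b - 1) = 0 := hB b hb b'' hb''
  have hai := rho_inv_of_sq_zero ρ a hαα
  have hbi := rho_inv_of_sq_zero ρ b hββ
  have hD : QuadOn ρ (conjBy A b⁻¹) := quadOn_conj hA b⁻¹
  have hc1 : b⁻¹ * a' * b ∈ conjBy A b⁻¹ := by
    have := conj_mem_conjBy (g := b⁻¹) ha'
    simpa using this
  have hc2 : a⁻¹ * b'' * a ∈ conjBy A b⁻¹ := by
    rw [hconj]
    have := conj_mem_conjBy (g := a⁻¹) hb''
    simpa using this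
  have hZ1 := hD _ hc2 _ hc1
  have hZ2 := hD _ hc1 _ hc2
  rw [rho_conj_sub_one', rho_conj_sub_one'] at hZ1 hZ2
  have ha1 : ρ a = 1 + (ρ a - 1) := by abel
  have hb1 : ρ b = 1 + (ρ b - 1) := by abel
  generalize ρ a - 1 = α at *
  generalize ρ b - 1 = β at *
  generalize ρ a' - 1 = α' at *
  generalize ρ b'' - 1 = β'' at *
  have hW1 : α' * ρ b * ρ a⁻¹ * β'' = 0 := by
    have : α' * ρ b * ρ a⁻¹ * β'' = ρ b * (ρ b⁻¹ * α' * ρ b * (ρ a⁻¹ * β'' * ρ a)) * ρ a⁻¹ := by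
      calc α' * ρ b * ρ a⁻¹ * β'' = (1:R) * α' * ρ b * ρ a⁻¹ * β'' * 1 := by noncomm_ring
        _ = (ρ b * ρ b⁻¹) * α' * ρ b * ρ a⁻¹ * β'' * (ρ a * ρ a⁻¹) := by
            rw [rho_mul_inv, rho_mul_inv]
        _ = _ := by noncomm_ring
    rw [this, hZ1, mul_zero, zero_mul]
  have hW2 : β'' * ρ a * ρ b⁻¹ * α' = 0 := by
    have : β'' * ρ a * ρ b⁻¹ * α' = ρ a * (ρ a⁻¹ * β'' * ρ a * (ρ b⁻¹ * α' * ρ b)) * ρ b⁻¹ := by
      calc β'' * ρ a * ρ b⁻¹ * α' = (1:R) * β'' * ρ a * ρ b⁻¹ * α' * 1 := by noncomm_ring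
        _ = (ρ a * ρ a⁻¹) * β'' * ρ a * ρ b⁻¹ * α' * (ρ b * ρ b⁻¹) := by
            rw [rho_mul_inv, rho_mul_inv]
        _ = _ := by noncomm_ring
    rw [this, hZ2, mul_zero, zero_mul]
  rw [hb1, hai] at hW1
  rw [ha1, hbi] at hW2
  constructor
  · have : α'*β*α*β'' = α'*β'' - (α'*α)*β'' + α'*(β*β'') - α'*(1+β)*(1-α)*β'' := by noncomm_ring
    rw [this, hW1, hα'α, hββ'']; simp
  · have : β''*α*β*α' = β''*α' - (β''*β)*α' + β''*(α*α') - β''*(1+α)*(1-β)*α' := by noncomm_ring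
    rw [this, hW2, hαα', hβ''β]; simp

theorem quad_faithful_comm {ρ : X →* R} {A : Subgroup X} (hA : QuadOn ρ A) (hinj : Function.Injective ρ)
    {a a' : X} (ha : a ∈ A) (ha' : a' ∈ A) : a * a' = a' * a := by
  apply hinj
  rw [map_mul, map_mul]
  have e1 : ρ a * ρ a' = (ρ a - 1) * (ρ a' - 1) + ρ a + ρ a' - 1 := by noncomm_ring
  have e2 : ρ a' * ρ a = (ρ a' - 1) * (ρ a - 1) + ρ a + ρ a' - 1 := by noncomm_ring
  rw [e1, e2, hA a ha a' ha', hA a' ha' a ha]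

theorem comm_of_sub_one_mul_zero (ρ : X →* R) (hinj : Function.Injective ρ) {x y : X}
    (h1 : (ρ x - 1) * (ρ y - 1) = 0) (h2 : (ρ y - 1) * (ρ x - 1) = 0) : x * y = y * x := by
  apply hinj
  rw [map_mul, map_mul]
  have e1 : ρ x * ρ y = (ρ x - 1) * (ρ y - 1) + ρ x + ρ y - 1 := by noncomm_ring
  have e2 : ρ y * ρ x = (ρ y - 1) * (ρ x - 1) + ρ x + ρ y - 1 := by noncomm_ring
  rw [e1, e2, h1, h2]

/-- Timmesfeld: a faithful quadratic module forces `A` to have exponent `p` as soon as it has an element of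
order `p`. -/
theorem quad_exponent {A B : Subgroup X} (h : IsRankOneGroup X A B) (ρ : X →* R) (hinj : Function.Injective ρ)
    (hA : QuadOn ρ A) {a₁ : X} (ha₁ : a₁ ∈ A) (ha₁1 : a₁ ≠ 1) {p : ℕ} (hp : a₁ ^ p = 1) :
    ∀ a' ∈ A, a' ^ p = 1 := by
  obtain ⟨htop, hr⟩ := h
  have hB : QuadOn ρ B := by
    obtain ⟨x, -, hx⟩ := rop_B_mem_unip hr
    rw [hx]; exact quadOn_conj hA x
  obtain ⟨b₁, hb₁, -, hconj⟩ := hr.cond_left a₁ ha₁ ha₁1
  have hpα : p • (ρ a₁ - 1) = 0 := by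
    rw [← quad_pow ρ a₁ (hA a₁ ha₁ a₁ ha₁), hp, map_one, sub_self]
  intro a' ha'
  have hw : a' ^ p ∈ A := A.pow_mem ha' p
  have hwα : ρ (a' ^ p) - 1 = p • (ρ a' - 1) := quad_pow ρ a' (hA a' ha' a' ha') p
  have hcommB : ∀ b'' ∈ B, (a' ^ p) * b'' = b'' * (a' ^ p) := by
    intro b'' hb''
    obtain ⟨s1, s2⟩ := quad_star hA hB ha₁ hb₁ hconj ha' hb''
    apply comm_of_sub_one_mul_zero ρ hinj
    · rw [hwα, smul_mul_assoc, s1]
      have : (ρ a' - 1) * (ρ b₁ - 1) * (ρ a₁ - 1) * (ρ b'' - 1) =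
          (ρ a' - 1) * (ρ b₁ - 1) * ((ρ a₁ - 1) * (ρ b'' - 1)) := by noncomm_ring
      rw [this, ← mul_smul_comm, ← smul_mul_assoc, hpα, zero_mul, mul_zero]
    · rw [hwα, mul_smul_comm, s2]
      have : (ρ b'' - 1) * (ρ a₁ - 1) * (ρ b₁ - 1) * (ρ a' - 1) =
          (ρ b'' - 1) * ((ρ a₁ - 1) * ((ρ b₁ - 1) * (ρ a' - 1))) := by noncomm_ring
      rw [this, ← mul_smul_comm, ← smul_mul_assoc, hpα, zero_mul, mul_zero]
  apply rop_norm_left hr hw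
  ext y
  rw [mem_conjBy]
  constructor
  · intro hy
    have := hcommB _ hy
    have e : y = (a' ^ p) * ((a' ^ p)⁻¹ * y * (a' ^ p)) * (a' ^ p)⁻¹ := by group
    rw [e, this]
    simpa using hy
  · intro hy
    have := hcommB _ hy
    have e : (a' ^ p)⁻¹ * y * (a' ^ p) = (a' ^ p)⁻¹ * (y * (a' ^ p)) := by group
    rw [e, ← this]
    simpa using hy

end Quad2

end Cfsg.Agent.Lib.Helper83
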