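import Mathlib
import Cfsg.Prelude.Def_RootSubgroups
import Cfsg.Prelude.Def_Transfer
import Cfsg.Agent.Lib.Helper83.RankOne
import Cfsg.Agent.Lib.Helper83.RootSub

set_option autoImplicit false

namespace Cfsg.Agent.Lib.Helper83

open Cfsg

variable {G : Type*} [Group G] {A B : Subgroup G}

/-- The relation `A^b = B^a` between elements of `A` and `B`. -/
def PRel (A B : Subgroup G) (a b : G) : Prop :=
  a ∈ A ∧ b ∈ B ∧ conjBy A b⁻¹ = conjBy B a⁻¹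

theorem prel_ne_left (h : IsRankOnePair A B) {a b : G} (hr : PRel A B a b) : a ≠ 1 := by
  rintro rfl
  obtain ⟨-, hb, hc⟩ := hr
  rw [inv_one, conjBy_one, conjBy_eq_iff, inv_inv, conjBy_mem_self hb] at hc
  exact h.ne hc

theorem prel_ne_right (h : IsRankOnePair A B) {a b : G} (hr : PRel A B a b) : b ≠ 1 := by
  rintro rfl
  obtain ⟨ha, -, hc⟩ := hr
  rw [inv_one, conjBy_one] at hc
  have := hc.symm
  rw [conjBy_eq_iff, inv_inv, conjBy_mem_self ha] at this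
  exact h.ne this.symm

theorem prel_unique_right (h : IsRankOnePair A B) {a b b' : G} (hr : PRel A B a b)
    (hr' : PRel A B a b') : b = b' :=
  rop_unique_right h hr.2.1 hr'.2.1 (hr.2.2.trans hr'.2.2.symm)

theorem prel_unique_left (h : IsRankOnePair A B) {a a' b : G} (hr : PRel A B a b)
    (hr' : PRel A B a' b) : a = a' :=
  rop_unique_left h hr.1 hr'.1 (hr.2.2.symm.trans hr'.2.2)

theorem prel_exists_right (h : IsRankOnePair A B) {a : G} (ha : a ∈ A) (ha1 : a ≠ 1) :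
    ∃ b, PRel A B a b := by
  obtain ⟨b, hb, -, hc⟩ := h.cond_left a ha ha1
  exact ⟨b, ha, hb, hc⟩

theorem prel_exists_left (h : IsRankOnePair A B) {b : G} (hb : b ∈ B) (hb1 : b ≠ 1) :
    ∃ a, PRel A B a b := by
  obtain ⟨a, ha, -, hc⟩ := h.cond_right b hb hb1
  exact ⟨a, ha, hb, hc.symm⟩

/-- a nonidentity element of `B` fixes only `B` among the unipotent subgroups -/
theorem unip_fixed_right (h : IsRankOnePair A B) {C : Subgroup G} (hC : C ∈ unipotentSubgroups A B)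
    {b : G} (hb : b ∈ B) (hb1 : b ≠ 1) (hfix : conjBy C b = C) : C = B := by
  rw [← unip_symm h] at hC
  rcases (rop_unip_iff (RankOnePair_symm h)).1 hC with rfl | ⟨b', hb', rfl⟩
  · rfl
  · exfalso
    rw [conjBy_conjBy] at hfix
    have h1 : conjBy A (b'⁻¹ * (b * b')) = A := by
      rw [← conjBy_conjBy, hfix, conjBy_conjBy]; simp [conjBy_one]
    have h2 := rop_norm_right h (B.mul_mem (B.inv_mem hb') (B.mul_mem hb hb')) h1
    apply hb1
    have := congrArg (fun t => b' * t * b'⁻¹) h2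
    simpa [mul_assoc] using this

/-- `m` interchanges `A` and `B` -/
def Swaps (A B : Subgroup G) (m : G) : Prop := conjBy A m = B ∧ conjBy B m = A

theorem Swaps.inv {m : G} (hm : Swaps A B m) : Swaps A B m⁻¹ := by
  constructor
  · rw [conjBy_eq_iff, inv_inv]; exact hm.2.symm
  · rw [conjBy_eq_iff, inv_inv]; exact hm.1.symm

theorem Swaps.mem_left {m x : G} (hm : Swaps A B m) (hx : x ∈ A) : m * x * m⁻¹ ∈ B := by
  rw [← hm.1]; exact conj_mem_conjBy hx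

theorem Swaps.mem_right {m x : G} (hm : Swaps A B m) (hx : x ∈ B) : m * x * m⁻¹ ∈ A := by
  rw [← hm.2]; exact conj_mem_conjBy hx

theorem Swaps.mem_left' {m x : G} (hm : Swaps A B m) (hx : x ∈ A) : m⁻¹ * x * m ∈ B := by
  have := hm.inv.mem_left hx
  rwa [inv_inv] at this

theorem Swaps.mem_right' {m x : G} (hm : Swaps A B m) (hx : x ∈ B) : m⁻¹ * x * m ∈ A := by
  have := hm.inv.mem_right hx
  rwa [inv_inv] at this

/-- R6: conjugating a related pair by a swapping element -/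
theorem prel_conj_swap {m x y : G} (hm : Swaps A B m) (hr : PRel A B x y) :
    PRel A B (m⁻¹ * y * m) (m⁻¹ * x * m) := by
  obtain ⟨hx, hy, hc⟩ := hr
  refine ⟨hm.mem_right' hy, hm.mem_left' hx, ?_⟩
  have e1 : (m⁻¹ * x * m)⁻¹ = m⁻¹ * (x⁻¹ * m) := by group
  have e2 : (m⁻¹ * y * m)⁻¹ = m⁻¹ * (y⁻¹ * m) := by group
  rw [e1, e2, ← conjBy_conjBy, ← conjBy_conjBy, ← conjBy_conjBy, ← conjBy_conjBy, hm.1, hm.2, hc]

section Special

variable (hs : IsSpecialRankOnePair A B)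
include hs

theorem prel_special {a b : G} (hr : PRel A B a b) : b⁻¹ * a * b = a⁻¹ * b⁻¹ * a :=
  hs.2 a hr.1 (prel_ne_left hs.1 hr) b hr.2.1 (prel_ne_right hs.1 hr) hr.2.2

theorem prel_n_eq {a b : G} (hr : PRel A B a b) : a * b⁻¹ * a = b⁻¹ * a * b⁻¹ := by
  have h1 := prel_special hs hr
  have h2 : a * (b⁻¹ * a * b) * b⁻¹ = a * (a⁻¹ * b⁻¹ * a) * b⁻¹ := by rw [h1]
  have e1 : a * (b⁻¹ * a * b) * b⁻¹ = a * b⁻¹ * a := by group
  have e2 : a * (a⁻¹ * b⁻¹ * a) * b⁻¹ = b⁻¹ * a * b⁻¹ := by group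
  rw [e1, e2] at h2
  exact h2

/-- R5 -/
theorem prel_n_conj_left {a b : G} (hr : PRel A B a b) :
    (a * b⁻¹ * a)⁻¹ * a * (a * b⁻¹ * a) = b⁻¹ := by
  have h1 := prel_special hs hr
  have h2 : a⁻¹ * b * a = b⁻¹ * a⁻¹ * b := by
    have := congrArg (·⁻¹) h1
    simp only [mul_inv_rev, inv_inv] at this
    rw [← mul_assoc, ← mul_assoc] at this
    exact this.symm
  have e1 : (a * b⁻¹ * a)⁻¹ * a * (a * b⁻¹ * a) = (a⁻¹ * b * a) * b⁻¹ * a := by group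
  rw [e1, h2]; group

theorem prel_n_conj_right {a b : G} (hr : PRel A B a b) :
    (a * b⁻¹ * a)⁻¹ * b * (a * b⁻¹ * a) = a⁻¹ := by
  have h1 := prel_special hs hr
  have h2 : a⁻¹ * b * a = b⁻¹ * a⁻¹ * b := by
    have := congrArg (·⁻¹) h1
    simp only [mul_inv_rev, inv_inv] at this
    rw [← mul_assoc, ← mul_assoc] at this
    exact this.symm
  rw [prel_n_eq hs hr]
  have e1 : (b⁻¹ * a * b⁻¹)⁻¹ * b * (b⁻¹ * a * b⁻¹) = b * (a⁻¹ * b * a) * b⁻¹ := by group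
  rw [e1, h2]; group

/-- R4: `n = a b⁻¹ a` interchanges `A` and `B` -/
theorem prel_n_swaps {a b : G} (hr : PRel A B a b) : Swaps A B (a * b⁻¹ * a)⁻¹ := by
  obtain ⟨ha, hb, hc⟩ := hr
  have hn := prel_n_eq hs ⟨ha, hb, hc⟩
  have hB : conjBy B (a * b⁻¹ * a)⁻¹ = A := by
    rw [hn]
    have e : (b⁻¹ * a * b⁻¹)⁻¹ = b * (a⁻¹ * b) := by group
    rw [e, ← conjBy_conjBy, ← conjBy_conjBy, conjBy_mem_self hb, ← hc, conjBy_conjBy]
    simp [conjBy_one]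
  refine ⟨?_, hB⟩
  set Q := conjBy A (a * b⁻¹ * a)⁻¹ with hQ
  have hQ1 : Q = conjBy A (a⁻¹ * b) := by
    rw [hQ]
    have e : (a * b⁻¹ * a)⁻¹ = (a⁻¹ * b) * a⁻¹ := by group
    rw [e, ← conjBy_conjBy, conjBy_mem_self (A.inv_mem ha)]
  have hQ2 : conjBy Q b = Q := by
    rw [hQ1, conjBy_conjBy, ← hQ1, hQ, hn]
    congr 1
    group
  have hQu : Q ∈ unipotentSubgroups A B := by
    refine ⟨(a * b⁻¹ * a)⁻¹, ?_, rfl⟩
    apply Subgroup.inv_mem
    exact Subgroup.mul_mem _ (Subgroup.mul_mem _ (Subgroup.mem_sup_left ha)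
      (Subgroup.inv_mem _ (Subgroup.mem_sup_right hb))) (Subgroup.mem_sup_left ha)
  exact unip_fixed_right hs.1 hQu hb (prel_ne_right hs.1 ⟨ha, hb, hc⟩) hQ2

theorem prel_inv {a b : G} (hr : PRel A B a b) : PRel A B a⁻¹ b⁻¹ := by
  have hsw := prel_n_swaps hs hr
  obtain ⟨ha, hb, hc⟩ := hr
  refine ⟨A.inv_mem ha, B.inv_mem hb, ?_⟩
  rw [inv_inv, inv_inv]
  have e : (a * b⁻¹ * a)⁻¹ = a⁻¹ * (b * a⁻¹) := by group
  have h1 := hsw.1
  rw [e, ← conjBy_conjBy, ← conjBy_conjBy, conjBy_mem_self (A.inv_mem ha), conjBy_eq_iff, inv_inv] at h1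
  exact h1

/-- R7 -/
theorem prel_mul {e b x y v : G} (hr1 : PRel A B e b) (hr2 : PRel A B x y)
    (hr3 : PRel A B ((e * b⁻¹ * e)⁻¹ * (y * b) * (e * b⁻¹ * e)) v) : PRel A B (x * e) (v * b) := by
  have hsw := (prel_n_swaps hs hr1).inv
  rw [inv_inv] at hsw
  have hn := prel_n_eq hs hr1
  obtain ⟨he, hb, hc1⟩ := hr1
  obtain ⟨hx, hy, hc2⟩ := hr2
  obtain ⟨hu, hv, hc3⟩ := hr3
  refine ⟨A.mul_mem hx he, B.mul_mem hv hb, ?_⟩
  rw [mul_inv_rev, mul_inv_rev, ← conjBy_conjBy, ← conjBy_conjBy, hc3, ← hc2, conjBy_conjBy,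
    conjBy_conjBy]
  have e1 : b⁻¹ * ((e * b⁻¹ * e)⁻¹ * (y * b) * (e * b⁻¹ * e))⁻¹ = (e⁻¹ * y⁻¹) * (e * b⁻¹ * e) := by
    rw [hn]; group
  rw [e1, ← conjBy_conjBy, hsw.2]

/-- R8 -/
theorem prel_pow_eq_one_iff {a b : G} (hr : PRel A B a b) (k : ℕ) : a ^ k = 1 ↔ b ^ k = 1 := by
  have h1 := prel_n_conj_left hs hr
  have h2 : (b ^ k)⁻¹ = (a * b⁻¹ * a)⁻¹ * a ^ k * (a * b⁻¹ * a) := by
    have := conj_pow (a := (a * b⁻¹ * a)⁻¹) (b := a) (i := k)
    rw [inv_inv] at this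
    rw [← this, h1, inv_pow]
  constructor
  · intro hk
    rw [hk] at h2
    have h3 : (b ^ k)⁻¹ = 1 := by rw [h2]; group
    simpa using h3
  · intro hk
    rw [hk] at h2
    have h3 : (a * b⁻¹ * a) * ((a * b⁻¹ * a)⁻¹ * a ^ k * (a * b⁻¹ * a)) * (a * b⁻¹ * a)⁻¹ = a ^ k := by
      group
    rw [← h3, ← h2]; group

/-- Key induction: `β(a^k)^k = β(a)`. -/
theorem prel_pow (m : ℕ) (hm : ∀ z ∈ A, z ≠ 1 → ∀ i, 0 < i → i < m → z ^ i ≠ 1) :
    ∀ k, 0 < k → k ≤ m → ∀ a b c : G, a ^ k ≠ 1 → PRel A B a b → PRel A B (a ^ k) c →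
      c ^ k = b := by
  intro k
  induction k with
  | zero => intro h0; exact absurd h0 (lt_irrefl 0)
  | succ k ih =>
    intro _ hkm a b c hak hr hrc
    by_cases hk0 : k = 0
    · subst hk0
      rw [zero_add, pow_one] at hrc ⊢
      exact prel_unique_right hs.1 hrc hr
    have hkpos : 0 < k := Nat.pos_of_ne_zero hk0
    have ha := hr.1
    have ha1 : a ≠ 1 := prel_ne_left hs.1 hr
    have hak' : a ^ k ≠ 1 := hm a ha ha1 k hkpos (by omega)
    -- y = β(a^k)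
    obtain ⟨y, hry⟩ := prel_exists_right hs.1 (A.pow_mem ha k) hak'
    have hyk : y ^ k = b := ih hkpos (by omega) a b y hak' hr hry
    set n := a * b⁻¹ * a with hn
    have hsw := (prel_n_swaps hs hr).inv
    rw [inv_inv] at hsw
    have hcl := prel_n_conj_left hs hr
    have hcr := prel_n_conj_right hs hr
    rw [← hn] at hcl hcr
    -- w = n⁻¹ y n
    set w := n⁻¹ * y * n with hw
    have hwA : w ∈ A := hsw.mem_right' hry.2.1
    have hwk : w ^ k = a⁻¹ := by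
      rw [hw]
      have := conj_pow (a := n⁻¹) (b := y) (i := k)
      rw [inv_inv] at this
      rw [this, hyk, hcr]
    have hu : n⁻¹ * (y * b) * n = w ^ (k + 1) := by
      rw [pow_succ', hwk, hw, ← hcr]; group
    have huk : (w ^ (k + 1)) ^ k = (a ^ (k + 1))⁻¹ := by
      rw [← pow_mul, mul_comm, pow_mul, hwk, inv_pow]
    have hu1 : w ^ (k + 1) ≠ 1 := by
      intro h1
      rw [h1, one_pow] at huk
      apply hak
      rw [← inv_inv (a ^ (k + 1)), ← huk, inv_one]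
    obtain ⟨v, hrv⟩ := prel_exists_right hs.1 (A.pow_mem hwA (k + 1)) hu1
    have hrv' : PRel A B ((a * b⁻¹ * a)⁻¹ * (y * b) * (a * b⁻¹ * a)) v := by
      rw [← hn, hu]; exact hrv
    have hmul := prel_mul hs hr hry hrv'
    rw [← pow_succ] at hmul
    have hcv : c = v * b := prel_unique_right hs.1 hrc hmul
    -- IH at z = w^(k+1)
    have hrc' := prel_inv hs hrc
    rw [← huk] at hrc'
    have hzk1 : (w ^ (k + 1)) ^ k ≠ 1 := by
      rw [huk]; simpa using hak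
    have hv : c⁻¹ ^ k = v := ih hkpos (by omega) (w ^ (k + 1)) v c⁻¹ hzk1 hrv hrc'
    rw [pow_succ]
    nth_rewrite 2 [hcv]
    rw [← hv, ← mul_assoc, inv_pow, mul_inv_cancel, one_mul]

/-- torsion-free case: `A` is divisible -/
theorem special_divisible (htf : ∀ z ∈ A, z ≠ 1 → ∀ i, 0 < i → z ^ i ≠ 1) :
    ∀ a ∈ A, ∀ n : ℕ, 0 < n → ∃ c ∈ A, c ^ n = a := by
  intro a ha k hk
  by_cases ha1 : a = 1
  · exact ⟨1, A.one_mem, by rw [ha1, one_pow]⟩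
  obtain ⟨b, hr⟩ := prel_exists_right hs.1 ha ha1
  have hak : a ^ k ≠ 1 := htf a ha ha1 k hk
  obtain ⟨c, hrc⟩ := prel_exists_right hs.1 (A.pow_mem ha k) hak
  have hck : c ^ k = b :=
    prel_pow hs k (fun z hz hz1 i hi _ => htf z hz hz1 i hi) k hk le_rfl a b c hak hr hrc
  have hsw := (prel_n_swaps hs hr).inv
  rw [inv_inv] at hsw
  have hcl := prel_n_conj_left hs hr
  obtain ⟨n, hn⟩ : ∃ n, n = a * b⁻¹ * a := ⟨_, rfl⟩
  rw [← hn] at hsw hcl
  refine ⟨n * c⁻¹ * n⁻¹, hsw.mem_right (B.inv_mem hrc.2.1), ?_⟩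
  rw [conj_pow, inv_pow, hck, ← hcl]; group

/-- torsion case -/
theorem special_elementary (hB : IsMulCommutative B)
    (ht : ∃ m, 0 < m ∧ ∃ z ∈ A, z ≠ 1 ∧ z ^ m = 1) :
    ∃ p : ℕ, p.Prime ∧ ∀ a ∈ A, a ^ p = 1 := by
  classical
  set p := Nat.find ht with hp
  obtain ⟨hp0, z₀, hz₀, hz₀1, hz₀p⟩ := Nat.find_spec ht
  rw [← hp] at hp0 hz₀p
  have hmin : ∀ z ∈ A, z ≠ 1 → ∀ i, 0 < i → i < p → z ^ i ≠ 1 := by
    intro z hz hz1 i hi hip hzi
    exact Nat.find_min ht hip ⟨hi, z, hz, hz1, hzi⟩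
  have hp2 : 2 ≤ p := by
    by_contra hlt
    have : p = 1 := by omega
    rw [this, pow_one] at hz₀p
    exact hz₀1 hz₀p
  have hprime : p.Prime := by
    rw [Nat.prime_def_lt]
    refine ⟨hp2, ?_⟩
    intro r hr hrp
    by_contra hr1
    obtain ⟨s, hs'⟩ := hrp
    have hr0 : 0 < r := by
      rcases Nat.eq_zero_or_pos r with h0 | h0
      · rw [h0, zero_mul] at hs'; omega
      · exact h0
    have hs0 : 0 < s := by
      rcases Nat.eq_zero_or_pos s with h0 | h0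
      · rw [h0, mul_zero] at hs'; omega
      · exact h0
    have hsp : s < p := by
      have : 2 ≤ r := by omega
      nlinarith
    have h1 : z₀ ^ r ≠ 1 := hmin z₀ hz₀ hz₀1 r hr0 hr
    have h2 : (z₀ ^ r) ^ s = 1 := by rw [← pow_mul, ← hs', hz₀p]
    exact hmin (z₀ ^ r) (A.pow_mem hz₀ r) h1 s hs0 hsp h2
  refine ⟨p, hprime, ?_⟩
  have hcomm : ∀ x ∈ B, ∀ y ∈ B, x * y = y * x := fun x hx y hy => comm_of_isMulCommutative hB hx hy
  -- dichotomy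
  have hdich : ∀ b ∈ B, b ^ p = 1 ∨ ∃ c ∈ B, c ^ p = b := by
    intro b hb
    by_cases hb1 : b = 1
    · left; rw [hb1, one_pow]
    obtain ⟨a, hr⟩ := prel_exists_left hs.1 hb hb1
    by_cases hap : a ^ p = 1
    · left; exact (prel_pow_eq_one_iff hs hr p).1 hap
    · right
      obtain ⟨c, hrc⟩ := prel_exists_right hs.1 (A.pow_mem hr.1 p) hap
      exact ⟨c, hrc.2.1, prel_pow hs p hmin p hp0 le_rfl a b c hap hr hrc⟩
  -- no element of order p in B is a p-th power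
  have hno : ∀ b₀ ∈ B, b₀ ≠ 1 → b₀ ^ p = 1 → ∀ c ∈ B, c ^ p ≠ b₀ := by
    intro b₀ hb₀ hb₀1 hb₀p c hc hcp
    have hc1 : c ≠ 1 := by
      rintro rfl
      rw [one_pow] at hcp
      exact hb₀1 hcp.symm
    obtain ⟨x, hrx⟩ := prel_exists_left hs.1 hc hc1
    have hxp : x ^ p ≠ 1 := by
      intro hx
      have := (prel_pow_eq_one_iff hs hrx p).1 hx
      rw [hcp] at this
      exact hb₀1 this
    obtain ⟨c', hrc'⟩ := prel_exists_right hs.1 (A.pow_mem hrx.1 p) hxp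
    have h1 : c' ^ p = c := prel_pow hs p hmin p hp0 le_rfl x c c' hxp hrx hrc'
    have h2 : c ^ (p * p) = 1 := by rw [pow_mul, hcp, hb₀p]
    have h3 : x ^ (p * p) = 1 := (prel_pow_eq_one_iff hs hrx (p * p)).2 h2
    have h4 : (x ^ p) ^ p = 1 := by rw [← pow_mul]; exact h3
    have h5 : c' ^ p = 1 := (prel_pow_eq_one_iff hs hrc' p).1 h4
    exact hc1 (h1.symm.trans h5)
  -- all of B has exponent p
  obtain ⟨b₀, hrb₀⟩ := prel_exists_right hs.1 hz₀ hz₀1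
  have hb₀ := hrb₀.2.1
  have hb₀1 := prel_ne_right hs.1 hrb₀
  have hb₀p : b₀ ^ p = 1 := (prel_pow_eq_one_iff hs hrb₀ p).1 hz₀p
  have hBp : ∀ b ∈ B, b ^ p = 1 := by
    intro b₁ hb₁
    by_contra hb₁p
    obtain ⟨c₁, hc₁, hc₁p⟩ := (hdich b₁ hb₁).resolve_left hb₁p
    have h12 : (b₁ * b₀) ^ p ≠ 1 := by
      rw [(show Commute b₁ b₀ from hcomm b₁ hb₁ b₀ hb₀).mul_pow, hb₀p, mul_one]
      exact hb₁p
    obtain ⟨c₂, hc₂, hc₂p⟩ := (hdich (b₁ * b₀) (B.mul_mem hb₁ hb₀)).resolve_left h12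
    apply hno b₀ hb₀ hb₀1 hb₀p (c₁⁻¹ * c₂) (B.mul_mem (B.inv_mem hc₁) hc₂)
    rw [(show Commute c₁⁻¹ c₂ from hcomm c₁⁻¹ (B.inv_mem hc₁) c₂ hc₂).mul_pow, inv_pow, hc₁p, hc₂p]
    group
  intro a ha
  by_cases ha1 : a = 1
  · rw [ha1, one_pow]
  obtain ⟨b, hr⟩ := prel_exists_right hs.1 ha ha1
  exact (prel_pow_eq_one_iff hs hr p).2 (hBp b hr.2.1)

end Special

/-- S5021 for pairs -/
theorem special_elementary_or_divisible (hs : IsSpecialRankOnePair A B)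
    (hab : HasAbelianUnipotents A B) :
    (∃ p : ℕ, p.Prime ∧ IsElementaryAbelian p A) ∨
    ((∀ a ∈ A, a ≠ 1 → ¬ IsOfFinOrder a) ∧ ∀ a ∈ A, ∀ n : ℕ, 0 < n → ∃ c ∈ A, c ^ n = a) := by
  by_cases ht : ∃ m, 0 < m ∧ ∃ z ∈ A, z ≠ 1 ∧ z ^ m = 1
  · left
    obtain ⟨p, hp, hall⟩ := special_elementary hs hab.2 ht
    exact ⟨p, hp, hab.1, hall⟩
  · right
    push Not at ht
    have htf : ∀ z ∈ A, z ≠ 1 → ∀ i, 0 < i → z ^ i ≠ 1 := fun z hz hz1 i hi => ht i hi z hz hz1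
    refine ⟨?_, special_divisible hs htf⟩
    intro a ha ha1 hfin
    rw [isOfFinOrder_iff_pow_eq_one] at hfin
    obtain ⟨n, hn, hn1⟩ := hfin
    exact htf a ha ha1 n hn hn1

end Cfsg.Agent.Lib.Helper83
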