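import Mathlib
import Cfsg.Prelude.Def_RootSubgroups
import Cfsg.Agent.Lib.Helper83.RankOne
import Cfsg.Agent.Lib.Helper83.RootSub
import Cfsg.Agent.Lib.Helper83.Special

set_option autoImplicit false

namespace Cfsg.Agent.Lib.Helper83

open Cfsg
open scoped commutatorElement

variable {G : Type*} [Group G]

/-- three distinct nonidentity elements in a subgroup with more than three elements -/
theorem exists_three_of_card {A : Subgroup G} (h : 3 < ENat.card A) :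
    ∃ e₁ ∈ A, ∃ e₂ ∈ A, ∃ e₃ ∈ A, e₁ ≠ 1 ∧ e₂ ≠ 1 ∧ e₃ ≠ 1 ∧ e₁ ≠ e₂ ∧ e₁ ≠ e₃ ∧ e₂ ≠ e₃ := by
  classical
  have hs : ∃ s : Finset ↥A, s.card = 4 := by
    rcases finite_or_infinite ↥A with hf | hi
    · have := Fintype.ofFinite ↥A
      rw [ENat.card_eq_coe_fintype_card] at h
      have h4 : 4 ≤ (Finset.univ : Finset ↥A).card := by
        rw [Finset.card_univ]
        exact_mod_cast h
      obtain ⟨t, -, ht⟩ := Finset.exists_subset_card_eq h4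
      exact ⟨t, ht⟩
    · exact Infinite.exists_subset_card_eq ↥A 4
  obtain ⟨s, hs4⟩ := hs
  have h3 : 2 < (s.erase 1).card := by
    have := Finset.pred_card_le_card_erase (s := s) (a := (1 : ↥A))
    omega
  obtain ⟨a, ha, b, hb, c, hc, hab, hac, hbc⟩ := Finset.two_lt_card.1 h3
  refine ⟨a, a.2, b, b.2, c, c.2, ?_, ?_, ?_, ?_, ?_, ?_⟩
  · intro h1; exact (Finset.ne_of_mem_erase ha) (Subtype.ext h1)
  · intro h1; exact (Finset.ne_of_mem_erase hb) (Subtype.ext h1)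
  · intro h1; exact (Finset.ne_of_mem_erase hc) (Subtype.ext h1)
  · intro h1; exact hab (Subtype.ext h1)
  · intro h1; exact hac (Subtype.ext h1)
  · intro h1; exact hbc (Subtype.ext h1)

/-- extension by `1` of the abelianization map of `A ⊔ B` -/
noncomputable def abMap (A B : Subgroup G) (g : G) : Abelianization ↥(A ⊔ B) := by
  classical
  exact if h : g ∈ A ⊔ B then Abelianization.of ⟨g, h⟩ else 1

variable {A B : Subgroup G}

theorem abMap_of_mem {g : G} (hg : g ∈ A ⊔ B) : abMap A B g = Abelianization.of ⟨g, hg⟩ := by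
  unfold abMap
  rw [dif_pos hg]

theorem abMap_mul {g g' : G} (hg : g ∈ A ⊔ B) (hg' : g' ∈ A ⊔ B) :
    abMap A B (g * g') = abMap A B g * abMap A B g' := by
  rw [abMap_of_mem hg, abMap_of_mem hg', abMap_of_mem (Subgroup.mul_mem _ hg hg'), ← map_mul]
  rfl

theorem abMap_inv {g : G} (hg : g ∈ A ⊔ B) : abMap A B g⁻¹ = (abMap A B g)⁻¹ := by
  rw [abMap_of_mem hg, abMap_of_mem (Subgroup.inv_mem _ hg), ← map_inv]
  rfl

theorem abMap_conj {g c : G} (hg : g ∈ A ⊔ B) (hc : c ∈ A ⊔ B) :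
    abMap A B (g⁻¹ * c * g) = abMap A B c := by
  rw [abMap_mul (Subgroup.mul_mem _ (Subgroup.inv_mem _ hg) hc) hg,
    abMap_mul (Subgroup.inv_mem _ hg) hc, abMap_inv hg]
  rw [mul_comm, ← mul_assoc, mul_inv_cancel, one_mul]

theorem abMap_eq_one_iff {g : G} (hg : g ∈ A ⊔ B) :
    abMap A B g = 1 ↔ g ∈ ⁅A ⊔ B, A ⊔ B⁆ := by
  rw [abMap_of_mem hg, ← MonoidHom.mem_ker, Abelianization.ker_of,
    ← Subgroup.map_subtype_commutator (A ⊔ B)]
  constructor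
  · intro h; exact ⟨⟨g, hg⟩, h, rfl⟩
  · rintro ⟨⟨g', hg'⟩, h, h2⟩
    have : g' = g := h2
    subst this
    exact h

section Special

variable (hs : IsSpecialRankOnePair A B)
include hs

theorem prel_n_mem {y b : G} (hr : PRel A B y b) : y * b⁻¹ * y ∈ A ⊔ B :=
  Subgroup.mul_mem _ (Subgroup.mul_mem _ (Subgroup.mem_sup_left hr.1)
    (Subgroup.inv_mem _ (Subgroup.mem_sup_right hr.2.1))) (Subgroup.mem_sup_left hr.1)

theorem abMap_partner {y b : G} (hr : PRel A B y b) : abMap A B b = (abMap A B y)⁻¹ := by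
  have h1 := prel_n_conj_left hs hr
  have h2 := abMap_conj (prel_n_mem hs hr) (Subgroup.mem_sup_left hr.1 : y ∈ A ⊔ B)
  rw [h1, abMap_inv (Subgroup.mem_sup_right hr.2.1)] at h2
  rw [← h2, inv_inv]

/-- the key congruence: `x² e ∈ X'` -/
theorem sq_mul_mem_commutator (hA : ∀ x ∈ A, ∀ y ∈ A, x * y = y * x) {x e : G} (hx : x ∈ A) (hx1 : x ≠ 1)
    (he : e ∈ A) (he1 : e ≠ 1) (hxe : x * e ≠ 1) : x * x * e ∈ ⁅A ⊔ B, A ⊔ B⁆ := by
  obtain ⟨bx, hrx⟩ := prel_exists_right hs.1 hx hx1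
  obtain ⟨be, hre⟩ := prel_exists_right hs.1 he he1
  have hxX : x ∈ A ⊔ B := Subgroup.mem_sup_left hx
  have heX : e ∈ A ⊔ B := Subgroup.mem_sup_left he
  have hbxX : bx ∈ A ⊔ B := Subgroup.mem_sup_right hrx.2.1
  have hbeX : be ∈ A ⊔ B := Subgroup.mem_sup_right hre.2.1
  have hnX := prel_n_mem hs hre
  have hsw := (prel_n_swaps hs hre).inv
  rw [inv_inv] at hsw
  have hbb : bx * be ≠ 1 := by
    intro h
    have h1 : bx = be⁻¹ := eq_inv_of_mul_eq_one_left h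
    have h2 := prel_inv hs hre
    rw [← h1] at h2
    have h3 : x = e⁻¹ := prel_unique_left hs.1 hrx h2
    apply hxe
    rw [h3, inv_mul_cancel]
  have huA : (e * be⁻¹ * e)⁻¹ * (bx * be) * (e * be⁻¹ * e) ∈ A :=
    hsw.mem_right' (B.mul_mem hrx.2.1 hre.2.1)
  have hu1 : (e * be⁻¹ * e)⁻¹ * (bx * be) * (e * be⁻¹ * e) ≠ 1 := by
    intro h
    apply hbb
    have : bx * be = (e * be⁻¹ * e) * ((e * be⁻¹ * e)⁻¹ * (bx * be) * (e * be⁻¹ * e)) * (e * be⁻¹ * e)⁻¹ := by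
      group
    rw [this, h]; group
  obtain ⟨v, hrv⟩ := prel_exists_right hs.1 huA hu1
  have hmul := prel_mul hs hre hrx hrv
  have hvX : v ∈ A ⊔ B := Subgroup.mem_sup_right hrv.2.1
  have e1 := abMap_partner hs hmul
  have e2 := abMap_partner hs hrv
  have e3 := abMap_partner hs hrx
  have e4 := abMap_partner hs hre
  rw [abMap_conj hnX (Subgroup.mul_mem _ hbxX hbeX), abMap_mul hbxX hbeX, e3, e4] at e2
  rw [abMap_mul hvX hbeX, e2, e4, abMap_mul hxX heX] at e1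
  rw [← abMap_eq_one_iff (Subgroup.mul_mem _ (Subgroup.mul_mem _ hxX hxX) heX),
    abMap_mul (Subgroup.mul_mem _ hxX hxX) heX, abMap_mul hxX hxX]
  obtain ⟨p, hp⟩ : ∃ p, p = abMap A B x := ⟨_, rfl⟩
  obtain ⟨q, hq⟩ : ∃ q, q = abMap A B e := ⟨_, rfl⟩
  rw [← hp, ← hq] at e1 ⊢
  -- e1 : (p⁻¹ * q⁻¹)⁻¹ * q⁻¹ = (p * q)⁻¹
  have e5 : p * q * ((p⁻¹ * q⁻¹)⁻¹ * q⁻¹) = 1 := by rw [e1, mul_inv_cancel]
  rw [← e5]
  simp only [mul_inv_rev, inv_inv]
  rw [mul_comm q p, mul_inv_cancel_right]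
  ac_rfl

/-- special rank one pair with abelian unipotent subgroups, `|A| > 3`: `A ≤ ⟨A, B⟩'` -/
theorem special_le_commutator (hA : ∀ x ∈ A, ∀ y ∈ A, x * y = y * x) (hcard : 3 < ENat.card A) :
    A ≤ ⁅A ⊔ B, A ⊔ B⁆ := by
  obtain ⟨e₁, h₁, e₂, h₂, e₃, h₃, n₁, n₂, n₃, n₁₂, n₁₃, n₂₃⟩ := exists_three_of_card hcard
  -- two distinct elements `e, e'` of `A#` different from `e₁⁻¹`
  have hex : ∃ e ∈ A, ∃ e' ∈ A, e ≠ 1 ∧ e' ≠ 1 ∧ e ≠ e' ∧ e₁ * e ≠ 1 ∧ e₁ * e' ≠ 1 := by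
    by_cases h12 : e₁ * e₂ = 1
    · refine ⟨e₁, h₁, e₃, h₃, n₁, n₃, n₁₃, ?_, ?_⟩
      · intro h
        apply n₁₂
        exact (mul_left_cancel (h.trans h12.symm))
      · intro h
        apply n₂₃
        exact mul_left_cancel (h12.trans h.symm)
    · by_cases h13 : e₁ * e₃ = 1
      · refine ⟨e₁, h₁, e₂, h₂, n₁, n₂, n₁₂, ?_, h12⟩
        intro h
        apply n₁₃
        exact mul_left_cancel (h.trans h13.symm)
      · exact ⟨e₂, h₂, e₃, h₃, n₂, n₃, n₂₃, h12, h13⟩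
  obtain ⟨e, he, e', he', ne1, ne'1, nee', hxe, hxe'⟩ := hex
  have k1 := sq_mul_mem_commutator hs hA h₁ n₁ he ne1 hxe
  have k2 := sq_mul_mem_commutator hs hA h₁ n₁ he' ne'1 hxe'
  -- z = e⁻¹ e' ∈ A ∩ X', z ≠ 1
  have hz : e⁻¹ * e' ∈ ⁅A ⊔ B, A ⊔ B⁆ := by
    have : e⁻¹ * e' = (e₁ * e₁ * e)⁻¹ * (e₁ * e₁ * e') := by group
    rw [this]
    exact Subgroup.mul_mem _ (Subgroup.inv_mem _ k1) k2
  have hzA : e⁻¹ * e' ∈ A := A.mul_mem (A.inv_mem he) he'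
  have hz1 : e⁻¹ * e' ≠ 1 := by
    intro h
    apply nee'
    have := congrArg (fun t => e * t) h
    simpa using this.symm
  obtain ⟨z, hzdef⟩ : ∃ z, z = e⁻¹ * e' := ⟨_, rfl⟩
  rw [← hzdef] at hz hzA hz1
  intro y hy
  by_cases hy1 : y = 1
  · rw [hy1]; exact Subgroup.one_mem _
  by_cases hzy : z * y = 1
  · have : y = z⁻¹ := by
      have := congrArg (fun t => z⁻¹ * t) hzy
      simpa using this
    rw [this]
    exact Subgroup.inv_mem _ hz
  · have k3 := sq_mul_mem_commutator hs hA hzA hz1 hy hy1 hzy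
    have : y = (z * z)⁻¹ * (z * z * y) := by group
    rw [this]
    exact Subgroup.mul_mem _ (Subgroup.inv_mem _ (Subgroup.mul_mem _ hz hz)) k3

end Special

end Cfsg.Agent.Lib.Helper83
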