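import Mathlib
import Cfsg.Prelude.Def_RootSubgroups
import Cfsg.Agent.Lib.Helper83.RankOne
import Cfsg.Agent.Lib.Helper83.RootSub
import Cfsg.Agent.Lib.Helper83.RootSub4
import Cfsg.Agent.Lib.Helper83.RootSub5
import Cfsg.Agent.Lib.Helper83.Line

set_option autoImplicit false

namespace Cfsg.Agent.Lib.Helper83

open Cfsg
open scoped commutatorElement

variable {G : Type*} [Group G]

/-- elements of the normalizer of `N` commuting with all of `R` modulo `N` -/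
def commModLeft (N R : Subgroup G) : Subgroup G where
  carrier := {x | x ∈ Subgroup.normalizer (N : Set G) ∧ ∀ y ∈ R, ⁅x, y⁆ ∈ N}
  one_mem' := ⟨Subgroup.one_mem _, fun y _ => by rw [commutatorElement_one_left]; exact N.one_mem⟩
  mul_mem' := by
    rintro x₁ x₂ ⟨h1, c1⟩ ⟨h2, c2⟩
    refine ⟨Subgroup.mul_mem _ h1 h2, fun y hy => ?_⟩
    rw [commutatorElement_mul_left_eq_conj_mul]
    refine N.mul_mem ?_ (c1 y hy)
    have := (Subgroup.mem_normalizer_iff.1 h1 ⁅x₂, y⁆).1 (c2 y hy)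
    simpa using this
  inv_mem' := by
    rintro x ⟨h1, c1⟩
    refine ⟨Subgroup.inv_mem _ h1, fun y hy => ?_⟩
    rw [commutatorElement_inv_left]
    have h2 : ⁅y, x⁆ ∈ N := by rw [← commutatorElement_inv]; exact N.inv_mem (c1 y hy)
    have := (Subgroup.mem_normalizer_iff.1 (Subgroup.inv_mem _ h1) ⁅y, x⁆).1 h2
    simpa using this

theorem commutator_sup_left_le {N K₁ K₂ R : Subgroup G}
    (h1 : K₁ ≤ Subgroup.normalizer (N : Set G)) (h2 : K₂ ≤ Subgroup.normalizer (N : Set G))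
    (c1 : ⁅K₁, R⁆ ≤ N) (c2 : ⁅K₂, R⁆ ≤ N) : ⁅K₁ ⊔ K₂, R⁆ ≤ N := by
  have hle : K₁ ⊔ K₂ ≤ commModLeft N R := by
    apply sup_le
    · intro x hx
      exact ⟨h1 hx, fun y hy => c1 (Subgroup.commutator_mem_commutator hx hy)⟩
    · intro x hx
      exact ⟨h2 hx, fun y hy => c2 (Subgroup.commutator_mem_commutator hx hy)⟩
  rw [Subgroup.commutator_le]
  intro x hx y hy
  exact (hle hx).2 y hy

theorem commutator_sup_right_le {N K R₁ R₂ : Subgroup G}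
    (h1 : R₁ ≤ Subgroup.normalizer (N : Set G)) (h2 : R₂ ≤ Subgroup.normalizer (N : Set G))
    (c1 : ⁅K, R₁⁆ ≤ N) (c2 : ⁅K, R₂⁆ ≤ N) : ⁅K, R₁ ⊔ R₂⁆ ≤ N := by
  rw [Subgroup.commutator_comm]
  apply commutator_sup_left_le h1 h2
  · rw [Subgroup.commutator_comm]; exact c1
  · rw [Subgroup.commutator_comm]; exact c2

theorem sup_le_centralizer_sup {A₁ A₂ B₁ B₂ : Subgroup G}
    (h11 : A₁ ≤ Subgroup.centralizer (B₁ : Set G)) (h12 : A₁ ≤ Subgroup.centralizer (B₂ : Set G))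
    (h21 : A₂ ≤ Subgroup.centralizer (B₁ : Set G)) (h22 : A₂ ≤ Subgroup.centralizer (B₂ : Set G)) :
    A₁ ⊔ A₂ ≤ Subgroup.centralizer ((B₁ ⊔ B₂ : Subgroup G) : Set G) := by
  apply le_centralizer_symm
  apply sup_le
  · apply le_centralizer_symm
    exact sup_le h11 h21
  · apply le_centralizer_symm
    exact sup_le h12 h22

/-- nilpotency from a descending central series given inside the ambient group -/
theorem isNilpotent_of_series {R : Subgroup G} (K : ℕ → Subgroup G) (n : ℕ) (h0 : R ≤ K 0)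
    (hn : K n = ⊥) (hstep : ∀ i, ∀ x ∈ K i, x ∈ R → ∀ y ∈ R, ⁅x, y⁆ ∈ K (i + 1)) :
    Group.IsNilpotent R := by
  rw [Subgroup.nilpotent_iff_finite_descending_central_series]
  refine ⟨n, fun i => (K i).subgroupOf R, ⟨?_, ?_⟩, ?_⟩
  · rw [Subgroup.subgroupOf_eq_top]; exact h0
  · intro x i hx g
    rw [Subgroup.mem_subgroupOf] at hx ⊢
    have := hstep i x hx x.2 g g.2
    simpa [commutatorElement_def] using this
  · show (K n).subgroupOf R = ⊥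
    rw [hn]; simp

theorem commutator_le_centralizer' {H K Z : Subgroup G} (hH : H ≤ Subgroup.centralizer (Z : Set G))
    (hK : K ≤ Subgroup.centralizer (Z : Set G)) : ⁅H, K⁆ ≤ Subgroup.centralizer (Z : Set G) :=
  (Subgroup.commutator_le_sup H K).trans (sup_le hH hK)

theorem commutator_le_of_le_centralizer {H K N : Subgroup G}
    (h : H ≤ Subgroup.centralizer (K : Set G)) : ⁅H, K⁆ ≤ N := by
  rw [Subgroup.commutator_eq_bot_iff_le_centralizer.2 h]; exact bot_le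

/-- The configuration of S5030: `⁅A, B⁆, ⁅B, C⁆ ∈ S`, `A ≠ C` commuting. -/
structure TripleCfg (S : Set (Subgroup G)) (A B C : Subgroup G) : Prop where
  hS : IsRootSubgroupSet S
  hA : A ∈ S
  hB : B ∈ S
  hC : C ∈ S
  cAB : RootCommutatorCase S A B
  cBC : RootCommutatorCase S B C
  hAC : A ≤ Subgroup.centralizer (C : Set G)

namespace TripleCfg

variable {S : Set (Subgroup G)} {A B C : Subgroup G}

theorem symm (T : TripleCfg S A B C) : TripleCfg S C B A where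
  hS := T.hS
  hA := T.hC
  hB := T.hB
  hC := T.hA
  cAB := by
    apply commCase_of_mem T.hS T.hC T.hB
    rw [Subgroup.commutator_comm]; exact T.cBC.1
  cBC := by
    apply commCase_of_mem T.hS T.hB T.hA
    rw [Subgroup.commutator_comm]; exact T.cAB.1
  hAC := le_centralizer_symm T.hAC

theorem A_comm (T : TripleCfg S A B C) : A ≤ Subgroup.centralizer (A : Set G) :=
  le_centralizer_self_of_comm (T.hS.commutative A T.hA)

theorem B_comm (T : TripleCfg S A B C) : B ≤ Subgroup.centralizer (B : Set G) :=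
  le_centralizer_self_of_comm (T.hS.commutative B T.hB)

theorem C_comm (T : TripleCfg S A B C) : C ≤ Subgroup.centralizer (C : Set G) :=
  le_centralizer_self_of_comm (T.hS.commutative C T.hC)

theorem D_comm (T : TripleCfg S A B C) : ⁅A, B⁆ ≤ Subgroup.centralizer ((⁅A, B⁆ : Subgroup G) : Set G) :=
  le_centralizer_self_of_comm (T.hS.commutative _ T.cAB.1)

theorem F_comm (T : TripleCfg S A B C) : ⁅B, C⁆ ≤ Subgroup.centralizer ((⁅B, C⁆ : Subgroup G) : Set G) :=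
  le_centralizer_self_of_comm (T.hS.commutative _ T.cBC.1)

theorem A_D (T : TripleCfg S A B C) : A ≤ Subgroup.centralizer ((⁅A, B⁆ : Subgroup G) : Set G) :=
  commCase_left_le_centralizer T.cAB

theorem B_D (T : TripleCfg S A B C) : B ≤ Subgroup.centralizer ((⁅A, B⁆ : Subgroup G) : Set G) :=
  commCase_right_le_centralizer T.cAB

theorem B_F (T : TripleCfg S A B C) : B ≤ Subgroup.centralizer ((⁅B, C⁆ : Subgroup G) : Set G) :=
  commCase_left_le_centralizer T.cBC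

theorem C_F (T : TripleCfg S A B C) : C ≤ Subgroup.centralizer ((⁅B, C⁆ : Subgroup G) : Set G) :=
  commCase_right_le_centralizer T.cBC

/-- L1 -/
theorem conj_A_le (T : TripleCfg S A B C) {b : G} (hb : b ∈ B) : conjBy A b⁻¹ ≤ A ⊔ ⁅A, B⁆ := by
  intro x hx
  rw [mem_conjBy, inv_inv] at hx
  have h1 : x = (b * x * b⁻¹) * ⁅(b * x * b⁻¹)⁻¹, b⁻¹⁆ := by
    rw [commutatorElement_def]; group
  rw [h1]
  exact Subgroup.mul_mem _ (Subgroup.mem_sup_left hx)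
    (Subgroup.mem_sup_right (Subgroup.commutator_mem_commutator (A.inv_mem hx) (B.inv_mem hb)))

theorem conj_C_le (T : TripleCfg S A B C) {b : G} (hb : b ∈ B) : conjBy C b⁻¹ ≤ C ⊔ ⁅B, C⁆ := by
  have := T.symm.conj_A_le hb
  rwa [Subgroup.commutator_comm C B] at this

/-- L2 -/
theorem A_sup_conj (T : TripleCfg S A B C) {b : G} (hb : b ∈ B) (hb1 : b ≠ 1) :
    A ⊔ conjBy A b⁻¹ = A ⊔ ⁅A, B⁆ := by
  apply le_antisymm
  · exact sup_le le_sup_left (T.conj_A_le hb)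
  · apply sup_le le_sup_left
    have hb1' : b⁻¹ ≠ 1 := by simpa using hb1
    rw [← T.cAB.2.2.2 b⁻¹ (B.inv_mem hb) hb1', Subgroup.closure_le]
    rintro _ ⟨a, ha, rfl⟩
    have h1 : a * b⁻¹ * a⁻¹ * b⁻¹⁻¹ = a * (b⁻¹ * a⁻¹ * b⁻¹⁻¹) := by group
    show a * b⁻¹ * a⁻¹ * b⁻¹⁻¹ ∈ A ⊔ conjBy A b⁻¹
    rw [h1]
    exact Subgroup.mul_mem _ (Subgroup.mem_sup_left ha)
      (Subgroup.mem_sup_right (conj_mem_conjBy (A.inv_mem ha)))

theorem C_sup_conj (T : TripleCfg S A B C) {b : G} (hb : b ∈ B) (hb1 : b ≠ 1) :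
    C ⊔ conjBy C b⁻¹ = C ⊔ ⁅B, C⁆ := by
  have := T.symm.A_sup_conj hb hb1
  rwa [Subgroup.commutator_comm C B] at this

/-- L3: `(A, ⁅B, C⁆)` is not a rank one pair -/
theorem not_rop_A_F (T : TripleCfg S A B C) : ¬ IsRankOnePair A ⁅B, C⁆ := by
  intro hr
  have hFne := T.hS.ne_bot _ T.cBC.1
  -- find b₀, c with ⁅b₀, c⁆ ≠ 1
  have hex : ∃ b₀ ∈ B, ∃ c ∈ C, ⁅b₀, c⁆ ≠ 1 := by
    by_contra hcon
    push Not at hcon
    apply hFne
    rw [Subgroup.commutator_eq_bot_iff_le_centralizer]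
    intro b₀ hb₀
    rw [Subgroup.mem_centralizer_iff]
    intro c hc
    have := hcon b₀ hb₀ c hc
    rw [commutatorElement_eq_one_iff_mul_comm] at this
    exact this.symm
  obtain ⟨b₀, hb₀, c, hc, hne⟩ := hex
  have hc1 : c ≠ 1 := by
    rintro rfl
    exact hne (commutatorElement_one_right _)
  have hfF : ⁅b₀, c⁆ ∈ ⁅B, C⁆ := Subgroup.commutator_mem_commutator hb₀ hc
  have hz : c ∈ Subgroup.centralizer ((⁅B, C⁆ ⊔ A : Subgroup G) : Set G) := by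
    have : C ≤ Subgroup.centralizer ((⁅B, C⁆ ⊔ A : Subgroup G) : Set G) := by
      apply le_centralizer_symm
      exact sup_le (le_centralizer_symm T.C_F) T.hAC
    exact this hc
  apply central_translate_not_root T.hS T.cBC.1 T.hA (RankOnePair_symm hr) hz hc1 _ hfF hne
  have h1 : c * ⁅b₀, c⁆ = b₀ * c * b₀⁻¹ := by
    have hcomm := commCase_comm_right T.cBC hfF hc
    rw [← hcomm, commutatorElement_def]; group
  rw [h1]
  refine ⟨?_, conjBy C b₀, T.hS.conj_mem C T.hC b₀, conj_mem_conjBy hc⟩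
  intro h2
  apply hc1
  have h3 : c = b₀⁻¹ * (b₀ * c * b₀⁻¹) * b₀ := by group
  rw [h3, h2]; group

/-- L4: `⁅A, ⁅B, C⁆⁆` is central in `A ⊔ ⁅B, C⁆` -/
theorem W1_central (T : TripleCfg S A B C) :
    ⁅A, ⁅B, C⁆⁆ ≤ Subgroup.centralizer ((A ⊔ ⁅B, C⁆ : Subgroup G) : Set G) := by
  rcases T.hS.pair A T.hA _ T.cBC.1 with h | h | h
  · rw [h]; exact bot_le
  · exact absurd h T.not_rop_A_F
  · exact commCase_centralizes h

/-- L5, one direction -/
theorem W2_bot_of_W1_bot (T : TripleCfg S A B C) (h : ⁅A, ⁅B, C⁆⁆ = ⊥) : ⁅⁅A, B⁆, C⁆ = ⊥ := by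
  rw [Subgroup.commutator_eq_bot_iff_le_centralizer] at h ⊢
  rw [Subgroup.commutator_le]
  intro a ha b hb
  rw [Subgroup.mem_centralizer_iff]
  intro c hc
  -- f' = ⁅c, b⁆ ∈ F commutes with a and b
  have hf : ⁅c, b⁆ ∈ ⁅B, C⁆ := by
    rw [Subgroup.commutator_comm]; exact Subgroup.commutator_mem_commutator hc hb
  have hfa : a * ⁅c, b⁆ = ⁅c, b⁆ * a := by
    have := Subgroup.mem_centralizer_iff.1 (h ha) _ hf
    exact this.symm
  have hfb : b * ⁅c, b⁆ = ⁅c, b⁆ * b := (commCase_comm_left T.cBC hf hb).symm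
  have hac : a * c = c * a := by
    have := Subgroup.mem_centralizer_iff.1 (T.hAC ha) c hc
    exact this.symm
  -- c * ⁅a,b⁆ * c⁻¹ = ⁅a, f' b⁆ = ⁅a,b⁆
  have h1 : c * ⁅a, b⁆ * c⁻¹ = ⁅c * a * c⁻¹, c * b * c⁻¹⁆ := conjugate_commutatorElement a b c
  have h2 : c * a * c⁻¹ = a := by rw [← hac]; group
  have h3 : c * b * c⁻¹ = ⁅c, b⁆ * b := by rw [commutatorElement_def]; group
  have h4 : ⁅a, ⁅c, b⁆ * b⁆ = ⁅a, b⁆ := by
    set f := ⁅c, b⁆ with hfdef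
    rw [commutatorElement_def, commutatorElement_def]
    have e1 : a * (f * b) * a⁻¹ * (f * b)⁻¹ = (a * f) * (b * a⁻¹ * b⁻¹) * f⁻¹ := by group
    rw [e1, hfa]
    have hfb' : f * (b * a⁻¹ * b⁻¹) = (b * a⁻¹ * b⁻¹) * f := by
      have hfa' : f * a⁻¹ = a⁻¹ * f := by
        have := congrArg (fun t => a⁻¹ * t * a⁻¹) hfa
        simpa [mul_assoc] using this
      have hfb'' : f * b⁻¹ = b⁻¹ * f := by
        have := congrArg (fun t => b⁻¹ * t * b⁻¹) hfb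
        simpa [mul_assoc] using this
      calc f * (b * a⁻¹ * b⁻¹) = (f * b) * a⁻¹ * b⁻¹ := by group
        _ = (b * f) * a⁻¹ * b⁻¹ := by rw [hfb]
        _ = b * (f * a⁻¹) * b⁻¹ := by group
        _ = b * (a⁻¹ * f) * b⁻¹ := by rw [hfa']
        _ = b * a⁻¹ * (f * b⁻¹) := by group
        _ = b * a⁻¹ * (b⁻¹ * f) := by rw [hfb'']
        _ = (b * a⁻¹ * b⁻¹) * f := by group
    calc f * a * (b * a⁻¹ * b⁻¹) * f⁻¹ = f * a * ((b * a⁻¹ * b⁻¹) * f⁻¹) := by group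
      _ = f * a * (f⁻¹ * (b * a⁻¹ * b⁻¹)) := by
        congr 1
        have := congrArg (fun t => f⁻¹ * t * f⁻¹) hfb'
        simpa [mul_assoc] using this
      _ = (f * a * f⁻¹) * (b * a⁻¹ * b⁻¹) := by group
      _ = a * (b * a⁻¹ * b⁻¹) := by rw [← hfa]; group
      _ = a * b * a⁻¹ * b⁻¹ := by group
  rw [h2, h3, h4] at h1
  have := congrArg (fun t => t * c) h1
  simpa [mul_assoc] using this

theorem W1_bot_iff (T : TripleCfg S A B C) : ⁅A, ⁅B, C⁆⁆ = ⊥ ↔ ⁅⁅A, B⁆, C⁆ = ⊥ := by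
  constructor
  · exact T.W2_bot_of_W1_bot
  · intro h
    have h1 : ⁅C, ⁅B, A⁆⁆ = ⊥ := by
      rw [Subgroup.commutator_comm B A, Subgroup.commutator_comm C]; exact h
    have := T.symm.W2_bot_of_W1_bot h1
    rw [Subgroup.commutator_comm C B, Subgroup.commutator_comm] at this
    exact this

/-- X1 -/
theorem X_le (T : TripleCfg S A B C) {b : G} (hb : b ∈ B) :
    A ⊔ conjBy C b⁻¹ ≤ (A ⊔ ⁅B, C⁆) ⊔ C := by
  apply sup_le (le_sup_left.trans le_sup_left)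
  apply (T.conj_C_le hb).trans
  exact sup_le le_sup_right (le_sup_right.trans le_sup_left)

/-- X2 -/
theorem W1_central' (T : TripleCfg S A B C) :
    ⁅A, ⁅B, C⁆⁆ ≤ Subgroup.centralizer (((A ⊔ ⁅B, C⁆) ⊔ C : Subgroup G) : Set G) := by
  apply le_centralizer_symm
  apply sup_le (le_centralizer_symm T.W1_central)
  apply le_centralizer_symm
  exact commutator_le_centralizer' T.hAC (le_centralizer_symm T.C_F)

/-- X3 -/
theorem T1_comm (T : TripleCfg S A B C) :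
    ⁅(A ⊔ ⁅B, C⁆) ⊔ C, (A ⊔ ⁅B, C⁆) ⊔ C⁆ ≤ ⁅A, ⁅B, C⁆⁆ := by
  have hcen := le_centralizer_symm T.W1_central'
  have hnorm : (A ⊔ ⁅B, C⁆) ⊔ C ≤ Subgroup.normalizer ((⁅A, ⁅B, C⁆⁆ : Subgroup G) : Set G) :=
    hcen.trans (Subgroup.centralizer_le_normalizer _)
  have hA : A ≤ Subgroup.normalizer ((⁅A, ⁅B, C⁆⁆ : Subgroup G) : Set G) :=
    (le_sup_left.trans le_sup_left).trans hnorm
  have hF : ⁅B, C⁆ ≤ Subgroup.normalizer ((⁅A, ⁅B, C⁆⁆ : Subgroup G) : Set G) :=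
    (le_sup_right.trans le_sup_left).trans hnorm
  have hC : C ≤ Subgroup.normalizer ((⁅A, ⁅B, C⁆⁆ : Subgroup G) : Set G) :=
    le_sup_right.trans hnorm
  have key : ∀ K : Subgroup G, ⁅A, K⁆ ≤ ⁅A, ⁅B, C⁆⁆ → ⁅⁅B, C⁆, K⁆ ≤ ⁅A, ⁅B, C⁆⁆ → ⁅C, K⁆ ≤ ⁅A, ⁅B, C⁆⁆ →
      ⁅(A ⊔ ⁅B, C⁆) ⊔ C, K⁆ ≤ ⁅A, ⁅B, C⁆⁆ := by
    intro K h1 h2 h3
    exact commutator_sup_left_le (sup_le hA hF) hC (commutator_sup_left_le hA hF h1 h2) h3
  apply key
  · apply commutator_sup_right_le (sup_le hA hF) hC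
    · apply commutator_sup_right_le hA hF
      · exact commutator_le_of_le_centralizer T.A_comm
      · exact le_rfl
    · exact commutator_le_of_le_centralizer T.hAC
  · apply commutator_sup_right_le (sup_le hA hF) hC
    · apply commutator_sup_right_le hA hF
      · rw [Subgroup.commutator_comm]
      · exact commutator_le_of_le_centralizer T.F_comm
    · exact commutator_le_of_le_centralizer (le_centralizer_symm T.C_F)
  · apply commutator_sup_right_le (sup_le hA hF) hC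
    · apply commutator_sup_right_le hA hF
      · exact commutator_le_of_le_centralizer (le_centralizer_symm T.hAC)
      · exact commutator_le_of_le_centralizer T.C_F
    · exact commutator_le_of_le_centralizer T.C_comm

theorem XX_le (T : TripleCfg S A B C) {b : G} (hb : b ∈ B) :
    ⁅A ⊔ conjBy C b⁻¹, A ⊔ conjBy C b⁻¹⁆ ≤ ⁅A, ⁅B, C⁆⁆ :=
  (Subgroup.commutator_mono (T.X_le hb) (T.X_le hb)).trans T.T1_comm

/-- X4 -/
theorem X_class2 (T : TripleCfg S A B C) {b : G} (hb : b ∈ B) :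
    ⁅⁅A ⊔ conjBy C b⁻¹, A ⊔ conjBy C b⁻¹⁆, A ⊔ conjBy C b⁻¹⁆ = ⊥ := by
  rw [Subgroup.commutator_eq_bot_iff_le_centralizer]
  apply (T.XX_le hb).trans
  apply T.W1_central'.trans
  exact Subgroup.centralizer_le (T.X_le hb)

/-- X6 -/
theorem W1_le_XX (T : TripleCfg S A B C) {b : G} (hb : b ∈ B) (hb1 : b ≠ 1) :
    ⁅A, ⁅B, C⁆⁆ ≤ ⁅A, conjBy C b⁻¹⁆ := by
  rw [Subgroup.commutator_le]
  intro a ha f hf
  have hb1' : b⁻¹ ≠ 1 := by simpa using hb1
  obtain ⟨c, hc, hcf⟩ := commCase_surj_right T.cBC (B.inv_mem hb) hb1' f hf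
  have hac : ⁅a, c⁆ = 1 := by
    rw [commutatorElement_eq_one_iff_mul_comm]
    exact (Subgroup.mem_centralizer_iff.1 (T.hAC ha) c hc).symm
  have h1 : ⁅a, f⁆ = ⁅a, b⁻¹ * c * b⁻¹⁻¹⁆ := by
    have h2 : b⁻¹ * c * b⁻¹⁻¹ = f * c := by rw [← hcf, commutatorElement_def]; group
    rw [h2, commutatorElement_mul_right_eq_mul_conj, hac]; group
  rw [h1]
  exact Subgroup.commutator_mem_commutator ha (conj_mem_conjBy hc)

/-- X5 -/
theorem X_comm_iff (T : TripleCfg S A B C) {b : G} (hb : b ∈ B) (hb1 : b ≠ 1) :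
    IsMulCommutative ↥(A ⊔ conjBy C b⁻¹) ↔ ⁅A, ⁅B, C⁆⁆ = ⊥ := by
  rw [← Subgroup.commutator_self_eq_bot_iff]
  constructor
  · intro h
    rw [eq_bot_iff, ← h]
    exact (T.W1_le_XX hb hb1).trans (Subgroup.commutator_mono le_sup_left le_sup_right)
  · intro h
    rw [eq_bot_iff, ← h]
    exact T.XX_le hb

/-- part (b) -/
theorem XY_comm (T : TripleCfg S A B C) {b : G} (hb : b ∈ B) :
    A ⊔ conjBy C b⁻¹ ≤ Subgroup.centralizer ((conjBy A b⁻¹ ⊔ C : Subgroup G) : Set G) := by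
  apply sup_le_centralizer_sup
  · apply le_centralizer_symm
    apply (T.conj_A_le hb).trans
    exact sup_le T.A_comm (le_centralizer_symm T.A_D)
  · exact T.hAC
  · exact le_centralizer_conj b⁻¹ (le_centralizer_symm T.hAC)
  · apply le_centralizer_symm
    apply le_centralizer_symm
    apply (T.conj_C_le hb).trans
    exact sup_le T.C_comm (le_centralizer_symm T.C_F)

/-- M -/
theorem M_eq (T : TripleCfg S A B C) {b : G} (hb : b ∈ B) (hb1 : b ≠ 1) :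
    (A ⊔ conjBy C b⁻¹) ⊔ (conjBy A b⁻¹ ⊔ C) = (A ⊔ ⁅A, B⁆) ⊔ (C ⊔ ⁅B, C⁆) := by
  rw [← T.A_sup_conj hb hb1, ← T.C_sup_conj hb hb1]
  rw [sup_comm (conjBy A b⁻¹) C]
  exact sup_sup_sup_comm A (conjBy C b⁻¹) C (conjBy A b⁻¹) |>.trans (by
    rw [sup_comm (conjBy C b⁻¹) (conjBy A b⁻¹)]
    rw [sup_sup_sup_comm A C (conjBy A b⁻¹) (conjBy C b⁻¹)])

theorem W1_cent_M (T : TripleCfg S A B C) {b : G} (hb : b ∈ B) (hb1 : b ≠ 1) :
    ⁅A, ⁅B, C⁆⁆ ≤ Subgroup.centralizer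
      (((A ⊔ conjBy C b⁻¹) ⊔ (conjBy A b⁻¹ ⊔ C) : Subgroup G) : Set G) := by
  apply le_centralizer_symm
  apply sup_le
  · apply le_centralizer_symm
    exact T.W1_central'.trans (Subgroup.centralizer_le (T.X_le hb))
  · apply le_centralizer_symm
    have : ⁅A, ⁅B, C⁆⁆ ≤ A ⊔ conjBy C b⁻¹ :=
      (T.W1_le_XX hb hb1).trans (Subgroup.commutator_le_sup _ _)
    exact this.trans (T.XY_comm hb)

theorem W2_cent_M (T : TripleCfg S A B C) {b : G} (hb : b ∈ B) (hb1 : b ≠ 1) :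
    ⁅⁅A, B⁆, C⁆ ≤ Subgroup.centralizer
      (((A ⊔ conjBy C b⁻¹) ⊔ (conjBy A b⁻¹ ⊔ C) : Subgroup G) : Set G) := by
  have := T.symm.W1_cent_M hb hb1
  rw [Subgroup.commutator_comm B A, Subgroup.commutator_comm C, sup_comm C, sup_comm (conjBy C b⁻¹) A,
    sup_comm (conjBy A b⁻¹ ⊔ C)] at this
  exact this

theorem YY_le (T : TripleCfg S A B C) {b : G} (hb : b ∈ B) :
    ⁅conjBy A b⁻¹ ⊔ C, conjBy A b⁻¹ ⊔ C⁆ ≤ ⁅⁅A, B⁆, C⁆ := by
  have := T.symm.XX_le hb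
  rw [Subgroup.commutator_comm B A, Subgroup.commutator_comm C ⁅A, B⁆, sup_comm C] at this
  exact this

theorem MM_le (T : TripleCfg S A B C) {b : G} (hb : b ∈ B) (hb1 : b ≠ 1) :
    ⁅(A ⊔ conjBy C b⁻¹) ⊔ (conjBy A b⁻¹ ⊔ C), (A ⊔ conjBy C b⁻¹) ⊔ (conjBy A b⁻¹ ⊔ C)⁆ ≤
      ⁅A, ⁅B, C⁆⁆ ⊔ ⁅⁅A, B⁆, C⁆ := by
  have hN : ⁅A, ⁅B, C⁆⁆ ⊔ ⁅⁅A, B⁆, C⁆ ≤ Subgroup.centralizer
      (((A ⊔ conjBy C b⁻¹) ⊔ (conjBy A b⁻¹ ⊔ C) : Subgroup G) : Set G) :=
    sup_le (T.W1_cent_M hb hb1) (T.W2_cent_M hb hb1)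
  have hM := (le_centralizer_symm hN).trans (Subgroup.centralizer_le_normalizer _)
  have hX := le_sup_left.trans hM
  have hY := le_sup_right.trans hM
  apply commutator_sup_left_le hX hY
  · apply commutator_sup_right_le hX hY
    · exact (T.XX_le hb).trans le_sup_left
    · exact commutator_le_of_le_centralizer (T.XY_comm hb)
  · apply commutator_sup_right_le hX hY
    · exact commutator_le_of_le_centralizer (le_centralizer_symm (T.XY_comm hb))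
    · exact (T.YY_le hb).trans le_sup_right

theorem Q_le (T : TripleCfg S A B C) {b : G} (hb : b ∈ B) (hb1 : b ≠ 1) :
    ⁅⁅A, B⁆, ⁅B, C⁆⁆ ≤ ⁅A, ⁅B, C⁆⁆ ⊔ ⁅⁅A, B⁆, C⁆ := by
  refine le_trans (Subgroup.commutator_mono ?_ ?_) (T.MM_le hb hb1)
  · rw [T.M_eq hb hb1]; exact le_sup_right.trans le_sup_left
  · rw [T.M_eq hb hb1]; exact le_sup_right.trans le_sup_right

theorem W1_B (T : TripleCfg S A B C) {b : G} (hb : b ∈ B) (hb1 : b ≠ 1) :
    ⁅⁅A, ⁅B, C⁆⁆, B⁆ ≤ ⁅⁅A, B⁆, ⁅B, C⁆⁆ := by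
  have hN : ⁅A, ⁅B, C⁆⁆ ⊔ ⁅⁅A, B⁆, C⁆ ≤ Subgroup.centralizer
      (((A ⊔ conjBy C b⁻¹) ⊔ (conjBy A b⁻¹ ⊔ C) : Subgroup G) : Set G) :=
    sup_le (T.W1_cent_M hb hb1) (T.W2_cent_M hb hb1)
  have hMQ : (A ⊔ conjBy C b⁻¹) ⊔ (conjBy A b⁻¹ ⊔ C) ≤
      Subgroup.centralizer ((⁅⁅A, B⁆, ⁅B, C⁆⁆ : Subgroup G) : Set G) :=
    (le_centralizer_symm hN).trans (Subgroup.centralizer_le (T.Q_le hb hb1))
  have hW1M : ⁅A, ⁅B, C⁆⁆ ≤ (A ⊔ conjBy C b⁻¹) ⊔ (conjBy A b⁻¹ ⊔ C) :=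
    ((T.W1_le_XX hb hb1).trans (Subgroup.commutator_le_sup _ _)).trans le_sup_left
  have hDM : ⁅A, B⁆ ≤ (A ⊔ conjBy C b⁻¹) ⊔ (conjBy A b⁻¹ ⊔ C) := by
    rw [T.M_eq hb hb1]; exact le_sup_right.trans le_sup_left
  have hle : ⁅A, ⁅B, C⁆⁆ ≤ commModLeft ⁅⁅A, B⁆, ⁅B, C⁆⁆ B := by
    rw [Subgroup.commutator_le]
    intro a ha f hf
    have hx : ⁅a, f⁆ ∈ ⁅A, ⁅B, C⁆⁆ := Subgroup.commutator_mem_commutator ha hf
    have hxn : ⁅a, f⁆ ∈ Subgroup.normalizer ((⁅⁅A, B⁆, ⁅B, C⁆⁆ : Subgroup G) : Set G) :=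
      Subgroup.centralizer_le_normalizer _ (hMQ (hW1M hx))
    refine ⟨hxn, ?_⟩
    intro b' hb'
    have hd : ⁅b', a⁆ ∈ ⁅A, B⁆ := by
      rw [Subgroup.commutator_comm]; exact Subgroup.commutator_mem_commutator hb' ha
    have hq : ⁅⁅b', a⁆, f⁆ ∈ ⁅⁅A, B⁆, ⁅B, C⁆⁆ := Subgroup.commutator_mem_commutator hd hf
    have hb'f : b' * f * b'⁻¹ = f := by
      have := Subgroup.mem_centralizer_iff.1 (T.B_F hb') f hf
      rw [← this]; group
    have hb'a : b' * a * b'⁻¹ = ⁅b', a⁆ * a := by rw [commutatorElement_def]; group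
    have h1 : b' * ⁅a, f⁆ * b'⁻¹ = ⁅⁅b', a⁆ * a, f⁆ := by
      rw [conjugate_commutatorElement, hb'f, hb'a]
    have h3 : ⁅b', a⁆ * ⁅a, f⁆ * ⁅b', a⁆⁻¹ = ⁅a, f⁆ := by
      have := Subgroup.mem_centralizer_iff.1 (T.W1_cent_M hb hb1 hx) _ (hDM hd)
      rw [this]; group
    have h2 : ⁅⁅b', a⁆ * a, f⁆ = ⁅a, f⁆ * ⁅⁅b', a⁆, f⁆ := by
      rw [commutatorElement_mul_left_eq_conj_mul, h3]
    obtain ⟨x, hxdef⟩ : ∃ x, x = ⁅a, f⁆ := ⟨_, rfl⟩
    obtain ⟨q, hqdef⟩ : ∃ q, q = ⁅⁅b', a⁆, f⁆ := ⟨_, rfl⟩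
    rw [← hxdef, ← hqdef] at h2
    rw [← hxdef] at h1
    rw [← hqdef] at hq
    rw [← hxdef] at hxn ⊢
    have h4 : ⁅x, b'⁆ = x * (b' * x * b'⁻¹)⁻¹ := by rw [commutatorElement_def]; group
    rw [h4, h1, h2]
    have h5 : x * (x * q)⁻¹ = x * q⁻¹ * x⁻¹ := by group
    rw [h5]
    exact (Subgroup.mem_normalizer_iff.1 hxn q⁻¹).1 (Subgroup.inv_mem _ hq)
  rw [Subgroup.commutator_le]
  intro w hw b' hb'
  exact (hle hw).2 b' hb'

theorem W2_B (T : TripleCfg S A B C) {b : G} (hb : b ∈ B) (hb1 : b ≠ 1) :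
    ⁅⁅⁅A, B⁆, C⁆, B⁆ ≤ ⁅⁅A, B⁆, ⁅B, C⁆⁆ := by
  have := T.symm.W1_B hb hb1
  rw [Subgroup.commutator_comm B A, Subgroup.commutator_comm C ⁅A, B⁆, Subgroup.commutator_comm C B,
    Subgroup.commutator_comm ⁅B, C⁆ ⁅A, B⁆] at this
  exact this

theorem B_cent_Q (T : TripleCfg S A B C) :
    B ≤ Subgroup.centralizer ((⁅⁅A, B⁆, ⁅B, C⁆⁆ : Subgroup G) : Set G) :=
  le_centralizer_symm (commutator_le_centralizer' (le_centralizer_symm T.B_D) (le_centralizer_symm T.B_F))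

theorem comm_R_le {N K A' B' C' : Subgroup G} (hA : A' ≤ Subgroup.normalizer (N : Set G))
    (hB : B' ≤ Subgroup.normalizer (N : Set G)) (hC : C' ≤ Subgroup.normalizer (N : Set G))
    (h1 : ⁅K, A'⁆ ≤ N) (h2 : ⁅K, B'⁆ ≤ N) (h3 : ⁅K, C'⁆ ≤ N) : ⁅K, A' ⊔ B' ⊔ C'⁆ ≤ N :=
  commutator_sup_right_le (sup_le hA hB) hC (commutator_sup_right_le hA hB h1 h2) h3

/-- part (d): `⟨A, B, C⟩` is nilpotent -/
theorem nilpotent (T : TripleCfg S A B C) {b : G} (hb : b ∈ B) (hb1 : b ≠ 1) :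
    Group.IsNilpotent ↥(A ⊔ B ⊔ C) := by
  obtain ⟨D, hDdef⟩ : ∃ D, D = ⁅A, B⁆ := ⟨_, rfl⟩
  obtain ⟨F, hFdef⟩ : ∃ F, F = ⁅B, C⁆ := ⟨_, rfl⟩
  obtain ⟨W₁, hW₁def⟩ : ∃ W, W = ⁅A, ⁅B, C⁆⁆ := ⟨_, rfl⟩
  obtain ⟨W₂, hW₂def⟩ : ∃ W, W = ⁅⁅A, B⁆, C⁆ := ⟨_, rfl⟩
  obtain ⟨Q, hQdef⟩ : ∃ Q, Q = ⁅⁅A, B⁆, ⁅B, C⁆⁆ := ⟨_, rfl⟩
  obtain ⟨M, hMdef⟩ : ∃ M, M = (A ⊔ conjBy C b⁻¹) ⊔ (conjBy A b⁻¹ ⊔ C) := ⟨_, rfl⟩
  have hMeq : M = (A ⊔ D) ⊔ (C ⊔ F) := by rw [hMdef, hDdef, hFdef]; exact T.M_eq hb hb1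
  have hAM : A ≤ M := by rw [hMeq]; exact le_sup_left.trans le_sup_left
  have hDM : D ≤ M := by rw [hMeq]; exact le_sup_right.trans le_sup_left
  have hCM : C ≤ M := by rw [hMeq]; exact le_sup_left.trans le_sup_right
  have hFM : F ≤ M := by rw [hMeq]; exact le_sup_right.trans le_sup_right
  have hN2M : W₁ ⊔ W₂ ≤ Subgroup.centralizer (M : Set G) := by
    rw [hW₁def, hW₂def, hMdef]
    exact sup_le (T.W1_cent_M hb hb1) (T.W2_cent_M hb hb1)
  have hMN2 : M ≤ Subgroup.centralizer ((W₁ ⊔ W₂ : Subgroup G) : Set G) := le_centralizer_symm hN2M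
  have hQN : Q ≤ W₁ ⊔ W₂ := by rw [hQdef, hW₁def, hW₂def]; exact T.Q_le hb hb1
  have hMQ : M ≤ Subgroup.centralizer (Q : Set G) := hMN2.trans (Subgroup.centralizer_le hQN)
  have hBQ : B ≤ Subgroup.centralizer (Q : Set G) := by rw [hQdef]; exact T.B_cent_Q
  have hW1M : W₁ ≤ M := by
    rw [hW₁def, hMdef]
    exact ((T.W1_le_XX hb hb1).trans (Subgroup.commutator_le_sup _ _)).trans le_sup_left
  have hW2M : W₂ ≤ M := by
    rw [hW₂def]
    exact (Subgroup.commutator_le_sup _ _).trans (sup_le (by rw [← hDdef]; exact hDM) hCM)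
  have hN2M' : W₁ ⊔ W₂ ≤ M := sup_le hW1M hW2M
  have hN2B : ⁅W₁ ⊔ W₂, B⁆ ≤ Q := by
    apply commutator_sup_left_le
    · exact (hW1M.trans hMQ).trans (Subgroup.centralizer_le_normalizer _)
    · exact (hW2M.trans hMQ).trans (Subgroup.centralizer_le_normalizer _)
    · rw [hW₁def, hQdef]; exact T.W1_B hb hb1
    · rw [hW₂def, hQdef]; exact T.W2_B hb hb1
  -- centralizer facts in terms of D, F
  have hAD : A ≤ Subgroup.centralizer (D : Set G) := by rw [hDdef]; exact T.A_D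
  have hBD : B ≤ Subgroup.centralizer (D : Set G) := by rw [hDdef]; exact T.B_D
  have hBF : B ≤ Subgroup.centralizer (F : Set G) := by rw [hFdef]; exact T.B_F
  have hCF : C ≤ Subgroup.centralizer (F : Set G) := by rw [hFdef]; exact T.C_F
  have hFA : ⁅F, A⁆ ≤ W₁ ⊔ W₂ := by
    rw [Subgroup.commutator_comm, hFdef, ← hW₁def]; exact le_sup_left
  have hDC : ⁅D, C⁆ ≤ W₁ ⊔ W₂ := by
    rw [hDdef, ← hW₂def]; exact le_sup_right
  -- step 3
  have s3 : ⁅Q, A ⊔ B ⊔ C⁆ ≤ ⊥ := by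
    have hn : ∀ H : Subgroup G, H ≤ Subgroup.normalizer (((⊥ : Subgroup G)) : Set G) := by
      intro H x _
      rw [Subgroup.mem_normalizer_iff]
      intro h
      simp only [Subgroup.mem_bot]
      constructor
      · intro h1; rw [h1]; group
      · intro h1
        have : h = x⁻¹ * (x * h * x⁻¹) * x := by group
        rw [this, h1]; group
    apply comm_R_le (hn A) (hn B) (hn C)
    · exact commutator_le_of_le_centralizer (le_centralizer_symm (hAM.trans hMQ))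
    · exact commutator_le_of_le_centralizer (le_centralizer_symm hBQ)
    · exact commutator_le_of_le_centralizer (le_centralizer_symm (hCM.trans hMQ))
  -- step 2
  have hAnQ : A ≤ Subgroup.normalizer (Q : Set G) := (hAM.trans hMQ).trans (Subgroup.centralizer_le_normalizer _)
  have hBnQ : B ≤ Subgroup.normalizer (Q : Set G) := hBQ.trans (Subgroup.centralizer_le_normalizer _)
  have hCnQ : C ≤ Subgroup.normalizer (Q : Set G) := (hCM.trans hMQ).trans (Subgroup.centralizer_le_normalizer _)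
  have s2 : ⁅W₁ ⊔ W₂, A ⊔ B ⊔ C⁆ ≤ Q := by
    apply comm_R_le hAnQ hBnQ hCnQ
    · exact commutator_le_of_le_centralizer (hN2M.trans (Subgroup.centralizer_le hAM))
    · exact hN2B
    · exact commutator_le_of_le_centralizer (hN2M.trans (Subgroup.centralizer_le hCM))
  -- step 1
  have hAnN : A ≤ Subgroup.normalizer ((W₁ ⊔ W₂ : Subgroup G) : Set G) :=
    (hAM.trans hMN2).trans (Subgroup.centralizer_le_normalizer _)
  have hCnN : C ≤ Subgroup.normalizer ((W₁ ⊔ W₂ : Subgroup G) : Set G) :=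
    (hCM.trans hMN2).trans (Subgroup.centralizer_le_normalizer _)
  have hBnN : B ≤ Subgroup.normalizer ((W₁ ⊔ W₂ : Subgroup G) : Set G) := by
    rw [Subgroup.le_normalizer_iff_commutator_le_left]
    exact hN2B.trans hQN
  have hDFn : D ⊔ F ≤ Subgroup.normalizer ((W₁ ⊔ W₂ : Subgroup G) : Set G) :=
    ((sup_le hDM hFM).trans hMN2).trans (Subgroup.centralizer_le_normalizer _)
  have hK1A : ⁅(D ⊔ F) ⊔ (W₁ ⊔ W₂), A⁆ ≤ W₁ ⊔ W₂ := by
    apply commutator_sup_left_le hDFn Subgroup.le_normalizer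
    · apply commutator_sup_left_le (le_sup_left.trans hDFn) (le_sup_right.trans hDFn)
      · exact commutator_le_of_le_centralizer (le_centralizer_symm hAD)
      · exact hFA
    · exact commutator_le_of_le_centralizer (hN2M.trans (Subgroup.centralizer_le hAM))
  have hK1B : ⁅(D ⊔ F) ⊔ (W₁ ⊔ W₂), B⁆ ≤ W₁ ⊔ W₂ := by
    apply commutator_sup_left_le hDFn Subgroup.le_normalizer
    · apply commutator_sup_left_le (le_sup_left.trans hDFn) (le_sup_right.trans hDFn)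
      · exact commutator_le_of_le_centralizer (le_centralizer_symm hBD)
      · exact commutator_le_of_le_centralizer (le_centralizer_symm hBF)
    · exact hN2B.trans hQN
  have hK1C : ⁅(D ⊔ F) ⊔ (W₁ ⊔ W₂), C⁆ ≤ W₁ ⊔ W₂ := by
    apply commutator_sup_left_le hDFn Subgroup.le_normalizer
    · apply commutator_sup_left_le (le_sup_left.trans hDFn) (le_sup_right.trans hDFn)
      · exact hDC
      · exact commutator_le_of_le_centralizer (le_centralizer_symm hCF)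
    · exact commutator_le_of_le_centralizer (hN2M.trans (Subgroup.centralizer_le hCM))
  have s1 : ⁅(D ⊔ F) ⊔ (W₁ ⊔ W₂), A ⊔ B ⊔ C⁆ ≤ W₁ ⊔ W₂ := comm_R_le hAnN hBnN hCnN hK1A hK1B hK1C
  -- step 0
  have hAnK : A ≤ Subgroup.normalizer (((D ⊔ F) ⊔ (W₁ ⊔ W₂) : Subgroup G) : Set G) := by
    rw [Subgroup.le_normalizer_iff_commutator_le_left]; exact hK1A.trans le_sup_right
  have hBnK : B ≤ Subgroup.normalizer (((D ⊔ F) ⊔ (W₁ ⊔ W₂) : Subgroup G) : Set G) := by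
    rw [Subgroup.le_normalizer_iff_commutator_le_left]; exact hK1B.trans le_sup_right
  have hCnK : C ≤ Subgroup.normalizer (((D ⊔ F) ⊔ (W₁ ⊔ W₂) : Subgroup G) : Set G) := by
    rw [Subgroup.le_normalizer_iff_commutator_le_left]; exact hK1C.trans le_sup_right
  have hDK : D ≤ (D ⊔ F) ⊔ (W₁ ⊔ W₂) := le_sup_left.trans le_sup_left
  have hFK : F ≤ (D ⊔ F) ⊔ (W₁ ⊔ W₂) := le_sup_right.trans le_sup_left
  have s0 : ⁅A ⊔ B ⊔ C, A ⊔ B ⊔ C⁆ ≤ (D ⊔ F) ⊔ (W₁ ⊔ W₂) := by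
    apply comm_R_le hAnK hBnK hCnK
    · apply commutator_sup_left_le (sup_le hAnK hBnK) hCnK
      · apply commutator_sup_left_le hAnK hBnK
        · exact commutator_le_of_le_centralizer T.A_comm
        · rw [Subgroup.commutator_comm, ← hDdef]; exact hDK
      · exact commutator_le_of_le_centralizer (le_centralizer_symm T.hAC)
    · apply commutator_sup_left_le (sup_le hAnK hBnK) hCnK
      · apply commutator_sup_left_le hAnK hBnK
        · rw [← hDdef]; exact hDK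
        · exact commutator_le_of_le_centralizer T.B_comm
      · rw [Subgroup.commutator_comm, ← hFdef]; exact hFK
    · apply commutator_sup_left_le (sup_le hAnK hBnK) hCnK
      · apply commutator_sup_left_le hAnK hBnK
        · exact commutator_le_of_le_centralizer T.hAC
        · rw [← hFdef]; exact hFK
      · exact commutator_le_of_le_centralizer T.C_comm
  -- assemble
  let K : ℕ → Subgroup G := fun i =>
    match i with
    | 0 => A ⊔ B ⊔ C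
    | 1 => (D ⊔ F) ⊔ (W₁ ⊔ W₂)
    | 2 => W₁ ⊔ W₂
    | 3 => Q
    | _ => ⊥
  apply isNilpotent_of_series K 4 (le_refl _) rfl
  intro i x hx hxR y hy
  match i, hx with
  | 0, hx => exact s0 (Subgroup.commutator_mem_commutator hx hy)
  | 1, hx => exact s1 (Subgroup.commutator_mem_commutator hx hy)
  | 2, hx => exact s2 (Subgroup.commutator_mem_commutator hx hy)
  | 3, hx => exact s3 (Subgroup.commutator_mem_commutator hx hy)
  | (n + 4), hx =>
    have hx1 : x = 1 := by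
      have : x ∈ (⊥ : Subgroup G) := hx
      exact Subgroup.mem_bot.1 this
    rw [hx1, commutatorElement_one_left]
    exact Subgroup.one_mem _

theorem Y_comm_iff (T : TripleCfg S A B C) {b : G} (hb : b ∈ B) (hb1 : b ≠ 1) :
    IsMulCommutative ↥(conjBy A b⁻¹ ⊔ C) ↔ ⁅⁅A, B⁆, C⁆ = ⊥ := by
  have := T.symm.X_comm_iff hb hb1
  rw [Subgroup.commutator_comm B A, Subgroup.commutator_comm C ⁅A, B⁆, sup_comm C] at this
  exact this

theorem Y_class2 (T : TripleCfg S A B C) {b : G} (hb : b ∈ B) :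
    ⁅⁅conjBy A b⁻¹ ⊔ C, conjBy A b⁻¹ ⊔ C⁆, conjBy A b⁻¹ ⊔ C⁆ = ⊥ := by
  have := T.symm.X_class2 hb
  rw [sup_comm C] at this
  exact this

/-- part (c), normality -/
theorem M_normal (T : TripleCfg S A B C) {b : G} (hb : b ∈ B) (hb1 : b ≠ 1) :
    ∀ r ∈ A ⊔ B ⊔ C, conjBy ((A ⊔ conjBy C b⁻¹) ⊔ (conjBy A b⁻¹ ⊔ C)) r =
      (A ⊔ conjBy C b⁻¹) ⊔ (conjBy A b⁻¹ ⊔ C) := by
  have hB : ∀ z ∈ B, conjBy ((A ⊔ conjBy C b⁻¹) ⊔ (conjBy A b⁻¹ ⊔ C)) z ≤
      (A ⊔ conjBy C b⁻¹) ⊔ (conjBy A b⁻¹ ⊔ C) := by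
    intro z hz
    rw [T.M_eq hb hb1, conjBy_sup, conjBy_sup, conjBy_sup]
    have h1 : conjBy A z ≤ A ⊔ ⁅A, B⁆ := by
      have := T.conj_A_le (B.inv_mem hz)
      rwa [inv_inv] at this
    have h2 : conjBy C z ≤ C ⊔ ⁅B, C⁆ := by
      have := T.conj_C_le (B.inv_mem hz)
      rwa [inv_inv] at this
    have h3 : conjBy ⁅A, B⁆ z = ⁅A, B⁆ := conjBy_eq_self_of_le_centralizer hz T.B_D
    have h4 : conjBy ⁅B, C⁆ z = ⁅B, C⁆ := conjBy_eq_self_of_le_centralizer hz T.B_F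
    rw [h3, h4]
    apply sup_le
    · exact (sup_le h1 le_sup_right).trans le_sup_left
    · exact (sup_le h2 le_sup_right).trans le_sup_right
  have hBn : B ≤ Subgroup.normalizer
      (((A ⊔ conjBy C b⁻¹) ⊔ (conjBy A b⁻¹ ⊔ C) : Subgroup G) : Set G) := by
    intro z hz
    exact conjBy_eq_self_iff.1 (conjBy_eq_of_forall_le hB z hz)
  have hAn : A ≤ Subgroup.normalizer
      (((A ⊔ conjBy C b⁻¹) ⊔ (conjBy A b⁻¹ ⊔ C) : Subgroup G) : Set G) :=
    (le_sup_left.trans le_sup_left).trans Subgroup.le_normalizer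
  have hCn : C ≤ Subgroup.normalizer
      (((A ⊔ conjBy C b⁻¹) ⊔ (conjBy A b⁻¹ ⊔ C) : Subgroup G) : Set G) :=
    (le_sup_right.trans le_sup_right).trans Subgroup.le_normalizer
  intro r hr
  exact conjBy_eq_self_iff.2 ((sup_le (sup_le hAn hBn) hCn) hr)

/-- part (c), generation -/
theorem M_sup_B (T : TripleCfg S A B C) {b : G} (hb : b ∈ B) :
    ((A ⊔ conjBy C b⁻¹) ⊔ (conjBy A b⁻¹ ⊔ C)) ⊔ B = A ⊔ B ⊔ C := by
  have hbR : b⁻¹ ∈ A ⊔ B ⊔ C := Subgroup.inv_mem _ ((le_sup_right.trans le_sup_left : B ≤ A ⊔ B ⊔ C) hb)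
  apply le_antisymm
  · apply sup_le
    · apply sup_le
      · exact sup_le (le_sup_left.trans le_sup_left) (conjBy_le_of_mem le_sup_right hbR)
      · exact sup_le (conjBy_le_of_mem (le_sup_left.trans le_sup_left) hbR) le_sup_right
    · exact le_sup_right.trans le_sup_left
  · apply sup_le
    · apply sup_le
      · exact (le_sup_left.trans le_sup_left).trans le_sup_left
      · exact le_sup_right
    · exact (le_sup_right.trans le_sup_right).trans le_sup_left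

end TripleCfg

end Cfsg.Agent.Lib.Helper83
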