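import Mathlib
import Cfsg.Prelude.Def_RootSubgroups
import Cfsg.Agent.Lib.Helper83.RankOne
import Cfsg.Agent.Lib.Helper83.RankOne2
import Cfsg.Agent.Lib.Helper83.RootSub
import Cfsg.Agent.Lib.Helper83.RootSub4
import Cfsg.Agent.Lib.Helper83.Nondeg
import Cfsg.Agent.Lib.Helper83.Triple
import Cfsg.Agent.Lib.Helper83.Special2
import Cfsg.Agent.S5032

set_option autoImplicit false

namespace Cfsg.Agent.Lib.Helper83

open Cfsg
open scoped commutatorElement

variable {G : Type*} [Group G] {S : Set (Subgroup G)}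

/-- Q1: modulo a normal subgroup, `P` centralizing `Q` and `F` centralizes `⁅Q, F⁆`. -/
theorem commutator_commutator_le_normal {N P Q F : Subgroup G} [hN : N.Normal] (h1 : ⁅P, Q⁆ ≤ N)
    (h2 : ⁅P, F⁆ ≤ N) : ⁅P, ⁅Q, F⁆⁆ ≤ N := by
  have hker : ∀ H : Subgroup G, H ≤ N → H.map (QuotientGroup.mk' N) = ⊥ := by
    intro H hH
    rw [Subgroup.map_eq_bot_iff, QuotientGroup.ker_mk']; exact hH
  have key : (⁅P, ⁅Q, F⁆⁆).map (QuotientGroup.mk' N) = ⊥ := by
    rw [Subgroup.map_commutator, Subgroup.map_commutator, Subgroup.commutator_eq_bot_iff_le_centralizer]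
    apply le_centralizer_symm
    apply commutator_le_centralizer'
    · apply le_centralizer_symm
      rw [← Subgroup.commutator_eq_bot_iff_le_centralizer, ← Subgroup.map_commutator]
      exact hker _ h1
    · apply le_centralizer_symm
      rw [← Subgroup.commutator_eq_bot_iff_le_centralizer, ← Subgroup.map_commutator]
      exact hker _ h2
  rw [Subgroup.map_eq_bot_iff, QuotientGroup.ker_mk'] at key
  exact key

/-- every subgroup lies in the normalizer of a normal subgroup -/
theorem le_normalizer_of_normal (N H : Subgroup G) [hN : N.Normal] :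
    H ≤ Subgroup.normalizer (N : Set G) := by
  rw [Subgroup.normalizer_eq_top_iff.2 hN]; exact le_top

/-- if `⁅P, Q⁆ ≤ N` normal and `P`, `Q` abelian then `⟨P, Q⟩' ≤ N` -/
theorem commutator_sup_sup_le_normal {N P Q : Subgroup G} [hN : N.Normal]
    (hP : P ≤ Subgroup.centralizer (P : Set G)) (hQ : Q ≤ Subgroup.centralizer (Q : Set G))
    (h : ⁅P, Q⁆ ≤ N) : ⁅P ⊔ Q, P ⊔ Q⁆ ≤ N := by
  apply commutator_sup_left_le (le_normalizer_of_normal N P) (le_normalizer_of_normal N Q)
  · apply commutator_sup_right_le (le_normalizer_of_normal N P) (le_normalizer_of_normal N Q)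
    · exact commutator_le_of_le_centralizer hP
    · exact h
  · apply commutator_sup_right_le (le_normalizer_of_normal N P) (le_normalizer_of_normal N Q)
    · rw [Subgroup.commutator_comm]; exact h
    · exact commutator_le_of_le_centralizer hQ

/-- conjugating by an element of a normal subgroup does not change commutators modulo it -/
theorem comm_conj_mem_normal {N : Subgroup G} [hN : N.Normal] {x e a : G} (hx : x ∈ N) :
    ⁅e, x * a * x⁻¹⁆ * ⁅e, a⁆⁻¹ ∈ N := by
  rw [← QuotientGroup.eq_one_iff]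
  have hx1 : ((x : G) : G ⧸ N) = 1 := (QuotientGroup.eq_one_iff x).2 hx
  simp only [QuotientGroup.mk_mul, QuotientGroup.mk_inv, commutatorElement_def, hx1, one_mul, mul_one,
    inv_one]
  group

/-- hypotheses of the quasisimplicity criterion -/
structure QSHyp (S : Set (Subgroup G)) : Prop where
  hS : IsRootSubgroupSet S
  h2 : ∃ A ∈ S, ∃ B ∈ S, A ≠ B
  h1 : IsConnectedFamily (FAdj S) S
  h2' : ∀ A ∈ S, ∀ C ∈ S, A ≠ C → centralizingMembers S A ≠ centralizingMembers S C
  h3 : IsDegenerateRootSet S → ∀ A ∈ S, 3 < ENat.card A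
  h4 : ∀ A ∈ S, ∀ B ∈ rankOnePartners S A, IsSpecialRankOnePair A B

namespace QSHyp

theorem isClass (H : QSHyp S) : IsRootSubgroupClass S :=
  ⟨H.hS, ((Cfsg.Agent.S5032.result H.hS H.h2).1 H.h1).1⟩

theorem hiso (H : QSHyp S) : ∀ E ∈ S, ∃ E' ∈ S, IsRankOnePair E E' := by
  obtain ⟨A, hA, hni⟩ := ((Cfsg.Agent.S5032.result H.hS H.h2).1 H.h1).2
  have : ∃ B ∈ S, IsRankOnePair A B := by
    by_contra hcon
    push Not at hcon
    apply hni
    refine ⟨hA, fun B => ⟨?_, ?_⟩⟩
    · rintro ⟨-, hB, hr⟩; exact hcon B hB hr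
    · rintro ⟨hB, -, hr⟩; exact hcon B hB (RankOnePair_symm hr)
  obtain ⟨B, hB, hr⟩ := this
  exact class_has_partner H.isClass hA hB hr

/-- K3 -/
theorem eq_top_of_member_le (H : QSHyp S) {N M : Subgroup G} [hN : N.Normal] (hM : M ∈ S)
    (hle : M ≤ N) : N = ⊤ := by
  rw [eq_top_iff, ← H.hS.generates]
  apply iSup₂_le
  intro A hA
  obtain ⟨g, rfl⟩ := H.isClass.2.2 M hM A hA
  intro y hy
  rw [mem_conjBy] at hy
  have := hN.conj_mem _ (hle hy) g
  simpa [mul_assoc] using this

/-- K2 -/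
theorem member_le_of_commutator_le (H : QSHyp S) {N P Q : Subgroup G} [hN : N.Normal] (hP : P ∈ S)
    (hQ : Q ∈ S) (hne : ⁅P, Q⁆ ≠ ⊥) (hle : ⁅P, Q⁆ ≤ N) : ∃ M ∈ S, M ≤ N := by
  rcases H.hS.pair P hP Q hQ with h | h | h
  · exact absurd h hne
  · by_cases hdeg : IsDegenerateRootSet S
    · refine ⟨P, hP, ?_⟩
      have hsp := H.h4 P hP Q ⟨hQ, h⟩
      have hPc := le_centralizer_self_of_comm (H.hS.commutative P hP)
      have hQc := le_centralizer_self_of_comm (H.hS.commutative Q hQ)
      have hPab : ∀ x ∈ P, ∀ y ∈ P, x * y = y * x :=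
        fun x hx y hy => comm_of_isMulCommutative (H.hS.commutative P hP) hx hy
      exact (special_le_commutator hsp hPab (H.h3 hdeg P hP)).trans
        (commutator_sup_sup_le_normal hPc hQc hle)
    · -- nondegenerate
      have hnd : IsNondegenerateRootSet S := by
        unfold IsDegenerateRootSet at hdeg
        push Not at hdeg
        obtain ⟨A', hA', B', hB', hc⟩ := hdeg
        refine ⟨⟨A', hA', ⁅A', B'⁆, hc.1, commCase_ne H.hS hc, ?_⟩, ⟨P, hP, Q, hQ, h⟩, ⟨A', hA', B', hB', hc⟩⟩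
        rw [Subgroup.commutator_eq_bot_iff_le_centralizer]
        exact commCase_left_le_centralizer hc
      obtain ⟨F, hF, hFl, -, -, heq⟩ := nondeg_line_partner H.isClass hnd hP hQ h
      refine ⟨F, hF, ?_⟩
      rw [← heq]
      apply commutator_commutator_le_normal hle
      rw [hFl.1.2.2]; exact bot_le
  · exact ⟨_, h.1, hle⟩

/-- K1 -/
theorem exists_commutator_le (H : QSHyp S) {N : Subgroup G} [hN : N.Normal]
    (hnc : ¬ N ≤ Subgroup.center G) : ∃ P ∈ S, ∃ Q ∈ S, ⁅P, Q⁆ ≠ ⊥ ∧ ⁅P, Q⁆ ≤ N := by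
  -- some element of N moves some member
  have hmove : ∃ x ∈ N, ∃ A ∈ S, conjBy A x ≠ A := by
    by_contra hcon
    push Not at hcon
    apply hnc
    intro x hx
    rw [Subgroup.mem_center_iff]
    by_contra hx2
    -- x not central: some member A, a ∈ A not commuting with x
    have hex : ∃ A ∈ S, ∃ a ∈ A, a * x ≠ x * a := by
      by_contra hcon2
      push Not at hcon2
      apply hx2
      have hle : (⊤ : Subgroup G) ≤ Subgroup.centralizer ({x} : Set G) := by
        rw [← H.hS.generates]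
        apply iSup₂_le
        intro A hA a ha
        rw [Subgroup.mem_centralizer_iff]
        intro y hy
        rw [Set.mem_singleton_iff] at hy
        rw [hy]
        exact (hcon2 A hA a ha).symm
      intro g
      have := Subgroup.mem_centralizer_iff.1 (hle (Subgroup.mem_top g)) x (Set.mem_singleton x)
      exact this.symm
    obtain ⟨A, hA, a, ha, hax⟩ := hex
    obtain ⟨B, hB, hr⟩ := H.hiso A hA
    have h1 : x * a * x⁻¹ ∈ A := by
      have := conj_mem_conjBy (g := x) ha
      rwa [hcon x hx A hA] at this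
    have h2 : x * a * x⁻¹ * a⁻¹ ∈ A := A.mul_mem h1 (A.inv_mem ha)
    have h3 : x * a * x⁻¹ * a⁻¹ ∈ N := by
      have : x * a * x⁻¹ * a⁻¹ = x * (a * x⁻¹ * a⁻¹) := by group
      rw [this]
      exact N.mul_mem hx (hN.conj_mem _ (N.inv_mem hx) a)
    have h4 := rop_norm_left hr h2 (hcon _ h3 B hB)
    apply hax
    have : a * x = (x * a * x⁻¹ * a⁻¹)⁻¹ * (x * a) := by group
    rw [this, h4]; group
  obtain ⟨x, hx, A, hA, hne⟩ := hmove
  have hCS : conjBy A x ∈ S := H.hS.conj_mem A hA x
  -- for every E: ⁅E, A⁆ ≤ N ↔ ⁅E, C⁆ ≤ N; we use: commutators with C and with A agree mod N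
  have hAC : ∀ E : Subgroup G, ⁅E, A⁆ ≤ N → ⁅E, conjBy A x⁆ ≤ N := by
    intro E hE
    rw [Subgroup.commutator_le]
    intro e he c hc
    rw [mem_conjBy] at hc
    have h1 : ⁅e, x⁻¹ * c * x⁆ ∈ N := hE (Subgroup.commutator_mem_commutator he hc)
    have h2 := comm_conj_mem_normal (N := N) (x := x) (e := e) (a := x⁻¹ * c * x) hx
    have h3 : x * (x⁻¹ * c * x) * x⁻¹ = c := by group
    rw [h3] at h2
    have : ⁅e, c⁆ = (⁅e, c⁆ * ⁅e, x⁻¹ * c * x⁆⁻¹) * ⁅e, x⁻¹ * c * x⁆ := by group
    rw [this]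
    exact N.mul_mem h2 h1
  have hCA : ∀ E : Subgroup G, ⁅E, conjBy A x⁆ ≤ N → ⁅E, A⁆ ≤ N := by
    intro E hE
    rw [Subgroup.commutator_le]
    intro e he a ha
    have h1 : ⁅e, x * a * x⁻¹⁆ ∈ N := hE (Subgroup.commutator_mem_commutator he (conj_mem_conjBy ha))
    have h2 := comm_conj_mem_normal (N := N) (x := x) (e := e) (a := a) hx
    have : ⁅e, a⁆ = (⁅e, x * a * x⁻¹⁆ * ⁅e, a⁆⁻¹)⁻¹ * ⁅e, x * a * x⁻¹⁆ := by group
    rw [this]
    exact N.mul_mem (N.inv_mem h2) h1
  have hAab := le_centralizer_self_of_comm (H.hS.commutative A hA)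
  by_cases hcomm : ⁅A, conjBy A x⁆ = ⊥
  · -- commuting: use h2'
    have hneq := H.h2' A hA _ hCS (Ne.symm hne)
    have hex : ∃ E ∈ S, (E ≤ Subgroup.centralizer (A : Set G) ∧ ¬ E ≤ Subgroup.centralizer (conjBy A x : Set G)) ∨
        (¬ E ≤ Subgroup.centralizer (A : Set G) ∧ E ≤ Subgroup.centralizer (conjBy A x : Set G)) := by
      by_contra hcon
      push Not at hcon
      apply hneq
      ext E
      simp only [centralizingMembers, Set.mem_ofPred_eq]
      constructor
      · rintro ⟨hES, hE⟩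
        refine ⟨hES, ?_⟩
        by_contra h
        exact h ((hcon E hES).1 hE)
      · rintro ⟨hES, hE⟩
        refine ⟨hES, ?_⟩
        by_contra h
        exact (hcon E hES).2 h hE
    obtain ⟨E, hES, ⟨hE1, hE2⟩ | ⟨hE1, hE2⟩⟩ := hex
    · refine ⟨E, hES, _, hCS, ?_, ?_⟩
      · intro h; exact hE2 (Subgroup.commutator_eq_bot_iff_le_centralizer.1 h)
      · apply hAC
        exact commutator_le_of_le_centralizer hE1
    · refine ⟨E, hES, A, hA, ?_, ?_⟩
      · intro h; exact hE1 (Subgroup.commutator_eq_bot_iff_le_centralizer.1 h)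
      · apply hCA
        exact commutator_le_of_le_centralizer hE2
  · refine ⟨A, hA, _, hCS, hcomm, ?_⟩
    apply hAC
    exact commutator_le_of_le_centralizer hAab

/-- the normal subgroup dichotomy -/
theorem normal_dichotomy (H : QSHyp S) (N : Subgroup G) [hN : N.Normal] :
    N ≤ Subgroup.center G ∨ N = ⊤ := by
  by_cases hnc : N ≤ Subgroup.center G
  · exact Or.inl hnc
  · right
    obtain ⟨P, hP, Q, hQ, hne, hle⟩ := H.exists_commutator_le hnc
    obtain ⟨M, hM, hMN⟩ := H.member_le_of_commutator_le hP hQ hne hle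
    exact H.eq_top_of_member_le hM hMN

/-- the commutator subgroup is not central -/
theorem commutator_not_le_center (H : QSHyp S) : ¬ commutator G ≤ Subgroup.center G := by
  intro hle
  obtain ⟨A, hA, -, -, -⟩ := H.h2
  obtain ⟨B, hB, hr⟩ := H.hiso A hA
  obtain ⟨a, ha, ha1⟩ := rop_exists_left hr
  apply rop_conj_not_comm (RankOnePair_symm hr) ha ha1
  intro y hy
  rw [mem_conjBy] at hy
  rw [Subgroup.mem_centralizer_iff]
  intro b hb
  -- y = a (a⁻¹ y a) a⁻¹ = ⁅a, b'⁆ b'
  have hz : ⁅a, a⁻¹ * y * a⁆ ∈ Subgroup.center G := by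
    apply hle
    rw [commutator_def]
    exact Subgroup.commutator_mem_commutator (Subgroup.mem_top _) (Subgroup.mem_top _)
  have hy' : y = ⁅a, a⁻¹ * y * a⁆ * (a⁻¹ * y * a) := by
    rw [commutatorElement_def]; group
  have hbb : b * (a⁻¹ * y * a) = (a⁻¹ * y * a) * b :=
    comm_of_isMulCommutative (H.hS.commutative B hB) hb hy
  rw [Subgroup.mem_center_iff] at hz
  rw [hy', ← mul_assoc, hz b, mul_assoc, hbb, ← mul_assoc]

theorem commutator_eq_top (H : QSHyp S) : commutator G = ⊤ := by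
  rcases H.normal_dichotomy (commutator G) with h | h
  · exact absurd h H.commutator_not_le_center
  · exact h

theorem isQuasisimple (H : QSHyp S) : IsQuasisimple G := by
  have hp : Group.IsPerfect G := ⟨H.commutator_eq_top⟩
  refine ⟨hp, ?_⟩
  have hcne : Subgroup.center G ≠ ⊤ := by
    intro h
    apply H.commutator_not_le_center
    rw [h]; exact le_top
  have hnt : Nontrivial (G ⧸ Subgroup.center G) := by
    by_contra hcon
    rw [not_nontrivial_iff_subsingleton] at hcon
    exact hcne (QuotientGroup.subgroup_eq_top_of_subsingleton _ hcon)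
  refine @IsSimpleGroup.mk _ _ hnt ?_
  intro K hK
  have hN : (K.comap (QuotientGroup.mk' (Subgroup.center G))).Normal := hK.comap _
  rcases H.normal_dichotomy (K.comap (QuotientGroup.mk' (Subgroup.center G))) with h1 | h1
  · left
    rw [eq_bot_iff]
    intro q hq
    obtain ⟨x, rfl⟩ := QuotientGroup.mk'_surjective _ q
    have hx : x ∈ K.comap (QuotientGroup.mk' (Subgroup.center G)) := hq
    have := h1 hx
    rw [Subgroup.mem_bot]
    exact (QuotientGroup.eq_one_iff x).2 this
  · right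
    rw [eq_top_iff]
    intro q _
    obtain ⟨x, rfl⟩ := QuotientGroup.mk'_surjective _ q
    have : x ∈ K.comap (QuotientGroup.mk' (Subgroup.center G)) := by rw [h1]; trivial
    exact this

end QSHyp

/-- `IsQuasisimple` is invariant under isomorphism. -/
theorem isQuasisimple_congr {X Y : Type*} [Group X] [Group Y] (e : X ≃* Y)
    (hX : IsQuasisimple X) : IsQuasisimple Y := by
  obtain ⟨hperf, hsimple⟩ := hX
  refine ⟨Group.IsPerfect.ofSurjective (f := e.toMonoidHom) e.surjective, ?_⟩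
  have hc : (Subgroup.center X).map (e : X →* Y) = Subgroup.center Y := by
    ext y
    constructor
    · rintro ⟨x, hx, rfl⟩
      exact (MulEquivClass.apply_mem_center_iff e).2 hx
    · intro hy
      refine ⟨e.symm y, (MulEquivClass.apply_mem_center_iff e.symm).2 hy, by simp⟩
  have e' : X ⧸ Subgroup.center X ≃* Y ⧸ Subgroup.center Y :=
    QuotientGroup.congr (Subgroup.center X) (Subgroup.center Y) e hc
  exact e'.symm.isSimpleGroup

end Cfsg.Agent.Lib.Helper83
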