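import Mathlib
import Cfsg.Prelude.Def_RootSubgroups
import Cfsg.Agent.Lib.Helper83.Special2
import Cfsg.Agent.Lib.Helper83.RankOne2
import Cfsg.Agent.Lib.Helper83.Quasi

set_option autoImplicit false

namespace Cfsg.Agent.Lib.Helper83

open Cfsg
open scoped commutatorElement

variable {G : Type*} [Group G] {A B : Subgroup G}

/-- specialness is symmetric -/
theorem special_symm (hs : IsSpecialRankOnePair A B) : IsSpecialRankOnePair B A := by
  refine ⟨RankOnePair_symm hs.1, ?_⟩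
  intro b hb hb1 a ha ha1 hc
  have h1 := hs.2 a ha ha1 b hb hb1 hc.symm
  have h2 := congrArg (·⁻¹) h1
  simp only [mul_inv_rev, inv_inv] at h2
  rw [← mul_assoc, ← mul_assoc] at h2
  exact h2.symm

/-- if `x² e ∈ Q` for all suitable `x, e ∈ A#`, and `|A| > 3`, then `A ≤ Q` -/
theorem le_of_sq_mul_mem {Q : Subgroup G}
    (hQ : ∀ x ∈ A, x ≠ 1 → ∀ e ∈ A, e ≠ 1 → x * e ≠ 1 → x * x * e ∈ Q)
    (hcard : 3 < ENat.card A) : A ≤ Q := by
  obtain ⟨e₁, h₁, e₂, h₂, e₃, h₃, n₁, n₂, n₃, n₁₂, n₁₃, n₂₃⟩ := exists_three_of_card hcard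
  have hex : ∃ e ∈ A, ∃ e' ∈ A, e ≠ 1 ∧ e' ≠ 1 ∧ e ≠ e' ∧ e₁ * e ≠ 1 ∧ e₁ * e' ≠ 1 := by
    by_cases h12 : e₁ * e₂ = 1
    · refine ⟨e₁, h₁, e₃, h₃, n₁, n₃, n₁₃, ?_, ?_⟩
      · intro h
        apply n₁₂
        exact (mul_left_cancel (h.trans h12.symm))
      · intro h
        apply n₂₃
        exact mul_left_cancel (h12.trans h.symm)
    · by_cases h13 : e₁ * e₃ = 1
      · refine ⟨e₁, h₁, e₂, h₂, n₁, n₂, n₁₂, ?_, h12⟩
        intro h
        apply n₁₃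
        exact mul_left_cancel (h.trans h13.symm)
      · exact ⟨e₂, h₂, e₃, h₃, n₂, n₃, n₂₃, h12, h13⟩
  obtain ⟨e, he, e', he', ne1, ne'1, nee', hxe, hxe'⟩ := hex
  have k1 := hQ e₁ h₁ n₁ e he ne1 hxe
  have k2 := hQ e₁ h₁ n₁ e' he' ne'1 hxe'
  have hz : e⁻¹ * e' ∈ Q := by
    have : e⁻¹ * e' = (e₁ * e₁ * e)⁻¹ * (e₁ * e₁ * e') := by group
    rw [this]
    exact Subgroup.mul_mem _ (Subgroup.inv_mem _ k1) k2
  have hzA : e⁻¹ * e' ∈ A := A.mul_mem (A.inv_mem he) he'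
  have hz1 : e⁻¹ * e' ≠ 1 := by
    intro h
    apply nee'
    have := congrArg (fun t => e * t) h
    simpa using this.symm
  obtain ⟨z, hzdef⟩ : ∃ z, z = e⁻¹ * e' := ⟨_, rfl⟩
  rw [← hzdef] at hz hzA hz1
  intro y hy
  by_cases hy1 : y = 1
  · rw [hy1]; exact Subgroup.one_mem _
  by_cases hzy : z * y = 1
  · have : y = z⁻¹ := by
      have := congrArg (fun t => z⁻¹ * t) hzy
      simpa using this
    rw [this]
    exact Subgroup.inv_mem _ hz
  · have k3 := hQ z hzA hz1 y hy hy1 hzy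
    have : y = (z * z)⁻¹ * (z * z * y) := by group
    rw [this]
    exact Subgroup.mul_mem _ (Subgroup.inv_mem _ (Subgroup.mul_mem _ hz hz)) k3

section Special

variable (hs : IsSpecialRankOnePair A B)
include hs

/-- conjugation by `n_e` maps `B` into `A` -/
theorem tau_mem {e be y : G} (hre : PRel A B e be) (hy : y ∈ B) :
    (e * be⁻¹ * e)⁻¹ * y * (e * be⁻¹ * e) ∈ A := by
  have hsw := (prel_n_swaps hs hre).inv
  rw [inv_inv] at hsw
  exact hsw.mem_right' hy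

/-- the element `n_e⁻¹ n_{e'}` lies in the diagonal subgroup -/
theorem n_inv_mul_n_mem_diagonal {e be e' be' : G} (hre : PRel A B e be) (hre' : PRel A B e' be') :
    (e * be⁻¹ * e)⁻¹ * (e' * be'⁻¹ * e') ∈ rankOneDiagonal A B := by
  have h1 := prel_n_swaps hs hre
  have h2 := (prel_n_swaps hs hre').inv
  rw [inv_inv] at h2
  unfold rankOneDiagonal
  refine Subgroup.mem_inf.2 ⟨Subgroup.mem_inf.2 ⟨?_, ?_⟩, ?_⟩
  · exact Subgroup.mul_mem _ (Subgroup.inv_mem _ (prel_n_mem hs hre)) (prel_n_mem hs hre')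
  · rw [← conjBy_eq_self_iff, ← conjBy_conjBy, h2.1, h1.2]
  · rw [← conjBy_eq_self_iff, ← conjBy_conjBy, h2.2, h1.1]

/-- the key congruence modulo a subgroup `Q` absorbing the differences of the maps `τ_e` -/
theorem sq_mul_mem_of_tau {Q : Subgroup G} (hA : ∀ x ∈ A, ∀ y ∈ A, x * y = y * x)
    (hP : ∀ e be e' be' y : G, PRel A B e be → PRel A B e' be' → y ∈ B →
      ((e * be⁻¹ * e)⁻¹ * y * (e * be⁻¹ * e)) * ((e' * be'⁻¹ * e')⁻¹ * y * (e' * be'⁻¹ * e'))⁻¹ ∈ Q)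
    {x e : G} (hx : x ∈ A) (hx1 : x ≠ 1) (he : e ∈ A) (he1 : e ≠ 1) (hxe : x * e ≠ 1) :
    x * x * e ∈ Q := by
  obtain ⟨bx, hrx⟩ := prel_exists_right hs.1 hx hx1
  obtain ⟨be, hre⟩ := prel_exists_right hs.1 he he1
  have hbb : bx * be ≠ 1 := by
    intro h
    have h1 : bx = be⁻¹ := eq_inv_of_mul_eq_one_left h
    have h2 := prel_inv hs hre
    rw [← h1] at h2
    have h3 : x = e⁻¹ := prel_unique_left hs.1 hrx h2
    apply hxe
    rw [h3, inv_mul_cancel]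
  have huA := tau_mem hs hre (B.mul_mem hrx.2.1 hre.2.1)
  have hu1 : (e * be⁻¹ * e)⁻¹ * (bx * be) * (e * be⁻¹ * e) ≠ 1 := by
    intro h
    apply hbb
    have : bx * be = (e * be⁻¹ * e) * ((e * be⁻¹ * e)⁻¹ * (bx * be) * (e * be⁻¹ * e)) * (e * be⁻¹ * e)⁻¹ := by
      group
    rw [this, h]; group
  obtain ⟨v, hrv⟩ := prel_exists_right hs.1 huA hu1
  have hmul := prel_mul hs hre hrx hrv
  obtain ⟨u, hu⟩ : ∃ u, u = (e * be⁻¹ * e)⁻¹ * (bx * be) * (e * be⁻¹ * e) := ⟨_, rfl⟩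
  rw [← hu] at huA hu1 hrv
  -- facts
  have f1 : (x * bx⁻¹ * x)⁻¹ * bx * (x * bx⁻¹ * x) = x⁻¹ := prel_n_conj_right hs hrx
  have f2 : (e * be⁻¹ * e)⁻¹ * be * (e * be⁻¹ * e) = e⁻¹ := prel_n_conj_right hs hre
  have f3 : (u * v⁻¹ * u)⁻¹ * v * (u * v⁻¹ * u) = u⁻¹ := prel_n_conj_right hs hrv
  have f4 : (x * e * (v * be)⁻¹ * (x * e))⁻¹ * (v * be) * (x * e * (v * be)⁻¹ * (x * e)) = (x * e)⁻¹ :=
    prel_n_conj_right hs hmul
  -- congruences
  have c1 := hP e be x bx bx hre hrx hrx.2.1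
  rw [f1] at c1
  have c2 := hP (x * e) (v * be) u v v hmul hrv hrv.2.1
  rw [f3] at c2
  have c3 := hP (x * e) (v * be) e be be hmul hre hre.2.1
  rw [f2] at c3
  -- name the tau values
  obtain ⟨t1, ht1⟩ : ∃ t, t = (e * be⁻¹ * e)⁻¹ * bx * (e * be⁻¹ * e) := ⟨_, rfl⟩
  obtain ⟨t2, ht2⟩ : ∃ t, t = (x * e * (v * be)⁻¹ * (x * e))⁻¹ * v * (x * e * (v * be)⁻¹ * (x * e)) :=
    ⟨_, rfl⟩
  obtain ⟨t3, ht3⟩ : ∃ t, t = (x * e * (v * be)⁻¹ * (x * e))⁻¹ * be * (x * e * (v * be)⁻¹ * (x * e)) :=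
    ⟨_, rfl⟩
  rw [← ht1] at c1
  rw [← ht2] at c2
  rw [← ht3] at c3
  have ht1A : t1 ∈ A := by rw [ht1]; exact tau_mem hs hre hrx.2.1
  have ht2A : t2 ∈ A := by rw [ht2]; exact tau_mem hs hmul hrv.2.1
  have ht3A : t3 ∈ A := by rw [ht3]; exact tau_mem hs hmul hre.2.1
  have hu' : u = t1 * e⁻¹ := by
    rw [hu, ht1, ← f2]; group
  have hxe' : (x * e)⁻¹ = t2 * t3 := by
    rw [← f4, ht2, ht3]; group
  -- c1 : t1 * (x⁻¹)⁻¹ ∈ Q ; c2 : t2 * (u⁻¹)⁻¹ ∈ Q ; c3 : t3 * (e⁻¹)⁻¹ ∈ Q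
  rw [inv_inv] at c1 c2 c3
  -- goal: x * x * e = (t1 * x) * ((t2 * u) * (t3 * e))⁻¹ ... compute in the abelian group A
  have hcomm : ∀ p ∈ A, ∀ q ∈ A, p * q = q * p := hA
  have key : x * x * e = (t1 * x) * ((t2 * u) * (t3 * e))⁻¹ := by
    -- (t2 u)(t3 e) = t2 t3 u e = (x e)⁻¹ u e ; u = t1 e⁻¹ ; so = (x e)⁻¹ t1 ; inverse = t1⁻¹ x e
    have e1 : (t2 * u) * (t3 * e) = (t2 * t3) * (u * e) := by
      rw [mul_assoc, ← mul_assoc u t3 e, hcomm u huA t3 ht3A]; group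
    rw [e1, ← hxe', hu']
    have e2 : t1 * e⁻¹ * e = t1 := by group
    rw [e2]
    have e3 : (t1 * x) * ((x * e)⁻¹ * t1)⁻¹ = t1 * x * t1⁻¹ * (x * e) := by group
    rw [e3, hcomm t1 ht1A x hx]
    group
  rw [key]
  exact Q.mul_mem c1 (Q.inv_mem (Q.mul_mem c2 c3))

/-- the `τ`-differences lie in `⁅A, H⁆` -/
theorem tau_diff_mem_commutator (e be e' be' y : G) (hre : PRel A B e be) (hre' : PRel A B e' be')
    (hy : y ∈ B) :
    ((e * be⁻¹ * e)⁻¹ * y * (e * be⁻¹ * e)) * ((e' * be'⁻¹ * e')⁻¹ * y * (e' * be'⁻¹ * e'))⁻¹ ∈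
      ⁅A, rankOneDiagonal A B⁆ := by
  have ht := tau_mem hs hre hy
  have hg := n_inv_mul_n_mem_diagonal hs hre hre'
  have := Subgroup.commutator_mem_commutator ht (Subgroup.inv_mem _ hg)
  convert this using 1
  rw [commutatorElement_def]
  group

/-- in a special rank one pair with abelian unipotent subgroups and `|A| > 3`, `⁅A, H⁆ = A` -/
theorem special_commutator_diagonal (hA : ∀ x ∈ A, ∀ y ∈ A, x * y = y * x) (hcard : 3 < ENat.card A) :
    ⁅A, rankOneDiagonal A B⁆ = A := by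
  apply le_antisymm
  · rw [Subgroup.commutator_le]
    intro a ha h hh
    have hn : h ∈ Subgroup.normalizer (A : Set G) := by
      unfold rankOneDiagonal at hh
      exact (Subgroup.mem_inf.1 (Subgroup.mem_inf.1 hh).1).2
    rw [commutatorElement_def]
    have h1 : h * a⁻¹ * h⁻¹ ∈ A := (Subgroup.mem_normalizer_iff.1 hn a⁻¹).1 (A.inv_mem ha)
    have : a * h * a⁻¹ * h⁻¹ = a * (h * a⁻¹ * h⁻¹) := by group
    rw [this]
    exact A.mul_mem ha h1
  · apply le_of_sq_mul_mem _ hcard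
    intro x hx hx1 e he he1 hxe
    exact sq_mul_mem_of_tau hs hA (fun e be e' be' y h1 h2 h3 =>
      tau_diff_mem_commutator hs e be e' be' y h1 h2 h3) hx hx1 he he1 hxe

end Special

theorem card_conjBy' {G : Type*} [Group G] (A : Subgroup G) (g : G) :
    ENat.card (conjBy A g) = ENat.card A := by
  have e := Subgroup.equivMapOfInjective A (MulAut.conj g).toMonoidHom (MulAut.conj g).injective
  exact (ENat.card_congr e.toEquiv).symm

/-- the large case of the structure dichotomy for special rank one groups -/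
theorem special_large {X : Type*} [Group X] {A B : Subgroup X} (h : IsRankOneGroup X A B)
    (hs : IsSpecialRankOnePair A B) (hab : HasAbelianUnipotents A B) (hcard : 3 < ENat.card A) :
    commutator X ⊔ A = ⊤ ∧ IsQuasisimple (commutator X) ∧
      3 < ENat.card ↥(⁅A, rankOneDiagonal A B⁆ : Subgroup X) := by
  obtain ⟨htop, hr⟩ := h
  have hA : ∀ x ∈ A, ∀ y ∈ A, x * y = y * x := fun x hx y hy => comm_of_isMulCommutative hab.1 hx hy
  have hB : ∀ x ∈ B, ∀ y ∈ B, x * y = y * x := fun x hx y hy => comm_of_isMulCommutative hab.2 hx hy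
  have hcardB : 3 < ENat.card B := by
    obtain ⟨x, -, hx⟩ := rop_B_mem_unip hr
    rw [hx, card_conjBy']
    exact hcard
  have h1 := special_le_commutator hs hA hcard
  have h2 := special_le_commutator (special_symm hs) hB hcardB
  rw [htop] at h1
  rw [sup_comm, htop] at h2
  have hc : commutator X = ⊤ := by
    rw [commutator_def, eq_top_iff]
    calc (⊤ : Subgroup X) = A ⊔ B := htop.symm
      _ ≤ ⁅(⊤ : Subgroup X), ⊤⁆ := sup_le h1 h2
  refine ⟨by rw [hc, top_sup_eq], ?_, ?_⟩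
  · have hperf : Group.IsPerfect X := ⟨hc⟩
    have hq := rog_quasisimple ⟨htop, hr⟩ hperf
    have e : X ≃* ↥(commutator X) :=
      (Subgroup.topEquiv.symm).trans (MulEquiv.subgroupCongr hc.symm)
    exact isQuasisimple_congr e hq
  · rw [special_commutator_diagonal hs hA hcard]
    exact hcard

end Cfsg.Agent.Lib.Helper83
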