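import Mathlib
import Cfsg.Agent.Lib.Helper83.Special
import Cfsg.Agent.Lib.Helper83.Special3

/-! # Special rank one groups with `A` elementary abelian: the subgroup `⟨a, b(a)⟩` (helper83, for S5022) -/

set_option autoImplicit false

namespace Cfsg.Agent.Lib.Helper83

open Cfsg

section zp
variable {G : Type*} [Group G] {p : ℕ} [hp : Fact p.Prime]

/-- `g ^ t` for `t : ZMod p` -/
def zp (g : G) (t : ZMod p) : G := g ^ t.val

theorem zp_zero (g : G) : zp g (0 : ZMod p) = 1 := by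
  unfold zp; rw [ZMod.val_zero, pow_zero]

theorem zp_natCast {g : G} (hg : g ^ p = 1) (k : ℕ) : zp g (k : ZMod p) = g ^ k := by
  unfold zp
  rw [ZMod.val_natCast]
  conv_rhs => rw [← Nat.div_add_mod k p]
  rw [pow_add, pow_mul, hg, one_pow, one_mul]

theorem zp_one {g : G} (hg : g ^ p = 1) : zp g (1 : ZMod p) = g := by
  have := zp_natCast hg 1
  rwa [Nat.cast_one, pow_one] at this

theorem zp_add {g : G} (hg : g ^ p = 1) (s t : ZMod p) : zp g (s + t) = zp g s * zp g t := by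
  have h : s + t = ((s.val + t.val : ℕ) : ZMod p) := by
    push_cast
    rw [ZMod.natCast_zmod_val, ZMod.natCast_zmod_val]
  rw [h, zp_natCast hg, pow_add]
  rfl

theorem zp_neg {g : G} (hg : g ^ p = 1) (t : ZMod p) : zp g (-t) = (zp g t)⁻¹ := by
  have h := zp_add hg (-t) t
  rw [neg_add_cancel, zp_zero] at h
  exact eq_inv_of_mul_eq_one_left h.symm

theorem zp_pow_p {g : G} (hg : g ^ p = 1) (t : ZMod p) : (zp g t) ^ p = 1 := by
  unfold zp
  rw [← pow_mul, mul_comm, pow_mul, hg, one_pow]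

theorem zp_mul {g : G} (hg : g ^ p = 1) (s t : ZMod p) : zp (zp g s) t = zp g (s * t) := by
  have h : s * t = ((s.val * t.val : ℕ) : ZMod p) := by
    push_cast
    rw [ZMod.natCast_zmod_val, ZMod.natCast_zmod_val]
  rw [h, zp_natCast hg, pow_mul]
  rfl

theorem zp_mem {H : Subgroup G} {g : G} (hg : g ∈ H) (t : ZMod p) : zp g t ∈ H := H.pow_mem hg _

theorem zp_eq_one_iff {g : G} (hg : g ^ p = 1) (hg1 : g ≠ 1) (t : ZMod p) : zp g t = 1 ↔ t = 0 := by
  constructor
  · intro h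
    have hord : orderOf g = p := orderOf_eq_prime hg hg1
    unfold zp at h
    have hd : orderOf g ∣ t.val := orderOf_dvd_of_pow_eq_one h
    rw [hord] at hd
    have hlt : t.val < p := ZMod.val_lt t
    have h0 : t.val = 0 := Nat.eq_zero_of_dvd_of_lt hd hlt
    exact (ZMod.val_eq_zero t).1 h0
  · rintro rfl
    exact zp_zero g

theorem zp_injective {g : G} (hg : g ^ p = 1) (hg1 : g ≠ 1) : Function.Injective (zp (p := p) g) := by
  intro s t h
  have h1 : zp g (s - t) = 1 := by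
    rw [sub_eq_add_neg, zp_add hg, zp_neg hg, h, mul_inv_cancel]
  exact sub_eq_zero.1 ((zp_eq_one_iff hg hg1 _).1 h1)

theorem mem_zpowers_iff_zp {g : G} (hg : g ^ p = 1) (x : G) :
    x ∈ Subgroup.zpowers g ↔ ∃ t : ZMod p, x = zp g t := by
  constructor
  · intro hx
    obtain ⟨k, rfl⟩ := Subgroup.mem_zpowers_iff.1 hx
    refine ⟨(k : ZMod p), ?_⟩
    unfold zp
    have hk : (k : ZMod p) = (((k : ZMod p).val : ℕ) : ZMod p) := by rw [ZMod.natCast_zmod_val]
    have h1 : ((k : ZMod p).val : ℤ) ≡ k [ZMOD p] := by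
      rw [← ZMod.intCast_eq_intCast_iff]
      push_cast
      rw [ZMod.natCast_zmod_val]
    rw [← zpow_natCast]
    have h2 : ∀ m n : ℤ, m ≡ n [ZMOD p] → g ^ m = g ^ n := by
      intro m n hmn
      obtain ⟨c, hc⟩ := hmn.symm.dvd
      have : m = n + p * c := by omega
      rw [this, zpow_add, zpow_mul, zpow_natCast, hg, one_zpow, mul_one]
    exact (h2 _ _ h1).symm
  · rintro ⟨t, rfl⟩
    exact Subgroup.pow_mem _ (Subgroup.mem_zpowers g) _

theorem zpowers_zp {g : G} (hg : g ^ p = 1) {t : ZMod p} (ht : t ≠ 0) :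
    Subgroup.zpowers (zp g t) = Subgroup.zpowers g := by
  apply le_antisymm
  · rw [Subgroup.zpowers_le]
    exact Subgroup.pow_mem _ (Subgroup.mem_zpowers g) _
  · rw [Subgroup.zpowers_le]
    have h : zp (zp g t) t⁻¹ = g := by
      rw [zp_mul hg, mul_inv_cancel₀ ht, zp_one hg]
    have h2 : zp (zp g t) t⁻¹ ∈ Subgroup.zpowers (zp g t) :=
      Subgroup.pow_mem _ (Subgroup.mem_zpowers _) _
    rwa [h] at h2

end zp

section pair
variable {G : Type*} [Group G] {A B : Subgroup G} {p : ℕ} [hp : Fact p.Prime]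

theorem zpowers_nilpotent (x : G) : Group.IsNilpotent (Subgroup.zpowers x) := by
  let _i : CommGroup (Subgroup.zpowers x) := IsCyclic.commGroup
  exact CommGroup.isNilpotent

theorem conjBy_zpowers (x g : G) : conjBy (Subgroup.zpowers x) g = Subgroup.zpowers (g * x * g⁻¹) := by
  ext y
  rw [mem_conjBy, Subgroup.mem_zpowers_iff, Subgroup.mem_zpowers_iff]
  constructor
  · rintro ⟨k, hk⟩
    refine ⟨k, ?_⟩
    have : (g * x * g⁻¹) ^ k = g * x ^ k * g⁻¹ := by
      rw [← MulAut.conj_apply, ← map_zpow, MulAut.conj_apply]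
    rw [this, hk]; group
  · rintro ⟨k, hk⟩
    refine ⟨k, ?_⟩
    have : (g * x * g⁻¹) ^ k = g * x ^ k * g⁻¹ := by
      rw [← MulAut.conj_apply, ← map_zpow, MulAut.conj_apply]
    rw [← hk, this]; group

/-- the relation `A^b = B^a` for the cyclic subgroups -/
theorem prel_small (hs : IsSpecialRankOnePair A B) {x y : G} (hr : PRel A B x y) :
    conjBy (Subgroup.zpowers x) y⁻¹ = conjBy (Subgroup.zpowers y) x⁻¹ := by
  have h := prel_special hs hr
  rw [conjBy_zpowers, conjBy_zpowers, inv_inv, inv_inv, h]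
  have e : x⁻¹ * y * x = (x⁻¹ * y⁻¹ * x)⁻¹ := by group
  rw [e, Subgroup.zpowers_inv]

variable (hs : IsSpecialRankOnePair A B) (hA : IsElementaryAbelian p A)
include hs hA

theorem pow_ne_one_of_elementary {z : G} (hz : z ∈ A) (hz1 : z ≠ 1) (i : ℕ) (hi : 0 < i) (hip : i < p) :
    z ^ i ≠ 1 := by
  intro h
  have hord : orderOf z = p := orderOf_eq_prime (hA.2 z hz) hz1
  have hd : orderOf z ∣ i := orderOf_dvd_of_pow_eq_one h
  rw [hord] at hd
  have := Nat.le_of_dvd hi hd
  omega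

/-- `β(a^k) = β(a)^(1/k)` -/
theorem prel_zp {a b : G} (hr : PRel A B a b) {k : ZMod p} (hk : k ≠ 0) :
    PRel A B (zp a k) (zp b k⁻¹) := by
  have ha := hr.1
  have ha1 := prel_ne_left hs.1 hr
  have hap : a ^ p = 1 := hA.2 a ha
  have hbp : b ^ p = 1 := (prel_pow_eq_one_iff hs hr p).1 hap
  have hx1 : zp a k ≠ 1 := fun h => hk ((zp_eq_one_iff hap ha1 k).1 h)
  obtain ⟨c, hrc⟩ := prel_exists_right hs.1 (zp_mem ha k) hx1
  have hkpos : 0 < k.val := Nat.pos_of_ne_zero (fun h => hk ((ZMod.val_eq_zero k).1 h))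
  have hck : c ^ k.val = b :=
    prel_pow hs p (fun z hz hz1 i hi hip => pow_ne_one_of_elementary hs hA hz hz1 i hi hip) k.val hkpos
      (le_of_lt (ZMod.val_lt k)) a b c hx1 hr hrc
  have hcp : c ^ p = 1 := (prel_pow_eq_one_iff hs hrc p).1 (zp_pow_p hap k)
  have hc : zp b k⁻¹ = c := by
    have : b = zp c k := hck.symm
    rw [this, zp_mul hcp, mul_inv_cancel₀ hk, zp_one hcp]
  rw [hc]
  exact hrc

/-- the cyclic subgroups `⟨a⟩`, `⟨b⟩` satisfy the rank one relation -/
theorem small_rel {a b : G} (hr : PRel A B a b) {k : ZMod p} (hk : k ≠ 0) :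
    conjBy (Subgroup.zpowers a) (zp b k⁻¹)⁻¹ = conjBy (Subgroup.zpowers b) (zp a k)⁻¹ := by
  have ha := hr.1
  have hap : a ^ p = 1 := hA.2 a ha
  have hbp : b ^ p = 1 := (prel_pow_eq_one_iff hs hr p).1 hap
  have h := prel_small hs (prel_zp hs hA hr hk)
  rw [zpowers_zp hap hk, zpowers_zp hbp (inv_ne_zero hk)] at h
  exact h

theorem small_pair {a b : G} (hr : PRel A B a b) :
    IsRankOnePair (Subgroup.zpowers a) (Subgroup.zpowers b) := by
  have ha := hr.1
  have hb := hr.2.1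
  have ha1 := prel_ne_left hs.1 hr
  have hb1 := prel_ne_right hs.1 hr
  have hap : a ^ p = 1 := hA.2 a ha
  have hbp : b ^ p = 1 := (prel_pow_eq_one_iff hs hr p).1 hap
  refine ⟨?_, ?_, ?_, ?_, ?_⟩
  · intro h
    have hab : a ∈ B := by
      have : a ∈ Subgroup.zpowers b := by rw [← h]; exact Subgroup.mem_zpowers a
      exact (Subgroup.zpowers_le.2 hb) this
    -- `a ∈ A ∩ B` normalizes `B`... use the big pair
    have hbA : b ∈ A := by
      have : b ∈ Subgroup.zpowers a := by rw [h]; exact Subgroup.mem_zpowers b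
      exact (Subgroup.zpowers_le.2 ha) this
    -- `b ∈ A` normalizes `A`
    exact hb1 (rop_norm_right hs.1 hb (conjBy_mem_self hbA))
  · exact zpowers_nilpotent a
  · exact zpowers_nilpotent b
  · intro x hx hx1
    obtain ⟨k, rfl⟩ := (mem_zpowers_iff_zp hap x).1 hx
    have hk : k ≠ 0 := fun h => hx1 (by rw [h, zp_zero])
    refine ⟨zp b k⁻¹, Subgroup.pow_mem _ (Subgroup.mem_zpowers b) _, ?_, small_rel hs hA hr hk⟩
    exact fun h => (inv_ne_zero hk) ((zp_eq_one_iff hbp hb1 _).1 h)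
  · intro y hy hy1
    obtain ⟨k, rfl⟩ := (mem_zpowers_iff_zp hbp y).1 hy
    have hk : k ≠ 0 := fun h => hy1 (by rw [h, zp_zero])
    refine ⟨zp a k⁻¹, Subgroup.pow_mem _ (Subgroup.mem_zpowers a) _, ?_, ?_⟩
    · exact fun h => (inv_ne_zero hk) ((zp_eq_one_iff hap ha1 _).1 h)
    · have := small_rel hs hA hr (inv_ne_zero hk)
      rw [inv_inv] at this
      exact this.symm

end pair

end Cfsg.Agent.Lib.Helper83
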