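import Mathlib
import Cfsg.Agent.Lib.Helper83.RankP1
import Cfsg.Agent.Lib.Helper21.SL2Recognize

/-! # The subgroup `⟨a, b(a)⟩` acts on a projective line over `ZMod p` (helper83, for S5022) -/

set_option autoImplicit false

namespace Cfsg.Agent.Lib.Helper83

open Cfsg Matrix OnePoint Cfsg.Agent.Lib.Helper21

section
variable {G : Type*} [Group G] {A B : Subgroup G} {p : ℕ} [hp : Fact p.Prime]

/-- the points of the line: `∞ ↦ ⟨a⟩`, `t ↦ ⟨b⟩` conjugated by `a ^ t` -/
def ptOf (a b : G) : OnePoint (ZMod p) → Subgroup G :=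
  fun z => Option.elim z (Subgroup.zpowers a) (fun t => conjBy (Subgroup.zpowers b) (zp a t))

theorem ptOf_infty (a b : G) : ptOf (p := p) a b ∞ = Subgroup.zpowers a := rfl

theorem ptOf_coe (a b : G) (t : ZMod p) :
    ptOf a b (t : OnePoint (ZMod p)) = conjBy (Subgroup.zpowers b) (zp a t) := rfl

/-- the upper unitriangular generator -/
def sfU (p : ℕ) [Fact p.Prime] : SpecialLinearGroup (Fin 2) (ZMod p) :=
  ⟨!![1, 1; 0, 1], by simp [det_fin_two]⟩

/-- the lower unitriangular generator -/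
def sfL (p : ℕ) [Fact p.Prime] : SpecialLinearGroup (Fin 2) (ZMod p) :=
  ⟨!![1, 0; 1, 1], by simp [det_fin_two]⟩

theorem sfU_infty : slSmul (sfU p) (∞ : OnePoint (ZMod p)) = ∞ := by
  unfold sfU
  rw [slSmul_mk_infty, if_pos rfl]

theorem sfU_coe (t : ZMod p) : slSmul (sfU p) (t : OnePoint (ZMod p)) = ((t + 1 : ZMod p) : OnePoint (ZMod p)) := by
  unfold sfU
  rw [slSmul_mk_coe]
  simp

theorem sfL_infty : slSmul (sfL p) (∞ : OnePoint (ZMod p)) = ((1 : ZMod p) : OnePoint (ZMod p)) := by
  unfold sfL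
  rw [slSmul_mk_infty, if_neg one_ne_zero, div_one]

theorem sfL_coe (t : ZMod p) : slSmul (sfL p) (t : OnePoint (ZMod p)) =
    if t + 1 = 0 then ∞ else ((t / (t + 1) : ZMod p) : OnePoint (ZMod p)) := by
  unfold sfL
  rw [slSmul_mk_coe]
  simp

variable (hs : IsSpecialRankOnePair A B) (hA : IsElementaryAbelian p A)
include hs hA

/-- the small pair is special -/
theorem small_special {a b : G} (hr : PRel A B a b) :
    IsSpecialRankOnePair (Subgroup.zpowers a) (Subgroup.zpowers b) := by
  have hsp := small_pair hs hA hr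
  refine ⟨hsp, ?_⟩
  intro x hx hx1 y hy hy1 hc
  have hap : a ^ p = 1 := hA.2 a hr.1
  obtain ⟨k, rfl⟩ := (mem_zpowers_iff_zp hap x).1 hx
  have hk : k ≠ 0 := fun h => hx1 (by rw [h, zp_zero])
  have hrk := prel_zp hs hA hr hk
  have hy' : y = zp b k⁻¹ := by
    apply rop_unique_right hsp hy (zp_mem (Subgroup.mem_zpowers b) _)
    rw [hc]; exact (small_rel hs hA hr hk).symm
  rw [hy']
  exact prel_special hs hrk

/-- the two descriptions of a finite nonzero point -/
theorem pt_alt {a b : G} (hr : PRel A B a b) {s : ZMod p} (hs0 : s ≠ 0) :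
    conjBy (Subgroup.zpowers a) (zp b s) = conjBy (Subgroup.zpowers b) (zp a s⁻¹) := by
  have hap : a ^ p = 1 := hA.2 a hr.1
  have hbp : b ^ p = 1 := (prel_pow_eq_one_iff hs hr p).1 hap
  have hk : -s⁻¹ ≠ 0 := neg_ne_zero.2 (inv_ne_zero hs0)
  have h := small_rel hs hA hr hk
  have e1 : (-s⁻¹)⁻¹ = -s := by rw [inv_neg, inv_inv]
  rw [e1, zp_neg hbp, inv_inv, zp_neg hap, inv_inv] at h
  exact h

theorem pt_a {a b : G} (hr : PRel A B a b) (z : OnePoint (ZMod p)) :
    conjBy (ptOf a b z) a = ptOf a b (slSmul (sfU p) z) := by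
  have hap : a ^ p = 1 := hA.2 a hr.1
  cases z using OnePoint.rec with
  | infty =>
    rw [sfU_infty, ptOf_infty]
    exact conjBy_mem_self (Subgroup.mem_zpowers a)
  | coe t =>
    rw [sfU_coe, ptOf_coe, ptOf_coe, conjBy_conjBy]
    congr 1
    rw [add_comm, zp_add hap, zp_one hap]

theorem pt_b {a b : G} (hr : PRel A B a b) (z : OnePoint (ZMod p)) :
    conjBy (ptOf a b z) b = ptOf a b (slSmul (sfL p) z) := by
  have hap : a ^ p = 1 := hA.2 a hr.1
  have hbp : b ^ p = 1 := (prel_pow_eq_one_iff hs hr p).1 hap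
  cases z using OnePoint.rec with
  | infty =>
    rw [sfL_infty, ptOf_infty, ptOf_coe]
    have h := pt_alt hs hA hr (s := 1) one_ne_zero
    rw [zp_one hbp, inv_one] at h
    exact h
  | coe t =>
    rw [sfL_coe]
    by_cases ht : t = 0
    · subst ht
      rw [if_neg (by rw [zero_add]; exact one_ne_zero), zero_div, ptOf_coe, zp_zero, conjBy_one]
      exact conjBy_mem_self (Subgroup.mem_zpowers b)
    · have h1 : ptOf a b (t : OnePoint (ZMod p)) = conjBy (Subgroup.zpowers a) (zp b t⁻¹) := by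
        rw [ptOf_coe, pt_alt hs hA hr (inv_ne_zero ht), inv_inv]
      rw [h1, conjBy_conjBy]
      have h2 : b * zp b t⁻¹ = zp b (1 + t⁻¹) := by rw [zp_add hbp, zp_one hbp]
      rw [h2]
      by_cases ht1 : t + 1 = 0
      · rw [if_pos ht1, ptOf_infty]
        have : 1 + t⁻¹ = 0 := by
          have : t = -1 := eq_neg_of_add_eq_zero_left ht1
          rw [this, inv_neg, inv_one, add_neg_cancel]
        rw [this, zp_zero, conjBy_one]
      · rw [if_neg ht1, ptOf_coe]
        have h3 : 1 + t⁻¹ ≠ 0 := by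
          intro h
          apply ht1
          have : t * (1 + t⁻¹) = 0 := by rw [h, mul_zero]
          rw [mul_add, mul_one, mul_inv_cancel₀ ht] at this
          exact this
        rw [pt_alt hs hA hr h3]
        congr 2
        field_simp

theorem pt_injective {a b : G} (hr : PRel A B a b) : Function.Injective (ptOf (p := p) a b) := by
  have hap : a ^ p = 1 := hA.2 a hr.1
  have ha1 := prel_ne_left hs.1 hr
  have hsp := small_pair hs hA hr
  have key : ∀ t : ZMod p, ptOf a b (t : OnePoint (ZMod p)) ≠ ptOf a b (∞ : OnePoint (ZMod p)) := by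
    intro t
    rw [ptOf_coe, ptOf_infty]
    exact rop_conjBy_B_ne_A hsp (zp_mem (Subgroup.mem_zpowers a) t)
  intro z w h
  cases z using OnePoint.rec with
  | infty =>
    cases w using OnePoint.rec with
    | infty => rfl
    | coe t => exact absurd h.symm (key t)
  | coe s =>
    cases w using OnePoint.rec with
    | infty => exact absurd h (key s)
    | coe t =>
      rw [ptOf_coe, ptOf_coe, conjBy_eq_iff, conjBy_conjBy] at h
      have h1 : (zp a s)⁻¹ * zp a t = zp a (t - s) := by
        rw [sub_eq_add_neg, add_comm, zp_add hap, zp_neg hap]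
      rw [h1] at h
      have h2 := rop_norm_left hsp (zp_mem (Subgroup.mem_zpowers a) (t - s)) h.symm
      have h3 := (zp_eq_one_iff hap ha1 _).1 h2
      rw [sub_eq_zero.1 h3]

/-- every element of `⟨a, b⟩` acts on the points as a Moebius transformation -/
theorem pt_rep {a b : G} (hr : PRel A B a b) {y : G} (hy : y ∈ Subgroup.closure ({a, b} : Set G)) :
    ∃ g : SpecialLinearGroup (Fin 2) (ZMod p), ∀ z, conjBy (ptOf a b z) y = ptOf a b (slSmul g z) := by
  induction hy using Subgroup.closure_induction with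
  | mem x hx =>
    rcases hx with rfl | rfl
    · exact ⟨sfU p, pt_a hs hA hr⟩
    · exact ⟨sfL p, pt_b hs hA hr⟩
  | one => exact ⟨1, fun z => by rw [conjBy_one, slSmul_one]⟩
  | mul x y _ _ hx hy =>
    obtain ⟨g, hg⟩ := hx
    obtain ⟨g', hg'⟩ := hy
    refine ⟨g * g', fun z => ?_⟩
    rw [← conjBy_conjBy, hg', hg, slSmul_mul]
  | inv x _ hx =>
    obtain ⟨g, hg⟩ := hx
    refine ⟨g⁻¹, fun z => ?_⟩
    rw [conjBy_eq_iff, inv_inv, hg, ← slSmul_mul, mul_inv_cancel, slSmul_one]

end

end Cfsg.Agent.Lib.Helper83
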