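import Mathlib
import Cfsg.Agent.Lib.Helper3.ZT8
import Cfsg.Agent.Lib.Helper5.SLGen
import Cfsg.Agent.Lib.Helper10.FFSL2
import Cfsg.Agent.Lib.Helper66.Central
import Cfsg.Agent.S3961
import Cfsg.Agent.S2117

/-! # Perfect central extensions of `PSL₂(p)` (helper83, for S5022) -/

set_option autoImplicit false

namespace Cfsg.Agent.Lib.Helper83

open Cfsg Matrix OnePoint Cfsg.Agent.Lib.Helper21 Cfsg.Agent.Lib.Helper3.ZT

open scoped commutatorElement

section general

/-- a homomorphism into a perfect group which is onto modulo a central subgroup is onto -/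
theorem surjective_of_perfect_central {G Y Q : Type*} [Group G] [Group Y] [Group Q]
    (η : G →* Y) (ξ : Y →* Q) (hker : ξ.ker ≤ Subgroup.center Y)
    (hcomp : Function.Surjective (ξ.comp η)) (hperf : commutator Y = ⊤) :
    Function.Surjective η := by
  have hdec : ∀ y : Y, ∃ r ∈ η.range, ∃ z ∈ Subgroup.center Y, y = r * z := by
    intro y
    obtain ⟨g, hg⟩ := hcomp (ξ y)
    refine ⟨η g, ⟨g, rfl⟩, (η g)⁻¹ * y, ?_, by group⟩
    apply hker
    rw [MonoidHom.mem_ker, map_mul, map_inv]
    rw [MonoidHom.comp_apply] at hg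
    rw [hg, inv_mul_cancel]
  have hle : commutator Y ≤ η.range := by
    rw [commutator_eq_closure, Subgroup.closure_le]
    rintro _ ⟨y₁, y₂, rfl⟩
    obtain ⟨r₁, hr₁, z₁, hz₁, rfl⟩ := hdec y₁
    obtain ⟨r₂, hr₂, z₂, hz₂, rfl⟩ := hdec y₂
    rw [Cfsg.Agent.Lib.Helper66.commutatorElement_mul_central r₁ r₂ z₁ z₂ hz₁ hz₂]
    exact Subgroup.commutator_mem_commutator hr₁ hr₂ |> fun h =>
      (Subgroup.commutator_le_self _ : ⁅η.range, η.range⁆ ≤ η.range) h
  rw [hperf, top_le_iff] at hle
  exact MonoidHom.range_eq_top.1 hle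

end general

section sl2
variable {K : Type*} [Field K]

/-- the centre of `SL₂(K)` has at most one nonidentity element -/
theorem sl2_center_unique {c₁ c₂ : SpecialLinearGroup (Fin 2) K}
    (h₁ : c₁ ∈ Subgroup.center (SpecialLinearGroup (Fin 2) K))
    (h₂ : c₂ ∈ Subgroup.center (SpecialLinearGroup (Fin 2) K)) (n₁ : c₁ ≠ 1) (n₂ : c₂ ≠ 1) :
    c₁ = c₂ := by
  rw [Matrix.SpecialLinearGroup.mem_center_iff] at h₁ h₂
  obtain ⟨r₁, hr₁, e₁⟩ := h₁
  obtain ⟨r₂, hr₂, e₂⟩ := h₂
  rw [Fintype.card_fin, sq] at hr₁ hr₂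
  have k₁ : r₁ = -1 := by
    rcases mul_self_eq_one_iff.1 hr₁ with h | h
    · exfalso; apply n₁
      ext i j
      rw [← e₁, h]; simp
    · exact h
  have k₂ : r₂ = -1 := by
    rcases mul_self_eq_one_iff.1 hr₂ with h | h
    · exfalso; apply n₂
      ext i j
      rw [← e₂, h]; simp
    · exact h
  ext i j
  rw [← e₁, ← e₂, k₁, k₂]

theorem transvection_pow' {i j : Fin 2} (hij : i ≠ j) (c : K) (n : ℕ) :
    (SpecialLinearGroup.transvection hij c) ^ n = SpecialLinearGroup.transvection hij (n • c) := by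
  induction n with
  | zero => rw [pow_zero, zero_smul, SpecialLinearGroup.transvection_coeff_zero]
  | succ n ih => rw [pow_succ, ih, ← SpecialLinearGroup.transvection_add, succ_nsmul]

end sl2

section zmod
variable {p : ℕ} [hp : Fact p.Prime]

/-- `SL₂(p)` is generated by the two elementary unipotent matrices -/
theorem sl2_closure_two (u l : SpecialLinearGroup (Fin 2) (ZMod p))
    (hu : u = SpecialLinearGroup.transvection (i := (0 : Fin 2)) (j := 1) (by decide) 1)
    (hl : l = SpecialLinearGroup.transvection (i := (1 : Fin 2)) (j := 0) (by decide) 1) :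
    Subgroup.closure ({u, l} : Set (SpecialLinearGroup (Fin 2) (ZMod p))) = ⊤ := by
  apply Cfsg.Agent.Lib.Helper5.eq_top_of_transvection_mem
  intro i j hij c
  have hc : c = c.val • (1 : ZMod p) := by rw [nsmul_eq_mul, mul_one, ZMod.natCast_zmod_val]
  rw [hc, ← transvection_pow']
  apply Subgroup.pow_mem
  fin_cases i <;> fin_cases j
  · exact absurd rfl hij
  · apply Subgroup.subset_closure
    left; exact hu.symm
  · apply Subgroup.subset_closure
    right; exact hl.symm
  · exact absurd rfl hij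

/-- Perfect central extensions of `PSL₂(p)`, `p ≥ 5`, are `SL₂(p)` or `PSL₂(p)`. -/
theorem cover_sl2_or_psl2 {Y : Type*} [Group Y] [Finite Y] (hperf : commutator Y = ⊤)
    (h2 : p ≠ 2) (h3 : p ≠ 3)
    (ξ : Y →* (slPerm : SpecialLinearGroup (Fin 2) (ZMod p) →* _).range)
    (hξ : Function.Surjective ξ) (hker : ξ.ker ≤ Subgroup.center Y) :
    Nonempty (Y ≃* SpecialLinearGroup (Fin 2) (ZMod p)) ∨
    Nonempty (Y ≃* ProjectiveSpecialLinearGroup (Fin 2) (ZMod p)) := by
  classical
  have hpp : p.Prime := hp.out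
  let S := SpecialLinearGroup (Fin 2) (ZMod p)
  let π : S →* (slPerm : S →* _).range := (slPerm : S →* _).rangeRestrict
  have hπ : Function.Surjective π := MonoidHom.rangeRestrict_surjective _
  have hkerπ : π.ker = Subgroup.center S := by
    rw [MonoidHom.ker_rangeRestrict, ker_slPerm]
  have hG : Group.IsPerfect S := ⟨Cfsg.Agent.Lib.Helper10.commutator_SL2_zmod_eq_top h2 h3⟩
  have h4 : Fintype.card (ZMod p) ≠ 4 := by
    rw [ZMod.card]; intro h; rw [h] at hpp; exact absurd hpp (by norm_num)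
  have h9 : Fintype.card (ZMod p) ≠ 9 := by
    rw [ZMod.card]; intro h; rw [h] at hpp; exact absurd hpp (by norm_num)
  have hM := Cfsg.Agent.S2117.result (F := ZMod p) h4 h9
  have huniv := (Cfsg.Agent.S3961.result hG π hπ (le_of_eq hkerπ)).2 hM
  -- shrink `Y` to the universe of `S`
  let e : Shrink.{0} Y ≃* Y := Shrink.mulEquiv
  obtain ⟨η', hη'⟩ := huniv (Shrink.{0} Y) (ξ.comp e.toMonoidHom)
    (hξ.comp e.surjective)
    (by
      intro x hx
      rw [MonoidHom.mem_ker, MonoidHom.comp_apply] at hx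
      have hc := hker (show e x ∈ ξ.ker from hx)
      rw [Subgroup.mem_center_iff] at hc ⊢
      intro g
      apply e.injective
      rw [map_mul, map_mul]
      exact hc (e g))
  let η : S →* Y := e.toMonoidHom.comp η'
  have hη : ξ.comp η = π := by
    rw [← hη']; rfl
  have hsurj : Function.Surjective η :=
    surjective_of_perfect_central η ξ hker (by rw [hη]; exact hπ) hperf
  have hkerη : η.ker ≤ Subgroup.center S := by
    rw [← hkerπ, ← hη]
    intro g hg
    rw [MonoidHom.mem_ker] at hg ⊢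
    rw [MonoidHom.comp_apply, hg, map_one]
  by_cases hbot : η.ker = ⊥
  · left
    have hinj : Function.Injective η := (MonoidHom.ker_eq_bot_iff η).1 hbot
    exact ⟨(MulEquiv.ofBijective η ⟨hinj, hsurj⟩).symm⟩
  · right
    obtain ⟨g, hg, hg1⟩ := (Subgroup.ne_bot_iff_exists_ne_one).1 hbot |>.imp
      (fun g h => h) |> fun ⟨g, hg1⟩ => (⟨g.1, g.2, fun h => hg1 (Subtype.ext h)⟩ :
        ∃ g : S, g ∈ η.ker ∧ g ≠ 1)
    have heq : η.ker = Subgroup.center S := by
      apply le_antisymm hkerη
      intro c hc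
      by_cases hc1 : c = 1
      · rw [hc1]; exact Subgroup.one_mem _
      · rw [sl2_center_unique hc (hkerη hg) hc1 hg1]
        exact hg
    exact ⟨((QuotientGroup.quotientKerEquivOfSurjective η hsurj).symm).trans
      (QuotientGroup.quotientMulEquivOfEq heq)⟩

end zmod

end Cfsg.Agent.Lib.Helper83
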