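import Mathlib
import Cfsg.Agent.Lib.Helper83.RankP2
import Cfsg.Agent.Lib.Helper83.RankP3
import Cfsg.Agent.Lib.Helper83.Special2
import Cfsg.Agent.Lib.Helper83.Special3

/-! # `⟨a, b(a)⟩ ≅ SL₂(p)` or `PSL₂(p)` for `p ≥ 5` (helper83, for S5022) -/

set_option autoImplicit false

namespace Cfsg.Agent.Lib.Helper83

open Cfsg Matrix OnePoint Cfsg.Agent.Lib.Helper21 Cfsg.Agent.Lib.Helper3.ZT

section
variable {G : Type*} [Group G] {A B : Subgroup G} {p : ℕ} [hp : Fact p.Prime]

theorem sfU_eq : sfU p = SpecialLinearGroup.transvection (i := (0 : Fin 2)) (j := 1) (by decide) 1 := by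
  ext i j
  fin_cases i <;> fin_cases j <;> simp [sfU, SpecialLinearGroup.transvection_coe, Matrix.single_apply]

theorem sfL_eq : sfL p = SpecialLinearGroup.transvection (i := (1 : Fin 2)) (j := 0) (by decide) 1 := by
  ext i j
  fin_cases i <;> fin_cases j <;> simp [sfL, SpecialLinearGroup.transvection_coe, Matrix.single_apply]

/-- an element normalizing `A`, `B` and `x⁻¹ B x` commutes with `x ∈ A` -/
theorem commute_of_normalizes {A B : Subgroup G} (h : IsRankOnePair A B) {y x : G} (hx : x ∈ A)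
    (hA : conjBy A y = A) (hB : conjBy B y = B) (hC : conjBy (conjBy B x⁻¹) y = conjBy B x⁻¹) :
    y * x = x * y := by
  have hx' : y * x * y⁻¹ ∈ A := by
    have := conj_mem_conjBy (A := A) (g := y) hx
    rwa [hA] at this
  have key : x = y * x * y⁻¹ := by
    apply rop_unique_left h hx hx'
    have e : (y * x * y⁻¹)⁻¹ * y = y * x⁻¹ := by group
    calc conjBy B x⁻¹ = conjBy (conjBy B x⁻¹) y := hC.symm
      _ = conjBy B (y * x⁻¹) := conjBy_conjBy _ _ _
      _ = conjBy B ((y * x * y⁻¹)⁻¹ * y) := by rw [e]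
      _ = conjBy (conjBy B y) (y * x * y⁻¹)⁻¹ := (conjBy_conjBy _ _ _).symm
      _ = conjBy B (y * x * y⁻¹)⁻¹ := by rw [hB]
  calc y * x = (y * x * y⁻¹) * y := by group
    _ = x * y := by rw [← key]

theorem closure_pair_eq (a b : G) :
    Subgroup.closure ({a, b} : Set G) = Subgroup.zpowers a ⊔ Subgroup.zpowers b := by
  rw [Subgroup.zpowers_eq_closure, Subgroup.zpowers_eq_closure, ← Subgroup.closure_union]
  rfl

variable (hs : IsSpecialRankOnePair A B) (hA : IsElementaryAbelian p A)

/-- the action on the line as a homomorphism -/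
noncomputable def ptHom {a b : G} (hr : PRel A B a b) :
    ↥(Subgroup.closure ({a, b} : Set G)) →* Equiv.Perm (OnePoint (ZMod p)) :=
  MonoidHom.mk' (fun y => slPerm (Classical.choose (pt_rep hs hA hr y.2))) (by
    intro y₁ y₂
    ext z
    apply pt_injective hs hA hr
    rw [slPerm_apply, ← Classical.choose_spec (pt_rep hs hA hr (y₁ * y₂).2) z]
    rw [Equiv.Perm.mul_apply, slPerm_apply, slPerm_apply,
      ← Classical.choose_spec (pt_rep hs hA hr y₁.2), ← Classical.choose_spec (pt_rep hs hA hr y₂.2) z,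
      conjBy_conjBy]
    rfl)

include hs hA

theorem ptHom_spec {a b : G} (hr : PRel A B a b) (y : ↥(Subgroup.closure ({a, b} : Set G)))
    (z : OnePoint (ZMod p)) :
    conjBy (ptOf a b z) (y : G) = ptOf a b (ptHom hs hA hr y z) :=
  Classical.choose_spec (pt_rep hs hA hr y.2) z

theorem ptHom_range {a b : G} (hr : PRel A B a b) :
    (ptHom hs hA hr).range = (slPerm : SpecialLinearGroup (Fin 2) (ZMod p) →* _).range := by
  apply le_antisymm
  · rintro _ ⟨y, rfl⟩
    exact ⟨Classical.choose (pt_rep hs hA hr y.2), rfl⟩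
  · have hcl := sl2_closure_two (sfU p) (sfL p) sfU_eq sfL_eq
    rw [MonoidHom.range_eq_map, ← hcl, MonoidHom.map_closure, Subgroup.closure_le]
    rintro _ ⟨g, hg, rfl⟩
    rcases hg with rfl | rfl
    · refine ⟨⟨a, Subgroup.subset_closure (by simp)⟩, ?_⟩
      ext z
      apply pt_injective hs hA hr
      rw [← ptHom_spec, slPerm_apply, ← pt_a hs hA hr]
    · refine ⟨⟨b, Subgroup.subset_closure (by simp)⟩, ?_⟩
      ext z
      apply pt_injective hs hA hr
      rw [← ptHom_spec, slPerm_apply, ← pt_b hs hA hr]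

theorem ptHom_ker_le {a b : G} (hr : PRel A B a b) :
    (ptHom hs hA hr).ker ≤ Subgroup.center _ := by
  intro y hy
  have hap : a ^ p = 1 := hA.2 a hr.1
  have hbp : b ^ p = 1 := (prel_pow_eq_one_iff hs hr p).1 hap
  have hsp := small_pair hs hA hr
  have hfix : ∀ z : OnePoint (ZMod p), conjBy (ptOf a b z) (y : G) = ptOf a b z := by
    intro z
    rw [ptHom_spec hs hA hr y z, MonoidHom.mem_ker.1 hy]
    rfl
  have hfA : conjBy (Subgroup.zpowers a) (y : G) = Subgroup.zpowers a := hfix ∞
  have hfB : conjBy (Subgroup.zpowers b) (y : G) = Subgroup.zpowers b := by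
    have := hfix ((0 : ZMod p) : OnePoint (ZMod p))
    rwa [ptOf_coe, zp_zero, conjBy_one] at this
  have hfC : conjBy (conjBy (Subgroup.zpowers b) a⁻¹) (y : G) = conjBy (Subgroup.zpowers b) a⁻¹ := by
    have := hfix ((-1 : ZMod p) : OnePoint (ZMod p))
    rwa [ptOf_coe, zp_neg hap, zp_one hap] at this
  have hrel : conjBy (Subgroup.zpowers a) b⁻¹ = conjBy (Subgroup.zpowers b) a⁻¹ := by
    have := small_rel hs hA hr (k := 1) one_ne_zero
    rwa [inv_one, zp_one hbp, zp_one hap] at this
  have hya : (y : G) * a = a * y :=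
    commute_of_normalizes hsp (Subgroup.mem_zpowers a) hfA hfB hfC
  have hyb : (y : G) * b = b * y :=
    commute_of_normalizes (RankOnePair_symm hsp) (Subgroup.mem_zpowers b) hfB hfA (by rw [hrel]; exact hfC)
  rw [Subgroup.mem_center_iff]
  intro g
  apply Subtype.ext
  have hle : Subgroup.closure ({a, b} : Set G) ≤ Subgroup.centralizer {(y : G)} := by
    rw [Subgroup.closure_le]
    rintro x (rfl | rfl)
    · rw [SetLike.mem_coe, Subgroup.mem_centralizer_iff]
      intro h hh
      rw [Set.mem_singleton_iff.1 hh]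
      exact hya
    · rw [SetLike.mem_coe, Subgroup.mem_centralizer_iff]
      intro h hh
      rw [Set.mem_singleton_iff.1 hh]
      exact hyb
  have := hle g.2
  rw [Subgroup.mem_centralizer_iff] at this
  exact (this (y : G) rfl).symm

theorem small_perfect {a b : G} (hr : PRel A B a b) (h5 : 3 < p) :
    commutator ↥(Subgroup.closure ({a, b} : Set G)) = ⊤ := by
  have hss := small_special hs hA hr
  have hap : a ^ p = 1 := hA.2 a hr.1
  have hbp : b ^ p = 1 := (prel_pow_eq_one_iff hs hr p).1 hap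
  have ha1 := prel_ne_left hs.1 hr
  have hb1 := prel_ne_right hs.1 hr
  have hcomm : ∀ g : G, ∀ x ∈ Subgroup.zpowers g, ∀ y ∈ Subgroup.zpowers g, x * y = y * x := by
    intro g x hx y hy
    obtain ⟨i, rfl⟩ := Subgroup.mem_zpowers_iff.1 hx
    obtain ⟨j, rfl⟩ := Subgroup.mem_zpowers_iff.1 hy
    exact ((Commute.refl g).zpow_zpow i j).eq
  have hcard : ∀ g : G, g ^ p = 1 → g ≠ 1 → 3 < ENat.card (Subgroup.zpowers g) := by
    intro g hg hg1
    have hc : Nat.card (Subgroup.zpowers g) = p := by
      rw [Nat.card_zpowers, orderOf_eq_prime hg hg1]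
    have hfin : Finite (Subgroup.zpowers g) :=
      Nat.finite_of_card_ne_zero (by rw [hc]; exact hp.out.ne_zero)
    rw [ENat.card_eq_coe_natCard, hc]
    exact_mod_cast h5
  have h1 := special_le_commutator hss (hcomm a) (hcard a hap ha1)
  have h2 := special_le_commutator (special_symm hss) (hcomm b) (hcard b hbp hb1)
  rw [sup_comm] at h2
  rw [← closure_pair_eq] at h1 h2
  have hY : Subgroup.closure ({a, b} : Set G) ≤
      ⁅Subgroup.closure ({a, b} : Set G), Subgroup.closure ({a, b} : Set G)⁆ := by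
    conv_lhs => rw [closure_pair_eq]
    exact sup_le h1 h2
  apply Subgroup.map_injective (Subgroup.subtype_injective (Subgroup.closure ({a, b} : Set G)))
  rw [Subgroup.map_subtype_commutator, ← MonoidHom.range_eq_map, Subgroup.range_subtype]
  exact le_antisymm (Subgroup.commutator_le_self _) hY

theorem small_finite {a b : G} (hr : PRel A B a b) (h5 : 3 < p) :
    Finite ↥(Subgroup.closure ({a, b} : Set G)) := by
  have hperf := small_perfect hs hA hr h5
  haveI : Finite (OnePoint (ZMod p)) := inferInstanceAs (Finite (Option (ZMod p)))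
  have hfin : Finite (commutator ↥(Subgroup.closure ({a, b} : Set G))) :=
    Cfsg.Agent.Lib.Helper66.finite_commutator_of_central (ptHom hs hA hr).rangeRestrict
      (MonoidHom.rangeRestrict_surjective _)
      (by rw [MonoidHom.ker_rangeRestrict]; exact ptHom_ker_le hs hA hr)
  rw [hperf] at hfin
  exact Finite.of_equiv _ Subgroup.topEquiv.toEquiv

/-- the case `p ≥ 5` -/
theorem rank_p_large {a b : G} (hr : PRel A B a b) (h5 : 3 < p) :
    Nonempty (↥(Subgroup.closure ({a, b} : Set G)) ≃* SpecialLinearGroup (Fin 2) (ZMod p)) ∨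
    Nonempty (↥(Subgroup.closure ({a, b} : Set G)) ≃*
      ProjectiveSpecialLinearGroup (Fin 2) (ZMod p)) := by
  haveI := small_finite hs hA hr h5
  have heq := ptHom_range hs hA hr
  have hmem : ∀ y, ptHom hs hA hr y ∈ (slPerm : SpecialLinearGroup (Fin 2) (ZMod p) →* _).range := by
    intro y
    rw [← heq]
    exact ⟨y, rfl⟩
  apply cover_sl2_or_psl2 (small_perfect hs hA hr h5) (by omega) (by omega)
    ((ptHom hs hA hr).codRestrict _ hmem)
  · rintro ⟨q, hq⟩
    have hq' : q ∈ (ptHom hs hA hr).range := by rw [heq]; exact hq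
    obtain ⟨y, rfl⟩ := hq'
    exact ⟨y, Subtype.ext rfl⟩
  · rw [MonoidHom.ker_codRestrict]
    exact ptHom_ker_le hs hA hr

end

end Cfsg.Agent.Lib.Helper83
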