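import Mathlib
import Cfsg.Agent.Lib.Helper83.Braid3
import Cfsg.Agent.Lib.Helper20.SL23
import Cfsg.Agent.Lib.Helper89.A4Sub

set_option autoImplicit false
set_option linter.unusedSimpArgs false

/-! Recognition of `SL₂(3)` and `A₄` from the braid relation on two elements of order three. -/

namespace Cfsg.Agent.Lib.Helper83

open Cfsg.Agent.Lib.Helper89 Cfsg.Agent.Lib.Helper20

theorem a4Hom_bA {G : Type*} [Group G] (x y : G) (h2 : x ^ 2 = 1) (h3 : y ^ 3 = 1)
    (h33 : (x * y) ^ 3 = 1) : A4.a4Hom x y h2 h3 h33 A4.bA = y := by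
  have hY : A4.presEquiv A4.Y = A4.bA := PresentedGroup.toGroup.of A4.relA
  show PresentedGroup.toGroup (A4.rels_hold x y h2 h3 h33) (A4.presEquiv.symm A4.bA) = y
  rw [← hY, MulEquiv.symm_apply_apply]
  exact PresentedGroup.toGroup.of (A4.rels_hold x y h2 h3 h33) (x := 1)

theorem braid3_recognize {X : Type*} [Group X] (a c : X) (ha : a ^ 3 = 1) (hc : c ^ 3 = 1)
    (hbr : a * c * a = c * a * c) (ha1 : a ≠ 1) (hca : c ≠ a)
    (hgen : Subgroup.closure ({a, c} : Set X) = ⊤) :
    Nonempty (X ≃* Matrix.SpecialLinearGroup (Fin 2) (ZMod 3)) ∨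
    Nonempty (X ≃* alternatingGroup (Fin 4)) := by
  have e1 : ∀ t : X, a * (a * (a * t)) = t := by
    intro t
    have : a * (a * (a * t)) = a ^ 3 * t := by simp only [pow_succ, pow_zero, one_mul, mul_assoc]
    rw [this, ha, one_mul]
  have e2 : ∀ t : X, c * (c * (c * t)) = t := by
    intro t
    have : c * (c * (c * t)) = c ^ 3 * t := by simp only [pow_succ, pow_zero, one_mul, mul_assoc]
    rw [this, hc, one_mul]
  have e3 : ∀ t : X, c * (a * (c * t)) = a * (c * (a * t)) := by
    intro t
    have : c * (a * (c * t)) = (c * a * c) * t := by simp only [mul_assoc]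
    rw [this, ← hbr]
    simp only [mul_assoc]
  obtain ⟨r3, r6, r7⟩ := Braid3.rules a c e1 e2 e3
  have key : ∀ u v : X, (∀ t, u * t = v * t) → u = v := fun u v h => by simpa using h 1
  -- generation facts
  have hc_word : c = a * a * (a * c * a) * (a * a) := by
    apply key; intro t
    simp only [mul_assoc, e1, e2, e3, r3, r6, r7]
  have ha_word : a = a * a * (a * a) := by
    apply key; intro t
    simp only [mul_assoc, e1, e2, e3, r3, r6, r7]
  by_cases hz : (a * c * a) ^ 2 = 1
  · -- the `A₄` case
    right
    have h33 : ((a * c * a) * a) ^ 3 = 1 := by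
      apply key; intro t
      simp only [pow_succ, pow_zero, one_mul, mul_assoc, e1, e2, e3, r3, r6, r7]
    have hn1 : a * c * a ≠ 1 := by
      intro h
      apply hca
      rw [hc_word, h, mul_one]
      exact ha_word.symm
    set φ := A4.a4Hom (a * c * a) a hz ha h33 with hφ
    have hinj : Function.Injective φ := by
      apply A4.hom_injective
      rw [hφ, A4.a4Hom_aA]
      exact hn1
    have hsurj : Function.Surjective φ := by
      rw [← MonoidHom.range_eq_top, eq_top_iff, ← hgen, Subgroup.closure_le]
      have hna : a * c * a ∈ φ.range := ⟨A4.aA, by rw [hφ, A4.a4Hom_aA]⟩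
      have haa : a ∈ φ.range := ⟨A4.bA, by rw [hφ, a4Hom_bA]⟩
      intro x hx
      have hx' : x = a ∨ x = c := by simpa using hx
      rcases hx' with h | h
      · rw [h]; exact haa
      · rw [h]
        have h2 : a * a * (a * c * a) * (a * a) ∈ φ.range :=
          Subgroup.mul_mem _ (Subgroup.mul_mem _ (Subgroup.mul_mem _ haa haa) hna)
            (Subgroup.mul_mem _ haa haa)
        rw [← hc_word] at h2
        exact h2
    exact ⟨(MulEquiv.ofBijective φ ⟨hinj, hsurj⟩).symm⟩
  · -- the `SL₂(3)` case
    left
    have hginv : (a * a)⁻¹ = a := by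
      apply inv_eq_of_mul_eq_one_right
      apply key; intro t
      simp only [mul_assoc, one_mul, e1, e2, e3, r3, r6, r7]
    have d : SL23.Data (a * c * a) (a * a) := by
      refine ⟨?_, hz, ?_, ?_, ?_, ?_, ?_⟩
      · apply key; intro t
        simp only [pow_succ, pow_zero, one_mul, mul_assoc, e1, e2, e3, r3, r6, r7]
      · apply key; intro t
        simp only [pow_succ, pow_zero, one_mul, mul_assoc, e1, e2, e3, r3, r6, r7]
      · intro h
        apply ha1
        rw [ha_word, h, mul_one]
      · rw [hginv]
        apply key; intro t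
        simp only [pow_succ, pow_zero, one_mul, mul_assoc, e1, e2, e3, r3, r6, r7]
      · rw [hginv]
        have hw : (a * c * a) * ((a * a * (a * c * a) * a) * (a * c * a)) = a * a * (a * c * a) * a := by
          apply key; intro t
          simp only [mul_assoc, e1, e2, e3, r3, r6, r7]
        have h1 : (a * a * (a * c * a) * a) * (a * c * a) = (a * c * a)⁻¹ * (a * a * (a * c * a) * a) :=
          eq_inv_mul_iff_mul_eq.mpr hw
        rw [h1, mul_inv_cancel_right]
      · rw [hginv]
        apply key; intro t
        simp only [mul_assoc, e1, e2, e3, r3, r6, r7]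
    apply SL23.nonempty_equiv_sl23 d
    rw [eq_top_iff, ← hgen, Subgroup.closure_le]
    have hn : a * c * a ∈ Subgroup.closure ({a * c * a, a * a} : Set X) :=
      Subgroup.subset_closure (by simp)
    have hg : a * a ∈ Subgroup.closure ({a * c * a, a * a} : Set X) :=
      Subgroup.subset_closure (by simp)
    intro x hx
    have hx' : x = a ∨ x = c := by simpa using hx
    rcases hx' with h | h
    · rw [h]
      have h1 : a * a * (a * a) ∈ Subgroup.closure ({a * c * a, a * a} : Set X) :=
        Subgroup.mul_mem _ hg hg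
      rw [← ha_word] at h1
      exact h1
    · rw [h]
      have h2 : a * a * (a * c * a) * (a * a) ∈ Subgroup.closure ({a * c * a, a * a} : Set X) :=
        Subgroup.mul_mem _ (Subgroup.mul_mem _ hg hn) hg
      rw [← hc_word] at h2
      exact h2

end Cfsg.Agent.Lib.Helper83
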