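import Mathlib
import Cfsg.Agent.Lib.Helper83.Small
import Cfsg.Agent.Lib.Helper83.Special3
import Cfsg.Agent.Lib.Helper66.OCGroup
import Cfsg.Agent.Lib.Helper38.SLCard
import Cfsg.Agent.Lib.Helper14.PSL2Klein2
import Cfsg.Agent.S0802

set_option autoImplicit false
set_option linter.unusedSimpArgs false

/-! The small special rank one groups. -/

namespace Cfsg.Agent.Lib.Helper83

open Cfsg

/-- two involutions satisfying the braid relation generate `S₃` -/
theorem braid2_recognize {X : Type*} [Group X] (a c : X) (ha : a * a = 1) (hc : c * c = 1)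
    (hbr : a * c * a = c * a * c) (hca : c ≠ a)
    (hgen : Subgroup.closure ({a, c} : Set X) = ⊤) :
    Nonempty (X ≃* Equiv.Perm (Fin 3)) := by
  have e1 : ∀ t : X, a * (a * t) = t := fun t => by rw [← mul_assoc, ha, one_mul]
  have e2 : ∀ t : X, c * (c * t) = t := fun t => by rw [← mul_assoc, hc, one_mul]
  have e3 : ∀ t : X, c * (a * (c * t)) = a * (c * (a * t)) := by
    intro t
    have : c * (a * (c * t)) = (c * a * c) * t := by simp only [mul_assoc]
    rw [this, ← hbr]
    simp only [mul_assoc]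
  have e4 : ∀ t : X, c * (a * (c * (a * t))) = a * (c * t) := by
    intro t
    rw [e3, e1]
  let f : Fin 6 → X := ![1, a, c, a * c, c * a, a * c * a]
  have hcl : ∀ x : X, x ∈ Set.range f → a * x ∈ Set.range f ∧ c * x ∈ Set.range f := by
    rintro x ⟨i, rfl⟩
    fin_cases i
    · exact ⟨⟨1, by simp [f]⟩, ⟨2, by simp [f]⟩⟩
    · exact ⟨⟨0, by simp [f, ha]⟩, ⟨4, by simp [f]⟩⟩
    · exact ⟨⟨3, by simp [f]⟩, ⟨0, by simp [f, hc]⟩⟩
    · exact ⟨⟨2, by simp [f, e1]⟩, ⟨5, by simp [f, hbr, mul_assoc]⟩⟩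
    · exact ⟨⟨5, by simp [f, mul_assoc]⟩, ⟨1, by simp [f, e2]⟩⟩
    · refine ⟨⟨4, by simp [f, mul_assoc, e1]⟩, ⟨3, ?_⟩⟩
      simp only [f]
      show a * c = c * (a * c * a)
      rw [hbr]
      simp only [mul_assoc, e2]
  have hsurj : Function.Surjective f := by
    intro x
    have hx : x ∈ Subgroup.closure ({a, c} : Set X) := by rw [hgen]; trivial
    have hainv : a⁻¹ = a := inv_eq_of_mul_eq_one_right ha
    have hcinv : c⁻¹ = c := inv_eq_of_mul_eq_one_right hc
    induction hx using Subgroup.closure_induction_left with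
    | one => exact ⟨0, by simp [f]⟩
    | mul_left y hy z _ ih =>
      have hy' : y = a ∨ y = c := by simpa using hy
      rcases hy' with h | h
      · rw [h]; exact (hcl z ih).1
      · rw [h]; exact (hcl z ih).2
    | inv_mul_cancel y hy z _ ih =>
      have hy' : y = a ∨ y = c := by simpa using hy
      rcases hy' with h | h
      · rw [h, hainv]; exact (hcl z ih).1
      · rw [h, hcinv]; exact (hcl z ih).2
  have hfin : Finite X := Finite.of_surjective f hsurj
  have hle : Nat.card X ≤ 6 := by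
    have := Nat.card_le_card_of_surjective f hsurj
    simpa using this
  have hnc : a * c ≠ c * a := by
    intro h
    apply hca
    have h1 : a * c * a = c := by rw [h, mul_assoc, ha, mul_one]
    have h2 : c * a * c = a := by rw [← h, mul_assoc, hc, mul_one]
    rw [← h1, hbr, h2]
  have ha1 : a ≠ 1 := by
    intro h
    apply hnc
    rw [h, one_mul, mul_one]
  have ho2 : orderOf a = 2 := orderOf_eq_prime (by rw [pow_two]; exact ha) ha1
  have hac1 : a * c ≠ 1 := by
    intro h
    apply hca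
    have : c = a⁻¹ := (inv_eq_of_mul_eq_one_right h).symm
    rw [this]
    exact inv_eq_of_mul_eq_one_right ha
  have ho3 : orderOf (a * c) = 3 := by
    apply orderOf_eq_prime _ hac1
    have : (a * c) ^ 3 = (a * c * a) * (c * a * c) := by
      simp only [pow_succ, pow_zero, one_mul, mul_assoc]
    rw [this, ← hbr]
    simp only [mul_assoc, e1, e2, ha]
  have h2 : 2 ∣ Nat.card X := ho2 ▸ orderOf_dvd_natCard a
  have h3 : 3 ∣ Nat.card X := ho3 ▸ orderOf_dvd_natCard (a * c)
  have hpos : 0 < Nat.card X := Nat.card_pos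
  have h6 : Nat.card X = 6 := by omega
  exact Cfsg.Agent.Lib.Helper66.OC.equiv_perm_of_card_six h6 (fun h => hnc (h a c))

theorem sl2_two_equiv_perm :
    Nonempty (Matrix.SpecialLinearGroup (Fin 2) (ZMod 2) ≃* Equiv.Perm (Fin 3)) := by
  have h6 : Nat.card (Matrix.SpecialLinearGroup (Fin 2) (ZMod 2)) = 6 := by
    rw [Cfsg.Agent.Lib.Helper38.card_SL2]
    simp [ZMod.card]
  apply Cfsg.Agent.Lib.Helper66.OC.equiv_perm_of_card_six h6
  intro h
  have h1 := h ⟨!![1, 1; 0, 1], by decide⟩ ⟨!![1, 0; 1, 1], by decide⟩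
  revert h1
  decide

theorem psl2_three_equiv_a4 :
    Nonempty (Matrix.ProjectiveSpecialLinearGroup (Fin 2) (ZMod 3) ≃* alternatingGroup (Fin 4)) := by
  obtain ⟨H, ⟨e⟩⟩ := Cfsg.Agent.S0802.exists_a4_odd (F := ZMod 3) 2 1 1 (by decide) (by decide)
  have hF : Odd (Fintype.card (ZMod 3)) := by rw [ZMod.card]; decide
  have hc := Cfsg.Agent.Lib.Helper14.PSL2Klein.card_PSL2_mul_two hF
  rw [ZMod.card] at hc
  have hc12 : Nat.card (Matrix.ProjectiveSpecialLinearGroup (Fin 2) (ZMod 3)) = 12 := by omega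
  have hH : Nat.card H = 12 := by
    rw [Nat.card_congr e.toEquiv, nat_card_alternatingGroup]
    simp [Nat.factorial]
  have : Finite (Matrix.ProjectiveSpecialLinearGroup (Fin 2) (ZMod 3)) :=
    Nat.finite_of_card_ne_zero (by rw [hc12]; norm_num)
  have htop : H = ⊤ := Subgroup.eq_top_of_card_eq H (by rw [hH, hc12])
  exact ⟨(Subgroup.topEquiv.symm.trans (MulEquiv.subgroupCongr htop.symm)).trans e⟩

/-- the small case of the structure dichotomy for special rank one groups -/
theorem special_small {X : Type*} [Group X] {A B : Subgroup X} (h : IsRankOneGroup X A B)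
    (hs : IsSpecialRankOnePair A B) (hcard : ENat.card A ≤ 3) :
    Nonempty (X ≃* Matrix.SpecialLinearGroup (Fin 2) (ZMod 2)) ∨
    Nonempty (X ≃* Matrix.SpecialLinearGroup (Fin 2) (ZMod 3)) ∨
    Nonempty (X ≃* Matrix.ProjectiveSpecialLinearGroup (Fin 2) (ZMod 3)) := by
  obtain ⟨htop, hr⟩ := h
  have hfin : Finite A := ENat.card_lt_top.1 (lt_of_le_of_lt hcard (ENat.natCast_lt_top 3))
  have hn : Nat.card A ≤ 3 := by
    rw [ENat.card_eq_coe_natCard] at hcard
    exact_mod_cast hcard
  have h1 : 1 < Nat.card A := (Subgroup.one_lt_card_iff_ne_bot A).2 (rop_left_ne_bot hr)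
  obtain ⟨a, ha, ha1⟩ := rop_exists_left hr
  obtain ⟨b, hrel⟩ := prel_exists_right hr ha ha1
  have hbr := prel_n_eq hs hrel
  have hsw := (prel_n_swaps hs hrel).1
  obtain ⟨c, hcdef⟩ : ∃ c, c = b⁻¹ := ⟨_, rfl⟩
  rw [← hcdef] at hbr hsw
  have hcB : c ∈ B := by rw [hcdef]; exact B.inv_mem hrel.2.1
  have hca : c ≠ a := by
    intro h
    apply ha1
    apply rop_norm_left hr ha
    apply conjBy_mem_self
    rw [← h]; exact hcB
  have hpow : ∀ k : ℕ, Nat.card A = k → a ^ k = 1 ∧ c ^ k = 1 := by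
    intro k hk
    have h1 : a ^ k = 1 := by
      have := pow_card_eq_one' (G := A) (x := ⟨a, ha⟩)
      rw [hk] at this
      have h2 := congrArg Subtype.val this
      simpa using h2
    refine ⟨h1, ?_⟩
    have := (prel_pow_eq_one_iff hs hrel k).1 h1
    rw [hcdef, inv_pow, this, inv_one]
  have hprime : (Nat.card A).Prime := by
    have : Nat.card A = 2 ∨ Nat.card A = 3 := by omega
    rcases this with h | h <;> rw [h] <;> norm_num
  have hgen : Subgroup.closure ({a, c} : Set X) = ⊤ := by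
    have haK : a ∈ Subgroup.closure ({a, c} : Set X) := Subgroup.subset_closure (by simp)
    have hcK : c ∈ Subgroup.closure ({a, c} : Set X) := Subgroup.subset_closure (by simp)
    have hA : A ≤ Subgroup.closure ({a, c} : Set X) := by
      intro x hx
      have : Fact (Nat.card A).Prime := ⟨hprime⟩
      have hz : Subgroup.zpowers (⟨a, ha⟩ : A) = ⊤ :=
        zpowers_eq_top_of_prime_card rfl (fun h => ha1 (congrArg Subtype.val h))
      have hxz : (⟨x, hx⟩ : A) ∈ Subgroup.zpowers (⟨a, ha⟩ : A) := by rw [hz]; trivial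
      obtain ⟨k, hk⟩ := Subgroup.mem_zpowers_iff.1 hxz
      have hk' : a ^ k = x := by
        have := congrArg Subtype.val hk
        simpa using this
      rw [← hk']
      exact Subgroup.zpow_mem _ haK k
    have hB : B ≤ Subgroup.closure ({a, c} : Set X) := by
      rw [← hsw]
      apply conjBy_le_of_mem hA
      exact Subgroup.inv_mem _ (Subgroup.mul_mem _ (Subgroup.mul_mem _ haK hcK) haK)
    rw [eq_top_iff, ← htop]
    exact sup_le hA hB
  have h23 : Nat.card A = 2 ∨ Nat.card A = 3 := by omega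
  rcases h23 with h2 | h3
  · left
    obtain ⟨p1, p2⟩ := hpow 2 h2
    rw [pow_two] at p1 p2
    obtain ⟨e⟩ := braid2_recognize a c p1 p2 hbr hca hgen
    obtain ⟨e'⟩ := sl2_two_equiv_perm
    exact ⟨e.trans e'.symm⟩
  · right
    obtain ⟨p1, p2⟩ := hpow 3 h3
    rcases braid3_recognize a c p1 p2 hbr ha1 hca hgen with ⟨⟨e⟩⟩ | ⟨⟨e⟩⟩
    · left; exact ⟨e⟩
    · right
      obtain ⟨e'⟩ := psl2_three_equiv_a4
      exact ⟨e.trans e'.symm⟩

end Cfsg.Agent.Lib.Helper83
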