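import Mathlib
import Cfsg.Agent.Lib.Helper83.RankP4
import Cfsg.Agent.Lib.Helper83.Small
import Cfsg.Agent.Lib.Helper83.Small2

/-! # `⟨a, b(a)⟩` for `p = 2, 3` (helper83, for S5022) -/

set_option autoImplicit false

namespace Cfsg.Agent.Lib.Helper83

open Cfsg Matrix

section
variable {G : Type*} [Group G] {A B : Subgroup G}

theorem closure_pair_gen (a b : G) (ha : a ∈ Subgroup.closure ({a, b} : Set G))
    (hb : b⁻¹ ∈ Subgroup.closure ({a, b} : Set G)) :
    Subgroup.closure ({⟨a, ha⟩, ⟨b⁻¹, hb⟩} : Set ↥(Subgroup.closure ({a, b} : Set G))) = ⊤ := by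
  rw [eq_top_iff, ← Subgroup.closure_closure_coe_preimage, Subgroup.closure_le]
  rintro ⟨x, hx⟩ hxm
  rcases hxm with h | h
  · apply Subgroup.subset_closure
    left
    exact Subtype.ext h
  · have h' : x = b := h
    have : (⟨x, hx⟩ : ↥(Subgroup.closure ({a, b} : Set G))) = (⟨b⁻¹, hb⟩)⁻¹ := by
      apply Subtype.ext
      simp [h']
    rw [this]
    apply Subgroup.inv_mem
    apply Subgroup.subset_closure
    right
    rfl

variable (hs : IsSpecialRankOnePair A B)
include hs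

theorem rank_p_two {a b : G} (hr : PRel A B a b) (ha2 : a ^ 2 = 1) :
    Nonempty (↥(Subgroup.closure ({a, b} : Set G)) ≃* SpecialLinearGroup (Fin 2) (ZMod 2)) := by
  have hb2 : b ^ 2 = 1 := (prel_pow_eq_one_iff hs hr 2).1 ha2
  have haY : a ∈ Subgroup.closure ({a, b} : Set G) := Subgroup.subset_closure (by simp)
  have hbY : b⁻¹ ∈ Subgroup.closure ({a, b} : Set G) :=
    Subgroup.inv_mem _ (Subgroup.subset_closure (by simp))
  have hca : b⁻¹ ≠ a := by
    intro h
    apply prel_ne_left hs.1 hr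
    apply rop_norm_left hs.1 hr.1
    apply conjBy_mem_self
    rw [← h]; exact B.inv_mem hr.2.1
  obtain ⟨e⟩ := braid2_recognize (X := ↥(Subgroup.closure ({a, b} : Set G))) ⟨a, haY⟩ ⟨b⁻¹, hbY⟩
    (by apply Subtype.ext; simpa [sq] using ha2)
    (by apply Subtype.ext; simp only [Subgroup.coe_mul, Subgroup.coe_one]
        rw [← _root_.mul_inv_rev, ← sq, hb2, inv_one])
    (by apply Subtype.ext; exact prel_n_eq hs hr)
    (fun h => hca (congrArg Subtype.val h))
    (closure_pair_gen a b haY hbY)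
  obtain ⟨e'⟩ := sl2_two_equiv_perm
  exact ⟨e.trans e'.symm⟩

theorem rank_p_three {a b : G} (hr : PRel A B a b) (ha3 : a ^ 3 = 1) :
    Nonempty (↥(Subgroup.closure ({a, b} : Set G)) ≃* SpecialLinearGroup (Fin 2) (ZMod 3)) ∨
    Nonempty (↥(Subgroup.closure ({a, b} : Set G)) ≃*
      ProjectiveSpecialLinearGroup (Fin 2) (ZMod 3)) := by
  have hb3 : b ^ 3 = 1 := (prel_pow_eq_one_iff hs hr 3).1 ha3
  have haY : a ∈ Subgroup.closure ({a, b} : Set G) := Subgroup.subset_closure (by simp)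
  have hbY : b⁻¹ ∈ Subgroup.closure ({a, b} : Set G) :=
    Subgroup.inv_mem _ (Subgroup.subset_closure (by simp))
  have ha1 := prel_ne_left hs.1 hr
  have hca : b⁻¹ ≠ a := by
    intro h
    apply ha1
    apply rop_norm_left hs.1 hr.1
    apply conjBy_mem_self
    rw [← h]; exact B.inv_mem hr.2.1
  rcases braid3_recognize (X := ↥(Subgroup.closure ({a, b} : Set G))) ⟨a, haY⟩ ⟨b⁻¹, hbY⟩
    (by apply Subtype.ext; simpa using ha3)
    (by apply Subtype.ext; simp only [Subgroup.coe_pow, Subgroup.coe_one]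
        rw [inv_pow, hb3, inv_one])
    (by apply Subtype.ext; exact prel_n_eq hs hr)
    (fun h => ha1 (congrArg Subtype.val h))
    (fun h => hca (congrArg Subtype.val h))
    (closure_pair_gen a b haY hbY) with ⟨⟨e⟩⟩ | ⟨⟨e⟩⟩
  · left; exact ⟨e⟩
  · right
    obtain ⟨e'⟩ := psl2_three_equiv_a4
    exact ⟨e.trans e'.symm⟩

end

end Cfsg.Agent.Lib.Helper83
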