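import Mathlib
import Cfsg.Prelude.Def_RootSubgroups
import Cfsg.Prelude.Def_QuasithinSetup
import Cfsg.Agent.Lib.Helper91.RootInv

set_option autoImplicit false

namespace Cfsg.Agent.Lib.Helper83

open Cfsg Cfsg.Agent.Lib.Helper91

universe u

section ri1

variable {G : Type u} [Group G] {D : Set G}

/-- two members of `D` with product of odd order are conjugate -/
theorem ri_conj_of_odd (hD : IsRootInvolutionSet D) {a b : G} (ha : a ∈ D) (hb : b ∈ D)
    (hodd : Odd (orderOf (a * b))) : ∃ g : G, b = g * a * g⁻¹ := by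
  have haa := RI_mul_self hD ha
  have hinv : a * (a * b) * a⁻¹ = (a * b)⁻¹ := by
    rw [RI_inv hD ha, mul_inv_rev, RI_inv hD ha, RI_inv hD hb]
    calc a * (a * b) * a = (a * a) * b * a := by group
      _ = b * a := by rw [haa, one_mul]
  obtain ⟨g, hg⟩ := exists_conj_eq_mul_of_inverts hodd hinv
  have hab : a * (a * b) = b := by rw [← mul_assoc, haa, one_mul]
  rw [hab] at hg
  exact ⟨g, hg.symm⟩

/-- a connected set of root involutions is one conjugacy class -/
theorem ri_class (hD : IsRootInvolutionSet D) (hc : IsConnectedSet (OddAdj D) D) {a b : G}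
    (ha : a ∈ D) (hb : b ∈ D) : ∃ g : G, b = g * a * g⁻¹ := by
  have key : ∀ b, Relation.ReflTransGen (OddAdj D) a b → ∃ g : G, b = g * a * g⁻¹ := by
    intro b h
    induction h with
    | refl => exact ⟨1, by simp⟩
    | tail _ hbc ih =>
      obtain ⟨g, hg⟩ := ih
      obtain ⟨h1, h2, _, h4⟩ := hbc
      obtain ⟨g2, hg2⟩ := ri_conj_of_odd hD h1 h2 h4
      exact ⟨g2 * g, by rw [hg2, hg]; group⟩
  exact key b (hc a ha b hb)

/-- (F3*) on a line `{e, z, z e}`, a neighbour `y` of `e` in the odd graph does not commute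
with `z` -/
theorem ri_line_not_comm (hD : IsRootInvolutionSet D) {e z y : G} (he : e ∈ D) (hz : z ∈ D)
    (hy : y ∈ D) (hze : z * e = e * z) (hf : z * e ∈ D) (hye : y ≠ e)
    (hodd : Odd (orderOf (e * y))) : z * y ≠ y * z := by
  intro hzy
  have hzz := RI_mul_self hD hz
  have hyy := RI_mul_self hD hy
  have hee := RI_mul_self hD he
  rcases RI_key hD he hz hy hze hf hye hodd with h | h
  · have h2 : (z * y) ^ 2 = 1 := by
      rw [(show Commute z y from hzy).mul_pow, pow_two, pow_two, hzz, hyy, one_mul]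
    have h1 := eq_one_of_sq_eq_one_of_odd h h2
    have hyz : y = z := by
      have : y = z⁻¹ := eq_inv_of_mul_eq_one_right h1
      rw [this, RI_inv hD hz]
    rw [hyz, ← hze, hD.orderOf_eq _ hf] at hodd
    exact absurd hodd (by decide)
  · have hu1 : e * y ≠ 1 := by
      intro h1
      have : y = e⁻¹ := eq_inv_of_mul_eq_one_right h1
      rw [RI_inv hD he] at this
      exact hye this
    have hcu : Commute z (e * y) := by
      show z * (e * y) = e * y * z
      rw [← mul_assoc, hze, mul_assoc, hzy, mul_assoc]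
    have := (bad_order_of_commute hzz (RI_ne_one hD hz) hodd hu1 hcu).2.1
    rw [← mul_assoc] at this
    exact this h

/-- if a normal subgroup `N` misses `D`, then every `d ∈ D` commutes with its `N`-conjugates -/
theorem ri_comm_conj (hD : IsRootInvolutionSet D) (N : Subgroup G) [hN : N.Normal]
    (hDN : ∀ d ∈ D, d ∉ N)
    (hline : ∀ d ∈ D, ∃ b ∈ D, b * d = d * b ∧ b * d ∈ D)
    {d n : G} (hd : d ∈ D) (hn : n ∈ N) :
    d * (n * d * n⁻¹) = (n * d * n⁻¹) * d := by
  obtain ⟨y, hy⟩ : ∃ y, y = n * d * n⁻¹ := ⟨_, rfl⟩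
  rw [← hy]
  have hyD : y ∈ D := by rw [hy]; exact hD.conj_mem d hd n
  have hdd := RI_mul_self hD hd
  have hyy := RI_mul_self hD hyD
  have hdyN : d * y ∈ N := by
    have h1 : d * y = (d * n * d⁻¹) * n⁻¹ := by rw [hy, RI_inv hD hd]; group
    rw [h1]
    exact N.mul_mem (hN.conj_mem n hn d) (N.inv_mem hn)
  rcases hD.pair d hd y hyD with h | h | ⟨h4, h⟩
  · exact h
  · by_cases hyd : y = d
    · rw [hyd]
    · exfalso
      obtain ⟨b, hb, hbd, hbdD⟩ := hline d hd
      have hnc := ri_line_not_comm hD hd hb hyD hbd hbdD hyd h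
      have hff := RI_mul_self hD hbdD
      have hby : b * y = (b * d) * (d * y) := by
        rw [mul_assoc, ← mul_assoc d d y, hdd, one_mul]
      have hφ : ∀ m : ℕ, (QuotientGroup.mk' N) ((b * y) ^ m) =
          (QuotientGroup.mk' N) ((b * d) ^ m) := by
        intro m
        have h1 : (QuotientGroup.mk' N) (d * y) = 1 := by
          rw [QuotientGroup.mk'_apply, QuotientGroup.eq_one_iff]; exact hdyN
        rw [map_pow, map_pow, hby, map_mul, h1, mul_one]
      rcases hD.pair b hb y hyD with h' | h' | ⟨h4', h'⟩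
      · exact hnc h'
      · obtain ⟨k, hk⟩ := h'
        have h1 : (b * y) ^ (2 * k + 1) = 1 := by rw [← hk]; exact pow_orderOf_eq_one _
        have h2 := hφ (2 * k + 1)
        rw [h1, map_one] at h2
        have h3 : (b * d) ^ (2 * k + 1) = b * d := by
          rw [pow_succ, pow_mul, pow_two, hff, one_pow, one_mul]
        rw [h3] at h2
        have : b * d ∈ N := by
          have := h2.symm
          rwa [QuotientGroup.mk'_apply, QuotientGroup.eq_one_iff] at this
        exact hDN _ hbdD this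
      · have h2 := hφ 2
        rw [pow_two (b * d), hff, map_one] at h2
        have : (b * y) ^ 2 ∈ N := by
          rwa [QuotientGroup.mk'_apply, QuotientGroup.eq_one_iff] at h2
        exact hDN _ h' this
  · exfalso
    exact hDN _ h (N.pow_mem hdyN 2)


/-- closure of commuting involutions: commutative of exponent two -/
theorem closure_comm_invol {S : Set G} (hcomm : ∀ x ∈ S, ∀ y ∈ S, x * y = y * x)
    (hsq : ∀ x ∈ S, x * x = 1) :
    (∀ x ∈ Subgroup.closure S, ∀ y ∈ Subgroup.closure S, x * y = y * x) ∧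
      ∀ x ∈ Subgroup.closure S, x * x = 1 := by
  have hgen : S ⊆ (Subgroup.centralizer S : Set G) := by
    intro x hx
    rw [SetLike.mem_coe, Subgroup.mem_centralizer_iff]
    intro y hy
    exact hcomm y hy x hx
  have h5 : Subgroup.closure S ≤ Subgroup.centralizer (Subgroup.closure S : Set G) := by
    rw [Subgroup.centralizer_closure, Subgroup.closure_le]
    exact hgen
  have hc : ∀ x ∈ Subgroup.closure S, ∀ y ∈ Subgroup.closure S, x * y = y * x := by
    intro x hx y hy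
    exact (Subgroup.mem_centralizer_iff.1 (h5 hy) x hx)
  refine ⟨hc, ?_⟩
  intro x hx
  induction hx using Subgroup.closure_induction with
  | mem x hx => exact hsq x hx
  | one => exact one_mul 1
  | mul x y hx hy ihx ihy =>
    have h1 : Commute y x := (hc x hx y hy).symm
    rw [h1.mul_mul_mul_comm, ihx, ihy, one_mul]
  | inv x hx ih =>
    rw [← mul_inv_rev, ih, inv_one]

theorem isPGroup_two_closure_comm_invol {S : Set G} (hcomm : ∀ x ∈ S, ∀ y ∈ S, x * y = y * x)
    (hsq : ∀ x ∈ S, x * x = 1) : IsPGroup 2 ↥(Subgroup.closure S) := by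
  intro g
  refine ⟨1, ?_⟩
  apply Subtype.ext
  have := (closure_comm_invol hcomm hsq).2 g.1 g.2
  rw [pow_one, pow_two]
  simpa using this

/-- the data: `N` is a normal subgroup missing the set `D` of root involutions, and every
member of `D` lies on a line -/
structure RIMiss (D : Set G) (N : Subgroup G) : Prop where
  hD : IsRootInvolutionSet D
  hN : N.Normal
  miss : ∀ d ∈ D, d ∉ N
  line : ∀ d ∈ D, ∃ b ∈ D, b * d = d * b ∧ b * d ∈ D

/-- the subgroup `[d, N]` -/
def comN (N : Subgroup G) (d : G) : Subgroup G :=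
  Subgroup.closure {c | ∃ n ∈ N, c = d * (n * d * n⁻¹)}

variable {N : Subgroup G}

theorem RIMiss.comm_dn (h : RIMiss D N) {d n : G} (hd : d ∈ D) (hn : n ∈ N) :
    Commute d (n * d * n⁻¹) :=
  haveI := h.hN
  ri_comm_conj h.hD N h.miss h.line hd hn

theorem RIMiss.comm_nm (h : RIMiss D N) {d n m : G} (hd : d ∈ D) (hn : n ∈ N) (hm : m ∈ N) :
    Commute (n * d * n⁻¹) (m * d * m⁻¹) := by
  have h1 := h.comm_dn (h.hD.conj_mem d hd n) (N.mul_mem hm (N.inv_mem hn))
  have h2 : m * n⁻¹ * (n * d * n⁻¹) * (m * n⁻¹)⁻¹ = m * d * m⁻¹ := by group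
  rwa [h2] at h1

theorem RIMiss.gen_comm (h : RIMiss D N) {d : G} (hd : d ∈ D) :
    ∀ x ∈ {c | ∃ n ∈ N, c = d * (n * d * n⁻¹)}, ∀ y ∈ {c | ∃ n ∈ N, c = d * (n * d * n⁻¹)},
      x * y = y * x := by
  rintro _ ⟨n, hn, rfl⟩ _ ⟨m, hm, rfl⟩
  have hdd := RI_mul_self h.hD hd
  rw [(h.comm_dn hd hn).symm.mul_mul_mul_comm, (h.comm_dn hd hm).symm.mul_mul_mul_comm,
    (h.comm_nm hd hn hm).eq]

theorem RIMiss.gen_sq (h : RIMiss D N) {d : G} (hd : d ∈ D) :
    ∀ x ∈ {c | ∃ n ∈ N, c = d * (n * d * n⁻¹)}, x * x = 1 := by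
  rintro _ ⟨n, hn, rfl⟩
  have hdd := RI_mul_self h.hD hd
  have hyy := RI_mul_self h.hD (h.hD.conj_mem d hd n)
  rw [(h.comm_dn hd hn).symm.mul_mul_mul_comm, hdd, hyy, one_mul]

theorem RIMiss.comN_isPGroup (h : RIMiss D N) {d : G} (hd : d ∈ D) : IsPGroup 2 ↥(comN N d) :=
  isPGroup_two_closure_comm_invol (h.gen_comm hd) (h.gen_sq hd)

theorem RIMiss.comN_le (h : RIMiss D N) {d : G} (hd : d ∈ D) : comN N d ≤ N := by
  unfold comN
  rw [Subgroup.closure_le]
  rintro _ ⟨n, hn, rfl⟩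
  have h1 : d * (n * d * n⁻¹) = (d * n * d⁻¹) * n⁻¹ := by rw [RI_inv h.hD hd]; group
  rw [SetLike.mem_coe, h1]
  exact N.mul_mem (h.hN.conj_mem n hn d) (N.inv_mem hn)

theorem RIMiss.comN_conj (h : RIMiss D N) {d m x : G} (hd : d ∈ D) (hm : m ∈ N)
    (hx : x ∈ comN N d) : m * x * m⁻¹ ∈ comN N d := by
  unfold comN at hx ⊢
  induction hx using Subgroup.closure_induction with
  | mem x hx =>
    obtain ⟨n, hn, rfl⟩ := hx
    have hdd := RI_mul_self h.hD hd
    have h1 : m * (d * (n * d * n⁻¹)) * m⁻¹ =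
        (d * (m * d * m⁻¹)) * (d * ((m * n) * d * (m * n)⁻¹)) := by
      rw [(h.comm_dn hd hm).symm.mul_mul_mul_comm, hdd, one_mul]
      group
    rw [h1]
    exact Subgroup.mul_mem _ (Subgroup.subset_closure ⟨m, hm, rfl⟩)
      (Subgroup.subset_closure ⟨m * n, N.mul_mem hm hn, rfl⟩)
  | one => simp
  | mul x y _ _ ihx ihy =>
    have : m * (x * y) * m⁻¹ = (m * x * m⁻¹) * (m * y * m⁻¹) := by group
    rw [this]
    exact Subgroup.mul_mem _ ihx ihy
  | inv x _ ih =>
    have : m * x⁻¹ * m⁻¹ = (m * x * m⁻¹)⁻¹ := by group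
    rw [this]
    exact Subgroup.inv_mem _ ih

theorem RIMiss.le_normalizer (h : RIMiss D N) {d : G} (hd : d ∈ D) :
    N ≤ Subgroup.normalizer (comN N d : Set G) := by
  intro m hm
  rw [Subgroup.mem_normalizer_iff]
  intro x
  refine ⟨fun hx => h.comN_conj hd hm hx, fun hx => ?_⟩
  have := h.comN_conj hd (N.inv_mem hm) hx
  have h2 : m⁻¹ * (m * x * m⁻¹) * m⁻¹⁻¹ = x := by group
  rwa [h2] at this

theorem RIMiss.sup_isPGroup (h : RIMiss D N) {d d' : G} (hd : d ∈ D) (hd' : d' ∈ D) :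
    IsPGroup 2 ↥(comN N d ⊔ comN N d') :=
  IsPGroup.to_sup_of_normal_right' (h.comN_isPGroup hd) (h.comN_isPGroup hd')
    ((h.comN_le hd).trans (h.le_normalizer hd'))

theorem RIMiss.comm_mem_pCore [Finite G] (h : RIMiss D N) {d n : G} (hd : d ∈ D) (hn : n ∈ N) :
    d * (n * d * n⁻¹) ∈ Cfsg.pCore 2 G := by
  have hfact : Fact (Nat.Prime 2) := ⟨Nat.prime_two⟩
  obtain ⟨c, hc⟩ : ∃ c, c = d * (n * d * n⁻¹) := ⟨_, rfl⟩
  rw [← hc]
  have key : ∀ g : G, IsPGroup 2
      ↥(Subgroup.zpowers c ⊔ (Subgroup.zpowers c).map (MulAut.conj g).toMonoidHom) := by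
    intro g
    rw [MonoidHom.map_zpowers]
    have hs : (MulAut.conj g).toMonoidHom c = g * c * g⁻¹ := by simp
    rw [hs]
    have hd' : g * d * g⁻¹ ∈ D := h.hD.conj_mem d hd g
    have hn' : g * n * g⁻¹ ∈ N := h.hN.conj_mem n hn g
    have h1 : c ∈ comN N d := Subgroup.subset_closure ⟨n, hn, hc⟩
    have h2 : g * c * g⁻¹ ∈ comN N (g * d * g⁻¹) := by
      refine Subgroup.subset_closure ⟨g * n * g⁻¹, hn', ?_⟩
      rw [hc]; group
    refine (h.sup_isPGroup hd hd').to_le ?_
    exact sup_le_sup (Subgroup.zpowers_le.2 h1) (Subgroup.zpowers_le.2 h2)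
  obtain ⟨M, hMn, hMp, hle⟩ := baer_suzuki (p := 2) (Subgroup.zpowers c) key
  exact Helper22.le_pCore' hMn hMp (hle (Subgroup.mem_zpowers c))


theorem RIMiss.le_twoZCore [Finite G] (h : RIMiss D N) : N ≤ Cfsg.twoZCore G := by
  intro n hn
  unfold Cfsg.twoZCore
  rw [Subgroup.mem_comap, Subgroup.mem_center_iff]
  have hC : ∀ g : G, (QuotientGroup.mk' (Cfsg.pCore 2 G)) g * (QuotientGroup.mk' (Cfsg.pCore 2 G)) n =
      (QuotientGroup.mk' (Cfsg.pCore 2 G)) n * (QuotientGroup.mk' (Cfsg.pCore 2 G)) g := by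
    intro g
    have hg : g ∈ Subgroup.closure D := by rw [h.hD.generates]; trivial
    induction hg using Subgroup.closure_induction with
    | mem d hd =>
      rw [← map_mul, ← map_mul, QuotientGroup.mk'_apply, QuotientGroup.mk'_apply, QuotientGroup.eq]
      have h1 := h.comm_mem_pCore hd (N.inv_mem hn)
      have h2 : (d * n)⁻¹ * (n * d) = (n⁻¹ * d * n⁻¹⁻¹) * d := by
        rw [mul_inv_rev, RI_inv h.hD hd]; group
      rw [h2, ← (h.comm_dn hd (N.inv_mem hn)).eq]
      exact h1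
    | one => simp
    | mul x y _ _ ihx ihy => rw [map_mul, mul_assoc, ihy, ← mul_assoc, ihx, mul_assoc]
    | inv x _ ih =>
      rw [map_inv]
      exact (Commute.inv_left (show Commute _ _ from ih)).eq
  intro x
  obtain ⟨g, rfl⟩ := QuotientGroup.mk'_surjective _ x
  exact hC g

theorem twoZCore_ne_top (hD : IsRootInvolutionSet D) {a c : G} (hac : OddAdj D a c) :
    Cfsg.twoZCore G ≠ ⊤ := by
  intro htop
  obtain ⟨ha, hc, hne, hodd⟩ := hac
  obtain ⟨g, hg⟩ := ri_conj_of_odd hD ha hc hodd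
  have hfact : Fact (Nat.Prime 2) := ⟨Nat.prime_two⟩
  have haZ : a ∈ Cfsg.twoZCore G := by rw [htop]; trivial
  unfold Cfsg.twoZCore at haZ
  rw [Subgroup.mem_comap, Subgroup.mem_center_iff] at haZ
  have h1 := haZ (QuotientGroup.mk' _ g)
  have h2 : a * c ∈ Cfsg.pCore 2 G := by
    have : (QuotientGroup.mk' (Cfsg.pCore 2 G)) a = (QuotientGroup.mk' (Cfsg.pCore 2 G)) c := by
      rw [hg, map_mul, map_mul, h1, map_inv, mul_inv_cancel_right]
    rw [QuotientGroup.mk'_apply, QuotientGroup.mk'_apply, QuotientGroup.eq, RI_inv hD ha] at this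
    exact this
  obtain ⟨k, hk⟩ := (Helper22.pCore_isPGroup' 2 G) ⟨a * c, h2⟩
  have hk' : (a * c) ^ 2 ^ k = 1 := congrArg Subtype.val hk
  have hdvd := orderOf_dvd_of_pow_eq_one hk'
  have hcop : Nat.Coprime (orderOf (a * c)) (2 ^ k) :=
    Nat.Coprime.pow_right k (Nat.coprime_two_right.mpr hodd)
  have h3 : orderOf (a * c) = 1 := Nat.Coprime.eq_one_of_dvd hcop hdvd
  have h4 : a * c = 1 := orderOf_eq_one_iff.mp h3
  have h5 : c = a⁻¹ := eq_inv_of_mul_eq_one_right h4
  rw [RI_inv hD ha] at h5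
  exact hne h5.symm

theorem twoZCore_isSolvable [Finite G] : Group.IsSolvable ↥(Cfsg.twoZCore G) := by
  have hfact : Fact (Nat.Prime 2) := ⟨Nat.prime_two⟩
  have hPZ : Cfsg.pCore 2 G ≤ Cfsg.twoZCore G := by
    intro p hp
    unfold Cfsg.twoZCore
    rw [Subgroup.mem_comap]
    have : (QuotientGroup.mk' (Cfsg.pCore 2 G)) p = 1 := by
      rw [QuotientGroup.mk'_apply, QuotientGroup.eq_one_iff]; exact hp
    rw [this]
    exact Subgroup.one_mem _
  have hnil : Group.IsNilpotent ↥(Cfsg.pCore 2 G) := (Helper22.pCore_isPGroup' 2 G).isNilpotent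
  have hcs : Group.IsSolvable ↥(Subgroup.center (G ⧸ Cfsg.pCore 2 G)) :=
    Group.isSolvable_of_comm (fun a b => Subtype.ext (Subgroup.mem_center_iff.1 b.2 a.1))
  refine Group.isSolvable_of_ker_le_range (Subgroup.inclusion hPZ)
    (((QuotientGroup.mk' (Cfsg.pCore 2 G)).comp (Cfsg.twoZCore G).subtype).codRestrict
      (Subgroup.center (G ⧸ Cfsg.pCore 2 G)) (fun z => z.2)) ?_
  intro z hz
  rw [MonoidHom.mem_ker] at hz
  have h1 : (QuotientGroup.mk' (Cfsg.pCore 2 G)) z.1 = 1 := congrArg Subtype.val hz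
  rw [QuotientGroup.mk'_apply, QuotientGroup.eq_one_iff] at h1
  exact ⟨⟨z.1, h1⟩, Subtype.ext rfl⟩

/-- S5048 -/
theorem ri_radical_simple [Finite G] (hD : IsRootInvolutionSet D)
    (hc : IsConnectedSet (OddAdj D) D) (hDD : (D ∩ commutingProducts D).Nonempty) :
    Cfsg.solvableRadical G = Cfsg.twoZCore G ∧ IsSimpleGroup (G ⧸ Cfsg.twoZCore G) := by
  obtain ⟨x, hxD, a₀, ha₀, b₀, hb₀, hcomm, hne1, rfl⟩ := hDD
  have hline : ∀ d ∈ D, ∃ b ∈ D, b * d = d * b ∧ b * d ∈ D := by
    intro d hd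
    obtain ⟨g, hg⟩ := ri_class hD hc ha₀ hd
    refine ⟨g * b₀ * g⁻¹, hD.conj_mem b₀ hb₀ g, ?_, ?_⟩
    · rw [hg]
      calc g * b₀ * g⁻¹ * (g * a₀ * g⁻¹) = g * (b₀ * a₀) * g⁻¹ := by group
        _ = g * (a₀ * b₀) * g⁻¹ := by rw [hcomm]
        _ = g * a₀ * g⁻¹ * (g * b₀ * g⁻¹) := by group
    · have : g * b₀ * g⁻¹ * d = g * (a₀ * b₀) * g⁻¹ := by
        rw [hg, hcomm]; group
      rw [this]
      exact hD.conj_mem _ hxD g
  have hmiss : ∀ N : Subgroup G, N.Normal → N ≠ ⊤ → RIMiss D N := by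
    intro N hN htop
    refine ⟨hD, hN, ?_, hline⟩
    intro d hd hdN
    apply htop
    rw [eq_top_iff, ← hD.generates, Subgroup.closure_le]
    intro b hb
    obtain ⟨g, hg⟩ := ri_class hD hc hd hb
    rw [SetLike.mem_coe, hg]
    exact hN.conj_mem d hdN g
  have hab : a₀ ≠ b₀ := by
    intro h
    apply hne1
    rw [← h]
    exact RI_mul_self hD ha₀
  obtain ⟨c, hedge⟩ : ∃ c, OddAdj D a₀ c := by
    rcases (hc a₀ ha₀ b₀ hb₀).cases_head with h | ⟨c, h, -⟩
    · exact absurd h hab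
    · exact ⟨c, h⟩
  have hZne := twoZCore_ne_top hD hedge
  have hsimple : IsSimpleGroup (G ⧸ Cfsg.twoZCore G) := by
    have hnt : Nontrivial (G ⧸ Cfsg.twoZCore G) := by
      obtain ⟨g, hg⟩ : ∃ g, g ∉ Cfsg.twoZCore G := by
        by_contra hh
        exact hZne (eq_top_iff.2 fun x _ => by
          by_contra hx
          exact hh ⟨x, hx⟩)
      refine nontrivial_of_ne (QuotientGroup.mk' _ g) 1 ?_
      intro h1
      rw [QuotientGroup.mk'_apply, QuotientGroup.eq_one_iff] at h1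
      exact hg h1
    refine ⟨fun H hH => ?_⟩
    by_cases htop : H.comap (QuotientGroup.mk' (Cfsg.twoZCore G)) = ⊤
    · right
      rw [← Subgroup.map_comap_eq_self_of_surjective (QuotientGroup.mk'_surjective _) H, htop]
      exact Subgroup.map_top_of_surjective _ (QuotientGroup.mk'_surjective _)
    · left
      have hmiss' := hmiss _ (hH.comap _) htop
      have hle := hmiss'.le_twoZCore
      rw [eq_bot_iff]
      intro x hx
      obtain ⟨g, rfl⟩ := QuotientGroup.mk'_surjective _ x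
      have hg : g ∈ H.comap (QuotientGroup.mk' (Cfsg.twoZCore G)) := hx
      rw [Subgroup.mem_bot, QuotientGroup.mk'_apply, QuotientGroup.eq_one_iff]
      exact hle hg
  refine ⟨le_antisymm ?_ ?_, hsimple⟩
  · unfold Cfsg.solvableRadical
    apply sSup_le
    rintro N ⟨hNn, hNs⟩
    by_cases htop : N = ⊤
    · exfalso
      subst htop
      have hGs : Group.IsSolvable G :=
        Group.isSolvable_of_surjective (f := (⊤ : Subgroup G).subtype) (fun x => ⟨⟨x, trivial⟩, rfl⟩)
      have hQs : Group.IsSolvable (G ⧸ Cfsg.twoZCore G) := inferInstance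
      have hcommQ := (IsSimpleGroup.comm_iff_isSolvable).mpr hQs
      obtain ⟨g, hg⟩ := ri_class hD hc ha₀ hb₀
      obtain ⟨g', hg'⟩ := ri_class hD hc ha₀ hxD
      have e1 : (QuotientGroup.mk' (Cfsg.twoZCore G)) (a₀ * b₀) =
          (QuotientGroup.mk' (Cfsg.twoZCore G)) a₀ := by
        conv_lhs => rw [hg']
        rw [map_mul, map_mul, hcommQ ((QuotientGroup.mk' (Cfsg.twoZCore G)) g')
          ((QuotientGroup.mk' (Cfsg.twoZCore G)) a₀), map_inv, mul_inv_cancel_right]
      have e3 : (QuotientGroup.mk' (Cfsg.twoZCore G)) b₀ = 1 := by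
        rw [map_mul] at e1
        exact mul_left_cancel (e1.trans (mul_one _).symm)
      have hbZ : b₀ ∈ Cfsg.twoZCore G := by
        rwa [QuotientGroup.mk'_apply, QuotientGroup.eq_one_iff] at e3
      exact (hmiss (Cfsg.twoZCore G) inferInstance hZne).miss b₀ hb₀ hbZ
    · exact (hmiss N hNn htop).le_twoZCore
  · apply le_sSup
    exact ⟨inferInstance, twoZCore_isSolvable⟩

end ri1

end Cfsg.Agent.Lib.Helper83
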