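import Mathlib
import Cfsg.Prelude.Def_GeometricClasses
import Cfsg.Agent.Lib.Helper44.SubfA

/-! # S5965 (helper44) leaf SFR-D: diagonal elements conjugate into the subfield group (helper83) -/

set_option autoImplicit false
set_option linter.unusedSectionVars false
open scoped MatrixGroups
open Matrix Polynomial

namespace Cfsg.Agent.Lib.Helper44.Sfr

universe v
variable {F : Type v} [Field F] [Fintype F]

/-- the `|F₀|`-th power map is a ring endomorphism fixing `F₀` pointwise -/
theorem sfrD_frob {p : ℕ} [Fact p.Prime] [CharP F p] (F₀ : Subfield F) :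
    ∃ σ : F →+* F, (∀ y : F, σ y = y ^ Nat.card F₀) ∧ ∀ y : F₀, σ (y : F) = y := by
  classical
  haveI : Fintype F₀ := Fintype.ofFinite F₀
  haveI : CharP F₀ p := RingHom.charP F₀.subtype F₀.subtype.injective p
  obtain ⟨k, -, hk⟩ := FiniteField.card F₀ p
  refine ⟨iterateFrobenius F p k, ?_, ?_⟩
  · intro y
    rw [iterateFrobenius_def, Nat.card_eq_fintype_card, hk]
  · intro y
    rw [iterateFrobenius_def, ← hk]
    have := FiniteField.pow_card y
    have h2 := congrArg (fun z : F₀ => (z : F)) this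
    simpa using h2

omit [Fintype F] in
theorem sfrD_pow_natCast (r : ℕ) [Fact r.Prime] (ω : F) (hω : ω ^ r = 1) (k : ℕ) :
    ω ^ ((k : ZMod r)).val = ω ^ k := by
  rw [ZMod.val_natCast]
  conv_rhs => rw [← Nat.div_add_mod k r]
  rw [pow_add, pow_mul, hω, one_pow, one_mul]

omit [Fintype F] in
theorem sfrD_pow_add (r : ℕ) [Fact r.Prime] (ω : F) (hω : ω ^ r = 1) (s s' : ZMod r) :
    ω ^ (s + s').val = ω ^ s.val * ω ^ s'.val := by
  have h : s + s' = ((s.val + s'.val : ℕ) : ZMod r) := by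
    push_cast
    rw [ZMod.natCast_zmod_val, ZMod.natCast_zmod_val]
  rw [h, sfrD_pow_natCast r ω hω, pow_add]

omit [Fintype F] in
theorem sfrD_pow_mul (r : ℕ) [Fact r.Prime] (ω : F) (hω : ω ^ r = 1) (q : ℕ) (s : ZMod r) :
    ω ^ ((q : ZMod r) * s).val = (ω ^ s.val) ^ q := by
  have h : (q : ZMod r) * s = ((q * s.val : ℕ) : ZMod r) := by
    push_cast
    rw [ZMod.natCast_zmod_val]
  rw [h, sfrD_pow_natCast r ω hω, mul_comm, pow_mul]

/-- D -/
theorem diag_conj_necessary {p : ℕ} [Fact p.Prime] [CharP F p] (n : ℕ) (F₀ : Subfield F)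
    (r : ℕ) [Fact r.Prime] (hrp : r ≠ p) (ω : F) (hω : ω ^ r = 1) (hω1 : ω ≠ 1) (c : F)
    (e : Fin n → ZMod r) (x : Matrix.SpecialLinearGroup (Fin n) F)
    (hx : (x : Matrix (Fin n) (Fin n) F) = c • Matrix.diagonal (fun i => ω ^ (e i).val))
    (hconj : ∃ P : Matrix.SpecialLinearGroup (Fin n) F, P⁻¹ * x * P ∈
        ((Cfsg.Geo.subfieldSubgroup F₀ (1 : GL (Fin n) F)).comap
          (Matrix.SpecialLinearGroup.toGL : Matrix.SpecialLinearGroup (Fin n) F →* GL (Fin n) F))) :
    ∃ t : ZMod r, Multiset.map e Finset.univ.val =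
      Multiset.map (fun i => ((Nat.card F₀ : ℕ) : ZMod r) * e i + t) Finset.univ.val := by
  classical
  rcases Nat.eq_zero_or_pos n with rfl | hn
  · exact ⟨0, by simp⟩
  haveI : Nonempty (Fin n) := ⟨⟨0, hn⟩⟩
  have hr := (Fact.out : r.Prime)
  set q0 := Nat.card F₀ with hq0
  obtain ⟨σ, hσ, hσfix⟩ := sfrD_frob (p := p) F₀
  obtain ⟨P, hP⟩ := hconj
  rw [Subgroup.mem_comap] at hP
  obtain ⟨a, M₀, ha, hM⟩ := Cfsg.Agent.Lib.Helper44.SLInv.exists_of_mem_subfieldSubgroup F₀ _ hP
  have hM1 : ((P⁻¹ : Matrix.SpecialLinearGroup (Fin n) F) : Matrix (Fin n) (Fin n) F) *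
      (x : Matrix (Fin n) (Fin n) F) * (P : Matrix (Fin n) (Fin n) F) =
      a • M₀.map (F₀.subtype : F₀ →+* F) := by
    rw [← hM]
    rfl
  -- `c ≠ 0`
  have hc : c ≠ 0 := by
    rintro rfl
    have hdet := x.2
    rw [hx, zero_smul, Matrix.det_zero] at hdet
    exact zero_ne_one hdet
  set b := a⁻¹ * c with hb
  have hb0 : b ≠ 0 := mul_ne_zero (inv_ne_zero ha) hc
  have hω0 : ω ≠ 0 := by
    rintro rfl
    rw [zero_pow hr.ne_zero] at hω
    exact zero_ne_one hω
  set d : Fin n → F := fun i => b * ω ^ (e i).val with hd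
  set M : Matrix (Fin n) (Fin n) F := M₀.map (F₀.subtype : F₀ →+* F) with hMdef
  -- `M` is conjugate to `diagonal d`
  have hPinv : (P : Matrix (Fin n) (Fin n) F) *
      ((P⁻¹ : Matrix.SpecialLinearGroup (Fin n) F) : Matrix (Fin n) (Fin n) F) = 1 := by
    rw [← Matrix.SpecialLinearGroup.coe_mul, mul_inv_cancel, Matrix.SpecialLinearGroup.coe_one]
  have hMconj : M = ((P⁻¹ : Matrix.SpecialLinearGroup (Fin n) F) : Matrix (Fin n) (Fin n) F) *
      Matrix.diagonal d * (P : Matrix (Fin n) (Fin n) F) := by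
    have h1 : M = a⁻¹ • (a • M) := by rw [smul_smul, inv_mul_cancel₀ ha, one_smul]
    rw [h1, ← hM1, hx]
    have h2 : Matrix.diagonal d = a⁻¹ • (c • Matrix.diagonal (fun i => ω ^ (e i).val)) := by
      rw [smul_smul, ← Matrix.diagonal_smul]
      rfl
    rw [h2]
    simp only [Matrix.mul_smul, Matrix.smul_mul]
  have hchar : M.charpoly = ∏ i, (X - C (d i)) := by
    rw [hMconj, mul_assoc, Matrix.charpoly_mul_comm, mul_assoc, hPinv, mul_one, Matrix.charpoly_diagonal]
  have hroots : M.charpoly.roots = Multiset.map d Finset.univ.val := by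
    rw [hchar]
    have h3 : (∏ i, (X - C (d i)) : F[X]) =
        ((Multiset.map d Finset.univ.val).map fun z => X - C z).prod := by
      rw [Multiset.map_map]
      rfl
    rw [h3, Polynomial.roots_multiset_prod_X_sub_C]
  -- the characteristic polynomial is fixed by `σ`
  have hfix : M.charpoly.map σ = M.charpoly := by
    rw [hMdef, Matrix.charpoly_map, Polynomial.map_map]
    congr 1
    ext y
    exact hσfix y
  have hcard : Multiset.card M.charpoly.roots = M.charpoly.natDegree := by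
    rw [hroots, Matrix.charpoly_natDegree_eq_dim, Multiset.card_map]
    rfl
  have hstable : Multiset.map σ (Multiset.map d Finset.univ.val) = Multiset.map d Finset.univ.val := by
    have := Polynomial.roots_map_of_injective_of_card_eq_natDegree σ.injective hcard
    rw [hfix, hroots] at this
    exact this
  -- the shift `t`
  have hσd : ∀ i, σ (d i) = b ^ q0 * (ω ^ (e i).val) ^ q0 := by
    intro i
    rw [hσ, hd, mul_pow]
  obtain ⟨j, hj⟩ : ∃ j, d j = σ (d ⟨0, hn⟩) := by
    have hmem : σ (d ⟨0, hn⟩) ∈ Multiset.map σ (Multiset.map d Finset.univ.val) :=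
      Multiset.mem_map_of_mem _ (Multiset.mem_map_of_mem _ (Finset.mem_univ_val _))
    rw [hstable, Multiset.mem_map] at hmem
    obtain ⟨j, -, hj⟩ := hmem
    exact ⟨j, hj⟩
  set i0 : Fin n := ⟨0, hn⟩ with hi0
  set t : ZMod r := e j - (q0 : ZMod r) * e i0 with ht
  have hkey : b ^ q0 = b * ω ^ t.val := by
    have h1 : e j = (q0 : ZMod r) * e i0 + t := by rw [ht]; ring
    have h2 : b * ω ^ (e j).val = b ^ q0 * (ω ^ (e i0).val) ^ q0 := by
      rw [← hσd i0, ← hj]
    rw [h1, sfrD_pow_add r ω hω, sfrD_pow_mul r ω hω] at h2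
    have h3 : (ω ^ (e i0).val) ^ q0 ≠ 0 := pow_ne_zero _ (pow_ne_zero _ hω0)
    apply mul_right_cancel₀ h3
    rw [← h2]; ring
  refine ⟨t, ?_⟩
  -- compare through the injection `s ↦ b * ω ^ s.val`
  have hinj : Function.Injective (fun s : ZMod r => b * ω ^ s.val) := by
    intro s s' h
    have h1 : ω ^ s.val = ω ^ s'.val := mul_left_cancel₀ hb0 h
    have hord : orderOf ω = r := orderOf_eq_prime hω hω1
    have hlt : ∀ k : ZMod r, k.val < orderOf ω := by
      intro k
      rw [hord]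
      exact ZMod.val_lt _
    exact ZMod.val_injective r (pow_injOn_Iio_orderOf (hlt s) (hlt s') h1)
  apply Multiset.map_injective hinj
  rw [Multiset.map_map, Multiset.map_map]
  have e1 : Multiset.map ((fun s : ZMod r => b * ω ^ s.val) ∘ e) Finset.univ.val =
      Multiset.map d Finset.univ.val := rfl
  have e2 : Multiset.map ((fun s : ZMod r => b * ω ^ s.val) ∘ fun i => (q0 : ZMod r) * e i + t) Finset.univ.val =
      Multiset.map σ (Multiset.map d Finset.univ.val) := by
    rw [Multiset.map_map]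
    apply Multiset.map_congr rfl
    intro i _
    show b * ω ^ ((q0 : ZMod r) * e i + t).val = σ (d i)
    rw [hσd, sfrD_pow_add r ω hω, sfrD_pow_mul r ω hω, hkey]
    ring
  rw [e1, e2, hstable]

end Cfsg.Agent.Lib.Helper44.Sfr
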