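import Mathlib
import Cfsg.Agent.Lib.Helper44.SfrDefs

/-! # S5965 (helper44) leaves SFR-K: multiset combinatorics of exponent vectors (helper83) -/

set_option autoImplicit false

namespace Cfsg.Agent.Lib.Helper44.Sfr

theorem sum_expo (n r : ℕ) (hn : 3 ≤ n) (a b c : ZMod r) {M : Type*} [AddCommMonoid M]
    (f : ZMod r → M) :
    ∑ i : Fin n, f (expo n r a b c i) = f a + f b + f c + (n - 3) • f 0 := by
  obtain ⟨m, rfl⟩ : ∃ m, n = m + 3 := ⟨n - 3, by omega⟩
  rw [Fin.sum_univ_succ, Fin.sum_univ_succ, Fin.sum_univ_succ]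
  have h0 : expo (m + 3) r a b c 0 = a := by simp [expo]
  have h1 : expo (m + 3) r a b c (Fin.succ 0) = b := by simp [expo]
  have h2 : expo (m + 3) r a b c (Fin.succ (Fin.succ 0)) = c := by
    unfold expo
    rw [Fin.val_succ, Fin.val_succ]
    simp
  have h3 : ∀ i : Fin m, expo (m + 3) r a b c (Fin.succ (Fin.succ (Fin.succ i))) = 0 := by
    intro i
    unfold expo
    rw [Fin.val_succ, Fin.val_succ, Fin.val_succ]
    simp
  simp only [h0, h1, h2, h3, Finset.sum_const, Finset.card_univ, Fintype.card_fin, Nat.add_sub_cancel]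
  abel

theorem sum_expo_id (n r : ℕ) (hn : 3 ≤ n) (a b c : ZMod r) :
    ∑ i : Fin n, expo n r a b c i = a + b + c := by
  have := sum_expo n r hn a b c (fun x => x)
  simpa using this

/-- sums of any function over two equal multisets of values agree -/
theorem sfrk_sum_eq {ι α : Type*} [Fintype ι] (e e' : ι → α)
    (h : Multiset.map e Finset.univ.val = Multiset.map e' Finset.univ.val)
    {M : Type*} [AddCommMonoid M] (f : α → M) : ∑ i, f (e i) = ∑ i, f (e' i) := by
  have h1 : (Multiset.map f (Multiset.map e Finset.univ.val)).sum =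
      (Multiset.map f (Multiset.map e' Finset.univ.val)).sum := by rw [h]
  rw [Multiset.map_map, Multiset.map_map] at h1
  exact h1

/-- the indicator of a point, with values in `ℕ` -/
def sfrkInd {r : ℕ} (x : ZMod r) : ZMod r → ℕ := fun y => if y = x then 1 else 0

theorem sfrkInd_self {r : ℕ} (x : ZMod r) : sfrkInd x x = 1 := by simp [sfrkInd]

theorem sfrkInd_ne {r : ℕ} {x y : ZMod r} (h : y ≠ x) : sfrkInd x y = 0 := by simp [sfrkInd, h]

theorem sfrkInd_le {r : ℕ} (x y : ZMod r) : sfrkInd x y ≤ 1 := by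
  unfold sfrkInd; split_ifs <;> omega

theorem sfrk_expo_shift (n r : ℕ) (hn : 3 ≤ n) (a b c u t : ZMod r) {M : Type*} [AddCommMonoid M]
    (f : ZMod r → M) :
    ∑ i : Fin n, f (u * expo n r a b c i + t) =
      f (u * a + t) + f (u * b + t) + f (u * c + t) + (n - 3) • f t := by
  have := sum_expo n r hn a b c (fun x => f (u * x + t))
  simpa using this

/-- E1: `(1,0,…,0)`, `n ≥ 3` -/
theorem no_shift_E1 (n r : ℕ) [Fact r.Prime] (hn : 3 ≤ n) (u : ZMod r) (hu0 : u ≠ 0) (hu1 : u ≠ 1) :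
    ¬ ∃ t : ZMod r, Multiset.map (expo n r 1 0 0) Finset.univ.val =
      Multiset.map (fun i => u * expo n r 1 0 0 i + t) Finset.univ.val := by
  rintro ⟨t, ht⟩
  have key : ∀ f : ZMod r → ℕ, f 1 + f 0 + f 0 + (n - 3) • f 0 =
      f (u * 1 + t) + f (u * 0 + t) + f (u * 0 + t) + (n - 3) • f t := by
    intro f
    rw [← sum_expo n r hn 1 0 0 f, ← sfrk_expo_shift n r hn 1 0 0 u t f]
    exact sfrk_sum_eq _ _ ht f
  have h10 : (1 : ZMod r) ≠ 0 := one_ne_zero
  simp only [mul_one, mul_zero, zero_add, smul_eq_mul] at key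
  by_cases ht0 : t = 0
  · subst ht0
    have k1 := key (sfrkInd 1)
    rw [add_zero, sfrkInd_self, sfrkInd_ne (Ne.symm h10), sfrkInd_ne hu1] at k1
    omega
  · have k1 := key (sfrkInd t)
    have hut : u + t ≠ t := by
      intro h
      exact hu0 (by simpa using h)
    rw [sfrkInd_self, sfrkInd_ne (Ne.symm ht0), sfrkInd_ne hut] at k1
    have := sfrkInd_le t 1
    have hn3 : 1 ≤ n - 3 + 2 := by omega
    nlinarith

/-- E2: `(1,-1,0,…,0)`, `n ≥ 3`, `u ≠ ±1` -/
theorem no_shift_E2 (n r : ℕ) [Fact r.Prime] (hr2 : r ≠ 2) (hn : 3 ≤ n) (u : ZMod r) (hu0 : u ≠ 0)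
    (hu1 : u ≠ 1) (hu2 : u ≠ -1) :
    ¬ ∃ t : ZMod r, Multiset.map (expo n r 1 (-1) 0) Finset.univ.val =
      Multiset.map (fun i => u * expo n r 1 (-1) 0 i + t) Finset.univ.val := by
  rintro ⟨t, ht⟩
  have key : ∀ f : ZMod r → ℕ, f 1 + f (-1) + f 0 + (n - 3) • f 0 =
      f (u * 1 + t) + f (u * (-1) + t) + f (u * 0 + t) + (n - 3) • f t := by
    intro f
    rw [← sum_expo n r hn 1 (-1) 0 f, ← sfrk_expo_shift n r hn 1 (-1) 0 u t f]
    exact sfrk_sum_eq _ _ ht f
  have h10 : (1 : ZMod r) ≠ 0 := one_ne_zero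
  have hm10 : (-1 : ZMod r) ≠ 0 := neg_ne_zero.2 one_ne_zero
  have h2 : (2 : ZMod r) ≠ 0 := by
    intro h
    have h' : ((2 : ℕ) : ZMod r) = 0 := by exact_mod_cast h
    rw [ZMod.natCast_eq_zero_iff] at h'
    have hr := (Fact.out : r.Prime)
    have := (Nat.prime_dvd_prime_iff_eq hr Nat.prime_two).1 h'
    exact hr2 this
  have h1m1 : (1 : ZMod r) ≠ -1 := by
    intro h
    apply h2
    have : (1 : ZMod r) + 1 = 0 := by nth_rewrite 2 [h]; ring
    rw [← this]; ring
  simp only [mul_one, mul_neg, mul_zero, zero_add, smul_eq_mul] at key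
  by_cases ht0 : t = 0
  · subst ht0
    have k1 := key (sfrkInd 1)
    have hnu : -u ≠ 1 := by
      intro h
      apply hu2
      rw [← h, neg_neg]
    rw [add_zero, add_zero, sfrkInd_self, sfrkInd_ne (Ne.symm h1m1), sfrkInd_ne (Ne.symm h10), sfrkInd_ne hu1,
      sfrkInd_ne hnu] at k1
    omega
  · have k1 := key (sfrkInd t)
    have hut : u + t ≠ t := by
      intro h
      exact hu0 (by simpa using h)
    have hut' : -u + t ≠ t := by
      intro h
      exact hu0 (by simpa using h)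
    rw [sfrkInd_self, sfrkInd_ne (Ne.symm ht0), sfrkInd_ne hut, sfrkInd_ne hut'] at k1
    have ht1 : t = 1 ∨ t = -1 := by
      by_contra hcon
      rw [not_or] at hcon
      rw [sfrkInd_ne (Ne.symm hcon.1), sfrkInd_ne (Ne.symm hcon.2)] at k1
      omega
    have k0 := key (sfrkInd 0)
    rw [sfrkInd_self, sfrkInd_ne h10, sfrkInd_ne hm10, sfrkInd_ne ht0] at k0
    have e1 : u + t ≠ 0 := by
      rcases ht1 with rfl | rfl
      · intro h
        apply hu2
        exact eq_neg_of_add_eq_zero_left h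
      · intro h
        apply hu1
        have : u = -(-1) := eq_neg_of_add_eq_zero_left h
        rw [this, neg_neg]
    have e2 : -u + t ≠ 0 := by
      rcases ht1 with rfl | rfl
      · intro h
        apply hu1
        have : -u = -1 := eq_neg_of_add_eq_zero_left h
        exact neg_injective this
      · intro h
        apply hu2
        have : -u = -(-1) := eq_neg_of_add_eq_zero_left h
        exact neg_injective this
    rw [sfrkInd_ne e1, sfrkInd_ne e2] at k0
    omega

/-- E2 for `n = 2` -/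
theorem no_shift_E2_two (r : ℕ) [Fact r.Prime] (hr2 : r ≠ 2) (u : ZMod r) (_hu0 : u ≠ 0)
    (hu1 : u ≠ 1) (hu2 : u ≠ -1) :
    ¬ ∃ t : ZMod r, Multiset.map (![1, -1] : Fin 2 → ZMod r) Finset.univ.val =
      Multiset.map (fun i => u * (![1, -1] : Fin 2 → ZMod r) i + t) Finset.univ.val := by
  rintro ⟨t, ht⟩
  have key : ∀ {M : Type} [AddCommMonoid M] (f : ZMod r → M), f 1 + f (-1) = f (u * 1 + t) + f (u * (-1) + t) := by
    intro M _ f
    have := sfrk_sum_eq _ _ ht f
    simpa [Fin.sum_univ_two] using this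
  have h2 : (2 : ZMod r) ≠ 0 := by
    intro h
    have h' : ((2 : ℕ) : ZMod r) = 0 := by exact_mod_cast h
    rw [ZMod.natCast_eq_zero_iff] at h'
    have hr := (Fact.out : r.Prime)
    have := (Nat.prime_dvd_prime_iff_eq hr Nat.prime_two).1 h'
    exact hr2 this
  have h1m1 : (1 : ZMod r) ≠ -1 := by
    intro h
    apply h2
    have : (1 : ZMod r) + 1 = 0 := by nth_rewrite 2 [h]; ring
    rw [← this]; ring
  have hs := key (fun x : ZMod r => x)
  simp only [mul_one, mul_neg] at hs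
  have ht0 : t = 0 := by
    have : (2 : ZMod r) * t = 0 := by
      have h3 : (1 : ZMod r) + -1 = 0 := by ring
      rw [h3] at hs
      rw [hs]; ring
    rcases mul_eq_zero.1 this with h | h
    · exact absurd h h2
    · exact h
  subst ht0
  have k1 := key (sfrkInd 1)
  simp only [mul_one, mul_neg, add_zero] at k1
  have hnu : -u ≠ 1 := by
    intro h
    apply hu2
    rw [← h, neg_neg]
  rw [sfrkInd_self, sfrkInd_ne (Ne.symm h1m1), sfrkInd_ne hu1, sfrkInd_ne hnu] at k1
  omega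

/-- E3: `(1,1,-2,0,…,0)`, `u = -1`, `n ≥ 6`, `(n,r) ≠ (6,3)` -/
theorem no_shift_E3 (n r : ℕ) [Fact r.Prime] (hr2 : r ≠ 2) (hn : 6 ≤ n) (h63 : ¬ (n = 6 ∧ r = 3)) :
    ¬ ∃ t : ZMod r, Multiset.map (expo n r 1 1 (-2)) Finset.univ.val =
      Multiset.map (fun i => (-1 : ZMod r) * expo n r 1 1 (-2) i + t) Finset.univ.val := by
  rintro ⟨t, ht⟩
  have hn3 : 3 ≤ n := by omega
  have key : ∀ f : ZMod r → ℕ, f 1 + f 1 + f (-2) + (n - 3) • f 0 =
      f (-1 * 1 + t) + f (-1 * 1 + t) + f (-1 * (-2) + t) + (n - 3) • f t := by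
    intro f
    rw [← sum_expo n r hn3 1 1 (-2) f, ← sfrk_expo_shift n r hn3 1 1 (-2) (-1) t f]
    exact sfrk_sum_eq _ _ ht f
  have hr := (Fact.out : r.Prime)
  have h10 : (1 : ZMod r) ≠ 0 := one_ne_zero
  have h2 : (2 : ZMod r) ≠ 0 := by
    intro h
    have h' : ((2 : ℕ) : ZMod r) = 0 := by exact_mod_cast h
    rw [ZMod.natCast_eq_zero_iff] at h'
    have := (Nat.prime_dvd_prime_iff_eq hr Nat.prime_two).1 h'
    exact hr2 this
  have h1m1 : (-1 : ZMod r) ≠ 1 := by
    intro h
    apply h2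
    have : (1 : ZMod r) + 1 = 0 := by nth_rewrite 1 [← h]; ring
    rw [← this]; ring
  simp only [mul_one, neg_mul, one_mul, neg_neg, smul_eq_mul] at key
  by_cases ht0 : t = 0
  · subst ht0
    have k1 := key (sfrkInd 1)
    have h21 : (2 : ZMod r) ≠ 1 := by
      intro h
      apply h10
      have : (2 : ZMod r) - 1 = 0 := by rw [h]; ring
      rw [← this]; ring
    rw [add_zero, add_zero, sfrkInd_self, sfrkInd_ne (Ne.symm h10), sfrkInd_ne h1m1, sfrkInd_ne h21] at k1
    omega
  · have k1 := key (sfrkInd t)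
    have e1 : -1 + t ≠ t := by
      intro h
      have : (-1 : ZMod r) = 0 := by simpa using h
      exact h10 (neg_eq_zero.1 this)
    have e2 : 2 + t ≠ t := by
      intro h
      exact h2 (by simpa using h)
    rw [sfrkInd_self, sfrkInd_ne (Ne.symm ht0), sfrkInd_ne e1, sfrkInd_ne e2] at k1
    have b1 := sfrkInd_le t 1
    have b2 := sfrkInd_le t (-2)
    have hboth : sfrkInd t 1 = 1 ∧ sfrkInd t (-2) = 1 ∧ n = 6 := by
      refine ⟨?_, ?_, ?_⟩ <;> omega
    obtain ⟨c1, c2, c3⟩ := hboth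
    have t1 : (1 : ZMod r) = t := by
      by_contra h
      rw [sfrkInd_ne h] at c1
      omega
    have t2 : (-2 : ZMod r) = t := by
      by_contra h
      rw [sfrkInd_ne h] at c2
      omega
    have h3 : ((3 : ℕ) : ZMod r) = 0 := by
      have : (1 : ZMod r) = -2 := by rw [t1, t2]
      push_cast
      have h4 : (3 : ZMod r) = 1 - (-2) := by ring
      rw [h4, ← this]; ring
    rw [ZMod.natCast_eq_zero_iff] at h3
    have := (Nat.prime_dvd_prime_iff_eq hr Nat.prime_three).1 h3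
    exact h63 ⟨c3, this⟩

end Cfsg.Agent.Lib.Helper44.Sfr
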