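import Mathlib
import Cfsg.Prelude.Def_RootSubgroups
import Cfsg.Agent.Lib.Helper83.LineTrans2

set_option autoImplicit false

namespace Cfsg.Agent.Lib.Helper83

open Cfsg
open scoped commutatorElement

variable {G : Type*} [Group G] {S : Set (Subgroup G)}

/-- If `A` and `C` commute and both form a rank one pair with `B`, some element swaps `A` and `C`. -/
theorem rop_swap {A B C : Subgroup G} (hAB : IsRankOnePair A B) (hCB : IsRankOnePair C B)
    (hAC : A ≤ Subgroup.centralizer (C : Set G)) : ∃ g : G, conjBy A g = C ∧ conjBy C g = A := by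
  obtain ⟨b₁, hb₁, hb₁1⟩ := rop_exists_right hAB
  obtain ⟨a₁, ha₁, ha₁1, h1⟩ := hAB.cond_right b₁ hb₁ hb₁1
  obtain ⟨c₁, hc₁, hc₁1, h2⟩ := hCB.cond_right b₁ hb₁ hb₁1
  have hcomm : c₁ * a₁ = a₁ * c₁ := (Subgroup.mem_centralizer_iff.1 (hAC ha₁)) c₁ hc₁
  have ha₁i : a₁⁻¹ ≠ 1 := by simpa using ha₁1
  have hc₁i : c₁⁻¹ ≠ 1 := by simpa using hc₁1
  obtain ⟨b₃, hb₃, hb₃1, h3⟩ := hAB.cond_left a₁⁻¹ (A.inv_mem ha₁) ha₁i
  obtain ⟨b₄, hb₄, hb₄1, h4⟩ := hCB.cond_left c₁⁻¹ (C.inv_mem hc₁) hc₁i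
  rw [inv_inv] at h3 h4
  have s1 : conjBy B a₁⁻¹ ≤ Subgroup.centralizer (conjBy B c₁⁻¹ : Set G) := by
    rw [h1, h2]; exact le_centralizer_conj _ hAC
  have s2 : conjBy B (c₁ * a₁⁻¹) ≤ Subgroup.centralizer (B : Set G) := by
    have := le_centralizer_conj c₁ s1
    simpa [conjBy_conjBy, conjBy_one] using this
  have s3 : conjBy B (c₁ * a₁⁻¹)⁻¹ ≤ Subgroup.centralizer (B : Set G) := by
    have := le_centralizer_conj (c₁ * a₁⁻¹)⁻¹ s2
    rw [conjBy_conjBy, inv_mul_cancel, conjBy_one] at this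
    exact le_centralizer_symm this
  have e1 : c₁ * (c₁ * a₁⁻¹)⁻¹ = a₁ := by
    rw [mul_inv_rev, inv_inv, ← mul_assoc, hcomm, mul_assoc, mul_inv_cancel, mul_one]
  have s4 : conjBy B a₁ ≤ Subgroup.centralizer (conjBy B c₁ : Set G) := by
    have := le_centralizer_conj c₁ s3
    rwa [conjBy_conjBy, e1] at this
  have s5 : A ≤ Subgroup.centralizer (conjBy C (b₃ * b₄⁻¹) : Set G) := by
    rw [← h3, ← h4] at s4
    have := le_centralizer_conj b₃ s4
    rwa [conjBy_conjBy, conjBy_conjBy, mul_inv_cancel, conjBy_one] at this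
  have hb34 : b₃ = b₄ := by
    by_contra hne
    have hbB : (b₃ * b₄⁻¹)⁻¹ ∈ B := B.inv_mem (B.mul_mem hb₃ (B.inv_mem hb₄))
    have hb1 : (b₃ * b₄⁻¹)⁻¹ ≠ 1 := by
      intro h
      apply hne
      rw [inv_eq_one] at h
      exact mul_inv_eq_one.1 h
    obtain ⟨c', hc', hc'1, h5⟩ := hCB.cond_right _ hbB hb1
    rw [inv_inv] at h5
    rw [← h5] at s5
    have := le_centralizer_conj c' s5
    rw [conjBy_conjBy, mul_inv_cancel, conjBy_one,
      conjBy_eq_self_of_le_centralizer hc' (le_centralizer_symm hAC)] at this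
    exact rop_not_le_centralizer hAB this
  subst hb34
  have hcomm' : a₁⁻¹ * c₁⁻¹ = c₁⁻¹ * a₁⁻¹ := by
    rw [← mul_inv_rev, ← mul_inv_rev, hcomm]
  refine ⟨b₁ * (a₁⁻¹ * c₁⁻¹) * b₃⁻¹, ?_, ?_⟩
  · rw [← conjBy_conjBy, h3, conjBy_conjBy]
    have e : b₁ * (a₁⁻¹ * c₁⁻¹) * a₁ = b₁ * c₁⁻¹ := by
      rw [hcomm']; group
    rw [e, ← conjBy_conjBy, h2, conjBy_conjBy, mul_inv_cancel, conjBy_one]
  · rw [← conjBy_conjBy, h4, conjBy_conjBy]
    have e : b₁ * (a₁⁻¹ * c₁⁻¹) * c₁ = b₁ * a₁⁻¹ := by group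
    rw [e, ← conjBy_conjBy, h1, conjBy_conjBy, mul_inv_cancel, conjBy_one]

/-- A conjugation-equivariant family of sets of subgroups, monotone for a swapped pair, is constant on the pair. -/
theorem swap_subset {F : Subgroup G → Set (Subgroup G)}
    (hF : ∀ (X D : Subgroup G) (g : G), D ∈ F X → conjBy D g ∈ F (conjBy X g))
    {A C : Subgroup G} {g : G} (h1 : conjBy A g = C) (h2 : conjBy C g = A) (hsub : F A ⊆ F C) :
    F A = F C := by
  apply Set.Subset.antisymm hsub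
  intro D hD
  have hA : conjBy C g⁻¹ = A := (conjBy_eq_iff.1 h1).symm
  have h3 := hF C D g⁻¹ hD
  rw [hA] at h3
  have h4 := hF C _ g (hsub h3)
  rwa [h2, conjBy_conjBy, mul_inv_cancel, conjBy_one] at h4

theorem centralizingMembers_conj (hS : IsRootSubgroupSet S) (X D : Subgroup G) (g : G)
    (h : D ∈ centralizingMembers S X) : conjBy D g ∈ centralizingMembers S (conjBy X g) :=
  ⟨hS.conj_mem D h.1 g, le_centralizer_conj g h.2⟩

theorem rankOnePartners_conj (hS : IsRootSubgroupSet S) (X D : Subgroup G) (g : G)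
    (h : D ∈ rankOnePartners S X) : conjBy D g ∈ rankOnePartners S (conjBy X g) :=
  ⟨hS.conj_mem D h.1 g, rop_conj h.2 g⟩

/-- In a degenerate or nondegenerate class in which some member has no rank one partner, all members commute. -/
theorem all_comm_of_no_partner (hS : IsRootSubgroupClass S)
    (hdn : IsDegenerateRootSet S ∨ IsNondegenerateRootSet S) {C : Subgroup G} (hC : C ∈ S)
    (hΩ : ¬ ∃ B ∈ S, IsRankOnePair C B) : ∀ X ∈ S, ∀ Y ∈ S, ⁅X, Y⁆ = ⊥ := by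
  have hno : ∀ X ∈ S, ∀ Y ∈ S, ¬ IsRankOnePair X Y := by
    intro X hX Y hY hXY
    exact hΩ (class_has_partner hS hX hY hXY C hC)
  intro X hX Y hY
  rcases hS.1.pair X hX Y hY with h | h | h
  · exact h
  · exact absurd h (hno X hX Y hY)
  · exfalso
    rcases hdn with hd | hn
    · exact hd X hX Y hY h
    · obtain ⟨-, ⟨P₁, hP₁, P₂, hP₂, hP⟩, -⟩ := hn
      exact hno P₁ hP₁ P₂ hP₂ hP

end Cfsg.Agent.Lib.Helper83
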