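import Mathlib

/-!
# A lifting lemma for invariant Sylow 3-subgroups, module part

`A` an elementary abelian normal 2-subgroup, `P` a 3-group normalising it, `n` an element
normalising both, acting as an involution; elements of `P` inverted by `n` have order 3.
-/

set_option autoImplicit false
set_option linter.all false

namespace Cfsg.Agent.Lib.Helper83.SylLift

variable {G : Type*} [Group G]

/-- the context of the module lemma -/
structure MCtx (A P Y : Subgroup G) (n : G) : Prop where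
  comm : ∀ a ∈ A, ∀ b ∈ A, a * b = b * a
  sq : ∀ a ∈ A, a * a = 1
  PA : ∀ p ∈ P, ∀ a ∈ A, p * a * p⁻¹ ∈ A
  nA : ∀ a ∈ A, n * a * n⁻¹ ∈ A
  nP : ∀ p ∈ P, n * p * n⁻¹ ∈ P
  n2P : ∀ p ∈ P, n * n * p = p * (n * n)
  P3 : IsPGroup 3 P
  O3 : ∀ x ∈ P, n * x * n⁻¹ = x⁻¹ → x ^ 3 = 1
  YP : Y ≤ P
  Yn : ∀ y ∈ Y, n * y * n⁻¹ = y
  fix : ∀ p ∈ P, n * p * n⁻¹ = p → p ∈ Y

namespace MCtx

variable {A P Y : Subgroup G} {n : G}

theorem n_inv_conj (h : MCtx A P Y n) {p : G} (hp : p ∈ P) : n⁻¹ * p * n = n * p * n⁻¹ := by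
  have h1 := h.n2P p hp
  have : n⁻¹ * p * n = n⁻¹ * (p * (n * n)) * n⁻¹ := by group
  rw [this, ← h1]; group

/-- existence of an inverted element in the normaliser of a proper invariant subgroup -/
theorem exists_inverted [Finite G] (h : MCtx A P Y n) (Z : Subgroup G) (hYZ : Y ≤ Z) (hZP : Z ≤ P)
    (hZn : ∀ z ∈ Z, n * z * n⁻¹ ∈ Z) (hne : Z ≠ P) :
    ∃ x ∈ P, x ∉ Z ∧ (∀ z ∈ Z, x * z * x⁻¹ ∈ Z) ∧ (∀ z ∈ Z, x⁻¹ * z * x ∈ Z) ∧
      n * x * n⁻¹ = x⁻¹ := by
  haveI : Fact (Nat.Prime 3) := ⟨by norm_num⟩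
  -- normaliser growth in the 3-group P
  haveI : Group.IsNilpotent P := h.P3.isNilpotent
  have hlt : Z.subgroupOf P < ⊤ := by
    rw [lt_top_iff_ne_top]
    intro htop
    apply hne
    apply le_antisymm hZP
    intro p hp
    have : (⟨p, hp⟩ : P) ∈ Z.subgroupOf P := by rw [htop]; trivial
    exact this
  have hnc := normalizerCondition_of_isNilpotent (G := P) (Z.subgroupOf P) hlt
  obtain ⟨m', hm'N, hm'Z⟩ := SetLike.exists_of_lt hnc
  set m : G := (m' : G) with hm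
  have hmP : m ∈ P := m'.2
  have hmZ : m ∉ Z := fun hc => hm'Z hc
  have hmN : ∀ z ∈ Z, m * z * m⁻¹ ∈ Z := by
    intro z hz
    have := (Subgroup.mem_normalizer_iff.mp hm'N ⟨z, hZP hz⟩).mp hz
    exact this
  have hmN' : ∀ z ∈ Z, m⁻¹ * z * m ∈ Z := by
    intro z hz
    have h1 : m⁻¹ * z * m ∈ P := P.mul_mem (P.mul_mem (P.inv_mem hmP) (hZP hz)) hmP
    have := (Subgroup.mem_normalizer_iff.mp hm'N ⟨m⁻¹ * z * m, h1⟩).mpr (by
      show m * (m⁻¹ * z * m) * m⁻¹ ∈ Z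
      have : m * (m⁻¹ * z * m) * m⁻¹ = z := by group
      rw [this]; exact hz)
    exact this
  -- n-invariance of Z in both directions
  have hZn' : ∀ z ∈ Z, n⁻¹ * z * n ∈ Z := by
    intro z hz
    rw [h.n_inv_conj (hZP hz)]; exact hZn z hz
  set x : G := m⁻¹ * (n * m * n⁻¹) with hx
  have hxP : x ∈ P := P.mul_mem (P.inv_mem hmP) (h.nP m hmP)
  have hxinv : n * x * n⁻¹ = x⁻¹ := by
    have h1 : n * x * n⁻¹ = (n * m * n⁻¹)⁻¹ * (n * n * m * (n * n)⁻¹) := by
      rw [hx]; group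
    have h2 : n * n * m * (n * n)⁻¹ = m := by
      rw [h.n2P m hmP]; group
    rw [h1, h2, hx]; group
  have hnmN : ∀ z ∈ Z, (n * m * n⁻¹) * z * (n * m * n⁻¹)⁻¹ ∈ Z := by
    intro z hz
    have h1 : (n * m * n⁻¹) * z * (n * m * n⁻¹)⁻¹ = n * (m * (n⁻¹ * z * n) * m⁻¹) * n⁻¹ := by group
    rw [h1]
    exact hZn _ (hmN _ (hZn' z hz))
  have hnmN' : ∀ z ∈ Z, (n * m * n⁻¹)⁻¹ * z * (n * m * n⁻¹) ∈ Z := by
    intro z hz
    have h1 : (n * m * n⁻¹)⁻¹ * z * (n * m * n⁻¹) = n * (m⁻¹ * (n⁻¹ * z * n) * m) * n⁻¹ := by group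
    rw [h1]
    exact hZn _ (hmN' _ (hZn' z hz))
  have hxN : ∀ z ∈ Z, x * z * x⁻¹ ∈ Z := by
    intro z hz
    have h1 : x * z * x⁻¹ = m⁻¹ * ((n * m * n⁻¹) * z * (n * m * n⁻¹)⁻¹) * m := by rw [hx]; group
    rw [h1]; exact hmN' _ (hnmN z hz)
  have hxN' : ∀ z ∈ Z, x⁻¹ * z * x ∈ Z := by
    intro z hz
    have h1 : x⁻¹ * z * x = (n * m * n⁻¹)⁻¹ * (m * z * m⁻¹) * (n * m * n⁻¹) := by rw [hx]; group
    rw [h1]; exact hnmN' _ (hmN z hz)
  by_cases hxZ : x ∈ Z
  · -- then some element of m Z is fixed by n, contradiction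
    exfalso
    obtain ⟨j, hj⟩ := (IsPGroup.iff_orderOf.mp h.P3) ⟨x, hxP⟩
    have hord : orderOf x = 3 ^ j := by
      rw [← hj]; exact (Subgroup.orderOf_mk x hxP).symm
    have hodd : Odd (orderOf x) := by rw [hord]; exact Odd.pow (by decide)
    obtain ⟨k, hk⟩ := hodd
    -- x^(k+1) squared is x
    have hpow : x ^ (2 * k + 1) = 1 := by rw [← hk]; exact pow_orderOf_eq_one x
    have hnm : n * m * n⁻¹ = m * x := by rw [hx]; group
    have hnxk : n * x ^ (k + 1) * n⁻¹ = (x⁻¹) ^ (k + 1) := by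
      have : n * x ^ (k + 1) * n⁻¹ = (n * x * n⁻¹) ^ (k + 1) := by
        rw [conj_pow]
      rw [this, hxinv]
    have hfixed : n * (m * x ^ (k + 1)) * n⁻¹ = m * x ^ (k + 1) := by
      have h1 : n * (m * x ^ (k + 1)) * n⁻¹ = (n * m * n⁻¹) * (n * x ^ (k + 1) * n⁻¹) := by group
      rw [h1, hnm, hnxk]
      have h2 : x * (x⁻¹) ^ (k + 1) = x ^ (k + 1) := by
        have h3 : x ^ (k + 1) * x ^ (k + 1) = x := by
          rw [← pow_add]
          have : k + 1 + (k + 1) = (2 * k + 1) + 1 := by ring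
          rw [this, pow_succ, hpow, one_mul]
        calc x * (x⁻¹) ^ (k + 1) = (x ^ (k + 1) * x ^ (k + 1)) * (x⁻¹) ^ (k + 1) := by rw [h3]
          _ = x ^ (k + 1) := by rw [inv_pow]; group
      rw [mul_assoc, h2]
    have hmem : m * x ^ (k + 1) ∈ Y := h.fix _ (P.mul_mem hmP (P.pow_mem hxP _)) hfixed
    have : m ∈ Z := by
      have h1 : m = (m * x ^ (k + 1)) * (x ^ (k + 1))⁻¹ := by group
      rw [h1]
      exact Z.mul_mem (hYZ hmem) (Z.inv_mem (Z.pow_mem hxZ _))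
    exact hmZ this
  · exact ⟨x, hxP, hxZ, hxN, hxN', hxinv⟩

/-- the chain lemma: an `n`-fixed-mod-`C_A(P)` element of `C_A(Z)` is a commutator with `n`
modulo `C_A(P)` -/
theorem chain [Finite G] (h : MCtx A P Y n) : ∀ Z : Subgroup G, Y ≤ Z → Z ≤ P →
    (∀ z ∈ Z, n * z * n⁻¹ ∈ Z) → ∀ b ∈ A, (∀ z ∈ Z, z * b * z⁻¹ = b) →
    ∀ c ∈ A, (∀ p ∈ P, p * c * p⁻¹ = c) → n * b * n⁻¹ * b = c →
    ∃ a ∈ A, (∀ y ∈ Y, y * a * y⁻¹ = a) ∧ ∃ c' ∈ A, (∀ p ∈ P, p * c' * p⁻¹ = c') ∧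
      b = n * a * n⁻¹ * a * c' := by
  intro Z
  induction Z using WellFoundedGT.induction with
  | ind Z ih =>
  intro hYZ hZP hZn b hb hbZ c hc hcP hbc
  by_cases hZ : Z = P
  · refine ⟨1, A.one_mem, fun y _ => by group, b, hb, ?_, by group⟩
    intro p hp
    exact hbZ p (hZ ▸ hp)
  · obtain ⟨x, hxP, hxZ, hxN, hxN', hxinv⟩ := h.exists_inverted Z hYZ hZP hZn hZ
    have hx3 : x ^ 3 = 1 := h.O3 x hxP hxinv
    have hx3' : x * x * x = 1 := by rw [← hx3, pow_succ, pow_two]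
    set Z' : Subgroup G := Z ⊔ Subgroup.zpowers x with hZ'
    have hxZ' : x ∈ Z' := Subgroup.mem_sup_right (Subgroup.mem_zpowers x)
    have hlt : Z < Z' := by
      refine lt_of_le_of_ne le_sup_left ?_
      intro heq
      exact hxZ (heq ▸ hxZ')
    set b1 : G := x * b * x⁻¹ with hb1
    set b2 : G := x * b1 * x⁻¹ with hb2
    have hb1A : b1 ∈ A := h.PA x hxP b hb
    have hb2A : b2 ∈ A := h.PA x hxP b1 hb1A
    have hF1 : x * b2 * x⁻¹ = b := by
      have : x * b2 * x⁻¹ = (x * x * x) * b * (x * x * x)⁻¹ := by rw [hb2, hb1]; group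
      rw [this, hx3']; group
    have hb2' : b2 = x⁻¹ * b * x := by rw [← hF1]; group
    have hb1' : b1 = x⁻¹ * b2 * x := by rw [hb2]; group
    -- Z-fixedness
    have hb1Z : ∀ z ∈ Z, z * b1 * z⁻¹ = b1 := by
      intro z hz
      have h1 : z * b1 * z⁻¹ = x * ((x⁻¹ * z * x) * b * (x⁻¹ * z * x)⁻¹) * x⁻¹ := by
        rw [hb1]; group
      rw [h1, hbZ _ (hxN' z hz)]
    have hb2Z : ∀ z ∈ Z, z * b2 * z⁻¹ = b2 := by
      intro z hz
      have h1 : z * b2 * z⁻¹ = x * ((x⁻¹ * z * x) * b1 * (x⁻¹ * z * x)⁻¹) * x⁻¹ := by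
        rw [hb2]; group
      rw [h1, hb1Z _ (hxN' z hz)]
    -- n-conjugates
    have hbinv : b⁻¹ = b := inv_eq_of_mul_eq_one_right (h.sq b hb)
    have hnb : n * b * n⁻¹ = c * b := by
      have : n * b * n⁻¹ = (n * b * n⁻¹ * b) * b⁻¹ := by group
      rw [this, hbc, hbinv]
    have hxc : x⁻¹ * c * x = c := by
      have := hcP x⁻¹ (P.inv_mem hxP)
      rwa [inv_inv] at this
    have hnx : n * x = x⁻¹ * n := by
      have : n * x = (n * x * n⁻¹) * n := by group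
      rw [this, hxinv]
    have hnxi : n * x⁻¹ = x * n := by
      have : n * x⁻¹ = (n * x * n⁻¹)⁻¹ * n := by group
      rw [this, hxinv, inv_inv]
    have hnb1 : n * b1 * n⁻¹ = c * b2 := by
      have h1 : n * b1 * n⁻¹ = (n * x) * b * (n * x)⁻¹ := by rw [hb1]; group
      rw [h1, hnx]
      have h2 : x⁻¹ * n * b * (x⁻¹ * n)⁻¹ = x⁻¹ * (n * b * n⁻¹) * x := by group
      rw [h2, hnb]
      have h3 : x⁻¹ * (c * b) * x = (x⁻¹ * c * x) * (x⁻¹ * b * x) := by group
      rw [h3, hxc, ← hb2']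
    have hnb2 : n * b2 * n⁻¹ = c * b1 := by
      have h1 : n * b2 * n⁻¹ = (n * x) * b1 * (n * x)⁻¹ := by rw [hb2]; group
      rw [h1, hnx]
      have h2 : x⁻¹ * n * b1 * (x⁻¹ * n)⁻¹ = x⁻¹ * (n * b1 * n⁻¹) * x := by group
      rw [h2, hnb1]
      have h3 : x⁻¹ * (c * b2) * x = (x⁻¹ * c * x) * (x⁻¹ * b2 * x) := by group
      rw [h3, hxc, ← hb1']
    -- commutative computations inside A
    letI : CommGroup A :=
      { (inferInstance : Group A) with
        mul_comm := fun u v => Subtype.ext (h.comm u u.2 v v.2) }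
    have hsq : ∀ u : A, u * u = 1 := fun u => Subtype.ext (h.sq u u.2)
    have hsq' : ∀ u v : A, u * (u * v) = v := fun u v => by rw [← mul_assoc, hsq, one_mul]
    set B0 : A := ⟨b, hb⟩ with hB0
    set B1 : A := ⟨b1, hb1A⟩ with hB1
    set B2 : A := ⟨b2, hb2A⟩ with hB2
    set C : A := ⟨c, hc⟩ with hC
    set b' : G := b * b1 * b2 with hb'
    have hb'A : b' ∈ A := A.mul_mem (A.mul_mem hb hb1A) hb2A
    -- b' is fixed by x
    have hb'x : x * b' * x⁻¹ = b' := by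
      have h1 : x * b' * x⁻¹ = (x * b * x⁻¹) * (x * b1 * x⁻¹) * (x * b2 * x⁻¹) := by
        rw [hb']; group
      rw [h1, hF1, ← hb1, ← hb2]
      have : (B1 * B2 * B0 : A) = B0 * B1 * B2 := by
        simp only [mul_comm, mul_left_comm, mul_assoc]
      exact congrArg Subtype.val this
    have hb'Z : ∀ z ∈ Z, z * b' * z⁻¹ = b' := by
      intro z hz
      have h1 : z * b' * z⁻¹ = (z * b * z⁻¹) * (z * b1 * z⁻¹) * (z * b2 * z⁻¹) := by
        rw [hb']; group
      rw [h1, hbZ z hz, hb1Z z hz, hb2Z z hz]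
    have hb'Z' : ∀ z ∈ Z', z * b' * z⁻¹ = b' := by
      have hle : Z' ≤ Subgroup.centralizer {b'} := by
        refine sup_le ?_ ?_
        · intro z hz
          rw [Subgroup.mem_centralizer_iff]
          intro y hy
          rw [Set.mem_singleton_iff] at hy
          subst hy
          have := hb'Z z hz
          calc b' * z = (z * b' * z⁻¹) * z := by rw [this]
            _ = z * b' := by group
        · rw [Subgroup.zpowers_le, Subgroup.mem_centralizer_iff]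
          intro y hy
          rw [Set.mem_singleton_iff] at hy
          subst hy
          calc b' * x = (x * b' * x⁻¹) * x := by rw [hb'x]
            _ = x * b' := by group
      intro z hz
      have := Subgroup.mem_centralizer_iff.mp (hle hz) b' rfl
      calc z * b' * z⁻¹ = (b' * z) * z⁻¹ := by rw [this]
        _ = b' := by group
    have hZ'P : Z' ≤ P := sup_le hZP (by rw [Subgroup.zpowers_le]; exact hxP)
    have hZ'n : ∀ z ∈ Z', n * z * n⁻¹ ∈ Z' := by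
      have hle : Z' ≤ Z'.comap (MulAut.conj n).toMonoidHom := by
        refine sup_le ?_ ?_
        · intro z hz
          rw [Subgroup.mem_comap]
          exact Subgroup.mem_sup_left (hZn z hz)
        · rw [Subgroup.zpowers_le, Subgroup.mem_comap]
          show n * x * n⁻¹ ∈ Z'
          rw [hxinv]; exact Z'.inv_mem hxZ'
      intro z hz
      exact hle hz
    have hnb' : n * b' * n⁻¹ * b' = c := by
      have h1 : n * b' * n⁻¹ = (n * b * n⁻¹) * (n * b1 * n⁻¹) * (n * b2 * n⁻¹) := by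
        rw [hb']; group
      rw [h1, hnb, hnb1, hnb2, hb']
      have : ((C * B0) * (C * B2) * (C * B1) * (B0 * B1 * B2) : A) = C := by
        have e : ((C * B0) * (C * B2) * (C * B1) * (B0 * B1 * B2) : A) =
            C * ((C * C) * ((B0 * B0) * ((B1 * B1) * (B2 * B2)))) := by
          simp only [mul_comm, mul_left_comm, mul_assoc]
        rw [e, hsq, hsq, hsq, hsq, mul_one, mul_one, mul_one, mul_one]
      exact congrArg Subtype.val this
    obtain ⟨a', ha'A, ha'Y, c', hc'A, hc'P, hb'eq⟩ :=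
      ih Z' hlt (hYZ.trans le_sup_left) hZ'P hZ'n b' hb'A hb'Z' c hc hcP hnb'
    refine ⟨a' * b1, A.mul_mem ha'A hb1A, ?_, c' * c, A.mul_mem hc'A hc, ?_, ?_⟩
    · intro y hy
      have h1 : y * (a' * b1) * y⁻¹ = (y * a' * y⁻¹) * (y * b1 * y⁻¹) := by group
      rw [h1, ha'Y y hy, hb1Z y (hYZ hy)]
    · intro p hp
      have h1 : p * (c' * c) * p⁻¹ = (p * c' * p⁻¹) * (p * c * p⁻¹) := by group
      rw [h1, hc'P p hp, hcP p hp]
    · have h1 : n * (a' * b1) * n⁻¹ = (n * a' * n⁻¹) * (n * b1 * n⁻¹) := by group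
      rw [h1, hnb1]
      have hu : n * a' * n⁻¹ ∈ A := h.nA a' ha'A
      set U : A := ⟨n * a' * n⁻¹, hu⟩ with hU
      set A' : A := ⟨a', ha'A⟩ with hA'
      set C' : A := ⟨c', hc'A⟩ with hC'
      have e1 : (B0 * B1 * B2 : A) = U * A' * C' := Subtype.ext hb'eq
      have : (B0 : A) = U * (C * B2) * (A' * B1) * (C' * C) := by
        have e2 : (U * (C * B2) * (A' * B1) * (C' * C) : A) =
            (U * A' * C') * ((C * C) * (B1 * B2)) := by
          simp only [mul_comm, mul_left_comm, mul_assoc]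
        rw [e2, ← e1, hsq, one_mul]
        have e3 : (B0 * B1 * B2 * (B1 * B2) : A) = B0 * ((B1 * B1) * (B2 * B2)) := by
          simp only [mul_comm, mul_left_comm, mul_assoc]
        rw [e3, hsq, hsq, mul_one, mul_one]
      exact congrArg Subtype.val this

end MCtx

end Cfsg.Agent.Lib.Helper83.SylLift
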