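import Mathlib
import Cfsg.Agent.Lib.Helper83.SylLift1

/-!
# Lifting lemma, abelian step
-/

set_option autoImplicit false
set_option linter.all false

namespace Cfsg.Agent.Lib.Helper83.SylLift

/-- an element which squares to one and has 3-power order is trivial -/
theorem eq_one_of_sq_of_pow3 {G : Type*} [Group G] {g : G} (h2 : g * g = 1) {k : ℕ}
    (h3 : g ^ (3 ^ k) = 1) : g = 1 := by
  have h1 : orderOf g ∣ 2 := orderOf_dvd_of_pow_eq_one (by rw [pow_two]; exact h2)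
  have h2' : orderOf g ∣ 3 ^ k := orderOf_dvd_of_pow_eq_one h3
  have hcop : Nat.Coprime 2 (3 ^ k) := Nat.Coprime.pow_right k (by norm_num)
  have : orderOf g ∣ 1 := by
    have := Nat.dvd_gcd h1 h2'
    rwa [hcop] at this
  exact orderOf_eq_one_iff.mp (Nat.dvd_one.mp this)

/-- an element of 2-power order and 3-power order is trivial -/
theorem eq_one_of_pow2_of_pow3 {G : Type*} [Group G] {g : G} {j k : ℕ} (h2 : g ^ (2 ^ j) = 1)
    (h3 : g ^ (3 ^ k) = 1) : g = 1 := by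
  have h1 : orderOf g ∣ 2 ^ j := orderOf_dvd_of_pow_eq_one h2
  have h2' : orderOf g ∣ 3 ^ k := orderOf_dvd_of_pow_eq_one h3
  have hcop : Nat.Coprime (2 ^ j) (3 ^ k) := Nat.Coprime.pow j k (by norm_num)
  have : orderOf g ∣ 1 := by
    have := Nat.dvd_gcd h1 h2'
    rwa [hcop] at this
  exact orderOf_eq_one_iff.mp (Nat.dvd_one.mp this)

/-- in a finite group whose quotient by a normal subgroup `N` is a 3-group, a Sylow 3-subgroup
containing a given 3-subgroup covers the quotient -/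
theorem exists_sylow_cover {K : Type*} [Group K] [Finite K] (N : Subgroup K) [N.Normal]
    (hq : ∀ g : K, ∃ k : ℕ, g ^ (3 ^ k) ∈ N) (X : Subgroup K) (hX : IsPGroup 3 X) :
    ∃ S : Sylow 3 K, X ≤ S ∧ ∀ g : K, ∃ a ∈ N, ∃ p ∈ S, g = a * p := by
  haveI : Fact (Nat.Prime 3) := ⟨by norm_num⟩
  obtain ⟨S, hXS⟩ := hX.exists_le_sylow
  refine ⟨S, hXS, ?_⟩
  have hQ : IsPGroup 3 (K ⧸ N) := by
    intro x
    induction x using QuotientGroup.induction_on with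
    | H g =>
      obtain ⟨k, hk⟩ := hq g
      refine ⟨k, ?_⟩
      rw [← QuotientGroup.mk_pow]
      exact (QuotientGroup.eq_one_iff _).mpr hk
  obtain ⟨b, hb⟩ := IsPGroup.iff_card.mp hQ
  have hNidx : N.index = 3 ^ b := by rw [Subgroup.index_eq_card, hb]
  have h1 : (N ⊔ (S : Subgroup K)).index ∣ 3 ^ b := by
    rw [← hNidx]; exact Subgroup.index_dvd_of_le le_sup_left
  have h2 : (N ⊔ (S : Subgroup K)).index ∣ (S : Subgroup K).index :=
    Subgroup.index_dvd_of_le le_sup_right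
  have h3 : ¬ 3 ∣ (S : Subgroup K).index := S.not_dvd_index
  obtain ⟨j, hj, hjeq⟩ := (Nat.dvd_prime_pow (by norm_num)).mp h1
  have hj0 : j = 0 := by
    by_contra hne
    apply h3
    refine Dvd.dvd.trans ?_ h2
    rw [hjeq]
    exact dvd_pow_self 3 hne
  have htop : N ⊔ (S : Subgroup K) = ⊤ := by
    rw [← Subgroup.index_eq_one, hjeq, hj0, pow_zero]
  intro g
  have hg : g ∈ ((N ⊔ (S : Subgroup K) : Subgroup K) : Set K) := by rw [htop]; trivial
  rw [Subgroup.normal_mul] at hg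
  obtain ⟨a, ha, p, hp, hap⟩ := Set.mem_mul.mp hg
  exact ⟨a, ha, p, hp, hap.symm⟩

variable {G : Type*} [Group G]

/-- complements to a normal exponent-2 subgroup `A` in `H` (with `H/A` a 3-group): existence of one
containing a given 3-subgroup, and conjugacy -/
theorem exists_complement [Finite G] (A H Y : Subgroup G) [A.Normal]
    (hA2 : ∀ a ∈ A, a * a = 1) (hAH : A ≤ H)
    (h3 : ∀ h ∈ H, ∃ k : ℕ, h ^ (3 ^ k) ∈ A) (hYH : Y ≤ H) (hY3 : IsPGroup 3 Y) :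
    ∃ P : Subgroup G, IsPGroup 3 P ∧ P ≤ H ∧ Y ≤ P ∧ (∀ h ∈ H, ∃ a ∈ A, ∃ p ∈ P, h = a * p) ∧
      ∀ P2 : Subgroup G, IsPGroup 3 P2 → P2 ≤ H → (∀ h ∈ H, ∃ a ∈ A, ∃ p ∈ P2, h = a * p) →
        ∃ a ∈ A, ∀ g : G, g ∈ P2 ↔ a⁻¹ * g * a ∈ P := by
  haveI : Fact (Nat.Prime 3) := ⟨by norm_num⟩
  have hq : ∀ g : H, ∃ k : ℕ, g ^ (3 ^ k) ∈ A.subgroupOf H := by
    intro g
    obtain ⟨k, hk⟩ := h3 g g.2
    exact ⟨k, by rw [Subgroup.mem_subgroupOf]; simpa using hk⟩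
  obtain ⟨S, hXS, hcov⟩ := exists_sylow_cover (A.subgroupOf H) hq (Y.subgroupOf H)
    (hY3.comap_subtype)
  have hcov' : ∀ h ∈ H, ∃ a ∈ A, ∃ p ∈ (S : Subgroup H).map H.subtype, h = a * p := by
    intro h hh
    obtain ⟨a, ha, p, hp, hap⟩ := hcov ⟨h, hh⟩
    refine ⟨a, Subgroup.mem_subgroupOf.mp ha, p, Subgroup.mem_map.mpr ⟨p, hp, rfl⟩, ?_⟩
    have := congrArg Subtype.val hap
    simpa using this
  have hP3 : IsPGroup 3 ((S : Subgroup H).map H.subtype) := S.isPGroup'.map _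
  have hPH : (S : Subgroup H).map H.subtype ≤ H := by
    intro g hg
    obtain ⟨p, _, rfl⟩ := Subgroup.mem_map.mp hg
    exact p.2
  -- trivial intersection
  have hint : ∀ (Q : Subgroup G), IsPGroup 3 Q → ∀ g ∈ A, g ∈ Q → g = 1 := by
    intro Q hQ g hgA hgQ
    obtain ⟨k, hk⟩ := hQ ⟨g, hgQ⟩
    have hk' : g ^ (3 ^ k) = 1 := by
      have := congrArg Subtype.val hk
      simpa using this
    exact eq_one_of_sq_of_pow3 (hA2 g hgA) hk'
  refine ⟨(S : Subgroup H).map H.subtype, hP3, hPH, ?_, hcov', ?_⟩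
  · intro y hy
    exact Subgroup.mem_map.mpr ⟨⟨y, hYH hy⟩, hXS (Subgroup.mem_subgroupOf.mpr hy), rfl⟩
  · intro P2 hP23 hP2H hcov2
    obtain ⟨S2, hS2⟩ := (hP23.comap_subtype (K := H)).exists_le_sylow
    obtain ⟨k, hk⟩ := MulAction.exists_smul_eq H S S2
    obtain ⟨a, ha, p, hp, hkap⟩ := hcov k
    have haA : (a : G) ∈ A := Subgroup.mem_subgroupOf.mp ha
    refine ⟨a, haA, ?_⟩
    -- P2 ≤ a P a⁻¹
    have hle : ∀ g ∈ P2, (a : G)⁻¹ * g * a ∈ (S : Subgroup H).map H.subtype := by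
      intro g hg
      have hgH : g ∈ H := hP2H hg
      have h1 : (⟨g, hgH⟩ : H) ∈ (S2 : Subgroup H) := hS2 (by
        show (⟨g, hgH⟩ : H) ∈ P2.subgroupOf H
        rw [Subgroup.mem_subgroupOf]; exact hg)
      rw [← hk] at h1
      have h2 : (MulAut.conj k)⁻¹ • (⟨g, hgH⟩ : H) ∈ (S : Subgroup H) :=
        Subgroup.mem_pointwise_smul_iff_inv_smul_mem.mp (by
          rw [← Sylow.coe_subgroup_smul]; exact h1)
      -- k⁻¹ • g = k⁻¹ g k
      have h3 : (MulAut.conj k)⁻¹ • (⟨g, hgH⟩ : H) = k⁻¹ * ⟨g, hgH⟩ * k := by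
        rw [← map_inv, MulAut.smul_def, MulAut.conj_apply, inv_inv]
      rw [h3, hkap] at h2
      -- (a p)⁻¹ g (a p) ∈ S  => a⁻¹ g a ∈ S
      have h4 : a⁻¹ * ⟨g, hgH⟩ * a = p * ((a * p)⁻¹ * ⟨g, hgH⟩ * (a * p)) * p⁻¹ := by group
      have h5 : a⁻¹ * ⟨g, hgH⟩ * a ∈ (S : Subgroup H) := by
        rw [h4]
        exact (S : Subgroup H).mul_mem ((S : Subgroup H).mul_mem hp h2)
          ((S : Subgroup H).inv_mem hp)
      exact Subgroup.mem_map.mpr ⟨_, h5, by simp⟩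
    intro g
    constructor
    · exact hle g
    · intro hg
      -- g' := a (a⁻¹ g a) a⁻¹ = g lies in H, decompose along P2
      have hgH : g ∈ H := by
        have h1 : (a : G)⁻¹ * g * a ∈ H := hPH hg
        have h2 : g = a * ((a : G)⁻¹ * g * a) * (a : G)⁻¹ := by group
        rw [h2]
        exact H.mul_mem (H.mul_mem (hAH haA) h1) (H.inv_mem (hAH haA))
      obtain ⟨a', ha', p2, hp2, hgap⟩ := hcov2 g hgH
      -- a⁻¹ a' a = (a⁻¹ g a) (a⁻¹ p2 a)⁻¹ lies in A ∩ P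
      have h1 : (a : G)⁻¹ * a' * a ∈ (S : Subgroup H).map H.subtype := by
        have : (a : G)⁻¹ * a' * a = ((a : G)⁻¹ * g * a) * ((a : G)⁻¹ * p2 * a)⁻¹ := by
          rw [hgap]; group
        rw [this]
        exact Subgroup.mul_mem _ hg (Subgroup.inv_mem _ (hle p2 hp2))
      have h2 : (a : G)⁻¹ * a' * a ∈ A := by
        have := Subgroup.Normal.conj_mem (inferInstance : A.Normal) a' ha' (a : G)⁻¹
        simpa using this
      have h3 := hint _ hP3 _ h2 h1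
      have h4 : a' = 1 := by
        have : a' = a * ((a : G)⁻¹ * a' * a) * (a : G)⁻¹ := by group
        rw [this, h3]; group
      rw [hgap, h4, one_mul]; exact hp2

/-- the abelian step: an involution `d` normalising `H = A P` (with `A` elementary abelian normal
2-subgroup, `H/A` a 3-group), stable in the sense that fixed points of `d` on `H/A` lift to the
`d`-centralised 3-group `Y`, and with inverted elements of order 3 mod `A`, normalises a complement of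
`A` in `H` containing `Y`. -/
theorem ab_step [Finite G] (A H Y : Subgroup G) [A.Normal] (d : G)
    (hAc : ∀ a ∈ A, ∀ b ∈ A, a * b = b * a) (hA2 : ∀ a ∈ A, a * a = 1)
    (hd : d * d = 1) (hAH : A ≤ H) (hHd : ∀ h ∈ H, d * h * d⁻¹ ∈ H)
    (h3 : ∀ h ∈ H, ∃ k : ℕ, h ^ (3 ^ k) ∈ A)
    (hO3 : ∀ x ∈ H, d * x * d⁻¹ * x ∈ A → x ^ 3 ∈ A)
    (hYH : Y ≤ H) (hY3 : IsPGroup 3 Y) (hYd : ∀ y ∈ Y, d * y * d⁻¹ = y)
    (hS : ∀ h ∈ H, d * h * d⁻¹ * h⁻¹ ∈ A → ∃ y ∈ Y, h * y⁻¹ ∈ A) :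
    ∃ P : Subgroup G, IsPGroup 3 P ∧ P ≤ H ∧ Y ≤ P ∧ (∀ h ∈ H, ∃ a ∈ A, ∃ p ∈ P, h = a * p) ∧
      ∀ p ∈ P, d * p * d⁻¹ ∈ P := by
  have hdinv : d⁻¹ = d := inv_eq_of_mul_eq_one_right hd
  have hAn : ∀ g : G, ∀ a ∈ A, g * a * g⁻¹ ∈ A := fun g a ha =>
    Subgroup.Normal.conj_mem inferInstance a ha g
  have hAn' : ∀ g : G, ∀ a ∈ A, g⁻¹ * a * g ∈ A := fun g a ha => by
    have := hAn g⁻¹ a ha
    rwa [inv_inv] at this
  obtain ⟨P1, hP13, hP1H, hYP1, hcov1, hconj⟩ := exists_complement A H Y hA2 hAH h3 hYH hY3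
  -- trivial intersection
  have hint : ∀ (Q : Subgroup G), IsPGroup 3 Q → ∀ g ∈ A, g ∈ Q → g = 1 := by
    intro Q hQ g hgA hgQ
    obtain ⟨k, hk⟩ := hQ ⟨g, hgQ⟩
    have hk' : g ^ (3 ^ k) = 1 := by
      have := congrArg Subtype.val hk
      simpa using this
    exact eq_one_of_sq_of_pow3 (hA2 g hgA) hk'
  -- the conjugate complement
  set P2 : Subgroup G := P1.map (MulAut.conj d).toMonoidHom with hP2
  have hP2mem : ∀ g : G, g ∈ P2 ↔ d⁻¹ * g * d ∈ P1 := by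
    intro g
    constructor
    · intro hg
      obtain ⟨p, hp, rfl⟩ := Subgroup.mem_map.mp hg
      have : d⁻¹ * ((MulAut.conj d).toMonoidHom p) * d = p := by
        simp [MulAut.conj_apply]; group
      rw [this]; exact hp
    · intro hg
      refine Subgroup.mem_map.mpr ⟨d⁻¹ * g * d, hg, ?_⟩
      simp [MulAut.conj_apply]; group
  have hP23 : IsPGroup 3 P2 := hP13.map _
  have hP2H : P2 ≤ H := by
    intro g hg
    have h1 := hP1H ((hP2mem g).mp hg)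
    have h2 : g = d * (d⁻¹ * g * d) * d⁻¹ := by group
    rw [h2]; exact hHd _ h1
  have hcov2 : ∀ h ∈ H, ∃ a ∈ A, ∃ p ∈ P2, h = a * p := by
    intro h hh
    have h1 : d⁻¹ * h * d ∈ H := by
      have := hHd h hh
      rw [hdinv] at this ⊢
      exact this
    obtain ⟨a, ha, p, hp, hap⟩ := hcov1 _ h1
    refine ⟨d * a * d⁻¹, hAn d a ha, d * p * d⁻¹, ?_, ?_⟩
    · rw [hP2mem]
      have : d⁻¹ * (d * p * d⁻¹) * d = p := by group
      rw [this]; exact hp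
    · have : h = d * (d⁻¹ * h * d) * d⁻¹ := by group
      rw [this, hap]; group
  obtain ⟨a0, ha0, hP2a0⟩ := hconj P2 hP23 hP2H hcov2
  have ha0inv : a0⁻¹ = a0 := inv_eq_of_mul_eq_one_right (hA2 a0 ha0)
  -- the element n normalising P1
  set n : G := a0⁻¹ * d with hn
  have hninv : n⁻¹ = d⁻¹ * a0 := by rw [hn]; group
  have hnconj : ∀ g : G, n * g * n⁻¹ = a0⁻¹ * (d * g * d⁻¹) * a0 := by
    intro g; rw [hn]; group
  have hnP : ∀ p ∈ P1, n * p * n⁻¹ ∈ P1 := by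
    intro p hp
    rw [hnconj]
    apply (hP2a0 _).mp
    rw [hP2mem]
    have : d⁻¹ * (d * p * d⁻¹) * d = p := by group
    rw [this]; exact hp
  have hnA : ∀ a ∈ A, n * a * n⁻¹ ∈ A := fun a ha => hAn n a ha
  have hnA' : ∀ a ∈ A, n * a * n⁻¹ = d * a * d⁻¹ := by
    intro a ha
    rw [hnconj]
    have h1 : d * a * d⁻¹ ∈ A := hAn d a ha
    have h2 : a0⁻¹ * (d * a * d⁻¹) = (d * a * d⁻¹) * a0⁻¹ := hAc _ (A.inv_mem ha0) _ h1
    rw [h2]; group
  have hnnA : n * n ∈ A := by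
    have : n * n = a0⁻¹ * (d * a0⁻¹ * d⁻¹) * (d * d) := by rw [hn]; group
    rw [this, hd, mul_one]
    exact A.mul_mem (A.inv_mem ha0) (hAn d _ (A.inv_mem ha0))
  have hn2P : ∀ p ∈ P1, n * n * p = p * (n * n) := by
    intro p hp
    have h1 : (n * n) * p * (n * n)⁻¹ * p⁻¹ ∈ A := by
      have : (n * n) * p * (n * n)⁻¹ * p⁻¹ = (n * n) * (p * (n * n)⁻¹ * p⁻¹) := by group
      rw [this]
      exact A.mul_mem hnnA (hAn p _ (A.inv_mem hnnA))
    have h2 : (n * n) * p * (n * n)⁻¹ * p⁻¹ ∈ P1 := by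
      have : (n * n) * p * (n * n)⁻¹ * p⁻¹ = (n * (n * p * n⁻¹) * n⁻¹) * p⁻¹ := by group
      rw [this]
      exact P1.mul_mem (hnP _ (hnP p hp)) (P1.inv_mem hp)
    have h3 := hint P1 hP13 _ h1 h2
    have : n * n * p = ((n * n) * p * (n * n)⁻¹ * p⁻¹) * p * (n * n) := by group
    rw [this, h3, one_mul]
  have hYa0 : ∀ y ∈ Y, a0⁻¹ * y * a0 = y := by
    intro y hy
    have h1 : y ∈ P2 := by
      rw [hP2mem]
      have : d⁻¹ * y * d = y := by
        have := hYd y hy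
        calc d⁻¹ * y * d = d⁻¹ * (d * y * d⁻¹) * d := by rw [this]
          _ = y := by group
      rw [this]; exact hYP1 hy
    have h2 : a0⁻¹ * y * a0 ∈ P1 := (hP2a0 y).mp h1
    have h3 : (a0⁻¹ * y * a0) * y⁻¹ ∈ P1 := P1.mul_mem h2 (P1.inv_mem (hYP1 hy))
    have h4 : (a0⁻¹ * y * a0) * y⁻¹ ∈ A := by
      have : (a0⁻¹ * y * a0) * y⁻¹ = a0⁻¹ * (y * a0 * y⁻¹) := by group
      rw [this]
      exact A.mul_mem (A.inv_mem ha0) (hAn y a0 ha0)
    have h5 := hint P1 hP13 _ h4 h3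
    calc a0⁻¹ * y * a0 = ((a0⁻¹ * y * a0) * y⁻¹) * y := by group
      _ = y := by rw [h5, one_mul]
  have hctx : MCtx A P1 Y n := by
    refine ⟨hAc, hA2, fun p _ a ha => hAn p a ha, hnA, hnP, hn2P, hP13, ?_, hYP1, ?_, ?_⟩
    · -- inverted elements have order 3
      intro x hx hxinv
      have h1 : d * x * d⁻¹ = a0 * x⁻¹ * a0⁻¹ := by
        have := hnconj x
        rw [hxinv] at this
        calc d * x * d⁻¹ = a0 * (a0⁻¹ * (d * x * d⁻¹) * a0) * a0⁻¹ := by group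
          _ = a0 * x⁻¹ * a0⁻¹ := by rw [← this]
      have h2 : d * x * d⁻¹ * x ∈ A := by
        rw [h1]
        have : a0 * x⁻¹ * a0⁻¹ * x = a0 * (x⁻¹ * a0⁻¹ * x) := by group
        rw [this]
        exact A.mul_mem ha0 (hAn' x _ (A.inv_mem ha0))
      have h3 : x ^ 3 ∈ A := hO3 x (hP1H hx) h2
      exact hint P1 hP13 _ h3 (P1.pow_mem hx 3)
    · intro y hy
      rw [hnconj, hYd y hy]
      exact hYa0 y hy
    · intro p hp hfix
      have h1 : d * p * d⁻¹ = a0 * p * a0⁻¹ := by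
        have := hnconj p
        rw [hfix] at this
        calc d * p * d⁻¹ = a0 * (a0⁻¹ * (d * p * d⁻¹) * a0) * a0⁻¹ := by group
          _ = a0 * p * a0⁻¹ := by rw [← this]
      have h2 : d * p * d⁻¹ * p⁻¹ ∈ A := by
        rw [h1]
        have : a0 * p * a0⁻¹ * p⁻¹ = a0 * (p * a0⁻¹ * p⁻¹) := by group
        rw [this]
        exact A.mul_mem ha0 (hAn p _ (A.inv_mem ha0))
      obtain ⟨y, hy, hpy⟩ := hS p (hP1H hp) h2
      have h3 : p * y⁻¹ ∈ P1 := P1.mul_mem hp (P1.inv_mem (hYP1 hy))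
      have h4 := hint P1 hP13 _ hpy h3
      have : p = (p * y⁻¹) * y := by group
      rw [this, h4, one_mul]; exact hy
  -- apply the chain lemma
  have hca0 : ∀ y ∈ Y, y * a0 * y⁻¹ = a0 := by
    intro y hy
    have := hYa0 y hy
    calc y * a0 * y⁻¹ = (a0 * (a0⁻¹ * y * a0)) * y⁻¹ := by group
      _ = a0 := by rw [this]; group
  have hcA : (n * n)⁻¹ ∈ A := A.inv_mem hnnA
  have hcP : ∀ p ∈ P1, p * (n * n)⁻¹ * p⁻¹ = (n * n)⁻¹ := by
    intro p hp
    have := hn2P p hp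
    calc p * (n * n)⁻¹ * p⁻¹ = (n * n)⁻¹ * (n * n * p) * (n * n)⁻¹ * p⁻¹ := by group
      _ = (n * n)⁻¹ := by rw [this]; group
  have hbc : n * a0 * n⁻¹ * a0 = (n * n)⁻¹ := by
    rw [hnA' a0 ha0]
    -- (d a0 d⁻¹ a0) (n n) = 1
    have h1 : n * n = a0⁻¹ * (d * a0⁻¹ * d⁻¹) := by
      have : n * n = a0⁻¹ * (d * a0⁻¹ * d⁻¹) * (d * d) := by rw [hn]; group
      rw [this, hd, mul_one]
    rw [h1, ha0inv]
    have hu : d * a0 * d⁻¹ ∈ A := hAn d a0 ha0
    have h2 : (a0 * (d * a0 * d⁻¹))⁻¹ = (d * a0 * d⁻¹)⁻¹ * a0⁻¹ := by group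
    rw [h2, ha0inv, inv_eq_of_mul_eq_one_right (hA2 _ hu)]
  obtain ⟨a, haA, haY, c', hc'A, hc'P, ha0eq⟩ :=
    hctx.chain Y le_rfl hYP1 (fun y hy => by rw [hctx.Yn y hy]; exact hy) a0 ha0 hca0
      ((n * n)⁻¹) hcA hcP hbc
  -- the invariant complement
  have hainv : a⁻¹ = a := inv_eq_of_mul_eq_one_right (hA2 a haA)
  set P : Subgroup G := P1.map (MulAut.conj a).toMonoidHom with hP
  have hPmem : ∀ g : G, g ∈ P ↔ a⁻¹ * g * a ∈ P1 := by
    intro g
    constructor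
    · intro hg
      obtain ⟨p, hp, rfl⟩ := Subgroup.mem_map.mp hg
      have : a⁻¹ * ((MulAut.conj a).toMonoidHom p) * a = p := by
        simp [MulAut.conj_apply]; group
      rw [this]; exact hp
    · intro hg
      refine Subgroup.mem_map.mpr ⟨a⁻¹ * g * a, hg, ?_⟩
      simp [MulAut.conj_apply]; group
  refine ⟨P, hP13.map _, ?_, ?_, ?_, ?_⟩
  · intro g hg
    have h1 := hP1H ((hPmem g).mp hg)
    have h2 : g = a * (a⁻¹ * g * a) * a⁻¹ := by group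
    rw [h2]
    exact H.mul_mem (H.mul_mem (hAH haA) h1) (H.inv_mem (hAH haA))
  · intro y hy
    rw [hPmem]
    have : a⁻¹ * y * a = y := by
      have := haY y hy
      calc a⁻¹ * y * a = a⁻¹ * (y * a * y⁻¹) * y := by group
        _ = y := by rw [this]; group
    rw [this]; exact hYP1 hy
  · intro h hh
    obtain ⟨a', ha', p, hp, hap⟩ := hcov1 h hh
    refine ⟨a' * (p * a * p⁻¹) * a⁻¹, ?_, a * p * a⁻¹, ?_, ?_⟩
    · exact A.mul_mem (A.mul_mem ha' (hAn p a haA)) (A.inv_mem haA)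
    · rw [hPmem]
      have : a⁻¹ * (a * p * a⁻¹) * a = p := by group
      rw [this]; exact hp
    · rw [hap]; group
  · intro q hq
    rw [hPmem] at hq ⊢
    set p : G := a⁻¹ * q * a with hp
    -- d p d⁻¹ = a0 p' a0⁻¹ with p' ∈ P1
    have hp' : a0⁻¹ * (d * p * d⁻¹) * a0 ∈ P1 := by
      have := hnP p hq
      rwa [hnconj] at this
    -- d a d⁻¹ a0 = a c'
    have hkey : d * a * d⁻¹ * a0 = a * c' := by
      have h1 : n * a * n⁻¹ = d * a * d⁻¹ := hnA' a haA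
      have hu : d * a * d⁻¹ ∈ A := hAn d a haA
      rw [ha0eq, h1]
      have : d * a * d⁻¹ * (d * a * d⁻¹ * a * c') = ((d * a * d⁻¹) * (d * a * d⁻¹)) * a * c' := by
        group
      rw [this, hA2 _ hu, one_mul]
    have hc'p : ∀ p' ∈ P1, c' * p' * c'⁻¹ = p' := by
      intro p' hp'
      have := hc'P p' hp'
      calc c' * p' * c'⁻¹ = c' * (p' * c' * p'⁻¹)⁻¹ * p' := by group
        _ = p' := by rw [this]; group
    have h2 : a⁻¹ * (d * q * d⁻¹) * a = a0⁻¹ * (d * p * d⁻¹) * a0 := by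
      -- q = a p a⁻¹
      have hq' : q = a * p * a⁻¹ := by rw [hp]; group
      have h3 : d * q * d⁻¹ = (d * a * d⁻¹ * a0) * (a0⁻¹ * (d * p * d⁻¹) * a0) *
          (d * a * d⁻¹ * a0)⁻¹ := by rw [hq']; group
      rw [h3, hkey]
      have h4 : a⁻¹ * (a * c' * (a0⁻¹ * (d * p * d⁻¹) * a0) * (a * c')⁻¹) * a =
          c' * (a0⁻¹ * (d * p * d⁻¹) * a0) * c'⁻¹ := by group
      rw [h4, hc'p _ hp']
    rw [h2]; exact hp'

end Cfsg.Agent.Lib.Helper83.SylLift
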