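import Mathlib
import Cfsg.Agent.Lib.Helper83.SylLift2

/-!
# Lifting lemma: an involution `d`, a normal 2-subgroup `Q`, a normal subgroup `R ≥ Q` with `R/Q` a
3-group, inverted elements of order 3 mod `Q`, and stability: then `d` normalises a complement of `Q`
in `R`.
-/

set_option autoImplicit false
set_option linter.all false

namespace Cfsg.Agent.Lib.Helper83.SylLift

universe u

/-- the subgroup of central involutions of `Q` (together with 1) -/
def centralInv {G : Type*} [Group G] (Q : Subgroup G) : Subgroup G where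
  carrier := {z | z ∈ Q ∧ (∀ q ∈ Q, z * q = q * z) ∧ z * z = 1}
  one_mem' := ⟨Q.one_mem, fun q _ => by simp, by simp⟩
  mul_mem' := by
    rintro a b ⟨ha, hac, ha2⟩ ⟨hb, hbc, hb2⟩
    refine ⟨Q.mul_mem ha hb, ?_, ?_⟩
    · intro q hq
      rw [mul_assoc, hbc q hq, ← mul_assoc, hac q hq, mul_assoc]
    · have : a * b * (a * b) = a * (b * a) * b := by group
      rw [this, hbc a ha]
      have : a * (a * b) * b = (a * a) * (b * b) := by group
      rw [this, ha2, hb2, one_mul]
  inv_mem' := by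
    rintro a ⟨ha, hac, ha2⟩
    have : a⁻¹ = a := inv_eq_of_mul_eq_one_right ha2
    rw [this]
    exact ⟨ha, hac, ha2⟩

theorem centralInv_le {G : Type*} [Group G] (Q : Subgroup G) : centralInv Q ≤ Q := fun _ h => h.1

instance centralInv_normal {G : Type*} [Group G] (Q : Subgroup G) [hQ : Q.Normal] :
    (centralInv Q).Normal := by
  constructor
  rintro z ⟨hz, hzc, hz2⟩ g
  refine ⟨hQ.conj_mem z hz g, ?_, ?_⟩
  · intro q hq
    have h1 : g⁻¹ * q * g ∈ Q := by
      have := hQ.conj_mem q hq g⁻¹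
      rwa [inv_inv] at this
    have h2 := hzc _ h1
    calc g * z * g⁻¹ * q = g * (z * (g⁻¹ * q * g)) * g⁻¹ := by group
      _ = g * ((g⁻¹ * q * g) * z) * g⁻¹ := by rw [h2]
      _ = q * (g * z * g⁻¹) := by group
  · have : g * z * g⁻¹ * (g * z * g⁻¹) = g * (z * z) * g⁻¹ := by group
    rw [this, hz2]; group

theorem centralInv_ne_bot {G : Type*} [Group G] [Finite G] (Q : Subgroup G) (hQ2 : IsPGroup 2 Q)
    (hne : Q ≠ ⊥) : centralInv Q ≠ ⊥ := by
  haveI : Fact (Nat.Prime 2) := ⟨Nat.prime_two⟩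
  haveI : Nontrivial Q := (Subgroup.nontrivial_iff_ne_bot Q).mpr hne
  haveI := hQ2.center_nontrivial
  have hZ2 : IsPGroup 2 (Subgroup.center Q) := hQ2.to_subgroup _
  obtain ⟨k, hk⟩ := IsPGroup.iff_card.mp hZ2
  have hk0 : k ≠ 0 := by
    rintro rfl
    have := Finite.one_lt_card (α := Subgroup.center Q)
    omega
  have hdvd : 2 ∣ Nat.card (Subgroup.center Q) := by rw [hk]; exact dvd_pow_self 2 hk0
  obtain ⟨w, hw⟩ := exists_prime_orderOf_dvd_card' 2 hdvd
  intro hbot
  have hwQ : ((w : Q) : G) ∈ centralInv Q := by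
    refine ⟨(w : Q).2, ?_, ?_⟩
    · intro q hq
      have := Subgroup.mem_center_iff.mp w.2 ⟨q, hq⟩
      have h2 := congrArg Subtype.val this
      simpa using h2.symm
    · have h1 : w ^ 2 = 1 := by rw [← hw]; exact pow_orderOf_eq_one w
      have h2 : (((w ^ 2 : Subgroup.center Q) : Q) : G) = 1 := by rw [h1]; rfl
      simpa [pow_two] using h2
  rw [hbot, Subgroup.mem_bot] at hwQ
  have : w = 1 := by
    apply Subtype.ext; apply Subtype.ext; simpa using hwQ
  rw [this, orderOf_one] at hw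
  omega

theorem mk_mem_map_iff {G : Type*} [Group G] (A B : Subgroup G) [A.Normal] (hAB : A ≤ B) (x : G) :
    (QuotientGroup.mk' A) x ∈ B.map (QuotientGroup.mk' A) ↔ x ∈ B := by
  constructor
  · intro h
    obtain ⟨b, hb, hbx⟩ := Subgroup.mem_map.mp h
    have h1 : b⁻¹ * x ∈ A := by
      have : (QuotientGroup.mk b : G ⧸ A) = QuotientGroup.mk x := hbx
      exact QuotientGroup.eq.mp this
    have : x = b * (b⁻¹ * x) := by group
    rw [this]
    exact B.mul_mem hb (hAB h1)
  · intro h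
    exact Subgroup.mem_map.mpr ⟨x, h, rfl⟩

/-- the lifting theorem -/
theorem lift_main : ∀ (m : ℕ) (G : Type u) [Group G] [Finite G] (Q R Y : Subgroup G) [Q.Normal]
    [R.Normal] (d : G), Nat.card G = m → IsPGroup 2 Q → d * d = 1 → Q ≤ R →
    (∀ r ∈ R, ∃ k : ℕ, r ^ (3 ^ k) ∈ Q) → (∀ x ∈ R, d * x * d⁻¹ * x ∈ Q → x ^ 3 ∈ Q) →
    Y ≤ R → IsPGroup 3 Y → (∀ y ∈ Y, d * y * d⁻¹ = y) →
    (∀ g ∈ R, d * g * d⁻¹ * g⁻¹ ∈ Q → ∃ y ∈ Y, g * y⁻¹ ∈ Q) →
    ∃ P : Subgroup G, IsPGroup 3 P ∧ P ≤ R ∧ Y ≤ P ∧ (∀ r ∈ R, ∃ q ∈ Q, ∃ p ∈ P, r = q * p) ∧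
      ∀ p ∈ P, d * p * d⁻¹ ∈ P := by
  intro m
  induction m using Nat.strong_induction_on with
  | _ m ih =>
  intro G _ _ Q R Y hQn hRn d hcard hQ2 hd hQR hR3 hO3 hYR hY3 hYd hS
  haveI : Fact (Nat.Prime 2) := ⟨Nat.prime_two⟩
  haveI : Fact (Nat.Prime 3) := ⟨by norm_num⟩
  by_cases hQbot : Q = ⊥
  · -- R is a 3-group
    refine ⟨R, ?_, le_rfl, hYR, fun r hr => ⟨1, Q.one_mem, r, hr, by simp⟩,
      fun p hp => hRn.conj_mem p hp d⟩
    intro r
    obtain ⟨k, hk⟩ := hR3 r r.2
    rw [hQbot, Subgroup.mem_bot] at hk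
    exact ⟨k, Subtype.ext (by simpa using hk)⟩
  · set A : Subgroup G := centralInv Q with hA
    have hAQ : A ≤ Q := centralInv_le Q
    have hAne : A ≠ ⊥ := centralInv_ne_bot Q hQ2 hQbot
    have hAc : ∀ a ∈ A, ∀ b ∈ A, a * b = b * a := fun a ha b hb => ha.2.1 b hb.1
    have hA2 : ∀ a ∈ A, a * a = 1 := fun a ha => ha.2.2
    have hAR : A ≤ R := hAQ.trans hQR
    -- the quotient
    set π : G →* G ⧸ A := QuotientGroup.mk' A with hπ
    have hπs : Function.Surjective π := QuotientGroup.mk'_surjective A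
    have hcardlt : Nat.card (G ⧸ A) < m := by
      rw [← hcard, Subgroup.card_eq_card_quotient_mul_card_subgroup A]
      have h1 : 1 < Nat.card A := by
        haveI : Nontrivial A := (Subgroup.nontrivial_iff_ne_bot A).mpr hAne
        exact Finite.one_lt_card
      have h2 : 0 < Nat.card (G ⧸ A) := Nat.card_pos
      nlinarith
    haveI hQn' : (Q.map π).Normal := hQn.map π hπs
    haveI hRn' : (R.map π).Normal := hRn.map π hπs
    have hmQ := mk_mem_map_iff A Q hAQ
    have hmR := mk_mem_map_iff A R hAR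
    obtain ⟨Pq, hPq3, hPqR, hYPq, hPqcov, hPqd⟩ :=
      ih (Nat.card (G ⧸ A)) hcardlt (G ⧸ A) (Q.map π) (R.map π) (Y.map π) (π d) rfl
        (hQ2.map π) (by rw [← map_mul, hd, map_one]) (Subgroup.map_mono hQR)
        (by
          intro r hr
          obtain ⟨r', hr', rfl⟩ := Subgroup.mem_map.mp hr
          obtain ⟨k, hk⟩ := hR3 r' hr'
          exact ⟨k, by rw [← map_pow]; exact (hmQ _).mpr hk⟩)
        (by
          intro x hx hxq
          obtain ⟨x', hx', rfl⟩ := Subgroup.mem_map.mp hx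
          have h1 : π (d * x' * d⁻¹ * x') ∈ Q.map π := by
            simpa [map_mul, map_inv] using hxq
          have h2 := hO3 x' hx' ((hmQ _).mp h1)
          rw [← map_pow]; exact (hmQ _).mpr h2)
        (Subgroup.map_mono hYR) (hY3.map π)
        (by
          intro y hy
          obtain ⟨y', hy', rfl⟩ := Subgroup.mem_map.mp hy
          rw [← map_inv, ← map_mul, ← map_mul, hYd y' hy'])
        (by
          intro g hg hgq
          obtain ⟨g', hg', rfl⟩ := Subgroup.mem_map.mp hg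
          have h1 : π (d * g' * d⁻¹ * g'⁻¹) ∈ Q.map π := by
            simpa [map_mul, map_inv] using hgq
          obtain ⟨y, hy, hgy⟩ := hS g' hg' ((hmQ _).mp h1)
          refine ⟨π y, Subgroup.mem_map.mpr ⟨y, hy, rfl⟩, ?_⟩
          rw [← map_inv, ← map_mul]; exact (hmQ _).mpr hgy)
    -- the preimage of the complement
    set H : Subgroup G := Pq.comap π with hH
    have hAH : A ≤ H := by
      intro a ha
      show π a ∈ Pq
      have : π a = 1 := (QuotientGroup.eq_one_iff a).mpr ha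
      rw [this]; exact Pq.one_mem
    have hHR : H ≤ R := by
      intro h hh
      exact (hmR h).mp (hPqR hh)
    -- elements of `Pq ∩ Q.map π` are trivial
    have hint : ∀ z : G, π z ∈ Pq → z ∈ Q → z ∈ A := by
      intro z hzP hzQ
      obtain ⟨k, hk⟩ := hPq3 ⟨π z, hzP⟩
      have hk' : (π z) ^ (3 ^ k) = 1 := by
        have := congrArg Subtype.val hk
        simpa using this
      obtain ⟨j, hj⟩ := hQ2 ⟨z, hzQ⟩
      have hj' : z ^ (2 ^ j) = 1 := by
        have := congrArg Subtype.val hj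
        simpa using this
      have hj'' : (π z) ^ (2 ^ j) = 1 := by rw [← map_pow, hj', map_one]
      have := eq_one_of_pow2_of_pow3 hj'' hk'
      exact (QuotientGroup.eq_one_iff z).mp this
    obtain ⟨P, hP3, hPH, hYP, hPcov, hPd⟩ := ab_step A H Y d hAc hA2 hd hAH
      (by
        intro h hh
        show π (d * h * d⁻¹) ∈ Pq
        rw [map_mul, map_mul, map_inv]
        exact hPqd _ hh)
      (by
        intro h hh
        obtain ⟨k, hk⟩ := hPq3 ⟨π h, hh⟩
        refine ⟨k, ?_⟩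
        have hk' : (π h) ^ (3 ^ k) = 1 := by
          have := congrArg Subtype.val hk
          simpa using this
        rw [← map_pow] at hk'
        exact (QuotientGroup.eq_one_iff _).mp hk')
      (by
        intro x hx hxA
        have h1 : x ^ 3 ∈ Q := hO3 x (hHR hx) (hAQ hxA)
        exact hint _ (by rw [map_pow]; exact Pq.pow_mem hx 3) h1)
      (by
        intro y hy
        exact hYPq (Subgroup.mem_map.mpr ⟨y, hy, rfl⟩))
      hY3 hYd
      (by
        intro h hh hhA
        obtain ⟨y, hy, hhy⟩ := hS h (hHR hh) (hAQ hhA)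
        refine ⟨y, hy, hint _ ?_ hhy⟩
        rw [map_mul, map_inv]
        exact Pq.mul_mem hh (Pq.inv_mem (hYPq (Subgroup.mem_map.mpr ⟨y, hy, rfl⟩))))
    refine ⟨P, hP3, hPH.trans hHR, hYP, ?_, hPd⟩
    intro r hr
    obtain ⟨q', hq', p', hp', hrqp⟩ := hPqcov (π r) (Subgroup.mem_map.mpr ⟨r, hr, rfl⟩)
    obtain ⟨q, hq, rfl⟩ := Subgroup.mem_map.mp hq'
    obtain ⟨h, rfl⟩ := hπs p'
    have hhH : h ∈ H := hp'
    -- r = q h a' with a' ∈ A
    have h1 : (q * h)⁻¹ * r ∈ A := by
      have : π (q * h) = π r := by rw [map_mul]; exact hrqp.symm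
      exact QuotientGroup.eq.mp this
    have h2 : h * ((q * h)⁻¹ * r) ∈ H := H.mul_mem hhH (hAH h1)
    obtain ⟨a, ha, p, hp, hap⟩ := hPcov _ h2
    refine ⟨q * a, Q.mul_mem hq (hAQ ha), p, hp, ?_⟩
    have : r = q * (h * ((q * h)⁻¹ * r)) := by group
    rw [this, hap]; group

end Cfsg.Agent.Lib.Helper83.SylLift
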