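import Mathlib
import Cfsg.Prelude.Def_RootSubgroups
import Cfsg.Agent.Lib.Helper83.Special

set_option autoImplicit false

namespace Cfsg.Agent.Lib.Helper83

open Cfsg
open scoped commutatorElement

variable {G : Type*} [Group G] {A B : Subgroup G}

/-- `u` centralizes `A` and moves `B` to a subgroup commuting with `B`. -/
def TU (A B : Subgroup G) (u : G) : Prop :=
  u ∈ Subgroup.centralizer (A : Set G) ∧ conjBy B u ≤ Subgroup.centralizer (B : Set G)

theorem TU.comm_left {u a : G} (hu : TU A B u) (ha : a ∈ A) : a * u = u * a :=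
  Subgroup.mem_centralizer_iff.1 hu.1 a ha

theorem TU.conj_left {u : G} (hu : TU A B u) : conjBy A u = A :=
  conjBy_eq_self_iff.2 (Subgroup.centralizer_le_normalizer _ hu.1)

theorem TU.inv {u : G} (hu : TU A B u) : TU A B u⁻¹ := by
  refine ⟨Subgroup.inv_mem _ hu.1, ?_⟩
  have := le_centralizer_conj u⁻¹ hu.2
  rw [conjBy_conjBy, inv_mul_cancel, conjBy_one] at this
  exact le_centralizer_symm this

theorem TU.one (hB : IsMulCommutative B) : TU A B 1 := by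
  refine ⟨Subgroup.one_mem _, ?_⟩
  rw [conjBy_one]
  exact le_centralizer_self_of_comm hB

theorem TU.commute {u b b' : G} (hu : TU A B u) (hb : b ∈ B) (hb' : b' ∈ B) :
    b' * (u * b * u⁻¹) = (u * b * u⁻¹) * b' :=
  Subgroup.mem_centralizer_iff.1 (hu.2 (conj_mem_conjBy hb)) b' hb'

theorem conj_mem_centralizer_conjBy {g : G} (n : G) (hg : g ∈ Subgroup.centralizer (A : Set G)) :
    n * g * n⁻¹ ∈ Subgroup.centralizer (conjBy A n : Set G) := by
  rw [Subgroup.mem_centralizer_iff]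
  intro y hy
  have hy' : n⁻¹ * y * n ∈ A := mem_conjBy.1 hy
  have h1 := (Subgroup.mem_centralizer_iff.1 hg) _ hy'
  have h2 := congrArg (fun t => n * t * n⁻¹) h1
  simpa [mul_assoc] using h2

/-- (G1) the commutator of `u` with an element of `B` lies in the opposite family. -/
theorem tu_comm (hAB : IsRankOnePair A B) (hA : IsMulCommutative A) (hB : IsMulCommutative B)
    {u β : G} (hu : TU A B u) (hβ : β ∈ B) : TU B A ⁅u, β⁆ := by
  constructor
  · have h1 : u * β * u⁻¹ ∈ Subgroup.centralizer (B : Set G) := hu.2 (conj_mem_conjBy hβ)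
    have h2 : β⁻¹ ∈ Subgroup.centralizer (B : Set G) :=
      le_centralizer_self_of_comm hB (B.inv_mem hβ)
    have := Subgroup.mul_mem _ h1 h2
    rwa [← commutatorElement_def] at this
  · by_cases hβ1 : β = 1
    · rw [hβ1, commutatorElement_one_right, conjBy_one]
      exact le_centralizer_self_of_comm hA
    · obtain ⟨α, hα, hα1, e⟩ := hAB.cond_right β hβ hβ1
      have h1 := le_centralizer_conj α⁻¹ hu.inv.2
      rw [e] at h1
      have h2 := le_centralizer_conj β h1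
      rw [conjBy_conjBy A, mul_inv_cancel, conjBy_one] at h2
      have h3 := le_centralizer_conj u h2
      rw [hu.conj_left] at h3
      have hc : α⁻¹ * u⁻¹ = u⁻¹ * α⁻¹ := by
        rw [← mul_inv_rev, ← mul_inv_rev, hu.comm_left hα]
      have e2 : conjBy A ⁅u, β⁆ = conjBy (conjBy (conjBy (conjBy B u⁻¹) α⁻¹) β) u := by
        rw [conjBy_conjBy, conjBy_conjBy, conjBy_conjBy]
        have h4 : ⁅u, β⁆ = (u * β * u⁻¹) * β⁻¹ := commutatorElement_def u β
        rw [h4, ← conjBy_conjBy A, ← e, conjBy_conjBy]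
        congr 1
        rw [mul_assoc (u * β), mul_assoc (u * β), hc]
      rw [e2]; exact h3

/-- the commutator map is multiplicative on `B` -/
theorem tu_comm_mul (hB : IsMulCommutative B) {u β β' : G} (hu : TU A B u) (hβ : β ∈ B)
    (hβ' : β' ∈ B) : ⁅u, β * β'⁆ = ⁅u, β⁆ * ⁅u, β'⁆ := by
  have h1 := hu.commute hβ' (B.inv_mem hβ)
  have h2 := comm_of_isMulCommutative hB (B.inv_mem hβ) (B.inv_mem hβ')
  simp only [commutatorElement_def, mul_inv_rev]
  calc u * (β * β') * u⁻¹ * (β'⁻¹ * β⁻¹)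
      = u * β * u⁻¹ * ((u * β' * u⁻¹) * β⁻¹) * β'⁻¹ := by rw [← h2]; group
    _ = u * β * u⁻¹ * (β⁻¹ * (u * β' * u⁻¹)) * β'⁻¹ := by rw [h1]
    _ = u * β * u⁻¹ * β⁻¹ * (u * β' * u⁻¹ * β'⁻¹) := by group

theorem tu_comm_inv (hB : IsMulCommutative B) {u β : G} (hu : TU A B u) (hβ : β ∈ B) :
    ⁅u, β⁻¹⁆ = ⁅u, β⁆⁻¹ := by
  have := tu_comm_mul hB hu hβ (B.inv_mem hβ)
  rw [mul_inv_cancel, commutatorElement_one_right] at this
  exact eq_inv_of_mul_eq_one_right this.symm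

theorem tu_comm_swap (hB : IsMulCommutative B) {u β : G} (hu : TU A B u) (hβ : β ∈ B) :
    ⁅β⁻¹, u⁆ = ⁅u, β⁆ := by
  rw [← commutatorElement_inv, tu_comm_inv hB hu hβ, inv_inv]

/-- (G3) -/
theorem tu_comm_not_norm (hAB : IsRankOnePair A B) {w α : G} (hw : TU B A w)
    (hne : conjBy A w ≠ A) (hα : α ∈ A) (hα1 : α ≠ 1) : conjBy B ⁅w, α⁆ ≠ B := by
  intro h
  obtain ⟨b, hb, hb1, e⟩ := hAB.cond_left α hα hα1
  apply hne
  have hwB : conjBy B w⁻¹ = B := hw.inv.conj_left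
  have h4 : ⁅w, α⁆ = (w * α * w⁻¹) * α⁻¹ := commutatorElement_def w α
  rw [h4, ← conjBy_conjBy, conjBy_eq_iff] at h
  -- h : conjBy B α⁻¹ = conjBy B (w * α * w⁻¹)⁻¹
  have h5 : conjBy B (w * α * w⁻¹)⁻¹ = conjBy (conjBy A w) b⁻¹ := by
    have e1 : (w * α * w⁻¹)⁻¹ = w * (α⁻¹ * w⁻¹) := by group
    rw [e1, ← conjBy_conjBy, ← conjBy_conjBy, hwB, ← e, conjBy_conjBy, conjBy_conjBy]
    congr 1
    have := hw.comm_left (B.inv_mem hb)
    exact this.symm
  rw [← e, h5] at h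
  exact (conjBy_inj h).symm

/-- (G4) -/
theorem centralizes_of_norm (hAB : IsRankOnePair A B) {u : G}
    (hu : u ∈ Subgroup.centralizer (A : Set G)) (hn : conjBy B u = B) :
    u ∈ Subgroup.centralizer (B : Set G) := by
  rw [Subgroup.mem_centralizer_iff]
  intro b hb
  by_cases hb1 : b = 1
  · rw [hb1]; simp
  obtain ⟨a, ha, ha1, e⟩ := hAB.cond_right b hb hb1
  have hAu : conjBy A u⁻¹ = A :=
    conjBy_eq_self_iff.2 (Subgroup.centralizer_le_normalizer _ (Subgroup.inv_mem _ hu))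
  have hb' : u * b * u⁻¹ ∈ B := by
    have := conj_mem_conjBy (g := u) hb
    rwa [hn] at this
  have hau : a⁻¹ * u = u * a⁻¹ := Subgroup.mem_centralizer_iff.1 hu _ (A.inv_mem ha)
  have key : conjBy A (u * b * u⁻¹)⁻¹ = conjBy A b⁻¹ := by
    have e1 : (u * b * u⁻¹)⁻¹ = u * (b⁻¹ * u⁻¹) := by group
    rw [e1, ← conjBy_conjBy, ← conjBy_conjBy, hAu, ← e, conjBy_conjBy, ← hau, ← conjBy_conjBy, hn]
  have := rop_unique_right hAB hb' hb key
  calc b * u = (u * b * u⁻¹) * u := by rw [this]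
    _ = u * b := by group

/-- `n = a b⁻¹` maps `A` to `B` -/
theorem prel_conj_left {a b : G} (hr : PRel A B a b) : conjBy A (a * b⁻¹) = B := by
  rw [← conjBy_conjBy, hr.2.2, conjBy_conjBy, mul_inv_cancel, conjBy_one]

/-- `w ∈ (u•B) B` normalizes `u•B` -/
theorem tu_comm_norm {u β : G} (hu : TU A B u) (hβ : β ∈ B) :
    conjBy (conjBy B u) ⁅u, β⁆ = conjBy B u := by
  have h4 : ⁅u, β⁆ = (u * β * u⁻¹) * β⁻¹ := commutatorElement_def u β
  rw [h4, ← conjBy_conjBy (conjBy B u)]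
  have h1 : conjBy (conjBy B u) β⁻¹ = conjBy B u :=
    conjBy_eq_self_of_le_centralizer (B.inv_mem hβ) (le_centralizer_symm hu.2)
  rw [h1]
  exact conjBy_mem_self (conj_mem_conjBy hβ)

/-- (G5') -/
theorem tu_key (hAB : IsRankOnePair A B) (hA : IsMulCommutative A) (hB : IsMulCommutative B)
    {u a b : G} (hu : TU A B u) (hr : PRel A B a b) :
    ⁅a, ⁅u, b⁆⁆ * u ∈ Subgroup.centralizer (A : Set G) ∧
      ⁅a, ⁅u, b⁆⁆ * u ∈ Subgroup.centralizer (B : Set G) := by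
  obtain ⟨ha, hb, e⟩ := hr
  have hw : TU B A ⁅u, b⁆ := tu_comm hAB hA hB hu hb
  have hu₁ : TU A B ⁅a, ⁅u, b⁆⁆ := by
    have := (tu_comm (RankOnePair_symm hAB) hB hA hw ha).inv
    rwa [commutatorElement_inv] at this
  have hcA : ⁅a, ⁅u, b⁆⁆ * u ∈ Subgroup.centralizer (A : Set G) := Subgroup.mul_mem _ hu₁.1 hu.1
  refine ⟨hcA, centralizes_of_norm hAB hcA ?_⟩
  -- n u n⁻¹ centralizes B
  have hn : conjBy A (a * b⁻¹) = B := prel_conj_left ⟨ha, hb, e⟩
  have h1 : (a * b⁻¹) * u * (a * b⁻¹)⁻¹ ∈ Subgroup.centralizer (B : Set G) := by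
    have := conj_mem_centralizer_conjBy (a * b⁻¹) hu.1
    rwa [hn] at this
  have hau : a * u = u * a := hu.comm_left ha
  have e1 : (a * b⁻¹) * u * (a * b⁻¹)⁻¹ = ⁅a, ⁅u, b⁆⁆ * ⁅u, b⁆ * u := by
    rw [← tu_comm_swap hB hu hb]
    simp only [commutatorElement_def]
    have : a⁻¹ * u = u * a⁻¹ := by
      have := congrArg (fun t => a⁻¹ * t * a⁻¹) hau
      simpa [mul_assoc] using this.symm
    calc a * b⁻¹ * u * (a * b⁻¹)⁻¹ = a * (b⁻¹ * u * b⁻¹⁻¹ * u⁻¹) * (u * a⁻¹) := by group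
      _ = a * (b⁻¹ * u * b⁻¹⁻¹ * u⁻¹) * (a⁻¹ * u) := by rw [this]
      _ = _ := by group
  rw [e1] at h1
  have h2 : conjBy B (⁅a, ⁅u, b⁆⁆ * ⁅u, b⁆ * u) = B :=
    conjBy_eq_self_iff.2 (Subgroup.centralizer_le_normalizer _ h1)
  rw [← conjBy_conjBy, ← conjBy_conjBy, tu_comm_norm hu hb, conjBy_conjBy] at h2
  exact h2

end Cfsg.Agent.Lib.Helper83
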