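import Mathlib
import Cfsg.Prelude.Def_RootSubgroups
import Cfsg.Agent.Lib.Helper83.Transv

set_option autoImplicit false

namespace Cfsg.Agent.Lib.Helper83

open Cfsg
open scoped commutatorElement

variable {G : Type*} [Group G] {A B : Subgroup G}

/-- subgroup generated by the `X`-conjugates of `A` -/
def orbSup (X A : Subgroup G) : Subgroup G :=
  Subgroup.closure {y | ∃ x ∈ X, ∃ a ∈ A, y = x * a * x⁻¹}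

theorem conjBy_le_orbSup {X : Subgroup G} {x : G} (hx : x ∈ X) : conjBy A x ≤ orbSup X A := by
  intro y hy
  rw [mem_conjBy] at hy
  apply Subgroup.subset_closure
  exact ⟨x, hx, x⁻¹ * y * x, hy, by group⟩

theorem le_orbSup (X : Subgroup G) : A ≤ orbSup X A := by
  have := conjBy_le_orbSup (A := A) (X.one_mem)
  rwa [conjBy_one] at this

theorem orbSup_comm {X : Subgroup G} (h : ∀ x ∈ X, conjBy A x ≤ Subgroup.centralizer (A : Set G))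
    {y z : G} (hy : y ∈ orbSup X A) (hz : z ∈ orbSup X A) : y * z = z * y := by
  have hgen : {y | ∃ x ∈ X, ∃ a ∈ A, y = x * a * x⁻¹} ⊆
      (Subgroup.centralizer {y | ∃ x ∈ X, ∃ a ∈ A, y = x * a * x⁻¹} : Set G) := by
    rintro _ ⟨x', hx', a', ha', rfl⟩
    rw [SetLike.mem_coe, Subgroup.mem_centralizer_iff]
    rintro _ ⟨x, hx, a, ha, rfl⟩
    have h1 := h (x⁻¹ * x') (X.mul_mem (X.inv_mem hx) hx')
    have h2 : (x⁻¹ * x') * a' * (x⁻¹ * x')⁻¹ ∈ conjBy A (x⁻¹ * x') := conj_mem_conjBy ha'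
    have h3 := Subgroup.mem_centralizer_iff.1 (h1 h2) a ha
    have h4 := congrArg (fun t => x * t * x⁻¹) h3
    calc x * a * x⁻¹ * (x' * a' * x'⁻¹)
        = x * (a * (x⁻¹ * x' * a' * (x⁻¹ * x')⁻¹)) * x⁻¹ := by group
      _ = x * (x⁻¹ * x' * a' * (x⁻¹ * x')⁻¹ * a) * x⁻¹ := h4
      _ = x' * a' * x'⁻¹ * (x * a * x⁻¹) := by group
  have h5 : orbSup X A ≤ Subgroup.centralizer (orbSup X A : Set G) := by
    unfold orbSup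
    rw [Subgroup.centralizer_closure, Subgroup.closure_le]
    exact hgen
  exact (Subgroup.mem_centralizer_iff.1 (h5 hz) y hy)

theorem orbSup_conj_mem {X : Subgroup G} {x y : G} (hx : x ∈ X) (hy : y ∈ orbSup X A) :
    x * y * x⁻¹ ∈ orbSup X A := by
  unfold orbSup at hy ⊢
  induction hy using Subgroup.closure_induction with
  | mem y hy =>
    obtain ⟨x', hx', a, ha, rfl⟩ := hy
    apply Subgroup.subset_closure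
    exact ⟨x * x', X.mul_mem hx hx', a, ha, by group⟩
  | one => simp
  | mul y z _ _ ihy ihz =>
    have := Subgroup.mul_mem _ ihy ihz
    convert this using 1; group
  | inv y _ ih =>
    have := Subgroup.inv_mem _ ih
    convert this using 1; group

/-- the subgroup `{⁅u, β⁆ : β ∈ B}` -/
def commSub (hB : IsMulCommutative B) {u : G} (hu : TU A B u) : Subgroup G where
  carrier := {w | ∃ β ∈ B, w = ⁅u, β⁆}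
  one_mem' := ⟨1, B.one_mem, by simp⟩
  mul_mem' := by
    rintro _ _ ⟨β, hβ, rfl⟩ ⟨β', hβ', rfl⟩
    exact ⟨β * β', B.mul_mem hβ hβ', (tu_comm_mul hB hu hβ hβ').symm⟩
  inv_mem' := by
    rintro _ ⟨β, hβ, rfl⟩
    exact ⟨β⁻¹, B.inv_mem hβ, (tu_comm_inv hB hu hβ).symm⟩

theorem mem_commSub (hB : IsMulCommutative B) {u : G} (hu : TU A B u) {w : G} :
    w ∈ commSub hB hu ↔ ∃ β ∈ B, w = ⁅u, β⁆ := Iff.rfl

theorem comm_mem_commSub (hB : IsMulCommutative B) {u : G} (hu : TU A B u) {β : G} (hβ : β ∈ B) :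
    ⁅u, β⁆ ∈ commSub hB hu := ⟨β, hβ, rfl⟩

/-- (G6) -/
theorem tu_g6 (hAB : IsRankOnePair A B) (hA : IsMulCommutative A) (hB : IsMulCommutative B)
    {u β₁ β' α : G} (hu : TU A B u) (hβ₁ : β₁ ∈ B) (hβ' : β' ∈ B) (hα : α ∈ A) :
    ⁅⁅⁅u, β₁⁆, α⁆, ⁅u, β'⁆⁆ ∈ Subgroup.centralizer (A : Set G) ∧
    ⁅⁅⁅u, β₁⁆, α⁆, ⁅u, β'⁆⁆ ∈ Subgroup.centralizer (B : Set G) ∧
    ∀ β ∈ B, ⁅u, β⁆ * ⁅⁅⁅u, β₁⁆, α⁆, ⁅u, β'⁆⁆ = ⁅⁅⁅u, β₁⁆, α⁆, ⁅u, β'⁆⁆ * ⁅u, β⁆ := by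
  by_cases hβ₁1 : β₁ = 1
  · subst hβ₁1
    simp
  have hBA := RankOnePair_symm hAB
  have hw₁ : TU B A ⁅u, β₁⁆ := tu_comm hAB hA hB hu hβ₁
  have hw' : TU B A ⁅u, β'⁆ := tu_comm hAB hA hB hu hβ'
  have ht : TU A B ⁅⁅u, β₁⁆, α⁆ := tu_comm hBA hB hA hw₁ hα
  have hL : ∀ x ∈ commSub hB hu, conjBy A x ≤ Subgroup.centralizer (A : Set G) := by
    rintro _ ⟨β, hβ, rfl⟩
    exact (tu_comm hAB hA hB hu hβ).2
  have hM : ∀ x ∈ commSub hA hw₁, conjBy B x ≤ Subgroup.centralizer (B : Set G) := by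
    rintro _ ⟨α', hα', rfl⟩
    exact (tu_comm hBA hB hA hw₁ hα').2
  have hTL : ∀ w ∈ commSub hB hu, ∀ α' ∈ A, ⁅w, α'⁆ ∈ orbSup (commSub hB hu) A := by
    intro w hw α' hα'
    rw [commutatorElement_def w α']
    exact Subgroup.mul_mem _ (conjBy_le_orbSup hw (conj_mem_conjBy hα'))
      (le_orbSup _ (A.inv_mem hα'))
  obtain ⟨a₁, hr⟩ := prel_exists_left hAB hβ₁ hβ₁1
  have key := (tu_key hAB hA hB hu hr).2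
  have huB : conjBy B u = conjBy B ⁅⁅u, β₁⁆, a₁⁆ := by
    have h1 : conjBy B (⁅a₁, ⁅u, β₁⁆⁆ * u) = B :=
      conjBy_eq_self_iff.2 (Subgroup.centralizer_le_normalizer _ key)
    rw [← conjBy_conjBy, conjBy_eq_iff, commutatorElement_inv] at h1
    exact h1
  have huM : conjBy B u ≤ orbSup (commSub hA hw₁) B := by
    rw [huB]
    exact conjBy_le_orbSup (comm_mem_commSub hA hw₁ hr.1)
  have hWM : ∀ β ∈ B, ⁅u, β⁆ ∈ orbSup (commSub hA hw₁) B := by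
    intro β hβ
    rw [commutatorElement_def u β]
    exact Subgroup.mul_mem _ (huM (conj_mem_conjBy hβ)) (le_orbSup _ (B.inv_mem hβ))
  have htL : ⁅⁅u, β₁⁆, α⁆ ∈ orbSup (commSub hB hu) A := hTL _ (comm_mem_commSub hB hu hβ₁) α hα
  have hzL : ⁅⁅⁅u, β₁⁆, α⁆, ⁅u, β'⁆⁆ ∈ orbSup (commSub hB hu) A := by
    have h1 := orbSup_conj_mem (comm_mem_commSub hB hu hβ') (Subgroup.inv_mem _ htL)
    have h2 := Subgroup.mul_mem _ htL h1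
    convert h2 using 1
    rw [commutatorElement_def ⁅⁅u, β₁⁆, α⁆ ⁅u, β'⁆]; group
  have hzM : ⁅⁅⁅u, β₁⁆, α⁆, ⁅u, β'⁆⁆ ∈ orbSup (commSub hA hw₁) B := by
    have h1 := orbSup_conj_mem (comm_mem_commSub hA hw₁ hα) (hWM β' hβ')
    have h2 := Subgroup.mul_mem _ h1 (Subgroup.inv_mem _ (hWM β' hβ'))
    convert h2 using 1
    exact commutatorElement_def _ _
  refine ⟨?_, ?_, ?_⟩
  · rw [Subgroup.mem_centralizer_iff]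
    intro a ha
    have hs : ⁅a, ⁅u, β'⁆⁆ ∈ orbSup (commSub hB hu) A := by
      have := Subgroup.inv_mem _ (hTL _ (comm_mem_commSub hB hu hβ') a ha)
      rwa [commutatorElement_inv] at this
    have hat : a * ⁅⁅u, β₁⁆, α⁆ * a⁻¹ = ⁅⁅u, β₁⁆, α⁆ := by
      rw [ht.comm_left ha]; group
    have e1 : a * ⁅⁅⁅u, β₁⁆, α⁆, ⁅u, β'⁆⁆ * a⁻¹ =
        ⁅a * ⁅⁅u, β₁⁆, α⁆ * a⁻¹, ⁅a, ⁅u, β'⁆⁆ * ⁅u, β'⁆⁆ := by
      generalize ⁅⁅u, β₁⁆, α⁆ = t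
      generalize ⁅u, β'⁆ = w'
      simp only [commutatorElement_def]; group
    rw [hat] at e1
    have e2 : ⁅⁅⁅u, β₁⁆, α⁆, ⁅a, ⁅u, β'⁆⁆ * ⁅u, β'⁆⁆ =
        ⁅⁅⁅u, β₁⁆, α⁆, ⁅a, ⁅u, β'⁆⁆⁆ *
          (⁅a, ⁅u, β'⁆⁆ * ⁅⁅⁅u, β₁⁆, α⁆, ⁅u, β'⁆⁆ * ⁅a, ⁅u, β'⁆⁆⁻¹) := by
      generalize ⁅⁅u, β₁⁆, α⁆ = t
      generalize ⁅a, ⁅u, β'⁆⁆ = s
      generalize ⁅u, β'⁆ = w'
      simp only [commutatorElement_def]; group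
    have e3 : ⁅⁅⁅u, β₁⁆, α⁆, ⁅a, ⁅u, β'⁆⁆⁆ = 1 := by
      rw [commutatorElement_eq_one_iff_mul_comm]
      exact orbSup_comm hL htL hs
    have e4 : ⁅a, ⁅u, β'⁆⁆ * ⁅⁅⁅u, β₁⁆, α⁆, ⁅u, β'⁆⁆ * ⁅a, ⁅u, β'⁆⁆⁻¹ =
        ⁅⁅⁅u, β₁⁆, α⁆, ⁅u, β'⁆⁆ := by
      rw [orbSup_comm hL hs hzL]; group
    rw [e2, e3, e4, one_mul] at e1
    calc a * ⁅⁅⁅u, β₁⁆, α⁆, ⁅u, β'⁆⁆ = (a * ⁅⁅⁅u, β₁⁆, α⁆, ⁅u, β'⁆⁆ * a⁻¹) * a := by group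
      _ = ⁅⁅⁅u, β₁⁆, α⁆, ⁅u, β'⁆⁆ * a := by rw [e1]
  · rw [Subgroup.mem_centralizer_iff]
    intro b hb
    have hr' : ⁅b, ⁅⁅u, β₁⁆, α⁆⁆ ∈ orbSup (commSub hA hw₁) B := by
      have h1 : ⁅⁅⁅u, β₁⁆, α⁆, b⁆ ∈ orbSup (commSub hA hw₁) B := by
        rw [commutatorElement_def ⁅⁅u, β₁⁆, α⁆ b]
        exact Subgroup.mul_mem _ (conjBy_le_orbSup (comm_mem_commSub hA hw₁ hα) (conj_mem_conjBy hb))
          (le_orbSup _ (B.inv_mem hb))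
      have := Subgroup.inv_mem _ h1
      rwa [commutatorElement_inv] at this
    have hbw : b * ⁅u, β'⁆ * b⁻¹ = ⁅u, β'⁆ := by
      rw [hw'.comm_left hb]; group
    have e1 : b * ⁅⁅⁅u, β₁⁆, α⁆, ⁅u, β'⁆⁆ * b⁻¹ =
        ⁅⁅b, ⁅⁅u, β₁⁆, α⁆⁆ * ⁅⁅u, β₁⁆, α⁆, b * ⁅u, β'⁆ * b⁻¹⁆ := by
      generalize ⁅⁅u, β₁⁆, α⁆ = t
      generalize ⁅u, β'⁆ = w'
      simp only [commutatorElement_def]; group
    rw [hbw] at e1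
    have e2 : ⁅⁅b, ⁅⁅u, β₁⁆, α⁆⁆ * ⁅⁅u, β₁⁆, α⁆, ⁅u, β'⁆⁆ =
        (⁅b, ⁅⁅u, β₁⁆, α⁆⁆ * ⁅⁅⁅u, β₁⁆, α⁆, ⁅u, β'⁆⁆ * ⁅b, ⁅⁅u, β₁⁆, α⁆⁆⁻¹) *
          ⁅⁅b, ⁅⁅u, β₁⁆, α⁆⁆, ⁅u, β'⁆⁆ := by
      generalize ⁅b, ⁅⁅u, β₁⁆, α⁆⁆ = r
      generalize ⁅⁅u, β₁⁆, α⁆ = t
      generalize ⁅u, β'⁆ = w'
      simp only [commutatorElement_def]; group
    have e3 : ⁅⁅b, ⁅⁅u, β₁⁆, α⁆⁆, ⁅u, β'⁆⁆ = 1 := by
      rw [commutatorElement_eq_one_iff_mul_comm]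
      exact orbSup_comm hM hr' (hWM β' hβ')
    have e4 : ⁅b, ⁅⁅u, β₁⁆, α⁆⁆ * ⁅⁅⁅u, β₁⁆, α⁆, ⁅u, β'⁆⁆ * ⁅b, ⁅⁅u, β₁⁆, α⁆⁆⁻¹ =
        ⁅⁅⁅u, β₁⁆, α⁆, ⁅u, β'⁆⁆ := by
      rw [orbSup_comm hM hr' hzM]; group
    rw [e2, e3, e4, mul_one] at e1
    calc b * ⁅⁅⁅u, β₁⁆, α⁆, ⁅u, β'⁆⁆ = (b * ⁅⁅⁅u, β₁⁆, α⁆, ⁅u, β'⁆⁆ * b⁻¹) * b := by group
      _ = ⁅⁅⁅u, β₁⁆, α⁆, ⁅u, β'⁆⁆ * b := by rw [e1]
  · intro β hβ
    exact orbSup_comm hM (hWM β hβ) hzM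

/-- (G9) if partners are compatible with inversion, the pair is special -/
theorem special_of_prel_inv (hAB : IsRankOnePair A B)
    (h : ∀ a b, PRel A B a b → PRel A B a⁻¹ b⁻¹) : IsSpecialRankOnePair A B := by
  refine ⟨hAB, fun a ha ha1 b hb hb1 e => ?_⟩
  have hr : PRel A B a b := ⟨ha, hb, e⟩
  have hr' := h a b hr
  have e' : conjBy A b = conjBy B a := by
    have := hr'.2.2
    rwa [inv_inv, inv_inv] at this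
  have hβ : a * (b⁻¹ * a * b) * a⁻¹ ∈ B := by
    have h1 : b⁻¹ * a * b ∈ conjBy A b⁻¹ := by
      have := conj_mem_conjBy (g := b⁻¹) ha
      rwa [inv_inv] at this
    rw [e, mem_conjBy, inv_inv] at h1
    exact h1
  have hr'' : PRel A B a⁻¹ (a * (b⁻¹ * a * b) * a⁻¹) := by
    refine ⟨A.inv_mem ha, hβ, ?_⟩
    rw [inv_inv]
    have e1 : (a * (b⁻¹ * a * b) * a⁻¹)⁻¹ = (a * b⁻¹ * a⁻¹) * (b * a⁻¹) := by group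
    rw [e1, ← conjBy_conjBy, ← conjBy_conjBy A, conjBy_mem_self (A.inv_mem ha), e', conjBy_conjBy]
    have e2 : a * b⁻¹ * a⁻¹ * a = a * b⁻¹ := by group
    rw [e2, ← conjBy_conjBy, conjBy_mem_self (B.inv_mem hb)]
  have := prel_unique_right hAB hr'' hr'
  calc b⁻¹ * a * b = a⁻¹ * (a * (b⁻¹ * a * b) * a⁻¹) * a := by group
    _ = a⁻¹ * b⁻¹ * a := by rw [this]

/-- (G7) -/
theorem tu_g7 (hAB : IsRankOnePair A B) (hA : IsMulCommutative A) (hB : IsMulCommutative B)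
    {u β β' α : G} (hu : TU A B u) (hβ : β ∈ B) (hβ' : β' ∈ B) (hα : α ∈ A) :
    ∃ z, z ∈ Subgroup.centralizer (A : Set G) ∧ z ∈ Subgroup.centralizer (B : Set G) ∧
      ⁅⁅u, β * β'⁆, α⁆ = z * ⁅⁅u, β'⁆, α⁆ * ⁅⁅u, β⁆, α⁆ := by
  obtain ⟨h1, h2, -⟩ := tu_g6 hAB hA hB hu hβ' hβ hα
  refine ⟨⁅⁅⁅u, β'⁆, α⁆, ⁅u, β⁆⁆⁻¹, Subgroup.inv_mem _ h1, Subgroup.inv_mem _ h2, ?_⟩
  rw [tu_comm_mul hB hu hβ hβ']
  generalize ⁅u, β'⁆ = w'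
  generalize ⁅u, β⁆ = w
  simp only [commutatorElement_def]; group

/-- (G8) -/
theorem tu_g8 (hAB : IsRankOnePair A B) (hA : IsMulCommutative A) (hB : IsMulCommutative B)
    {u a b b₃ : G} (hu : TU A B u) (hne : conjBy B u ≠ B) (hr : PRel A B a b)
    (hr₃ : PRel A B a⁻¹ b₃) : b * b₃ = 1 := by
  have hBA := RankOnePair_symm hAB
  have ha := hr.1
  have hb := hr.2.1
  have hb₃ := hr₃.2.1
  have ha1 := prel_ne_left hAB hr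
  obtain ⟨k1A, k1B⟩ := tu_key hAB hA hB hu hr
  obtain ⟨k2A, k2B⟩ := tu_key hAB hA hB hu hr₃
  have hw : TU B A ⁅u, b⁆ := tu_comm hAB hA hB hu hb
  have hw₃ : TU B A ⁅u, b₃⁆ := tu_comm hAB hA hB hu hb₃
  have e3 : ⁅a⁻¹, ⁅u, b₃⁆⁆⁻¹ = ⁅a, ⁅u, b₃⁆⁆ := by
    rw [commutatorElement_inv, tu_comm_inv hA hw₃ ha, commutatorElement_inv]
  have e0 : (⁅a, ⁅u, b⁆⁆ * u) * (⁅a⁻¹, ⁅u, b₃⁆⁆ * u)⁻¹ = ⁅a, ⁅u, b⁆⁆ * ⁅a, ⁅u, b₃⁆⁆ := by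
    rw [← e3]; group
  have e1 : (⁅a, ⁅u, b⁆⁆ * ⁅a, ⁅u, b₃⁆⁆)⁻¹ = ⁅⁅u, b₃⁆, a⁆ * ⁅⁅u, b⁆, a⁆ := by
    rw [mul_inv_rev, commutatorElement_inv, commutatorElement_inv]
  have hzA : ⁅⁅u, b₃⁆, a⁆ * ⁅⁅u, b⁆, a⁆ ∈ Subgroup.centralizer (A : Set G) := by
    rw [← e1, ← e0]
    exact Subgroup.inv_mem _ (Subgroup.mul_mem _ k1A (Subgroup.inv_mem _ k2A))
  have hzB : ⁅⁅u, b₃⁆, a⁆ * ⁅⁅u, b⁆, a⁆ ∈ Subgroup.centralizer (B : Set G) := by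
    rw [← e1, ← e0]
    exact Subgroup.inv_mem _ (Subgroup.mul_mem _ k1B (Subgroup.inv_mem _ k2B))
  obtain ⟨z, -, hzB', e⟩ := tu_g7 hAB hA hB hu hb hb₃ ha
  have hcB : ⁅⁅u, b * b₃⁆, a⁆ ∈ Subgroup.centralizer (B : Set G) := by
    rw [e, mul_assoc]
    exact Subgroup.mul_mem _ hzB' hzB
  have hnB : conjBy B ⁅⁅u, b * b₃⁆, a⁆ = B :=
    conjBy_eq_self_iff.2 (Subgroup.centralizer_le_normalizer _ hcB)
  have hwbb : TU B A ⁅u, b * b₃⁆ := tu_comm hAB hA hB hu (B.mul_mem hb hb₃)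
  by_contra hbb
  have h1 : conjBy A ⁅u, b * b₃⁆ ≠ A := tu_comm_not_norm hBA hu hne (B.mul_mem hb hb₃) hbb
  exact tu_comm_not_norm hAB hwbb h1 ha ha1 hnB

/-- **Theorem G**: a rank one pair with abelian unipotent subgroups admitting a transvection-like
element is special. -/
theorem special_of_tu (hAB : IsRankOnePair A B) (hA : IsMulCommutative A) (hB : IsMulCommutative B)
    {u : G} (hu : TU A B u) (hne : conjBy B u ≠ B) : IsSpecialRankOnePair A B := by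
  apply special_of_prel_inv hAB
  intro a b hr
  have ha1 := prel_ne_left hAB hr
  have ha1' : a⁻¹ ≠ 1 := by simpa using ha1
  obtain ⟨b₃, hr₃⟩ := prel_exists_right hAB (A.inv_mem hr.1) ha1'
  have := tu_g8 hAB hA hB hu hne hr hr₃
  have e : b₃ = b⁻¹ := (eq_inv_of_mul_eq_one_right this)
  rwa [e] at hr₃

end Cfsg.Agent.Lib.Helper83
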