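import Mathlib
import Cfsg.Prelude.Def_RootSubgroups
import Cfsg.Agent.Lib.Helper83.Transv2

set_option autoImplicit false

namespace Cfsg.Agent.Lib.Helper83

open Cfsg
open scoped commutatorElement

variable {G : Type*} [Group G] {A B : Subgroup G}

/-- Two commuting subgroups which are both opposite `B` give a transvection-like element. -/
theorem swap_tu {C : Subgroup G} (hAB : IsRankOnePair A B) (hCB : IsRankOnePair C B)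
    (hAC : A ≤ Subgroup.centralizer (C : Set G)) (hA : IsMulCommutative A) (hne : A ≠ C) :
    ∃ u, TU A B u ∧ conjBy B u ≠ B := by
  obtain ⟨b₁, hb₁, hb₁1⟩ := rop_exists_right hAB
  obtain ⟨a₁, ha₁, ha₁1, h1⟩ := hAB.cond_right b₁ hb₁ hb₁1
  obtain ⟨c₁, hc₁, hc₁1, h2⟩ := hCB.cond_right b₁ hb₁ hb₁1
  have s1 : conjBy B a₁⁻¹ ≤ Subgroup.centralizer (conjBy B c₁⁻¹ : Set G) := by
    rw [h1, h2]; exact le_centralizer_conj _ hAC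
  have s2 : conjBy B (c₁ * a₁⁻¹) ≤ Subgroup.centralizer (B : Set G) := by
    have := le_centralizer_conj c₁ s1
    simpa [conjBy_conjBy, conjBy_one] using this
  refine ⟨c₁ * a₁⁻¹, ⟨?_, s2⟩, ?_⟩
  · exact Subgroup.mul_mem _ (le_centralizer_symm hAC hc₁)
      (le_centralizer_self_of_comm hA (A.inv_mem ha₁))
  · intro h
    apply hne
    rw [← conjBy_conjBy, conjBy_eq_iff] at h
    rw [h, h2] at h1
    exact (conjBy_inj h1).symm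

/-- the key contradiction: three suitably independent elements of `F` cannot exist -/
theorem star_contra {F : Subgroup G} (hAF : IsRankOnePair A F) (hA : IsMulCommutative A)
    (hF : IsMulCommutative F) {u : G} (hu : TU A F u) (hAB : IsRankOnePair A B)
    (hH2 : ∀ φ ∈ F, φ ≠ 1 → conjBy A ⁅u, φ⁆ ≤ Subgroup.centralizer (B : Set G))
    {g g' g'' : G} (hg : g ∈ F) (hg' : g' ∈ F) (hg'' : g'' ∈ F) (h1 : g ≠ 1) (h2 : g' ≠ 1)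
    (h3 : g'' ≠ 1) (h4 : g' * g'' ≠ 1) (h5 : g' * g ≠ 1) (h6 : g'' * g ≠ 1)
    (h7 : g' * g'' * g ≠ 1) : False := by
  obtain ⟨α, hα, hα1⟩ := rop_exists_left hAB
  have hw : TU F A ⁅u, g⁆ := tu_comm hAF hA hF hu hg
  -- the claim
  have claim : ∀ x ∈ F, x ≠ 1 → x * g ≠ 1 →
      ⁅⁅u, x⁆, ⁅⁅u, g⁆, α⁆⁆ * α⁻¹ ∈ Subgroup.centralizer (B : Set G) := by
    intro x hx hx1 hxg
    have c1 : (⁅u, x⁆ * ⁅u, g⁆) * α * (⁅u, x⁆ * ⁅u, g⁆)⁻¹ ∈ Subgroup.centralizer (B : Set G) := by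
      rw [← tu_comm_mul hF hu hx hg]
      exact hH2 _ (F.mul_mem hx hg) hxg (conj_mem_conjBy hα)
    have c2 : ⁅u, x⁆ * α⁻¹ * ⁅u, x⁆⁻¹ ∈ Subgroup.centralizer (B : Set G) :=
      hH2 _ hx hx1 (conj_mem_conjBy (A.inv_mem hα))
    have c3 : ⁅u, g⁆ * α⁻¹ * ⁅u, g⁆⁻¹ ∈ Subgroup.centralizer (B : Set G) :=
      hH2 _ hg h1 (conj_mem_conjBy (A.inv_mem hα))
    have hc : α * (⁅u, g⁆ * α⁻¹ * ⁅u, g⁆⁻¹) = (⁅u, g⁆ * α⁻¹ * ⁅u, g⁆⁻¹) * α :=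
      hw.commute (A.inv_mem hα) hα
    have e : ⁅⁅u, x⁆, ⁅⁅u, g⁆, α⁆⁆ * α⁻¹ =
        ((⁅u, x⁆ * ⁅u, g⁆) * α * (⁅u, x⁆ * ⁅u, g⁆)⁻¹) * (⁅u, x⁆ * α⁻¹ * ⁅u, x⁆⁻¹) *
          (⁅u, g⁆ * α⁻¹ * ⁅u, g⁆⁻¹) := by
      generalize ⁅u, x⁆ = X at *
      generalize ⁅u, g⁆ = w at *
      simp only [commutatorElement_def]
      calc X * (w * α * w⁻¹ * α⁻¹) * X⁻¹ * (w * α * w⁻¹ * α⁻¹)⁻¹ * α⁻¹
          = X * w * α * (X * w)⁻¹ * (X * α⁻¹ * X⁻¹) * (α * (w * α⁻¹ * w⁻¹)) * α⁻¹ := by group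
        _ = X * w * α * (X * w)⁻¹ * (X * α⁻¹ * X⁻¹) * ((w * α⁻¹ * w⁻¹) * α) * α⁻¹ := by rw [hc]
        _ = _ := by group
    rw [e]
    exact Subgroup.mul_mem _ (Subgroup.mul_mem _ c1 c2) c3
  have k1 := claim (g' * g'') (F.mul_mem hg' hg'') h4 h7
  have k2 := claim g' hg' h2 h5
  have k3 := claim g'' hg'' h3 h6
  -- additivity
  obtain ⟨-, -, hcomm⟩ := tu_g6 hAF hA hF hu hg hg'' hα
  have hc' := hcomm g' hg'
  have add : ⁅⁅u, g' * g''⁆, ⁅⁅u, g⁆, α⁆⁆ = ⁅⁅u, g''⁆, ⁅⁅u, g⁆, α⁆⁆ * ⁅⁅u, g'⁆, ⁅⁅u, g⁆, α⁆⁆ := by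
    rw [tu_comm_mul hF hu hg' hg'']
    rw [← commutatorElement_inv ⁅u, g''⁆ ⁅⁅u, g⁆, α⁆] at hc'
    have hc'' : ⁅u, g'⁆ * ⁅⁅u, g''⁆, ⁅⁅u, g⁆, α⁆⁆ = ⁅⁅u, g''⁆, ⁅⁅u, g⁆, α⁆⁆ * ⁅u, g'⁆ := by
      have := congrArg (fun t => ⁅⁅u, g''⁆, ⁅⁅u, g⁆, α⁆⁆ * t * ⁅⁅u, g''⁆, ⁅⁅u, g⁆, α⁆⁆) hc'
      simp only [mul_assoc, inv_mul_cancel, mul_one, mul_inv_cancel_left] at this
      exact this.symm
    generalize ⁅⁅u, g⁆, α⁆ = t at *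
    generalize ⁅u, g'⁆ = X' at *
    generalize ⁅u, g''⁆ = X'' at *
    calc ⁅X' * X'', t⁆ = (X' * ⁅X'', t⁆) * X'⁻¹ * ⁅X', t⁆ := by
          simp only [commutatorElement_def]; group
      _ = (⁅X'', t⁆ * X') * X'⁻¹ * ⁅X', t⁆ := by rw [hc'']
      _ = ⁅X'', t⁆ * ⁅X', t⁆ := by group
  have hαc : α ∈ Subgroup.centralizer (B : Set G) := by
    have h8 := Subgroup.mul_mem _ (Subgroup.mul_mem _ (Subgroup.inv_mem _ k3) k1)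
      (Subgroup.inv_mem _ k2)
    convert h8 using 1
    rw [add]; group
  apply hα1
  apply rop_norm_left hAB hα
  exact conjBy_eq_self_iff.2 (Subgroup.centralizer_le_normalizer _ hαc)

end Cfsg.Agent.Lib.Helper83
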