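import Mathlib
import Cfsg.Prelude.Def_RootSubgroups
import Cfsg.Agent.Lib.Helper83.Transv3
import Cfsg.Agent.Lib.Helper83.RootSub2
import Cfsg.Agent.Lib.Helper83.Special3
import Cfsg.Agent.S5016

set_option autoImplicit false

namespace Cfsg.Agent.Lib.Helper83

open Cfsg
open scoped commutatorElement

variable {G : Type*} [Group G] {A B : Subgroup G}

/-- no three suitably independent elements -/
def NoStar (X : Subgroup G) : Prop :=
  ∀ g ∈ X, ∀ g' ∈ X, ∀ g'' ∈ X, g ≠ 1 → g' ≠ 1 → g'' ≠ 1 → g' * g'' ≠ 1 → g' * g ≠ 1 →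
    g'' * g ≠ 1 → g' * g'' * g ≠ 1 → False

theorem NoStar.conj {X : Subgroup G} (h : NoStar X) (c : G) : NoStar (conjBy X c) := by
  intro g hg g' hg' g'' hg'' h1 h2 h3 h4 h5 h6 h7
  rw [mem_conjBy] at hg hg' hg''
  have key : ∀ x : G, x ≠ 1 → c⁻¹ * x * c ≠ 1 := by
    intro x hx hc
    apply hx
    have := congrArg (fun t => c * t * c⁻¹) hc
    simpa [mul_assoc] using this
  refine h _ hg _ hg' _ hg'' (key _ h1) (key _ h2) (key _ h3) ?_ ?_ ?_ ?_
  · have := key _ h4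
    intro hc; apply this; rw [← hc]; group
  · have := key _ h5
    intro hc; apply this; rw [← hc]; group
  · have := key _ h6
    intro hc; apply this; rw [← hc]; group
  · have := key _ h7
    intro hc; apply this; rw [← hc]; group

theorem NoStar.order {X : Subgroup G} (h : NoStar X) {x : G} (hx : x ∈ X) :
    0 < orderOf x ∧ orderOf x ≤ 3 := by
  by_cases h2 : x ^ 2 = 1
  · have := orderOf_dvd_of_pow_eq_one h2
    have hle := Nat.le_of_dvd (by norm_num) this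
    exact ⟨orderOf_pos_iff.2 (isOfFinOrder_iff_pow_eq_one.2 ⟨2, by norm_num, h2⟩), by omega⟩
  by_cases h3 : x ^ 3 = 1
  · have := orderOf_dvd_of_pow_eq_one h3
    have hle := Nat.le_of_dvd (by norm_num) this
    exact ⟨orderOf_pos_iff.2 (isOfFinOrder_iff_pow_eq_one.2 ⟨3, by norm_num, h3⟩), hle⟩
  exfalso
  have h1 : x ≠ 1 := by
    rintro rfl; simp at h2
  have h2' : x * x ≠ 1 := by rwa [pow_two] at h2
  have h3' : x * x * x ≠ 1 := by
    intro hc; apply h3; rw [pow_succ, pow_two]; exact hc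
  exact h x hx x hx x hx h1 h1 h1 h2' h2' h2' h3'

theorem NoStar.eq_of_le {X Y : Subgroup G} (h : NoStar X) (hle : Y ≤ X)
    (hY : ∃ y ∈ Y, ∃ y' ∈ Y, y ≠ 1 ∧ y' ≠ 1 ∧ y' * y ≠ 1) : Y = X := by
  obtain ⟨y, hy, y', hy', h1, h2, h3⟩ := hY
  apply le_antisymm hle
  intro x hx
  by_contra hxY
  have hx1 : x ≠ 1 := by
    rintro rfl; exact hxY Y.one_mem
  refine h y (hle hy) y' (hle hy') x hx h1 h2 hx1 ?_ h3 ?_ ?_
  · intro hc
    apply hxY
    have : x = y'⁻¹ := eq_inv_of_mul_eq_one_right hc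
    rw [this]; exact Y.inv_mem hy'
  · intro hc
    apply hxY
    have : x = y⁻¹ := eq_inv_of_mul_eq_one_left hc
    rw [this]; exact Y.inv_mem hy
  · intro hc
    apply hxY
    have : x = y'⁻¹ * y⁻¹ := by
      have := congrArg (fun t => y'⁻¹ * t * y⁻¹) hc
      simpa [mul_assoc] using this
    rw [this]; exact Y.mul_mem (Y.inv_mem hy') (Y.inv_mem hy)

section PSL2

open Cfsg.Agent.S5016

variable {k : Type*} [Field k]

theorem psl2_special (h : IsPSL2PairOver k A B) (hAB : IsRankOnePair A B) :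
    IsSpecialRankOnePair A B := by
  obtain ⟨φ, -, -, hA, hB⟩ := h
  refine ⟨hAB, fun a ha ha1 b hb hb1 e => ?_⟩
  rw [← hA] at ha
  obtain ⟨x, hx, rfl⟩ := Subgroup.mem_map.1 ha
  obtain ⟨t, rfl⟩ := mem_upper.1 hx
  have ht : t ≠ 0 := by
    rintro rfl; apply ha1; rw [up_zero, map_one]
  have h1 := conjBy_upper_lower (k := k) ht
  have h2 := congrArg (Subgroup.map φ) h1
  rw [map_conjBy, map_conjBy, hA, hB, map_inv, map_inv] at h2
  have hb' : φ (lo t⁻¹) ∈ B := by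
    rw [← hB]; exact Subgroup.mem_map_of_mem _ (mem_lower.2 ⟨_, rfl⟩)
  have hbb := rop_unique_right hAB hb hb' (e.trans h2.symm)
  rw [hbb]
  have hsp := special_symm (Cfsg.Agent.S5016.result k).2.1
  have hlo1 : lo (t⁻¹ : k) ≠ 1 := by
    intro hc
    rw [← lo_zero] at hc
    exact inv_ne_zero ht (lo_inj hc)
  have hup1 : up t ≠ 1 := by
    intro hc
    rw [← up_zero] at hc
    exact ht (up_inj hc)
  have h3 := hsp.2 (up t) (mem_upper.2 ⟨_, rfl⟩) hup1 (lo t⁻¹) (mem_lower.2 ⟨_, rfl⟩) hlo1 h1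
  have h4 := congrArg φ h3
  simpa [map_mul, map_inv] using h4

theorem up_central {t : k} (h : up t ∈ Subgroup.center (Matrix.SpecialLinearGroup (Fin 2) k)) :
    t = 0 := by
  have h1 := Subgroup.mem_center_iff.1 h (lo 1)
  have h2 := congrArg (fun m : Matrix.SpecialLinearGroup (Fin 2) k => m.1 0 0) h1
  simp [lo_val, up_val] at h2
  exact h2

theorem lo_central {t : k} (h : lo t ∈ Subgroup.center (Matrix.SpecialLinearGroup (Fin 2) k)) :
    t = 0 := by
  have h1 := Subgroup.mem_center_iff.1 h (up 1)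
  have h2 := congrArg (fun m : Matrix.SpecialLinearGroup (Fin 2) k => m.1 1 1) h1
  simp [lo_val, up_val] at h2
  exact h2

theorem psl2_three (h : IsPSL2PairOver k A B) (hk : 3 < ENat.card k) :
    (∃ y ∈ A, ∃ y' ∈ A, y ≠ 1 ∧ y' ≠ 1 ∧ y' * y ≠ 1) ∧
    (∃ y ∈ B, ∃ y' ∈ B, y ≠ 1 ∧ y' ≠ 1 ∧ y' * y ≠ 1) := by
  obtain ⟨φ, -, hker, hA, hB⟩ := h
  obtain ⟨s, hs0, hs1⟩ := ENat.exists_ne_ne_of_three_le (le_of_lt hk) (0 : k) (-1)
  have hs1' : s + 1 ≠ 0 := by
    intro hc; apply hs1; exact eq_neg_of_add_eq_zero_left hc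
  have hup : ∀ t : k, t ≠ 0 → φ (up t) ≠ 1 := by
    intro t ht hc
    exact ht (up_central (hker (MonoidHom.mem_ker.2 hc)))
  have hlo : ∀ t : k, t ≠ 0 → φ (lo t) ≠ 1 := by
    intro t ht hc
    exact ht (lo_central (hker (MonoidHom.mem_ker.2 hc)))
  constructor
  · refine ⟨φ (up 1), ?_, φ (up s), ?_, hup 1 one_ne_zero, hup s hs0, ?_⟩
    · rw [← hA]; exact Subgroup.mem_map_of_mem _ (mem_upper.2 ⟨_, rfl⟩)
    · rw [← hA]; exact Subgroup.mem_map_of_mem _ (mem_upper.2 ⟨_, rfl⟩)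
    · rw [← map_mul, up_mul]; exact hup _ hs1'
  · refine ⟨φ (lo 1), ?_, φ (lo s), ?_, hlo 1 one_ne_zero, hlo s hs0, ?_⟩
    · rw [← hB]; exact Subgroup.mem_map_of_mem _ (mem_lower.2 ⟨_, rfl⟩)
    · rw [← hB]; exact Subgroup.mem_map_of_mem _ (mem_lower.2 ⟨_, rfl⟩)
    · rw [← map_mul, lo_mul]; exact hlo _ hs1'

end PSL2

end Cfsg.Agent.Lib.Helper83
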