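import Mathlib
import Cfsg.Prelude.Def_RootSubgroups
import Cfsg.Agent.Lib.Helper83.Transv4
import Cfsg.Agent.Lib.Helper83.Nondeg

set_option autoImplicit false

namespace Cfsg.Agent.Lib.Helper83

open Cfsg
open scoped commutatorElement

variable {G : Type*} [Group G] {S : Set (Subgroup G)}

theorem normal_of_members (hS : IsRootSubgroupSet S) {K : Subgroup G}
    (h : ∀ C ∈ S, ∀ c ∈ C, conjBy K c = K) : ∀ g : G, conjBy K g = K := by
  have h1 : (⨆ A ∈ S, A) ≤ Subgroup.normalizer (K : Set G) :=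
    iSup₂_le (fun C hC c hc => conjBy_eq_self_iff.1 (h C hC c hc))
  rw [hS.generates] at h1
  intro g
  exact conjBy_eq_self_iff.2 (h1 (Subgroup.mem_top g))

/-- in a degenerate set two members commute or form a rank one pair -/
theorem degenerate_pair (hS : IsRootSubgroupSet S) (hd : IsDegenerateRootSet S) {A B : Subgroup G}
    (hA : A ∈ S) (hB : B ∈ S) : A ≤ Subgroup.centralizer (B : Set G) ∨ IsRankOnePair A B := by
  rcases hS.pair A hA B hB with h | h | h
  · left
    rw [Subgroup.commutator_eq_bot_iff_le_centralizer] at h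
    exact h
  · right; exact h
  · exact absurd h (hd A hA B hB)

/-- **Lemma E** two commuting members of a degenerate class have a common rank one partner -/
theorem exists_common_partner (hS : IsRootSubgroupClass S) (hd : IsDegenerateRootSet S)
    {A B D : Subgroup G} (hA : A ∈ S) (hB : B ∈ S) (hD : D ∈ S) (hAB : IsRankOnePair A B)
    (hAD : A ≤ Subgroup.centralizer (D : Set G)) :
    ∃ F ∈ S, IsRankOnePair A F ∧ IsRankOnePair D F := by
  by_contra hcon
  push Not at hcon
  have hTD : ∀ F ∈ {F | F ∈ S ∧ (F = A ∨ IsRankOnePair A F)},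
      F ≤ Subgroup.centralizer (D : Set G) := by
    rintro F ⟨hFS, rfl | hAF⟩
    · exact hAD
    · rcases degenerate_pair hS.1 hd hFS hD with h | h
      · exact h
      · exact absurd (RankOnePair_symm h) (hcon F hFS hAF)
  have hKD : sSup {F | F ∈ S ∧ (F = A ∨ IsRankOnePair A F)} ≤ Subgroup.centralizer (D : Set G) :=
    sSup_le hTD
  have hconjle : ∀ C ∈ S, ∀ c ∈ C, conjBy (sSup {F | F ∈ S ∧ (F = A ∨ IsRankOnePair A F)}) c ≤
      sSup {F | F ∈ S ∧ (F = A ∨ IsRankOnePair A F)} := by
    intro C hC c hc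
    by_cases hCT : C ∈ {F | F ∈ S ∧ (F = A ∨ IsRankOnePair A F)}
    · exact conjBy_le_of_mem le_rfl (le_sSup hCT hc)
    · have hCA : C ≤ Subgroup.centralizer (A : Set G) := by
        rcases degenerate_pair hS.1 hd hA hC with h | h
        · exact le_centralizer_symm h
        · exact absurd ⟨hC, Or.inr h⟩ hCT
      have hAc : conjBy A c = A := conjBy_eq_self_of_le_centralizer hc hCA
      unfold conjBy
      rw [Subgroup.map_le_iff_le_comap]
      apply sSup_le
      rintro F ⟨hFS, hF⟩
      rw [← Subgroup.map_le_iff_le_comap]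
      apply le_sSup
      refine ⟨hS.1.conj_mem F hFS c, ?_⟩
      rcases hF with rfl | hAF
      · left; exact hAc
      · right
        have := rop_conj hAF c
        rwa [hAc] at this
  have hnorm : ∀ C ∈ S, ∀ c ∈ C, conjBy (sSup {F | F ∈ S ∧ (F = A ∨ IsRankOnePair A F)}) c =
      sSup {F | F ∈ S ∧ (F = A ∨ IsRankOnePair A F)} := by
    intro C hC c hc
    apply le_antisymm (hconjle C hC c hc)
    have := conjBy_mono c (hconjle C hC c⁻¹ (C.inv_mem hc))
    rwa [conjBy_conjBy, mul_inv_cancel, conjBy_one] at this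
  have hnormal := normal_of_members hS.1 hnorm
  have hAK : A ≤ sSup {F | F ∈ S ∧ (F = A ∨ IsRankOnePair A F)} := le_sSup ⟨hA, Or.inl rfl⟩
  have htop : sSup {F | F ∈ S ∧ (F = A ∨ IsRankOnePair A F)} = ⊤ := by
    rw [eq_top_iff, ← hS.1.generates]
    apply iSup₂_le
    intro C hC
    obtain ⟨g, rfl⟩ := hS.2.2 A hA C hC
    rw [← hnormal g]
    exact conjBy_mono g hAK
  obtain ⟨D', hD', hDD'⟩ := class_has_partner hS hA hB hAB D hD
  apply rop_not_le_centralizer hDD'
  apply le_centralizer_symm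
  rw [htop] at hKD
  exact le_top.trans hKD

/-- The degenerate case of the theorem on special rank one pairs. -/
theorem degenerate_special (hS : IsRootSubgroupClass S) (hd : IsDegenerateRootSet S)
    (hcomm : ∃ A ∈ S, ∃ C ∈ S, A ≠ C ∧ ⁅A, C⁆ = ⊥)
    (hH : (∀ A ∈ S, ∀ a ∈ A, 0 < orderOf a ∧ orderOf a ≤ 3) →
      ∀ A ∈ S, ∀ B ∈ S, IsRankOnePair A B → (∀ X ∈ S, NoStar X) → IsSpecialRankOnePair A B)
    {A B : Subgroup G} (hA : A ∈ S) (hB : B ∈ S) (hAB : IsRankOnePair A B) :
    IsSpecialRankOnePair A B := by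
  have hAab := hS.1.commutative A hA
  have hBab := hS.1.commutative B hB
  by_cases h1 : ∃ C ∈ S, C ≤ Subgroup.centralizer (A : Set G) ∧ C ≠ A ∧
      ¬ C ≤ Subgroup.centralizer (B : Set G)
  · obtain ⟨C, hC, hCA, hne, hCB⟩ := h1
    have hCB' : IsRankOnePair C B := by
      rcases degenerate_pair hS.1 hd hC hB with h | h
      · exact absurd h hCB
      · exact h
    obtain ⟨u, hu, hune⟩ := swap_tu hAB hCB' (le_centralizer_symm hCA) hAab hne.symm
    exact special_of_tu hAB hAab hBab hu hune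
  · push Not at h1
    obtain ⟨A', hA', C', hC', hne', hcomm'⟩ := hcomm
    obtain ⟨g, rfl⟩ := hS.2.2 A' hA' A hA
    rw [Subgroup.commutator_eq_bot_iff_le_centralizer] at hcomm'
    have hD : conjBy C' g ∈ S := hS.1.conj_mem C' hC' g
    have hAD : conjBy A' g ≤ Subgroup.centralizer (conjBy C' g : Set G) :=
      le_centralizer_conj g hcomm'
    have hneD : conjBy A' g ≠ conjBy C' g := fun h => hne' (conjBy_inj h)
    obtain ⟨F, hF, hAF, hDF⟩ := exists_common_partner hS hd hA hB hD hAB hAD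
    have hFab := hS.1.commutative F hF
    obtain ⟨u, hu, hune⟩ := swap_tu hAF hDF hAD hAab hneD
    have hH2 : ∀ φ ∈ F, φ ≠ 1 →
        conjBy (conjBy A' g) ⁅u, φ⁆ ≤ Subgroup.centralizer (B : Set G) := by
      intro φ hφ hφ1
      apply h1 _ (hS.1.conj_mem _ hA _)
      · exact (tu_comm hAF hAab hFab hu hφ).2
      · exact tu_comm_not_norm (RankOnePair_symm hAF) hu hune hφ hφ1
    have hFns : NoStar F := by
      intro x hx x' hx' x'' hx'' k1 k2 k3 k4 k5 k6 k7
      exact star_contra hAF hAab hFab hu hAB hH2 hx hx' hx'' k1 k2 k3 k4 k5 k6 k7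
    have hall : ∀ X ∈ S, NoStar X := by
      intro X hX
      obtain ⟨c, rfl⟩ := hS.2.2 F hF X hX
      exact hFns.conj c
    exact hH (fun X hX x hx => (hall X hX).order hx) _ hA B hB hAB hall

end Cfsg.Agent.Lib.Helper83
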